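import Mathlib.RingTheory.Flat.Equalizer
import Mathlib.RingTheory.Nakayama
import Mathlib.RingTheory.FinitePresentation
import Mathlib.RingTheory.FiniteStability
import Mathlib.FieldTheory.IsAlgClosed.AlgebraicClosure
import Mathlib.RingTheory.TensorProduct.Maps
import Mathlib.LinearAlgebra.Dual.Lemmas
import Mathlib.Algebra.Module.Torsion.Basic
import Mathlib.RingTheory.TensorProduct.MonoidAlgebra

/-!
# A surjection onto a flat algebra which is injective on geometric fibres
-/

set_option autoImplicit false

universe u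

open scoped TensorProduct

namespace Groth.Agent.RootChartLib

theorem injective_of_geomFibres {R B B' : Type u} [CommRing R] [CommRing B] [Algebra R B] [CommRing B'] [Algebra R B']
    [Algebra.FinitePresentation R B] [Algebra.FinitePresentation R B'] [Module.Flat R B'] (φ : B →ₐ[R] B')
    (hs : Function.Surjective φ)
    (h : ∀ (L : Type u) [Field L] [IsAlgClosed L] [Algebra R L] (z : L ⊗[R] B), φ.toLinearMap.lTensor L z = 0 → z = 0) :
    Function.Injective φ := by
  classical
  let J : Ideal B := RingHom.ker φ.toRingHom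
  have hfg : J.FG := Algebra.FinitePresentation.ker_fG_of_surjective φ hs
  suffices key : ∀ q : Ideal B, q.IsMaximal → J ≤ q • J by
    have hJ : J = ⊥ := by
      by_contra hne
      have hne' : (J.annihilator) ≠ ⊤ := fun e => hne (Submodule.annihilator_eq_top_iff.mp e)
      obtain ⟨q, hq, hle⟩ := Ideal.exists_le_maximal _ hne'
      obtain ⟨r, hr1, hr2⟩ := Submodule.exists_sub_one_mem_and_smul_eq_zero_of_fg_of_le_smul q J hfg (key q hq)
      have hr : r ∈ q := hle (Submodule.mem_annihilator.mpr fun n hn => hr2 n hn)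
      exact hq.ne_top ((Ideal.eq_top_iff_one q).mpr (by simpa using Ideal.sub_mem q hr hr1))
    exact (RingHom.injective_iff_ker_eq_bot φ.toRingHom).mpr hJ
  intro q hq
  letI : Field (B ⧸ q) := Ideal.Quotient.field q
  let L := AlgebraicClosure (B ⧸ q)
  let Jr : Submodule R B := J.restrictScalars R
  have hinj : Function.Injective (Jr.subtype.lTensor L) :=
    LinearMap.lTensor_injective_of_exact_of_flat φ.toLinearMap hs Jr.subtype Subtype.val_injective
      (fun x => ⟨fun hx => ⟨⟨x, hx⟩, rfl⟩, fun ⟨y, hy⟩ => hy ▸ y.2⟩) L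
  have hzero : ∀ z : L ⊗[R] Jr, z = 0 := fun z => by
    refine hinj ?_
    rw [map_zero]
    refine h L _ ?_
    rw [← LinearMap.lTensor_comp_apply]
    have : φ.toLinearMap.comp Jr.subtype = 0 := LinearMap.ext fun x => x.2
    rw [this, LinearMap.lTensor_zero, LinearMap.zero_apply]
  intro j hj
  by_contra hne
  have hnot : (⟨j, hj⟩ : J) ∉ q • (⊤ : Submodule B J) := fun hmem => hne (by
    have := Submodule.mem_map_of_mem (f := J.subtype) hmem
    rwa [Submodule.map_smul'', Submodule.map_top, Submodule.range_subtype] at this)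
  let x : J ⧸ q • (⊤ : Submodule B J) := Submodule.Quotient.mk ⟨j, hj⟩
  have hx : x ≠ 0 := fun e => hnot ((Submodule.Quotient.mk_eq_zero _).mp e)
  obtain ⟨ℓ, hℓ⟩ := Module.Projective.exists_dual_ne_zero (B ⧸ q) hx
  let ψ : Jr →ₗ[R] L :=
    { toFun := fun y => algebraMap (B ⧸ q) L (ℓ (Submodule.Quotient.mk ⟨y.1, y.2⟩))
      map_add' := fun a b => by
        rw [← map_add, ← map_add]
        rfl
      map_smul' := fun r a => by
        have e : (Submodule.Quotient.mk ⟨(r • a).1, (r • a).2⟩ : J ⧸ q • (⊤ : Submodule B J)) =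
            algebraMap B (B ⧸ q) (algebraMap R B r) • Submodule.Quotient.mk ⟨a.1, a.2⟩ := by
          rw [algebraMap_smul, ← Submodule.Quotient.mk_smul]
          exact congrArg _ (Subtype.ext (Algebra.smul_def r a.1))
        rw [e, map_smul, smul_eq_mul, map_mul, RingHom.id_apply, Algebra.smul_def]
        rfl }
  have h1 := congrArg (TensorProduct.lift ((LinearMap.mul R L).compl₂ ψ)) (hzero ((1 : L) ⊗ₜ[R] ⟨j, hj⟩))
  simp only [TensorProduct.lift.tmul, LinearMap.compl₂_apply, LinearMap.mul_apply', one_mul, map_zero] at h1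
  exact hℓ ((map_eq_zero (algebraMap (B ⧸ q) L)).mp h1)

/-- Group algebras of lattices are finitely presented. -/
theorem finitePresentation_monoidAlgebra (R : Type u) [CommRing R] (M : Type) [AddCommGroup M] [Module.Finite ℤ M] :
    Algebra.FinitePresentation R (MonoidAlgebra R (Multiplicative M)) := by
  haveI : AddGroup.FG M := Module.Finite.iff_addGroup_fg.mp inferInstance
  haveI : AddMonoid.FG M := AddGroup.fg_iff_addMonoid_fg.mp inferInstance
  haveI : Monoid.FG (Multiplicative M) := inferInstance
  haveI : Algebra.FinitePresentation ℤ (MonoidAlgebra ℤ (Multiplicative M)) :=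
    Algebra.FinitePresentation.of_finiteType.mp inferInstance
  exact Algebra.FinitePresentation.equiv (MonoidAlgebra.scalarTensorEquiv ℤ R (M := Multiplicative M))

end Groth.Agent.RootChartLib
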