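import Groth.Agent.RootChartLib.Field
import Groth.Agent.RootChartLib.FibreSurj
import Mathlib.RingTheory.Bialgebra.TensorProduct

/-!
# Base change of charts
-/

set_option autoImplicit false
set_option backward.isDefEq.respectTransparency false
set_option backward.isDefEq.respectTransparency.types false

universe u

open WithConv
open scoped TensorProduct LaurentPolynomial

namespace Groth.Agent.RootChartLib

open DynLib DynSm

variable {R : Type u} [CommRing R] {A : Type u} [CommRing A] [HopfAlgebra R A]
  (K : Type u) [CommRing K] [Algebra R K]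
  {C : Type u} [CommRing C] [Algebra R C] [Algebra K C] [IsScalarTower R K C]

/-- Restriction of points of a base change. -/
noncomputable def restr : WithConv (K ⊗[R] A →ₐ[K] C) →* WithConv (A →ₐ[R] C) :=
  MonoidHom.mk' (fun f => toConv ((f.ofConv.restrictScalars R).comp Algebra.TensorProduct.includeRight)) fun f g => by
    apply WithConv.ofConv_injective
    ext a
    rw [ofConv_toConv, AlgHom.comp_apply, AlgHom.restrictScalars_apply, Algebra.TensorProduct.includeRight_apply]
    show (toConv f.ofConv * toConv g.ofConv).ofConv ((1 : K) ⊗ₜ[R] a) = _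
    rw [HopfPtLib.convMul_eval, HopfPtLib.convMul_eval, TensorProduct.comul_tmul,
      show Coalgebra.comul (R := K) (1 : K) = (1 : K) ⊗ₜ[K] (1 : K) from rfl]
    induction Coalgebra.comul (R := R) a using TensorProduct.induction_on with
    | zero => simp
    | tmul x y => simp
    | add x y hx hy => simp only [map_add, TensorProduct.tmul_add, hx, hy]

theorem restr_apply (f : WithConv (K ⊗[R] A →ₐ[K] C)) (a : A) : (restr K f).ofConv a = f.ofConv (1 ⊗ₜ a) := rfl

theorem restr_injective : Function.Injective (restr (R := R) (A := A) (C := C) K) := fun f g h => by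
  apply WithConv.ofConv_injective
  refine Algebra.TensorProduct.ext (Subsingleton.elim _ _) ?_
  exact AlgHom.ext fun a => DFunLike.congr_fun (congrArg WithConv.ofConv h) a

theorem restr_surjective : Function.Surjective (restr (R := R) (A := A) (C := C) K) := fun g => by
  refine ⟨toConv (Algebra.TensorProduct.lift (Algebra.ofId K C) g.ofConv fun _ _ => Commute.all _ _),
    WithConv.ofConv_injective (AlgHom.ext fun a => ?_)⟩
  rw [restr_apply, ofConv_toConv, Algebra.TensorProduct.lift_tmul, map_one, _root_.one_mul]

theorem restr_post {C' : Type u} [CommRing C'] [Algebra R C'] [Algebra K C'] [IsScalarTower R K C']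
    (φ : C →ₐ[K] C') (f : WithConv (K ⊗[R] A →ₐ[K] C)) :
    restr K (post φ f) = post (φ.restrictScalars R) (restr K f) := rfl

variable {M : Type} [AddCommGroup M]

/-- Group algebras commute with base change. -/
noncomputable def grpAlgBC :
    K ⊗[R] MonoidAlgebra R (Multiplicative M) →ₐc[K] MonoidAlgebra K (Multiplicative M) :=
  BialgHom.ofAlgHom (MonoidAlgebra.scalarTensorEquiv R K (M := Multiplicative M)).toAlgHom
    (by
      refine Algebra.TensorProduct.ext (Subsingleton.elim _ _) ?_
      refine MonoidAlgebra.algHom_ext (fun m => ?_) (by ext)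
      simp [MonoidAlgebra.counit_single, TensorProduct.counit_tmul])
    (by
      refine Algebra.TensorProduct.ext (Subsingleton.elim _ _) ?_
      refine MonoidAlgebra.algHom_ext (fun m => ?_) (by ext)
      simp [MonoidAlgebra.comul_single, TensorProduct.comul_tmul, Algebra.TensorProduct.one_def])

theorem grpAlgBC_tmul (c : K) (p : MonoidAlgebra R (Multiplicative M)) :
    grpAlgBC K (c ⊗ₜ p) = c • MonoidAlgebra.mapAlgHom (Multiplicative M) (Algebra.ofId R K) p :=
  MonoidAlgebra.scalarTensorEquiv_tmul c p

namespace Chart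

variable {idx : Type} (D : Chart R A M idx)

/-- The torus of a base change. -/
noncomputable def torK : K ⊗[R] A →ₐc[K] MonoidAlgebra K (Multiplicative M) :=
  (grpAlgBC K).comp (Bialgebra.TensorProduct.map (BialgHom.id K K) D.tor)

theorem torK_tmul (c : K) (a : A) :
    D.torK K (c ⊗ₜ a) = c • MonoidAlgebra.mapAlgHom (Multiplicative M) (Algebra.ofId R K) (D.tor a) :=
  grpAlgBC_tmul K c (D.tor a)

/-- The root subgroups of a base change. -/
noncomputable def rootK (r : idx) : K ⊗[R] A →ₐ[K] Polynomial K :=
  Algebra.TensorProduct.lift (Algebra.ofId K _) ((Polynomial.mapAlgHom (Algebra.ofId R K)).comp (D.root r))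
    fun _ _ => Commute.all _ _

theorem restr_tPtOf (χ : Multiplicative M →* C) : restr K (tPtOf (D.torK K) χ) = D.tPt χ := by
  refine WithConv.ofConv_injective (AlgHom.ext fun a => ?_)
  rw [restr_apply, tPt_apply]
  show MonoidAlgebra.lift K C (Multiplicative M) χ (D.torK K (1 ⊗ₜ a)) = _
  rw [torK_tmul, one_smul]
  induction D.tor a using MonoidAlgebra.induction_linear with
  | zero => simp
  | add p q hp hq => simp only [map_add, hp, hq]
  | single m r => simp [Algebra.ofId_apply, Algebra.smul_def, ← IsScalarTower.algebraMap_apply]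

theorem restr_rPtOf (r : idx) (c : C) : restr K (rPtOf (D.rootK K r) c) = D.rPt r c := by
  refine WithConv.ofConv_injective (AlgHom.ext fun a => ?_)
  rw [restr_apply, rPt_apply]
  show Polynomial.aeval c (D.rootK K r (1 ⊗ₜ a)) = _
  rw [rootK, Algebra.TensorProduct.lift_tmul, map_one, _root_.one_mul]
  exact Polynomial.aeval_map_algebraMap K c (D.root r a)

/-- The base change of a chart. -/
noncomputable def baseChange : Chart K (K ⊗[R] A) M idx where
  tor := D.torK K
  tor_surj := fun p => by
    obtain ⟨q, rfl⟩ := (MonoidAlgebra.scalarTensorEquiv R K (M := Multiplicative M)).surjective p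
    induction q using TensorProduct.induction_on with
    | zero => exact ⟨0, by rw [map_zero, map_zero]⟩
    | tmul c p =>
      obtain ⟨a, rfl⟩ := D.tor_surj p
      exact ⟨c ⊗ₜ a, (D.torK_tmul K c a).trans (MonoidAlgebra.scalarTensorEquiv_tmul c _).symm⟩
    | add x y hx hy =>
      obtain ⟨a, ha⟩ := hx
      obtain ⟨b, hb⟩ := hy
      exact ⟨a + b, by rw [map_add, map_add, ha, hb]⟩
  root := D.rootK K
  root_surj := fun r p => by
    obtain ⟨a, ha⟩ := D.root_surj r Polynomial.X
    refine ⟨Polynomial.aeval ((1 : K) ⊗ₜ[R] a) p, ?_⟩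
    rw [← Polynomial.aeval_algHom_apply]
    simp [rootK, ha]
  root_add := fun r C' _ _ c c' => by
    letI : Algebra R C' := ((algebraMap K C').comp (algebraMap R K)).toAlgebra
    haveI : IsScalarTower R K C' := IsScalarTower.of_algebraMap_eq fun _ => rfl
    refine restr_injective K ?_
    rw [map_mul, D.restr_rPtOf K, D.restr_rPtOf K, D.restr_rPtOf K, D.rPt_add]
  α := D.α
  α_injective := D.α_injective
  α_ne := D.α_ne
  conj := fun r C' _ _ χ c => by
    letI : Algebra R C' := ((algebraMap K C').comp (algebraMap R K)).toAlgebra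
    haveI : IsScalarTower R K C' := IsScalarTower.of_algebraMap_eq fun _ => rfl
    refine restr_injective K ?_
    rw [map_mul, map_mul, map_inv, D.restr_tPtOf K, D.restr_rPtOf K, D.restr_rPtOf K, D.tPt_conj]

theorem restr_tPt (χ : Multiplicative M →* C) : restr K ((D.baseChange K).tPt χ) = D.tPt χ := D.restr_tPtOf K χ

theorem restr_rPt (r : idx) (c : C) : restr K ((D.baseChange K).rPt r c) = D.rPt r c := D.restr_rPtOf K r c

theorem restr_prodPt : ∀ {m : ℕ} (e : Fin m → idx) (c : Fin m → C),
    restr K ((D.baseChange K).prodPt e c) = D.prodPt e c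
  | 0, _, _ => map_one _
  | _ + 1, e, c => by
    show restr K (_ * _) = _ * _
    rw [map_mul, restr_prodPt]
    congr 1
    exact D.restr_rPtOf K _ _

theorem restr_conjHom (f : M →+ ℤ) (g : WithConv (K ⊗[R] A →ₐ[K] C)) :
    restr K (conjHom ((D.baseChange K).lam f) C g) = conjHom (D.lam f) C (restr K g) := by
  rw [conjHom_apply, conjHom_apply, lamW_eq, lamW_eq, map_mul, map_mul, map_inv, restr_post, restr_tPt]
  rfl

theorem restr_toL (h : K ⊗[R] A →ₐ[K] Polynomial C) :
    restr K (post (toL K C) (toConv h)) = post (toL R C) (restr K (toConv h)) := rfl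

theorem limExists_restr (f : M →+ ℤ) (g : WithConv (K ⊗[R] A →ₐ[K] C)) :
    Dyn.LimExists K (K ⊗[R] A) ((D.baseChange K).lam f) C g.ofConv ↔
      Dyn.LimExists R A (D.lam f) C (restr K g).ofConv := by
  constructor
  · rintro ⟨h, hh⟩
    refine ⟨(restr K (toConv h)).ofConv, congrArg WithConv.ofConv (?_ : post (toL R C) (restr K (toConv h)) =
      toConv (Dyn.conjOrbit R A (D.lam f) C (restr K g).ofConv))⟩
    rw [← restr_toL, post_apply, toL, hh, toConv_conjOrbit, toConv_conjOrbit, toConv_ofConv, toConv_ofConv, restr_conjHom]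
  · rintro ⟨h, hh⟩
    obtain ⟨h', hh'⟩ := restr_surjective (C := Polynomial C) K (toConv h)
    refine ⟨h'.ofConv, congrArg WithConv.ofConv (?_ : post (toL K C) h' =
      toConv (Dyn.conjOrbit K (K ⊗[R] A) ((D.baseChange K).lam f) C g.ofConv))⟩
    refine restr_injective K ?_
    show post (toL R C) (restr K h') = _
    rw [hh', post_apply, toL, hh, toConv_conjOrbit, toConv_conjOrbit, toConv_ofConv, toConv_ofConv, restr_conjHom]

theorem limIsOne_restr (f : M →+ ℤ) (g : WithConv (K ⊗[R] A →ₐ[K] C)) :
    Dyn.LimIsOne R A (D.lam f) C (restr K g).ofConv →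
      Dyn.LimIsOne K (K ⊗[R] A) ((D.baseChange K).lam f) C g.ofConv := by
  rintro ⟨h, hh, h0⟩
  obtain ⟨h', hh'⟩ := restr_surjective (C := Polynomial C) K (toConv h)
  refine ⟨h'.ofConv, congrArg WithConv.ofConv (restr_injective K (?_ : restr K (post (toL K C) h') =
      restr K (toConv (Dyn.conjOrbit K (K ⊗[R] A) ((D.baseChange K).lam f) C g.ofConv)))), congrArg WithConv.ofConv (restr_injective K
      (?_ : restr K (post ((Polynomial.aeval (R := C) (0 : C)).restrictScalars K) h') =
        restr K (1 : WithConv (K ⊗[R] A →ₐ[K] C))))⟩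
  · show post (toL R C) (restr K h') = _
    rw [hh', post_apply, toL, hh, toConv_conjOrbit, toConv_conjOrbit, toConv_ofConv, toConv_ofConv, restr_conjHom]
  · rw [map_one]
    show post ((Polynomial.aeval (R := C) (0 : C)).restrictScalars R) (restr K h') = _
    rw [hh', post_apply, h0]
    rfl

end Chart

end Groth.Agent.RootChartLib
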