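import Groth.Agent.RootData.Dominant
import Groth.Agent.RootData.Simple
import Groth.Prelude.Def_RedSub

/-!
# A functional cutting out the positive roots of a base
-/

set_option autoImplicit false

namespace Groth.Agent.RootChartLib

open Groth Set

variable {ι M N : Type} [AddCommGroup M] [AddCommGroup N] [Fintype ι] {P : RootPairing ι ℤ M N}

theorem exists_base_functional (b : P.Base) :
    ∃ f : M →+ ℤ, (∀ r, f (P.root r) ≠ 0) ∧ (∀ r, 0 < f (P.root r) ↔ r ∈ RedSub.posRoots P b) ∧
      ∀ r, f (P.root r) < 0 ↔ r ∈ RedSub.negRoots P b := by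
  classical
  have h := RootData.Simple.of_base b
  obtain ⟨y, hy⟩ := RootData.exists_regular (P := P.flip) (RootData.Simple.of_base b.flip).posOf_isPosSys
  let f : M →+ ℤ := (P.toLinearMap.flip y).toAddMonoidHom
  have hsimp : ∀ a ∈ (b.support : Set ι), 0 < f (P.root a) := fun a ha =>
    hy a ((RootData.Simple.of_base b.flip).subset_posOf ha)
  have hcl : ∀ x ∈ AddSubmonoid.closure (P.root '' (b.support : Set ι)), x = 0 ∨ 0 < f x := by
    intro x hx
    induction hx using AddSubmonoid.closure_induction with
    | mem y hy => obtain ⟨a, ha, rfl⟩ := hy; exact Or.inr (hsimp a ha)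
    | zero => exact Or.inl rfl
    | add y z _ _ hy hz =>
      rcases hy with rfl | hy
      · rw [zero_add]; exact hz
      rcases hz with rfl | hz
      · rw [add_zero]; exact Or.inr hy
      exact Or.inr (by rw [map_add]; omega)
  have hp : ∀ r ∈ RedSub.posRoots P b, 0 < f (P.root r) := fun r hr =>
    (hcl _ hr).resolve_left (P.ne_zero r)
  have hn : ∀ r ∈ RedSub.negRoots P b, f (P.root r) < 0 := fun r hr => by
    have := (hcl _ hr).resolve_left (neg_ne_zero.mpr (P.ne_zero r))
    rw [map_neg] at this
    omega
  have hcov : ∀ r, r ∈ RedSub.posRoots P b ∨ r ∈ RedSub.negRoots P b := fun r => b.root_mem_or_neg_mem r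
  refine ⟨f, fun r => ?_, fun r => ⟨fun hr => ?_, hp r⟩, fun r => ⟨fun hr => ?_, hn r⟩⟩
  · rcases hcov r with hr | hr
    · exact (hp r hr).ne'
    · exact (hn r hr).ne
  · exact (hcov r).resolve_right fun h' => by have := hn r h'; omega
  · exact (hcov r).resolve_left fun h' => by have := hp r h'; omega

end Groth.Agent.RootChartLib
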