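import Groth.Agent.DynLib.Repr
import Groth.Agent.DynSm.Kern
import Groth.Agent.GModLib.CentreWeights
import Mathlib.LinearAlgebra.FreeModule.PID

/-!
# Charts of a split group: a split torus and root subgroups, read on points

An affine group `Spec A` over a ring with a split torus and root subgroups on which the torus acts by characters.
Everything is phrased in the convolution groups of points with values in algebras.
-/

set_option autoImplicit false
set_option backward.isDefEq.respectTransparency false
set_option backward.isDefEq.respectTransparency.types false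

universe u

open WithConv MonoidAlgebra
open scoped TensorProduct

namespace Groth.Agent.RootChartLib

open DynLib

variable {R : Type u} [CommRing R] {A : Type u} [CommRing A] [HopfAlgebra R A] {M : Type} [AddCommGroup M]

/-- The point of the group given by a character of the torus. -/
noncomputable def tPtOf (τ : A →ₐc[R] MonoidAlgebra R (Multiplicative M)) {C : Type u} [CommRing C] [Algebra R C]
    (χ : Multiplicative M →* C) : WithConv (A →ₐ[R] C) :=
  toConv ((MonoidAlgebra.lift R C (Multiplicative M) χ).comp (τ : A →ₐ[R] MonoidAlgebra R (Multiplicative M)))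

/-- The point of a root subgroup with a given coordinate. -/
noncomputable def rPtOf (δ : A →ₐ[R] Polynomial R) {C : Type u} [CommRing C] [Algebra R C] (c : C) :
    WithConv (A →ₐ[R] C) :=
  toConv ((Polynomial.aeval c).comp δ)

variable (R A M) in
/-- A split torus with root subgroups. -/
structure Chart (idx : Type) where
  /-- the torus -/
  tor : A →ₐc[R] MonoidAlgebra R (Multiplicative M)
  tor_surj : Function.Surjective tor
  /-- the root subgroups -/
  root : idx → (A →ₐ[R] Polynomial R)
  root_surj : ∀ r, Function.Surjective (root r)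
  root_add : ∀ (r : idx) (C : Type u) [CommRing C] [Algebra R C] (c c' : C),
    rPtOf (root r) (c + c') = rPtOf (root r) c * rPtOf (root r) c'
  /-- the roots -/
  α : idx → M
  α_injective : Function.Injective α
  α_ne : ∀ r, α r ≠ 0
  conj : ∀ (r : idx) (C : Type u) [CommRing C] [Algebra R C] (χ : Multiplicative M →* C) (c : C),
    tPtOf tor χ * rPtOf (root r) c * (tPtOf tor χ)⁻¹ = rPtOf (root r) (χ (Multiplicative.ofAdd (α r)) * c)

theorem conj_conj {G : Type*} [Group G] (p q z : G) : p * (q * z * q⁻¹) * p⁻¹ = p * q * z * (p * q)⁻¹ := by group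

namespace Chart

variable {idx : Type} (D : Chart R A M idx) {C C' : Type u} [CommRing C] [Algebra R C] [CommRing C'] [Algebra R C']

/-- Points of the torus. -/
noncomputable def tPt (χ : Multiplicative M →* C) : WithConv (A →ₐ[R] C) := tPtOf D.tor χ

/-- Points of the root subgroups. -/
noncomputable def rPt (r : idx) (c : C) : WithConv (A →ₐ[R] C) := rPtOf (D.root r) c

theorem tPt_apply (χ : Multiplicative M →* C) (a : A) :
    (D.tPt χ).ofConv a = MonoidAlgebra.lift R C (Multiplicative M) χ (D.tor a) := rfl

theorem rPt_apply (r : idx) (c : C) (a : A) : (D.rPt r c).ofConv a = Polynomial.aeval c (D.root r a) := rfl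

theorem lift_mul (χ χ' : Multiplicative M →* C) :
    toConv (MonoidAlgebra.lift R C (Multiplicative M) (χ * χ')) =
      toConv (MonoidAlgebra.lift R C (Multiplicative M) χ) * toConv (MonoidAlgebra.lift R C (Multiplicative M) χ') := by
  refine WithConv.ofConv_injective (MonoidAlgebra.algHom_ext (fun m => ?_) (by ext))
  rw [AlgHom.convMul_apply, MonoidAlgebra.comul_single]
  simp

theorem tPt_mul (χ χ' : Multiplicative M →* C) : D.tPt (χ * χ') = D.tPt χ * D.tPt χ' := by
  refine WithConv.ofConv_injective ?_
  show (MonoidAlgebra.lift R C (Multiplicative M) (χ * χ')).comp _ = _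
  rw [show MonoidAlgebra.lift R C (Multiplicative M) (χ * χ') =
      (toConv (MonoidAlgebra.lift R C (Multiplicative M) χ) * toConv (MonoidAlgebra.lift R C (Multiplicative M) χ')).ofConv
      from congrArg WithConv.ofConv (lift_mul χ χ')]
  ext a
  simp only [AlgHom.comp_apply, AlgHom.convMul_apply, tPt, tPtOf]
  change Algebra.TensorProduct.lift _ _ _ (Coalgebra.comul (R := R) (D.tor a)) = _
  rw [← CoalgHomClass.map_comp_comul_apply]
  induction Coalgebra.comul (R := R) a using TensorProduct.induction_on with
  | zero => simp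
  | tmul p q => simp
  | add p q hp hq => simp only [map_add, hp, hq]

theorem tPt_one : D.tPt (1 : Multiplicative M →* C) = 1 := by
  have h := D.tPt_mul (1 : Multiplicative M →* C) 1
  rw [_root_.one_mul] at h
  exact left_eq_mul.mp h

theorem tPt_comm (χ χ' : Multiplicative M →* C) : D.tPt χ * D.tPt χ' = D.tPt χ' * D.tPt χ := by
  rw [← tPt_mul, ← tPt_mul]
  exact congrArg D.tPt (MonoidHom.ext fun m => by simp [MonoidHom.mul_apply, _root_.mul_comm])

theorem post_tPt (φ : C →ₐ[R] C') (χ : Multiplicative M →* C) :
    post φ (D.tPt χ) = D.tPt ((φ : C →* C').comp χ) :=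
  congrArg toConv (by
    show φ.comp ((MonoidAlgebra.lift R C (Multiplicative M) χ).comp (D.tor : A →ₐ[R] MonoidAlgebra R (Multiplicative M))) = _
    rw [← AlgHom.comp_assoc]
    exact congrArg (fun ψ => AlgHom.comp ψ _) (MonoidAlgebra.algHom_ext (fun m => by simp) (by ext)))

theorem tPt_injective : Function.Injective (D.tPt : (Multiplicative M →* C) → _) := fun χ χ' h => by
  refine MonoidHom.ext fun m => ?_
  obtain ⟨a, ha⟩ := D.tor_surj (MonoidAlgebra.single m 1)
  have h1 := DFunLike.congr_fun (congrArg WithConv.ofConv h) a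
  rw [tPt_apply, tPt_apply, ha] at h1
  simpa using h1

theorem post_rPt (φ : C →ₐ[R] C') (r : idx) (c : C) : post φ (D.rPt r c) = D.rPt r (φ c) :=
  congrArg toConv (by
    show φ.comp ((Polynomial.aeval c).comp (D.root r)) = _
    rw [← AlgHom.comp_assoc]
    exact congrArg (fun ψ => AlgHom.comp ψ _) (Polynomial.algHom_ext (by simp)))

theorem rPt_add (r : idx) (c c' : C) : D.rPt r (c + c') = D.rPt r c * D.rPt r c' := D.root_add r C c c'

theorem rPt_zero (r : idx) : D.rPt r (0 : C) = 1 := by
  have h := D.rPt_add r (0 : C) 0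
  rw [add_zero] at h
  exact left_eq_mul.mp h

theorem rPt_injective (r : idx) : Function.Injective (D.rPt r : C → _) := fun c c' h => by
  obtain ⟨a, ha⟩ := D.root_surj r Polynomial.X
  have h1 := DFunLike.congr_fun (congrArg WithConv.ofConv h) a
  rw [rPt_apply, rPt_apply, ha] at h1
  simpa using h1

theorem tPt_conj (r : idx) (χ : Multiplicative M →* C) (c : C) :
    D.tPt χ * D.rPt r c * (D.tPt χ)⁻¹ = D.rPt r (χ (Multiplicative.ofAdd (D.α r)) * c) := D.conj r C χ c

/-! ### Weights -/

/-- The inclusion of constants. -/
noncomputable abbrev const (C : Type u) [CommRing C] [Algebra R C] (N : Type) [CommGroup N] :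
    C →ₐ[R] MonoidAlgebra C N := MonoidAlgebra.singleOneAlgHom

/-- The conjugation by the torus, as an algebra map. -/
noncomputable def orb : A →ₐ[R] MonoidAlgebra A (Multiplicative M) :=
  (D.tPt (MonoidAlgebra.of A (Multiplicative M)) * post (const A (Multiplicative M)) (toConv (AlgHom.id R A)) *
    (D.tPt (MonoidAlgebra.of A (Multiplicative M)))⁻¹).ofConv

/-- The component of weight `m`. -/
noncomputable def wt (m : M) : A →ₗ[R] A where
  toFun a := (D.orb a).coeff (Multiplicative.ofAdd m)
  map_add' a b := by simp
  map_smul' c a := by simp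

theorem wt_apply (m : M) (a : A) : D.wt m a = (D.orb a).coeff (Multiplicative.ofAdd m) := rfl

theorem conj_eq (χ : Multiplicative M →* C) (x : WithConv (A →ₐ[R] C)) :
    D.tPt χ * x * (D.tPt χ)⁻¹ = toConv ((GModLib.CentreWeights.ev χ x.ofConv).comp D.orb) := by
  have h := congrArg toConv (congrArg (AlgHom.comp (GModLib.CentreWeights.ev χ x.ofConv)) (rfl : D.orb = _))
  have h1 : (((GModLib.CentreWeights.ev χ x.ofConv) : MonoidAlgebra A (Multiplicative M) →ₐ[R] C) :
      MonoidAlgebra A (Multiplicative M) →* C).comp (MonoidAlgebra.of A (Multiplicative M)) = χ :=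
    MonoidHom.ext fun m => by simp [GModLib.CentreWeights.ev]
  have h2 : post (GModLib.CentreWeights.ev χ x.ofConv) (post (const A (Multiplicative M)) (toConv (AlgHom.id R A))) =
      x := WithConv.ofConv_injective (AlgHom.ext fun b => by simp [post_apply, GModLib.CentreWeights.ev])
  rw [show toConv ((GModLib.CentreWeights.ev χ x.ofConv).comp D.orb) =
    post (GModLib.CentreWeights.ev χ x.ofConv)
      (D.tPt (MonoidAlgebra.of A (Multiplicative M)) * post (const A (Multiplicative M)) (toConv (AlgHom.id R A)) *
        (D.tPt (MonoidAlgebra.of A (Multiplicative M)))⁻¹) from rfl, map_mul, map_mul, map_inv, post_tPt, h2, h1]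

/-- Reading the coefficient of a conjugate of a constant point by the universal character. -/
theorem coeff_conj_const (x : WithConv (A →ₐ[R] C)) (a : A) (m : Multiplicative M) :
    ((D.tPt (MonoidAlgebra.of C (Multiplicative M)) * post (const C (Multiplicative M)) x *
      (D.tPt (MonoidAlgebra.of C (Multiplicative M)))⁻¹).ofConv a).coeff m = x.ofConv (D.wt m.toAdd a) := by
  rw [conj_eq, wt_apply, ofAdd_toAdd]
  show ((GModLib.CentreWeights.ev (MonoidAlgebra.of C (Multiplicative M)) (post (const (R := R) C (Multiplicative M)) x).ofConv)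
      (D.orb a)).coeff m = _
  induction D.orb a using MonoidAlgebra.induction_linear with
  | zero => simp
  | add F G hF hG => simp [hF, hG]
  | single n b =>
    classical
    rw [GModLib.CentreWeights.ev_single]
    simp only [post, MonoidHom.coe_mk, OneHom.coe_mk, ofConv_toConv, AlgHom.comp_apply, const,
      MonoidAlgebra.singleOneAlgHom_apply, MonoidAlgebra.of_apply, MonoidAlgebra.single_mul_single, _root_.one_mul,
      _root_.mul_one, MonoidAlgebra.coeff_single, Finsupp.single_apply]
    split_ifs <;> simp

/-- An element is the sum of its components. -/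
theorem sum_wt (a : A) :
    ∑ m ∈ (D.orb a).coeff.support, D.wt m.toAdd a = a := by
  have h := DFunLike.congr_fun (congrArg WithConv.ofConv (D.conj_eq (1 : Multiplicative M →* A) (toConv (AlgHom.id R A)))) a
  rw [tPt_one, _root_.one_mul, inv_one, _root_.mul_one] at h
  simp only [ofConv_toConv, AlgHom.id_apply, AlgHom.comp_apply] at h
  conv_rhs => rw [h, ← MonoidAlgebra.sum_single (D.orb a), Finsupp.sum, map_sum]
  refine Finset.sum_congr rfl fun m _ => ?_
  rw [GModLib.CentreWeights.ev_single]
  simp [wt_apply]

theorem counit_wt [DecidableEq M] (m : M) (a : A) :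
    Coalgebra.counit (R := R) (D.wt m a) = if m = 0 then Coalgebra.counit (R := R) a else 0 := by
  classical
  have h := D.coeff_conj_const (1 : WithConv (A →ₐ[R] R)) a (Multiplicative.ofAdd m)
  rw [map_one, _root_.mul_one, mul_inv_cancel] at h
  simp only [AlgHom.convOne_apply, toAdd_ofAdd] at h
  rw [← Algebra.algebraMap_self_apply (R := R) (Coalgebra.counit (D.wt m a))] 
  refine h.symm.trans ?_
  by_cases hm : m = 0
  · subst hm; simp
  · rw [if_neg hm]
    simp [MonoidAlgebra.coeff_single, Finsupp.single_apply]
    exact fun e => absurd (ofAdd_eq_one.mp e.symm) hm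

/-- The components are weight vectors. -/
theorem orb_wt (m : M) (a : A) :
    D.orb (D.wt m a) = MonoidAlgebra.single (Multiplicative.ofAdd m) (D.wt m a) := by
  classical
  let x : WithConv (A →ₐ[R] A) := toConv (AlgHom.id R A)
  let N := Multiplicative M
  let B := MonoidAlgebra A N
  let P : WithConv (A →ₐ[R] MonoidAlgebra B N) := D.tPt (MonoidAlgebra.of B N)
  let χ₂ : N →* MonoidAlgebra B N :=
    MonoidAlgebra.of B N * ((const (R := R) B N : B →* MonoidAlgebra B N).comp (MonoidAlgebra.of A N))
  let z : WithConv (A →ₐ[R] MonoidAlgebra B N) := post ((const (R := R) B N).comp (const (R := R) A N)) x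
  have e1 : P * post (const (R := R) B N) (toConv D.orb) * P⁻¹ = D.tPt χ₂ * z * (D.tPt χ₂)⁻¹ := by
    rw [show toConv D.orb = D.tPt (MonoidAlgebra.of A N) * post (const (R := R) A N) x *
      (D.tPt (MonoidAlgebra.of A N))⁻¹ from rfl]
    rw [map_mul, map_mul, map_inv, post_tPt]
    rw [show post (const (R := R) B N) (post (const (R := R) A N) x) = z from rfl]
    show _ = D.tPt (_ * _) * z * (D.tPt (_ * _))⁻¹
    rw [tPt_mul]
    exact conj_conj (G := WithConv (A →ₐ[R] MonoidAlgebra B N)) _ _ _
  have e2 := congrArg (fun w : WithConv (A →ₐ[R] MonoidAlgebra B N) => (w.ofConv a).coeff (Multiplicative.ofAdd m)) e1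
  rw [coeff_conj_const, conj_eq] at e2
  have k2 : ∀ F : MonoidAlgebra A N, (GModLib.CentreWeights.ev χ₂ z.ofConv F).coeff (Multiplicative.ofAdd m) =
      MonoidAlgebra.single (Multiplicative.ofAdd m) (F.coeff (Multiplicative.ofAdd m)) := fun F => by
    induction F using MonoidAlgebra.induction_linear with
    | zero => simp
    | add F G hF hG => rw [map_add, MonoidAlgebra.coeff_add, Finsupp.add_apply, hF, hG, MonoidAlgebra.coeff_add,
        Finsupp.add_apply, MonoidAlgebra.single_add]
    | single n b =>
      rw [GModLib.CentreWeights.ev_single]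
      simp only [z, x, χ₂, B, N, post, MonoidHom.coe_mk, OneHom.coe_mk, ofConv_toConv, AlgHom.comp_apply, const,
        MonoidHom.mul_apply, MonoidHom.coe_comp, MonoidHom.coe_coe, Function.comp_apply, AlgHom.id_apply,
        MonoidAlgebra.singleOneAlgHom_apply, MonoidAlgebra.of_apply, MonoidAlgebra.single_mul_single,
        _root_.one_mul, _root_.mul_one, MonoidAlgebra.coeff_single, Finsupp.single_apply]
      split_ifs with hn
      · rw [hn]
      · rw [MonoidAlgebra.single_zero]
  simp only [ofConv_toConv, AlgHom.comp_apply, toAdd_ofAdd] at e2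
  rw [k2] at e2
  exact e2

theorem wt_wt [DecidableEq M] (m n : M) (a : A) : D.wt m (D.wt n a) = if m = n then D.wt n a else 0 := by
  classical
  rw [wt_apply, orb_wt, MonoidAlgebra.coeff_single, Finsupp.single_apply]
  by_cases h : m = n
  · subst h; rw [if_pos rfl, if_pos rfl]
  · rw [if_neg h, if_neg (fun e => h (Multiplicative.ofAdd.injective e).symm)]

/-- The components of a product. -/
theorem orb_mul_coeff [DecidableEq M] (a b : A) (n : M) :
    D.wt n (a * b) = ∑ i ∈ (D.orb a).coeff.support, ∑ j ∈ (D.orb b).coeff.support,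
      if i.toAdd + j.toAdd = n then D.wt i.toAdd a * D.wt j.toAdd b else 0 := by
  classical
  simp only [wt_apply, map_mul, MonoidAlgebra.coeff_mul, Finsupp.sum, Finsupp.finsetSum_apply, ofAdd_toAdd]
  refine Finset.sum_congr rfl fun i _ => Finset.sum_congr rfl fun j _ => ?_
  by_cases h : i.toAdd + j.toAdd = n
  · rw [if_pos h, if_pos]
    exact Multiplicative.toAdd.injective (by simpa using h)
  · rw [if_neg h, if_neg]
    exact fun e => h (by rw [← toAdd_mul, e, toAdd_ofAdd])

/-- Points of the torus kill the non-zero weights. -/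
theorem tPt_wt [DecidableEq M] (χ : Multiplicative M →* C) (m : M) (a : A) :
    (D.tPt χ).ofConv (D.wt m a) = if m = 0 then (D.tPt χ).ofConv a else 0 := by
  classical
  have h := D.coeff_conj_const (D.tPt χ) a (Multiplicative.ofAdd m)
  rw [post_tPt, tPt_comm, mul_inv_cancel_right, toAdd_ofAdd] at h
  rw [← h]
  show (MonoidAlgebra.lift R (MonoidAlgebra C (Multiplicative M)) (Multiplicative M)
      ((const (R := R) C (Multiplicative M) : C →* MonoidAlgebra C (Multiplicative M)).comp χ) (D.tor a)).coeff _ = _
  rw [tPt_apply]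
  induction D.tor a using MonoidAlgebra.induction_linear with
  | zero => simp
  | add F G hF hG =>
    simp only [map_add, MonoidAlgebra.coeff_add, Finsupp.add_apply, hF, hG]
    split_ifs <;> simp
  | single n r =>
    simp only [MonoidAlgebra.lift_single, MonoidHom.coe_comp, MonoidHom.coe_coe, Function.comp_apply, const,
      MonoidAlgebra.singleOneAlgHom_apply, MonoidAlgebra.coeff_smul, MonoidAlgebra.coeff_single, Finsupp.smul_apply,
      Finsupp.single_apply]
    by_cases hm : m = 0
    · subst hm; simp
    · rw [if_neg hm, if_neg (fun e => hm (ofAdd_eq_one.mp e.symm)), smul_zero]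

variable [Module.IsTorsionFree ℤ M]

/-- The root subgroups see only multiples of their root. -/
theorem coeff_root_wt [DecidableEq M] (r : idx) (m : M) (a : A) (j : ℕ) :
    (D.root r (D.wt m a)).coeff j = if j • D.α r = m then (D.root r a).coeff j else 0 := by
  classical
  have h := D.coeff_conj_const (D.rPt r (Polynomial.X : Polynomial R)) a (Multiplicative.ofAdd m)
  rw [post_rPt, tPt_conj, toAdd_ofAdd, rPt_apply, rPt_apply, Polynomial.aeval_X_left_apply] at h
  rw [← h, Polynomial.aeval_eq_sum_range, MonoidAlgebra.coeff_sum, Finsupp.finsetSum_apply, Polynomial.finsetSum_coeff]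
  simp only [MonoidAlgebra.of_apply, const, MonoidAlgebra.singleOneAlgHom_apply, MonoidAlgebra.single_mul_single,
    MonoidAlgebra.single_pow, MonoidAlgebra.coeff_smul, MonoidAlgebra.coeff_single, Finsupp.smul_apply,
    Finsupp.single_apply, _root_.one_mul, _root_.mul_one]
  rcases lt_or_ge (D.root r a).natDegree j with hlt | hge
  · rw [Polynomial.coeff_eq_zero_of_natDegree_lt hlt, ite_self]
    refine Finset.sum_eq_zero fun i hi => ?_
    have hne : j ≠ i := fun e => by rw [Finset.mem_range] at hi; omega
    split_ifs <;> simp [Polynomial.coeff_X_pow, hne]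
  · rw [Finset.sum_eq_single j]
    · by_cases hj : j • D.α r = m
      · rw [if_pos hj, if_pos (by rw [← ofAdd_nsmul, hj])]
        simp [Polynomial.coeff_X_pow]
      · rw [if_neg hj, if_neg (fun e => hj (Multiplicative.ofAdd.injective (by rw [ofAdd_nsmul, e])))]
        simp
    · intro i _ hne
      split_ifs <;> simp [Polynomial.coeff_X_pow, hne.symm]
    · intro h'
      exact absurd (Finset.mem_range.mpr (Nat.lt_succ_of_le hge)) h'

theorem root_wt_self (r : idx) : ∃ a : A, D.wt (D.α r) a = a ∧ D.root r a = Polynomial.X := by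
  classical
  obtain ⟨a, ha⟩ := D.root_surj r Polynomial.X
  refine ⟨D.wt (D.α r) a, ?_, ?_⟩
  · rw [wt_wt, if_pos rfl]
  · refine Polynomial.ext fun j => ?_
    rw [coeff_root_wt, ha, Polynomial.coeff_X]
    by_cases hj : j = 1
    · subst hj; simp
    · rw [if_neg (fun e : j • D.α r = D.α r => hj (by
        have h1 : ((j : ℤ) - 1) • D.α r = 0 := by rw [sub_smul, natCast_zsmul, one_smul, e, sub_self]
        rcases smul_eq_zero.mp h1 with h2 | h2
        · omega
        · exact absurd h2 (D.α_ne r))), if_neg (Ne.symm hj)]

end Chart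

end Groth.Agent.RootChartLib
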