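import Groth.Agent.RootChartLib.Cell
import Groth.Agent.RankLib.SplitRedCentre
import Groth.Agent.RedOpenLib.Global
import Groth.Agent.GModLib.ReductiveFibres
import Groth.Agent.RankLib.NilRankOpen
import Groth.Agent.GrpSchLib.AffineHopfClosed

/-!
# The chart of a split reductive group over an affine scheme
-/

set_option autoImplicit false
set_option backward.isDefEq.respectTransparency false
set_option backward.isDefEq.respectTransparency.types false

universe u

open CategoryTheory Limits AlgebraicGeometry MonoidalCategory CartesianMonoidalCategory MonObj GrpObj WithConv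
open scoped TensorProduct

namespace Groth.Agent.RootChartLib

open GrpSchLib GrpSchLib.AffineHopf GModLib DynLib RankLib.SplitRedPts

variable {S : Scheme.{u}} {G : Over S} [GrpObj G] (D : Red.SplitRed G)

theorem exists_eq_spMap' {R B W : Type u} [CommRing R] [CommRing B] [CommRing W] [Algebra R B] [Algebra R W]
    (g : sp R W ⟶ sp R B) : ∃ f : B →ₐ[R] W, g = spMap f := by
  obtain ⟨φ, hφ⟩ := Spec.map_surjective g.left
  have h : CommRingCat.ofHom (algebraMap R B) ≫ φ = CommRingCat.ofHom (algebraMap R W) := by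
    apply Spec.map_injective
    rw [Spec.map_comp, hφ]
    exact Over.w g
  exact ⟨{ φ.hom with commutes' := fun r => DFunLike.congr_fun (congrArg CommRingCat.Hom.hom h) r },
    Over.OverMorphism.ext hφ.symm⟩

theorem isClosedImmersion_i : IsClosedImmersion D.i.left := by
  haveI := isMonHom_i D
  haveI := (RankLib.SplitRedCentre.flat_T D).1; haveI := (RankLib.SplitRedCentre.flat_T D).2
  haveI := mono_i D
  obtain ⟨C, _, c, hc, hcc, -⟩ := Groth.Agent.S5247.result D.T G (RankLib.SplitRedCentre.isMultTypeFT_T D)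
    D.reductive.2.1 D.reductive.1 D.i
  have hself := RankLib.SplitRedCentre.isCentralizerOf_self D.maximalTorus D.reductive
    (RankLib.SplitRedCentre.isMultTypeFT_T D) (RankLib.SplitRedCentre.comm_T D)
  haveI := hc.2.1
  obtain ⟨v, hv⟩ := (hc.2.2 D.T D.i).mpr ((hself.2.2 D.T D.i).mp ⟨𝟙 _, Category.id_comp _⟩)
  obtain ⟨w, hw⟩ := (hself.2.2 C c).mpr ((hc.2.2 C c).mp ⟨𝟙 _, Category.id_comp _⟩)
  haveI : IsIso v := ⟨w, by rw [← cancel_mono D.i, Category.assoc, hw, hv, Category.id_comp],
    by rw [← cancel_mono c, Category.assoc, hv, hw, Category.id_comp]⟩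
  haveI : IsIso v.left := inferInstanceAs (IsIso ((Over.forget _).map v))
  rw [← hv, Over.comp_left]
  infer_instance

variable {R : Type u} [CommRing R] (a : Spec (CommRingCat.of R) ⟶ S)

theorem isClosedImmersion_pullback_map {X : Over S} (v : X ⟶ G) [IsClosedImmersion v.left] :
    IsClosedImmersion ((Over.pullback a).map v).left :=
  MorphismProperty.baseChange_map (P := @IsClosedImmersion) a v ‹_›

variable {A : Type u} [CommRing A] [HopfAlgebra R A] (ε : Red.bc a G ≅ sp R A)
  {C C' : Type u} [CommRing C] [Algebra R C] [CommRing C'] [Algebra R C']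

/-- Points of the group in the model. -/
noncomputable def hpt (x : sp R C ⟶ Red.bc a G) : WithConv (A →ₐ[R] C) := Spec.mapMulEquiv.symm (x ≫ ε.hom)

theorem spMap_hpt (x : sp R C ⟶ Red.bc a G) : spMap (hpt a ε x).ofConv = x ≫ ε.hom :=
  Spec.mapMulEquiv.apply_symm_apply _

theorem hpt_injective : Function.Injective (hpt (C := C) a ε) := fun x y h => by
  rw [← cancel_mono ε.hom, ← spMap_hpt, ← spMap_hpt, h]

theorem hpt_comp (φ : C →ₐ[R] C') (x : sp R C ⟶ Red.bc a G) : post φ (hpt a ε x) = hpt a ε (spMap φ ≫ x) := by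
  refine WithConv.ofConv_injective (spMap_injective ?_)
  rw [spMap_hpt, Category.assoc, ← spMap_hpt, spMap_comp]
  rfl

variable [IsMonHom ε.hom]

theorem hpt_mul (x y : sp R C ⟶ Red.bc a G) : hpt a ε (x * y) = hpt a ε x * hpt a ε y := by
  rw [hpt, MonObj.mul_comp, map_mul]
  rfl

theorem hpt_inv (x : sp R C ⟶ Red.bc a G) : hpt a ε x⁻¹ = (hpt a ε x)⁻¹ :=
  eq_inv_of_mul_eq_one_left (by rw [← hpt_mul, inv_mul_cancel, hpt, MonObj.one_comp, map_one])

theorem isMonHom_torusMap : IsMonHom (RankLib.SplitRedFibre.torus D a ε) := RankLib.SplitRedFibre.isMonHom_torus D a ε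

/-- The torus of the model. -/
noncomputable def torC : A →ₐc[R] MonoidAlgebra R (Multiplicative D.M) :=
  haveI := isMonHom_torusMap D a ε
  (exists_bialgHom (RankLib.SplitRedFibre.torus D a ε)).choose

theorem spMap_torC : spMap (torC D a ε : A →ₐ[R] MonoidAlgebra R (Multiplicative D.M)) =
    RankLib.SplitRedFibre.torus D a ε :=
  haveI := isMonHom_torusMap D a ε
  (exists_bialgHom (RankLib.SplitRedFibre.torus D a ε)).choose_spec.symm

theorem tPtOf_torC (χ : Multiplicative D.M →* C) :
    tPtOf (torC D a ε) χ = hpt a ε (tpt D a χ ≫ (Over.pullback a).map D.i) := by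
  refine WithConv.ofConv_injective (spMap_injective ?_)
  rw [spMap_hpt, Category.assoc, ← RankLib.SplitRedFibre.pt_torus, tPtOf, ofConv_toConv, ← spMap_comp, spMap_torC]
  rfl

/-- The root subgroups of the model. -/
noncomputable def rootC (r : D.idx) : A →ₐ[R] Polynomial R :=
  (hpt a ε (rootPt D a r (Polynomial.X : Polynomial R))).ofConv

theorem rPtOf_rootC (r : D.idx) (c : C) : rPtOf (rootC D a ε r) c = hpt a ε (rootPt D a r c) := by
  show post (Polynomial.aeval c) (hpt a ε (rootPt D a r (Polynomial.X : Polynomial R))) = _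
  rw [hpt_comp, spMap_rootPt, Polynomial.aeval_X]

omit [IsMonHom ε.hom] in
theorem rootPt_add (r : D.idx) (c c' : C) : rootPt D a r (c + c') = rootPt D a r c * rootPt D a r c' := by
  haveI := isMonHom_u D r
  refine (DSPtsLib.theta_bijective a).1 ?_
  rw [DSPtsLib.theta_mul, theta_rootPt, theta_rootPt, theta_rootPt, ← MonObj.mul_comp]
  congr 1
  refine GaPts.gaFn_injective ?_
  show Red.gaFn _ = Red.gaFn _
  rw [GaPts.gaFn_mul, GaPts.gaFn_ptOfFn, GaPts.gaFn_ptOfFn, GaPts.gaFn_ptOfFn]
  exact map_add (Scheme.ΓSpecIso (CommRingCat.of C)).inv.hom _ _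

omit [IsMonHom ε.hom] in
/-- The additive group over an affine scheme. -/
theorem exists_gaIso : ∃ φ : sp R (Polynomial R) ≅ Red.bc a (Red.Ga S),
    ∀ r : D.idx, φ.hom ≫ (Over.pullback a).map (D.u r) = rootPt D a r (Polynomial.X : Polynomial R) := by
  haveI : IsAffine Red.GaZ.{u}.left := inferInstanceAs (IsAffine (Spec _))
  haveI : IsAffineHom Red.GaZ.{u}.hom := inferInstance
  haveI : IsAffineHom (Red.Ga S).hom := MorphismProperty.pullback_snd _ _ inferInstance
  haveI : IsAffineHom (Red.bc a (Red.Ga S)).hom := MorphismProperty.pullback_snd _ _ inferInstance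
  haveI : IsAffine (Red.bc a (Red.Ga S)).left := isAffine_of_isAffineHom (Red.bc a (Red.Ga S)).hom
  obtain ⟨W, _, _, e, he⟩ := GModLib.exists_sp_iso (Red.bc a (Red.Ga S))
  haveI := he
  let u₀ := (DSPtsLib.theta_bijective (Y := sp R (Polynomial R)) (H := Red.Ga S) a).2
    (GaPts.ptOfFn (fnOf a (Polynomial.X : Polynomial R)))
  let φ : sp R (Polynomial R) ⟶ Red.bc a (Red.Ga S) := u₀.choose
  have hφ : ∀ (C : Type u) (_ : CommRing C) (_ : Algebra R C) (c : C), DSPtsLib.theta a (spMap (Polynomial.aeval c) ≫ φ) =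
      (GaPts.ptOfFn (fnOf a c) : (Over.map a).obj (sp R C) ⟶ Red.Ga S) := fun C _ _ c => by
    rw [DSPtsLib.theta_comp, u₀.choose_spec]
    refine GaPts.gaFn_injective ?_
    show Red.gaFn _ = Red.gaFn _
    rw [GaPts.gaFn_comp, GaPts.gaFn_ptOfFn, GaPts.gaFn_ptOfFn, appTop_fnOf, Polynomial.aeval_X]
  let c₀ : W := (Scheme.ΓSpecIso (CommRingCat.of W)).hom (Red.gaFn (DSPtsLib.theta a e))
  let ψ : Red.bc a (Red.Ga S) ⟶ sp R (Polynomial R) := inv e ≫ spMap (Polynomial.aeval c₀)
  have h1 : ψ ≫ φ = 𝟙 _ := by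
    rw [← cancel_epi e, Category.comp_id]
    refine (DSPtsLib.theta_bijective a).1 ?_
    rw [show e ≫ ψ ≫ φ = spMap (Polynomial.aeval c₀) ≫ φ by simp [ψ], hφ]
    refine GaPts.gaFn_injective ?_
    show Red.gaFn _ = Red.gaFn _
    rw [GaPts.gaFn_ptOfFn]
    exact (Scheme.ΓSpecIso (CommRingCat.of W)).hom_inv_id_apply _
  have h2 : φ ≫ ψ = 𝟙 _ := by
    obtain ⟨g, hg⟩ : ∃ g : Polynomial R →ₐ[R] Polynomial R, φ ≫ ψ = spMap g := exists_eq_spMap' _
    have hid : spMap (Polynomial.aeval (Polynomial.X : Polynomial R)) = 𝟙 (sp R (Polynomial R)) := by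
      rw [← spMap_id]
      congr 1
      exact Polynomial.algHom_ext (by simp)
    have h4 := congrArg (fun z => Red.gaFn (DSPtsLib.theta a z))
      (show spMap (Polynomial.aeval (g Polynomial.X)) ≫ φ = spMap (Polynomial.aeval Polynomial.X) ≫ φ by
        rw [show Polynomial.aeval (g Polynomial.X) = g from Polynomial.algHom_ext (by simp), ← hg, hid,
          Category.id_comp, Category.assoc, h1, Category.comp_id])
    simp only [hφ, GaPts.gaFn_ptOfFn] at h4
    rw [hg, show g = Polynomial.aeval Polynomial.X from Polynomial.algHom_ext (by simpa using fnOf_injective a h4), hid]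
  refine ⟨⟨φ, ψ, h2, h1⟩, fun r => ?_⟩
  refine (DSPtsLib.theta_bijective a).1 ?_
  rw [BC.theta_map, theta_rootPt, u₀.choose_spec]

/-- The chart of a split reductive group over an affine scheme. -/
noncomputable def chart : Chart R A D.M D.idx where
  tor := torC D a ε
  tor_surj := by
    haveI := isClosedImmersion_i D
    haveI := isClosedImmersion_pullback_map a D.i
    haveI : IsAffineHom D.T.hom := by rw [← Over.w D.i]; haveI := D.reductive.1; infer_instance
    haveI : IsAffineHom (Red.bc a D.T).hom := MorphismProperty.pullback_snd _ _ inferInstance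
    haveI : IsAffine (Red.bc a D.T).left := isAffine_of_isAffineHom (Red.bc a D.T).hom
    obtain ⟨W, _, _, e, he⟩ := GModLib.exists_sp_iso (Red.bc a D.T)
    haveI := he
    obtain ⟨χ, hχ⟩ := exists_eq_tpt D a e
    haveI : IsIso (tpt D a (MonoidAlgebra.of R (Multiplicative D.M))) := by
      refine ⟨inv e ≫ CentreWeights.pt R χ, ?_, ?_⟩
      · obtain ⟨g, hg⟩ := exists_eq_spMap (tpt D a (MonoidAlgebra.of R (Multiplicative D.M)) ≫ inv e ≫ CentreWeights.pt R χ)
        rw [hg, ← spMap_id]
        congr 1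
        have h : tpt D a ((g : MonoidAlgebra R (Multiplicative D.M) →* MonoidAlgebra R (Multiplicative D.M)).comp
            (MonoidAlgebra.of R (Multiplicative D.M))) = tpt D a (MonoidAlgebra.of R (Multiplicative D.M)) := by
          rw [← spMap_tpt, ← hg, Category.assoc, Category.assoc, RankLib.SplitRedFibre.pt_tpt, ← hχ]
          simp
        exact MonoidAlgebra.algHom_ext (fun m => DFunLike.congr_fun (tpt_injective D a h) m) (by ext)
      · rw [Category.assoc, RankLib.SplitRedFibre.pt_tpt, ← hχ, IsIso.inv_hom_id]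
    haveI : IsIso (tpt D a (MonoidAlgebra.of R (Multiplicative D.M))).left :=
      inferInstanceAs (IsIso ((Over.forget _).map (tpt D a (MonoidAlgebra.of R (Multiplicative D.M)))))
    haveI : IsIso ε.hom.left := inferInstanceAs (IsIso ((Over.forget _).map ε.hom))
    haveI : IsClosedImmersion (spMap (torC D a ε : A →ₐ[R] MonoidAlgebra R (Multiplicative D.M))).left := by
      rw [spMap_torC, RankLib.SplitRedFibre.torus, Over.comp_left, Over.comp_left]
      infer_instance
    exact surjective_of_isClosedImmersion (torC D a ε : A →ₐ[R] MonoidAlgebra R (Multiplicative D.M)) inferInstance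
  root := rootC D a ε
  root_surj := fun r => by
    haveI := (D.rootHom r).2.1
    haveI := isClosedImmersion_pullback_map a (D.u r)
    obtain ⟨φ, hφ⟩ := exists_gaIso D a
    haveI : IsIso φ.hom.left := inferInstanceAs (IsIso ((Over.forget _).map φ.hom))
    haveI : IsIso ε.hom.left := inferInstanceAs (IsIso ((Over.forget _).map ε.hom))
    haveI : IsClosedImmersion (spMap (rootC D a ε r)).left := by
      rw [rootC, spMap_hpt, ← hφ r, Over.comp_left, Over.comp_left]
      infer_instance
    exact surjective_of_isClosedImmersion (rootC D a ε r) inferInstance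
  root_add := fun r C _ _ c c' => by rw [rPtOf_rootC, rPtOf_rootC, rPtOf_rootC, rootPt_add, hpt_mul]
  α := fun r => D.P.root r
  α_injective := D.P.root.injective
  α_ne := fun r => root_ne_zero D r
  conj := fun r C _ _ χ c => by
    rw [tPtOf_torC, rPtOf_rootC, rPtOf_rootC, ← hpt_inv, ← hpt_mul, ← hpt_mul, rootPt_conj]

theorem chart_tPt (χ : Multiplicative D.M →* C) :
    (chart D a ε).tPt χ = hpt a ε (tpt D a χ ≫ (Over.pullback a).map D.i) := tPtOf_torC D a ε χ

theorem chart_rPt (r : D.idx) (c : C) : (chart D a ε).rPt r c = hpt a ε (rootPt D a r c) := rPtOf_rootC D a ε r c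

theorem chart_α (r : D.idx) : (chart D a ε).α r = D.P.root r := rfl

include D a ε in
omit [IsMonHom ε.hom] in
theorem smooth_model : Algebra.Smooth R A := by
  haveI := D.reductive.2.1
  haveI : Smooth (Red.bc a G).hom := inferInstanceAs (Smooth (pullback.snd G.hom a))
  haveI : IsIso ε.inv.left := inferInstanceAs (IsIso ((Over.forget _).map ε.inv))
  haveI : Smooth (sp R A).hom := by rw [← Over.w ε.inv]; infer_instance
  exact RingHom.smooth_algebraMap.mp ((HasRingHomProperty.Spec_iff (P := @Smooth)).mp ‹Smooth (sp R A).hom›)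

theorem geomFibres : (chart D a ε).GeomFibres := fun L _ _ _ => by
  haveI := D.reductive.1; haveI := D.reductive.2.1
  let b : Spec (CommRingCat.of L) ⟶ Spec (CommRingCat.of R) := Spec.map (CommRingCat.ofHom (algebraMap R L))
  have hcon : ConnectedSpace (Red.bc (b ≫ a) G).left :=
    RedOpenLib.connectedSpace_bc_point (fun s => GModLib.isConnected_fibre_of_isReductive D.reductive s) (b ≫ a)
  have hdim : topologicalKrullDim ↥(Red.bc (b ≫ a) G).left ≤
      ((Module.finrank ℤ D.M + Fintype.card D.idx : ℕ) : WithBot ℕ∞) := by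
    rw [RankLib.topologicalKrullDim_bc_point G (b ≫ a), ← D.dim_fibre ((b ≫ a) (IsLocalRing.closedPoint L)),
      Red.geomFibre, RankLib.topologicalKrullDim_bc_point G (Red.geomPt _), RedOpenLib.geomPt_closedPoint]
  let sq := (IsPullback.of_hasPullback G.hom (b ≫ a))
  haveI : IsIso ε.hom.left := inferInstanceAs (IsIso ((Over.forget _).map ε.hom))
  let e₁ : Spec (CommRingCat.of (L ⊗[R] A)) ≅ pullback (sp R A).hom b :=
    (pullbackSpecIso R L A).symm ≪≫ pullbackSymmetry _ _
  let e₂ : pullback (sp R A).hom b ≅ pullback (Red.bc a G).hom b :=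
    asIso (pullback.map _ _ _ _ ε.inv.left (𝟙 _) (𝟙 _) (by rw [Category.comp_id, Over.w]) (by simp))
  let e : Spec (CommRingCat.of (L ⊗[R] A)) ≅ (Red.bc (b ≫ a) G).left :=
    e₁ ≪≫ e₂ ≪≫ pullbackLeftPullbackSndIso G.hom a b
  haveI : ConnectedSpace (PrimeSpectrum (L ⊗[R] A)) :=
    haveI := hcon
    (e.inv.surjective).connectedSpace e.inv.continuous
  refine ⟨?_, fun x hx => ?_⟩
  · rw [← PrimeSpectrum.topologicalKrullDim_eq_ringKrullDim]
    exact (IsHomeomorph.topologicalKrullDim_eq _ e.hom.homeomorph.isHomeomorph).trans_le hdim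
  · rcases isClopen_iff.mp (PrimeSpectrum.isClopen_iff.mpr ⟨x, hx, rfl⟩ :
      IsClopen (PrimeSpectrum.basicOpen x : Set (PrimeSpectrum (L ⊗[R] A)))) with h | h
    · left
      exact PrimeSpectrum.basicOpen_injOn_isIdempotentElem hx IsIdempotentElem.zero
        (TopologicalSpace.Opens.ext (h.trans (by simp)))
    · right
      exact PrimeSpectrum.basicOpen_injOn_isIdempotentElem hx IsIdempotentElem.one
        (TopologicalSpace.Opens.ext (h.trans (by simp)))

end Groth.Agent.RootChartLib
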