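import Groth.Agent.RootChartLib.RankOneNeg
import Groth.Agent.RootChartLib.Split
import Groth.Agent.GrpFieldLib.SmoothDense

/-!
# The positive half of a reduced chart is a maximal connected solvable subgroup
-/

set_option autoImplicit false
set_option backward.isDefEq.respectTransparency false
set_option backward.isDefEq.respectTransparency.types false

universe u

open CategoryTheory Limits AlgebraicGeometry MonoidalCategory CartesianMonoidalCategory MonObj GrpObj WithConv
open scoped TensorProduct LaurentPolynomial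

namespace Groth.Agent.RootChartLib

open GrpSchLib GrpSchLib.AffineHopf GrpSchLib.Kunneth GModLib DynLib

variable {k : Type u} [Field k] [IsAlgClosed k] {A : Type u} [CommRing A] [HopfAlgebra k A]

namespace Chart

variable {M : Type} [AddCommGroup M] [Module.Free ℤ M] [Module.Finite ℤ M] [Module.IsTorsionFree ℤ M]
  [Algebra.Smooth k A] {idx : Type} [Fintype idx] (D : Chart k A M idx) (f : M →+ ℤ)

/-- A functional injective on the roots and positive on those negative for `f`. -/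
theorem exists_refining (hf : ∀ r, f (D.α r) ≠ 0) (g : M →+ ℤ) (hg : ∀ r s, r ≠ s → g (D.α r) ≠ g (D.α s)) :
    ∃ f' : M →+ ℤ, (∀ r, f' (D.α r) ≠ 0) ∧ (∀ r, f (D.α r) < 0 → 0 < f' (D.α r)) ∧
      ∀ r s, f' (D.α r) = f' (D.α s) → r = s := by
  classical
  let C : ℤ := 2 * (∑ r, |g (D.α r)|) + 1
  have hle : ∀ r, |g (D.α r)| ≤ ∑ r, |g (D.α r)| := fun r =>
    Finset.single_le_sum (fun s _ => abs_nonneg (g (D.α s))) (Finset.mem_univ r)
  refine ⟨g - C • f, fun r h => ?_, fun r hr => ?_, fun r s h => ?_⟩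
  · simp only [AddMonoidHom.sub_apply, AddMonoidHom.smul_apply, smul_eq_mul] at h
    have h0 := hle r
    have hfr := hf r
    have h1 : |g (D.α r)| = C * |f (D.α r)| := by
      rw [show g (D.α r) = C * f (D.α r) by omega, abs_mul]
      congr 1
      exact abs_of_nonneg (by have := abs_nonneg (g (D.α r)); omega)
    have h2 : 1 ≤ |f (D.α r)| := Int.one_le_abs hfr
    have h3 := abs_nonneg (g (D.α r))
    nlinarith
  · simp only [AddMonoidHom.sub_apply, AddMonoidHom.smul_apply, smul_eq_mul]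
    have h0 := hle r
    have h1 := abs_le.mp h0
    nlinarith
  · simp only [AddMonoidHom.sub_apply, AddMonoidHom.smul_apply, smul_eq_mul] at h
    by_contra hne
    have h1 := abs_le.mp (hle r)
    have h2 := abs_le.mp (hle s)
    rcases lt_trichotomy (f (D.α r)) (f (D.α s)) with h3 | h3 | h3
    · nlinarith
    · exact hg r s hne (by rw [h3] at h; omega)
    · nlinarith

variable (hD : D.GeomFibres) (hf : ∀ r, f (D.α r) ≠ 0) (hG : Red.IsReductiveOver k (sp k A))
  (hT : AGF.IsMaxTorus D.torHom) (hrefl : ∀ r, ∃ d n, D.IsRefl r d n) (hneg : ∀ r, ∃ r', D.α r' = -D.α r)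

include hD hf hG hT hrefl hneg in
/-- A solvable closed group containing the positive half contains no contracted point of the opposite sign. -/
theorem eq_one_of_mem_neg (g : M →+ ℤ) (hg : ∀ r s, r ≠ s → g (D.α r) ≠ g (D.α s))
    (Hs : Subgroup (VecGrp.pt k k ⟶ sp k A)) (F : Set (Fn (sp k A)))
    (hF : ∀ p, p ∈ Hs ↔ ∀ F' ∈ F, pullFn p F' = 0) {N : ℕ} (hsol : derivedSeries Hs N = ⊥)
    (hP : ∀ p, D.IsP f p → gp p ∈ Hs) {v : WithConv (A →ₐ[k] k)} (hv : D.IsU (-f) v) (hmem : gp v ∈ Hs) : v = 1 := by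
  classical
  obtain ⟨f', hf', hpos', hinj'⟩ := D.exists_refining f hf g hg
  let Ψ : Set idx := {r | f (D.α r) < 0}
  have hpos : ∀ r ∈ Ψ, 0 < f' (D.α r) := fun r hr => hpos' r hr
  have hcl : ∀ (r a b : idx) (i j : ℕ), a ∈ Ψ → b ∈ Ψ → 1 ≤ i → 1 ≤ j → D.α r = i • D.α a + j • D.α b → r ∈ Ψ := by
    intro r a b i j ha hb hi hj h
    show f (D.α r) < 0
    rw [h, map_add, map_nsmul, map_nsmul, nsmul_eq_mul, nsmul_eq_mul]
    have h1 : (1 : ℤ) ≤ (i : ℤ) := by exact_mod_cast hi
    have h2 : (0 : ℤ) ≤ (j : ℤ) := Int.natCast_nonneg j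
    have ha' : f (D.α a) < 0 := ha
    have hb' : f (D.α b) < 0 := hb
    nlinarith
  have hTmem : ∀ χ, gp (D.tPt χ) ∈ Hs := fun χ => hP _ (D.isZ_isP f (D.tPt_kills_idealZ f χ))
  obtain ⟨Bd, hBd⟩ : ∃ B : ℤ, ∀ r, f' (D.α r) < B :=
    ⟨(∑ r, |f' (D.α r)|) + 1, fun r => Int.lt_add_one_iff.mpr
      ((le_abs_self _).trans (Finset.single_le_sum (fun s _ => abs_nonneg (f' (D.α s))) (Finset.mem_univ r)))⟩
  have main : ∀ (j : ℕ) (v : WithConv (A →ₐ[k] k)), v ∈ D.lev Ψ f' k (Bd - j) → gp v ∈ Hs → v = 1 := by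
    intro j
    induction j with
    | zero =>
      intro v hv _
      have hbot : D.lev Ψ f' k (Bd - ((0 : ℕ) : ℤ)) = ⊥ := by
        rw [eq_bot_iff, lev, Subgroup.closure_le]
        rintro _ ⟨r, -, hr, -⟩
        exact absurd (hBd r) (not_lt.mpr (by simpa using hr))
      rwa [hbot, Subgroup.mem_bot] at hv
    | succ j ih =>
      intro v hv hmem
      let L : ℤ := Bd - ((j + 1 : ℕ) : ℤ)
      have hL : L + 1 = Bd - (j : ℤ) := by simp only [L]; push_cast; ring
      by_cases hr : ∃ r ∈ Ψ, f' (D.α r) = L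
      · obtain ⟨r, hrΨ, hrL⟩ := hr
        obtain ⟨m, e₁, he₁, hrange₁⟩ : ∃ (m : ℕ) (e : Fin m → idx), Function.Injective e ∧
            ∀ s, s ∈ Set.range e ↔ (s ∈ Ψ ∧ L + 1 ≤ f' (D.α s)) := ⟨_, exists_enum fun s => s ∈ Ψ ∧ L + 1 ≤ f' (D.α s)⟩
        let ΨL : Set idx := {s | s ∈ Ψ ∧ L ≤ f' (D.α s)}
        have hposL : ∀ s ∈ ΨL, 0 < f' (D.α s) := fun s hs => hpos s hs.1
        have hclL : ∀ (s a b : idx) (i l : ℕ), a ∈ ΨL → b ∈ ΨL → 1 ≤ i → 1 ≤ l →
            D.α s = i • D.α a + l • D.α b → s ∈ ΨL := fun s a b i l ha hb hi hl h => by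
          refine ⟨hcl s a b i l ha.1 hb.1 hi hl h, ?_⟩
          rw [h, map_add, map_nsmul, map_nsmul, nsmul_eq_mul, nsmul_eq_mul]
          have h1 : (1 : ℤ) ≤ (i : ℤ) := by exact_mod_cast hi
          have h2 : (0 : ℤ) ≤ (l : ℤ) := Int.natCast_nonneg l
          have := hposL a ha
          have := mul_nonneg h2 (le_of_lt (hposL b hb))
          nlinarith [ha.2]
        let e : Fin (m + 1) → idx := Fin.cons r e₁
        have hem : ∀ i, e i ∈ ΨL := fun i => by
          induction i using Fin.cases with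
          | zero => exact ⟨hrΨ, le_of_eq hrL.symm⟩
          | succ i => exact ⟨((hrange₁ _).mp ⟨i, rfl⟩).1, by
              show L ≤ f' (D.α (e₁ i)); have := ((hrange₁ _).mp ⟨i, rfl⟩).2; omega⟩
        have he : Function.Injective e := Fin.cons_injective_iff.mpr
          ⟨fun h => by have := ((hrange₁ r).mp h).2; omega, he₁⟩
        have hrange : ∀ s ∈ ΨL, s ∈ Set.range e := fun s hs => by
          rcases lt_or_eq_of_le hs.2 with h | h
          · obtain ⟨i, hi⟩ := (hrange₁ s).mpr ⟨hs.1, by omega⟩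
            exact ⟨i.succ, by simpa [e] using hi⟩
          · exact ⟨0, by simpa [e] using (hinj' r s (hrL.trans h))⟩
        have hvs : v ∈ D.span ΨL k := by
          refine (Subgroup.closure_mono ?_) hv
          rintro _ ⟨s, hs, hsL, x, hx⟩
          exact ⟨s, ⟨hs, hsL⟩, x, hx⟩
        obtain ⟨c, rfl⟩ := D.exists_prodPt_span hposL hD hclL e hem he hrange hvs
        have hprod : D.prodPt e c = D.rPt r (c 0) * D.prodPt e₁ (fun i => c i.succ) := rfl
        have htail : ∀ d : Fin m → k, D.prodPt e₁ d ∈ D.lev Ψ f' k (L + 1) := fun d =>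
          D.prodPt_mem e₁ d fun i => D.rPt_mem_lev ((hrange₁ _).mp ⟨i, rfl⟩).1 ((hrange₁ _).mp ⟨i, rfl⟩).2 _
        have hra : 0 < f' (D.α r) := hpos r hrΨ
        have hcomm : D.InCent r f' (D.prodPt e c) := fun χ => by
          let t := D.tPt (χ.comp (D.qHom r f'))
          have hw : t * D.prodPt e c * t⁻¹ * (D.prodPt e c)⁻¹ = 1 := by
            refine ih _ ?_ ?_
            · rw [← hL, hprod]
              have h1 := ((D.inCent_rPt r f' (D.qLin_root r f') (c 0)) χ).symm.eq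
              have e2 : t * (D.rPt r (c 0) * D.prodPt e₁ (fun i => c i.succ)) * t⁻¹ *
                  (D.rPt r (c 0) * D.prodPt e₁ (fun i => c i.succ))⁻¹ =
                  D.rPt r (c 0) * ((t * D.prodPt e₁ (fun i => c i.succ) * t⁻¹) * (D.prodPt e₁ (fun i => c i.succ))⁻¹) *
                    (D.rPt r (c 0))⁻¹ := by
                rw [← _root_.mul_assoc t, show t * D.rPt r (c 0) = D.rPt r (c 0) * t from h1]
                group
              rw [e2]
              refine D.lev_conj hpos hD hcl (D.rPt_mem_span hrΨ _) (Subgroup.mul_mem _ ?_ (Subgroup.inv_mem _ (htail _)))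
              rw [D.prodPt_conj]
              exact htail _
            · rw [map_mul, map_mul, map_mul, map_inv, map_inv]
              exact Hs.mul_mem (Hs.mul_mem (Hs.mul_mem (hTmem _) hmem) (Hs.inv_mem (hTmem _))) (Hs.inv_mem hmem)
          exact (mul_inv_eq_iff_eq_mul.mp (mul_inv_eq_one.mp hw)).symm
        obtain ⟨d, n, hn⟩ := hrefl r
        have hzero : ∀ i : Fin m, c i.succ = 0 := fun i => by
          refine D.coord_eq_zero_of_inCent r f' e he (fun l => hposL _ (hem l)) c hcomm i.succ fun hq => ?_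
          have h1 : e i.succ = r := D.eq_of_proportional r f' hD hf' hG hT hn hra (hposL _ (hem i.succ)) hq
          exact Fin.succ_ne_zero i (he (h1.trans (by simp [e])))
        have hx : D.prodPt e c = D.rPt r (c 0) := by
          rw [hprod, show (fun i : Fin m => c i.succ) = fun _ => (0 : k) from funext hzero, prodPt_zero, _root_.mul_one]
        rw [hx] at hmem ⊢
        by_contra hne
        have hx0 : c 0 ≠ 0 := fun h => hne (by rw [h, rPt_zero])
        obtain ⟨r', hr'⟩ := hneg r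
        obtain ⟨d', n', hn'⟩ := hrefl r'
        have hfr' : 0 < f (D.α r') := by rw [hr', map_neg]; exact neg_pos.mpr hrΨ
        refine D.rPt_notMem_of_solvable r' f hD hf hG hT hn' hfr' (by rw [hr', neg_neg]) Hs F hF hsol hTmem
          (fun x => hP _ (D.isU_isP f (D.isU_rPt f r' hfr' x))) hx0 hmem
      · refine ih v ((Subgroup.closure_mono ?_) hv) hmem
        rintro _ ⟨s, hs, hsL, x, hx⟩
        refine ⟨s, hs, ?_, x, hx⟩
        rcases lt_or_eq_of_le hsL with h | h
        · rw [← hL]; exact Int.add_one_le_iff.mpr h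
        · exact absurd ⟨s, hs, h.symm⟩ hr
  obtain ⟨m, e, he, hrange⟩ : ∃ (m : ℕ) (e : Fin m → idx), Function.Injective e ∧ ∀ s, s ∈ Set.range e ↔ s ∈ Ψ :=
    ⟨_, exists_enum fun s => s ∈ Ψ⟩
  have hem : ∀ i, 0 < (-f) (D.α (e i)) := fun i => neg_pos.mpr ((hrange _).mp ⟨i, rfl⟩)
  obtain ⟨c, rfl⟩ := D.exists_prodPt (-f) hD e hem he
    (fun s hs => (hrange s).mpr (neg_pos.mp hs)) hv
  refine main Bd.toNat _ (D.prodPt_mem e c fun i => D.rPt_mem_lev ((hrange _).mp ⟨i, rfl⟩) ?_ _) hmem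
  have := hpos _ ((hrange _).mp ⟨i, rfl⟩)
  omega

include hD hf hG hT hrefl hneg in
/-- A connected solvable subgroup containing the positive half lies in it. -/
theorem isP_of_solvable (g : M →+ ℤ) (hg : ∀ r s, r ≠ s → g (D.α r) ≠ g (D.α s))
    {B' : Over (Spec (CommRingCat.of k))} [GrpObj B'] (i' : B' ⟶ sp k A) [IsMonHom i'] [IsClosedImmersion i'.left]
    [Smooth B'.hom] [ConnectedSpace B'.left] (hsol : Red.IsSolvableGrp B')
    (hP : ∀ p, D.IsP f p → ∃ b : VecGrp.pt k k ⟶ B', b ≫ i' = gp p) (b : VecGrp.pt k k ⟶ B') :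
    D.IsP f (gp.symm (b ≫ i')) := by
  classical
  haveI := hG.1; haveI := hG.2.1
  haveI : IsAffine B'.left := isAffine_of_isAffineHom i'.left
  haveI : IrreducibleSpace B'.left := GrpFieldLib.SmoothDense.irreducibleSpace_of_connected B'.hom
  haveI : IsReduced B'.left := GrpSchLib.isReduced_of_smooth_field B'.hom
  let Hs : Subgroup (VecGrp.pt k k ⟶ sp k A) := (pushPt i').range
  let F : Set (Fn (sp k A)) := {F' | ev i' F' = 0}
  have hF : ∀ p, p ∈ Hs ↔ ∀ F' ∈ F, pullFn p F' = 0 := fun p => by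
    refine ⟨?_, fun h => ?_⟩
    · rintro ⟨z, rfl⟩ F' (hF' : ev i' F' = 0)
      rw [pushPt_apply, ← pullFn_ev, hF', map_zero]
    · obtain ⟨z, hz⟩ := exists_point_of_kills i' p fun F' hF' => h F' hF'
      exact ⟨z, hz⟩
  obtain ⟨N, hN⟩ := hsol
  have hsolH : derivedSeries Hs N = ⊥ := by
    rw [← map_derivedSeries_eq (f := (pushPt i').rangeRestrict) (pushPt i').rangeRestrict_surjective N, hN,
      Subgroup.map_bot]
  obtain ⟨n, em, hemi, hemr⟩ : ∃ (n : ℕ) (e : Fin n → idx), Function.Injective e ∧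
      ∀ r, r ∈ Set.range e ↔ f (D.α r) < 0 := ⟨_, exists_enum fun r => f (D.α r) < 0⟩
  obtain ⟨m, e, he, hrange⟩ : ∃ (m : ℕ) (e : Fin m → idx), Function.Injective e ∧
      ∀ r, r ∈ Set.range e ↔ 0 < f (D.α r) := ⟨_, exists_enum fun r => 0 < f (D.α r)⟩
  have hpe : ∀ i, 0 < f (D.α (e i)) := fun i => (hrange _).mp ⟨i, rfl⟩
  have hme : ∀ i, f (D.α (em i)) < 0 := fun i => (hemr _).mp ⟨i, rfl⟩
  let j := Spec.map (CommRingCat.ofHom (D.cellHom e em).toRingHom)
  haveI : IsOpenImmersion j := D.isOpenImmersion_cellHom f hD hf e hpe he (fun r hr => (hrange r).mpr hr) em hme hemi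
    (fun r hr => (hemr r).mpr hr)
  let U : Set B'.left := i'.left ⁻¹' Set.range j
  have hU : IsOpen U := j.isOpenEmbedding.isOpen_range.preimage i'.left.continuous
  have hcellU : ∀ y χ x, ∀ p : VecGrp.pt k k ⟶ B', p ≫ i' = gp (D.cellPt e em y χ x) →
      p.left (IsLocalRing.closedPoint k) ∈ U := fun y χ x p hp => by
    show i'.left (p.left (IsLocalRing.closedPoint k)) ∈ Set.range j
    rw [← Scheme.Hom.comp_apply, ← Over.comp_left, hp, gp_eq, ← cellPoint_comp_cellHom, ofConv_toConv, ← spMap_comp,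
      Over.comp_left, Scheme.Hom.comp_apply]
    exact ⟨_, rfl⟩
  have hUP : ∀ p : VecGrp.pt k k ⟶ B', p.left (IsLocalRing.closedPoint k) ∈ U → D.IsP f (gp.symm (p ≫ i')) := by
    intro p hp
    haveI : IsOpenImmersion (spMap (D.cellHom e em) : sp k (CellRing k M n m) ⟶ sp k A).left := ‹IsOpenImmersion j›
    let θ₀ : VecGrp.pt k k ⟶ sp k (CellRing k M n m) := Over.homMk
      (IsOpenImmersion.lift (spMap (D.cellHom e em)).left (p ≫ i').left (by
        rintro _ ⟨x, rfl⟩
        rw [show x = IsLocalRing.closedPoint k from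
          @Subsingleton.elim (Spec (CommRingCat.of k)) _ x (IsLocalRing.closedPoint k)]
        exact hp))
      (by rw [← Over.w (spMap (D.cellHom e em)), IsOpenImmersion.lift_fac_assoc, Over.w (p ≫ i')])
    have hθ : θ₀ ≫ spMap (D.cellHom e em) = p ≫ i' := Over.OverMorphism.ext (IsOpenImmersion.lift_fac _ _ _)
    obtain ⟨θ, hθ'⟩ := exists_eq_spMap' (R := k) (B := CellRing k M n m) (W := k) θ₀
    obtain ⟨y, χ, x, rfl⟩ := exists_eq_cellPoint θ
    have hgc : gp.symm (p ≫ i') = D.cellPt e em y χ x := by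
      rw [← hθ, hθ', spMap_comp, ← cellPoint_comp_cellHom]
      exact gp.symm_apply_apply _
    rw [hgc]
    have hPpart : gp (D.tPt χ * D.prodPt e x) ∈ Hs := by
      obtain ⟨b', hb'⟩ := hP _ (D.isP_tPt_mul f e χ hpe x)
      exact ⟨b', hb'⟩
    have hy : D.prodPt em y = 1 := by
      refine D.eq_one_of_mem_neg f hD hf hG hT hrefl hneg g hg Hs F hF hsolH (fun q hq => ?_)
        (D.isU_prodPt (-f) em (fun i => neg_pos.mpr (hme i)) y) ?_
      · obtain ⟨b', hb'⟩ := hP q hq
        exact ⟨b', hb'⟩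
      · have h1 : gp (D.cellPt e em y χ x) ∈ Hs := ⟨p, by rw [pushPt_apply, ← hgc, MulEquiv.apply_symm_apply]⟩
        rw [cellPt, map_mul] at h1
        exact (Subgroup.mul_mem_cancel_right Hs hPpart).mp h1
    rw [cellPt, hy, _root_.one_mul]
    exact D.isP_tPt_mul f e χ hpe x
  intro a ha
  rw [gp_symm_ofConv, ← pullFn_ev]
  by_contra hne
  have hb : b.left (IsLocalRing.closedPoint k) ∈ B'.left.basicOpen (ev i' (fnA a)) := (mem_basicOpen_iff b _).mpr hne
  have h1 : gp (D.cellPt e em (fun _ => 0) 1 (fun _ => 0)) = (1 : VecGrp.pt k k ⟶ B') ≫ i' := by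
    rw [MonObj.one_comp, cellPt, prodPt_zero, prodPt_zero, tPt_one, _root_.mul_one, _root_.mul_one, map_one]
  obtain ⟨x, hxU, hxV⟩ := nonempty_preirreducible_inter hU (B'.left.basicOpen _).isOpen
    ⟨_, hcellU _ _ _ 1 h1.symm⟩ ⟨_, hb⟩
  obtain ⟨p, hp⟩ := exists_point_mem (D := B') (hU.inter (B'.left.basicOpen _).isOpen) ⟨x, hxU, hxV⟩
  refine (mem_basicOpen_iff p _).mp hp.2 ?_
  rw [pullFn_ev, ← gp_symm_ofConv]
  exact hUP p hp.1 a ha

end Chart

end Groth.Agent.RootChartLib
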