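import Groth.Agent.RootChartLib.CellOpen

/-!
# The big cell does not depend on the orderings
-/

set_option autoImplicit false
set_option backward.isDefEq.respectTransparency false
set_option backward.isDefEq.respectTransparency.types false

universe u

open CategoryTheory Limits AlgebraicGeometry MonoidalCategory CartesianMonoidalCategory MonObj GrpObj WithConv
open scoped TensorProduct

namespace Groth.Agent.RootChartLib

open GrpSchLib GrpSchLib.AffineHopf GModLib DynLib RankLib.SplitRedPts

variable {S : Scheme.{u}} {G : Over S} [GrpObj G] (D : Red.SplitRed G) (b : D.P.Base)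

theorem isOpenImmersion_cellMap {n m : ℕ} (eneg : Fin n → D.idx) (epos : Fin m → D.idx)
    (hneg : RedSub.Enumerates (RedSub.negRoots D.P b) eneg) (hpos : RedSub.Enumerates (RedSub.posRoots D.P b) epos) :
    IsOpenImmersion (RedSub.cellMap D eneg epos).left := by
  obtain ⟨f, hf, hfp, hfn⟩ := exists_base_functional b
  exact isOpenImmersion_cell_left D eneg epos f hf (fun i => (hfp _).mpr (hpos.2 ▸ ⟨i, rfl⟩))
    (fun i => (hfn _).mpr (hneg.2 ▸ ⟨i, rfl⟩)) hpos.1 hneg.1 (fun r hr => hpos.2.symm ▸ (hfp r).mp hr)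
    (fun r hr => hneg.2.symm ▸ (hfn r).mp hr)

theorem range_cellMap_subset {n m n' m' : ℕ} (eneg : Fin n → D.idx) (epos : Fin m → D.idx)
    (hneg : RedSub.Enumerates (RedSub.negRoots D.P b) eneg) (hpos : RedSub.Enumerates (RedSub.posRoots D.P b) epos)
    (eneg' : Fin n' → D.idx) (epos' : Fin m' → D.idx)
    (hneg' : RedSub.Enumerates (RedSub.negRoots D.P b) eneg')
    (hpos' : RedSub.Enumerates (RedSub.posRoots D.P b) epos') :
    Set.range (RedSub.cellMap D eneg' epos').left.base ⊆ Set.range (RedSub.cellMap D eneg epos).left.base := by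
  rintro _ ⟨w, rfl⟩
  obtain ⟨f, hf, hfp, hfn⟩ := exists_base_functional b
  let C := (Omega D n' m').left.residueField w
  let j : Spec (CommRingCat.of C) ⟶ (Omega D n' m').left := (Omega D n' m').left.fromSpecResidueField w
  let a : Spec (CommRingCat.of C) ⟶ S := base (X := Omega D n' m') j
  let ε := (model D a).iso
  haveI : IsMonHom ε.hom := (model D a).isMonHom
  haveI := smooth_model D a ε
  obtain ⟨y', χ, x', hq⟩ := exists_eq_omegaPt D a (test (X := Omega D n' m') j)
  have hm : ∀ i, f (D.P.root (eneg i)) < 0 := fun i => (hfn _).mpr (hneg.2 ▸ ⟨i, rfl⟩)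
  have hm' : ∀ i, 0 < (-f) (D.P.root (eneg i)) := fun i => by simpa using hm i
  have hp : ∀ i, 0 < f (D.P.root (epos i)) := fun i => (hfp _).mpr (hpos.2 ▸ ⟨i, rfl⟩)
  obtain ⟨y, hy⟩ := (chart D a ε).exists_prodPt (-f) (geomFibres D a ε) eneg hm' hneg.1
    (fun r hr => hneg.2.symm ▸ (hfn r).mp (by simpa [chart_α] using hr))
    ((chart D a ε).isU_prodPt (-f) eneg' (fun i => by
      have := (hfn (eneg' i)).mpr (hneg'.2 ▸ ⟨i, rfl⟩)
      simpa [chart_α] using this) y')
  obtain ⟨x, hx⟩ := (chart D a ε).exists_prodPt f (geomFibres D a ε) epos hp hpos.1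
    (fun r hr => hpos.2.symm ▸ (hfp r).mp hr)
    ((chart D a ε).isU_prodPt f epos' (fun i => (hfp _).mpr (hpos'.2 ▸ ⟨i, rfl⟩)) x')
  have h : test (X := Omega D n' m') j ≫ RedSub.cellMap D eneg' epos' =
      omegaPt D a y χ x ≫ RedSub.cellMap D eneg epos := by
    refine rdA_injective a ε ?_
    rw [hq, rdA_omegaPt, rdA_omegaPt, Chart.cellPt, Chart.cellPt, hy, hx]
  have h' := congrArg CommaMorphism.left h
  simp only [Over.comp_left] at h'
  refine ⟨(omegaPt D a y χ x).left (IsLocalRing.closedPoint C), ?_⟩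
  rw [← Scheme.Hom.comp_apply, ← h', Scheme.Hom.comp_apply]
  congr 1
  exact Scheme.fromSpecResidueField_apply _ _

end Groth.Agent.RootChartLib
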