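import Groth.Agent.RootChartLib.Points
import Groth.Agent.RootChartLib.BaseFun
import Groth.Prelude.Def_RedSub

/-!
# The big cell map of a split reductive group in a chart
-/

set_option autoImplicit false
set_option backward.isDefEq.respectTransparency false
set_option backward.isDefEq.respectTransparency.types false

universe u

open CategoryTheory Limits AlgebraicGeometry MonoidalCategory CartesianMonoidalCategory MonObj GrpObj WithConv
open scoped TensorProduct

namespace Groth.Agent.RootChartLib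

open GrpSchLib GrpSchLib.AffineHopf GModLib DynLib RankLib.SplitRedPts

variable {S : Scheme.{u}} {Z : Over S}

/-- A point of a power. -/
noncomputable def powPt {W : Over S} : {n : ℕ} → (Fin n → (Z ⟶ W)) → (Z ⟶ RedSub.pow W n)
  | 0, _ => toUnit Z
  | _ + 1, z => lift (z 0) (powPt fun i => z i.succ)

/-- The projections of a power. -/
noncomputable def powPr (W : Over S) : {n : ℕ} → Fin n → (RedSub.pow W n ⟶ W)
  | _ + 1, i => Fin.cases (fst _ _) (fun k => snd _ _ ≫ powPr W k) i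

theorem powPt_powPr {W : Over S} : ∀ {n : ℕ} (z : Fin n → (Z ⟶ W)) (i : Fin n), powPt z ≫ powPr W i = z i
  | 0, _, i => i.elim0
  | n + 1, z, i => by
    induction i using Fin.cases with
    | zero => exact lift_fst _ _
    | succ k =>
      show lift _ _ ≫ snd _ _ ≫ powPr W k = _
      rw [lift_snd_assoc]
      exact powPt_powPr _ k

theorem pow_hom_ext {W : Over S} : ∀ {n : ℕ} (p q : Z ⟶ RedSub.pow W n), (∀ i, p ≫ powPr W i = q ≫ powPr W i) → p = q
  | 0, _, _, _ => toUnit_unique _ _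
  | n + 1, p, q, h => by
    refine CartesianMonoidalCategory.hom_ext _ _ (h 0) (pow_hom_ext _ _ fun i => ?_)
    rw [Category.assoc, Category.assoc]
    exact h i.succ

variable {G : Over S} [GrpObj G]

theorem comp_prodMap {W : Over S} : ∀ {n : ℕ} (p : Z ⟶ RedSub.pow W n) (f : Fin n → (W ⟶ G)),
    p ≫ RedSub.prodMap W n f = (List.ofFn fun i => p ≫ powPr W i ≫ f i).prod
  | 0, p, f => MonObj.comp_one p
  | n + 1, p, f => by
    show p ≫ ((fst _ _ ≫ f 0) * (snd _ _ ≫ RedSub.prodMap W n fun k => f k.succ)) = _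
    rw [MonObj.comp_mul, ← Category.assoc p (snd _ _), comp_prodMap, List.ofFn_succ, List.prod_cons]
    congr 2

theorem prodPt_eq_list {R : Type u} [CommRing R] {A : Type u} [CommRing A] [HopfAlgebra R A] {M : Type}
    [AddCommGroup M] {idx : Type} (D : Chart R A M idx) {C : Type u} [CommRing C] [Algebra R C] :
    ∀ {n : ℕ} (e : Fin n → idx) (c : Fin n → C), D.prodPt e c = (List.ofFn fun i => D.rPt (e i) (c i)).prod
  | 0, _, _ => rfl
  | n + 1, e, c => by
    show D.rPt (e 0) (c 0) * D.prodPt (fun i => e i.succ) (fun i => c i.succ) = _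
    rw [prodPt_eq_list, List.ofFn_succ, List.prod_cons]

variable (D : Red.SplitRed G) {R : Type u} [CommRing R] (a : Spec (CommRingCat.of R) ⟶ S)
  {A : Type u} [CommRing A] [HopfAlgebra R A] (ε : Red.bc a G ≅ sp R A) [IsMonHom ε.hom]
  {C : Type u} [CommRing C] [Algebra R C]

/-- Points of the group over an affine test scheme, in the model. -/
noncomputable def rdA (g : (Over.map a).obj (sp R C) ⟶ G) : WithConv (A →ₐ[R] C) :=
  hpt a ε ((DSPtsLib.theta_bijective (Y := sp R C) (H := G) a).2 g).choose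

theorem rdA_theta (x : sp R C ⟶ Red.bc a G) : rdA a ε (DSPtsLib.theta a x) = hpt a ε x := by
  rw [rdA]
  congr 1
  exact (DSPtsLib.theta_bijective a).1 ((DSPtsLib.theta_bijective (Y := sp R C) (H := G) a).2 _).choose_spec

theorem rdA_mul (g g' : (Over.map a).obj (sp R C) ⟶ G) : rdA a ε (g * g') = rdA a ε g * rdA a ε g' := by
  obtain ⟨x, rfl⟩ := (DSPtsLib.theta_bijective (Y := sp R C) (H := G) a).2 g
  obtain ⟨x', rfl⟩ := (DSPtsLib.theta_bijective (Y := sp R C) (H := G) a).2 g'
  rw [← DSPtsLib.theta_mul, rdA_theta, rdA_theta, rdA_theta, hpt_mul]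

theorem rdA_list_prod (l : List ((Over.map a).obj (sp R C) ⟶ G)) :
    rdA a ε l.prod = (l.map (rdA a ε)).prod :=
  map_list_prod (MonoidHom.mk' (rdA a ε) (rdA_mul a ε)) l

theorem rdA_injective : Function.Injective (rdA (C := C) a ε) := fun g g' h => by
  obtain ⟨x, rfl⟩ := (DSPtsLib.theta_bijective (Y := sp R C) (H := G) a).2 g
  obtain ⟨x', rfl⟩ := (DSPtsLib.theta_bijective (Y := sp R C) (H := G) a).2 g'
  rw [rdA_theta, rdA_theta] at h
  exact congrArg _ (hpt_injective a ε h)

/-- The coordinate of a point of the additive group over an affine test scheme. -/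
noncomputable def gcA (x : (Over.map a).obj (sp R C) ⟶ Red.Ga S) : C :=
  (Scheme.ΓSpecIso (CommRingCat.of C)).hom (Red.gaFn x)

omit [IsMonHom ε.hom] in
theorem gcA_ptOfFn (c : C) : gcA a (GaPts.ptOfFn (fnOf a c) : (Over.map a).obj (sp R C) ⟶ Red.Ga S) = c := by
  rw [gcA, GaPts.gaFn_ptOfFn]
  exact (Scheme.ΓSpecIso (CommRingCat.of C)).inv_hom_id_apply _

omit [IsMonHom ε.hom] in
theorem ptOfFn_gcA (x : (Over.map a).obj (sp R C) ⟶ Red.Ga S) :
    (GaPts.ptOfFn (fnOf a (gcA a x)) : (Over.map a).obj (sp R C) ⟶ Red.Ga S) = x := by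
  refine GaPts.gaFn_injective ?_
  show Red.gaFn _ = Red.gaFn _
  rw [GaPts.gaFn_ptOfFn]
  exact (Scheme.ΓSpecIso (CommRingCat.of C)).hom_inv_id_apply _

theorem rdA_u (r : D.idx) (c : C) :
    rdA a ε ((GaPts.ptOfFn (fnOf a c) : (Over.map a).obj (sp R C) ⟶ Red.Ga S) ≫ D.u r) = (chart D a ε).rPt r c := by
  rw [chart_rPt, ← theta_rootPt, rdA_theta]

theorem rdA_i (χ : Multiplicative D.M →* C) :
    rdA a ε (DSPtsLib.theta a (tpt D a χ) ≫ D.i) = (chart D a ε).tPt χ := by
  rw [chart_tPt, ← BC.theta_map, rdA_theta]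

variable {n m : ℕ} (eneg : Fin n → D.idx) (epos : Fin m → D.idx)

/-- The source of the big cell map. -/
noncomputable abbrev Omega (n m : ℕ) : Over S := RedSub.pow (Red.Ga S) n ⊗ (D.T ⊗ RedSub.pow (Red.Ga S) m)

/-- A point of the source of the cell map. -/
noncomputable def omegaPt (y : Fin n → C) (χ : Multiplicative D.M →* C) (x : Fin m → C) :
    (Over.map a).obj (sp R C) ⟶ Omega D n m :=
  lift (powPt fun i => GaPts.ptOfFn (fnOf a (y i)))
    (lift (DSPtsLib.theta a (tpt D a χ)) (powPt fun i => GaPts.ptOfFn (fnOf a (x i))))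

omit [IsMonHom ε.hom] in
theorem exists_eq_omegaPt (p : (Over.map a).obj (sp R C) ⟶ Omega D n m) :
    ∃ y χ x, p = omegaPt D a y χ x := by
  obtain ⟨t, ht⟩ := (DSPtsLib.theta_bijective (Y := sp R C) (H := D.T) a).2 (p ≫ snd _ _ ≫ fst _ _)
  obtain ⟨χ, rfl⟩ := exists_eq_tpt D a t
  refine ⟨fun i => gcA a (p ≫ fst _ _ ≫ powPr _ i), χ, fun i => gcA a (p ≫ snd _ _ ≫ snd _ _ ≫ powPr _ i), ?_⟩
  refine CartesianMonoidalCategory.hom_ext _ _ ?_ (CartesianMonoidalCategory.hom_ext _ _ ?_ ?_)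
  · rw [omegaPt, lift_fst]
    exact pow_hom_ext _ _ fun i => by rw [powPt_powPr, ptOfFn_gcA, Category.assoc]
  · rw [omegaPt, lift_snd, lift_fst, ht, Category.assoc]
  · rw [omegaPt, lift_snd, lift_snd]
    exact pow_hom_ext _ _ fun i => by rw [powPt_powPr, ptOfFn_gcA, Category.assoc, Category.assoc]

omit [IsMonHom ε.hom] in
theorem omegaPt_injective {y y' : Fin n → C} {χ χ' : Multiplicative D.M →* C} {x x' : Fin m → C}
    (h : omegaPt D a y χ x = omegaPt D a y' χ' x') : y = y' ∧ χ = χ' ∧ x = x' := by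
  refine ⟨funext fun i => ?_, ?_, funext fun i => ?_⟩
  · have h1 := congrArg (fun p => gcA a (p ≫ fst _ _ ≫ powPr _ i)) h
    simp only [omegaPt, lift_fst_assoc, powPt_powPr, gcA_ptOfFn] at h1
    exact h1
  · have h1 := congrArg (fun p => p ≫ snd _ _ ≫ fst _ _) h
    simp only [omegaPt, lift_snd_assoc, lift_fst] at h1
    exact tpt_injective D a ((DSPtsLib.theta_bijective a).1 h1)
  · have h1 := congrArg (fun p => gcA a (p ≫ snd _ _ ≫ snd _ _ ≫ powPr _ i)) h
    simp only [omegaPt, lift_snd_assoc, powPt_powPr, gcA_ptOfFn] at h1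
    exact h1

omit [IsMonHom ε.hom] in
theorem omegaPt_comp {C' : Type u} [CommRing C'] [Algebra R C'] (φ : C →ₐ[R] C') (y : Fin n → C)
    (χ : Multiplicative D.M →* C) (x : Fin m → C) :
    (Over.map a).map (spMap φ) ≫ omegaPt D a y χ x = omegaPt D a (φ ∘ y) ((φ : C →* C').comp χ) (φ ∘ x) := by
  have hc : ∀ c : C, (Over.map a).map (spMap φ) ≫ (GaPts.ptOfFn (fnOf a c) : (Over.map a).obj (sp R C) ⟶ Red.Ga S) =
      GaPts.ptOfFn (fnOf a (φ c)) := fun c => by
    refine GaPts.gaFn_injective ?_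
    show Red.gaFn _ = Red.gaFn _
    rw [GaPts.gaFn_comp, GaPts.gaFn_ptOfFn, GaPts.gaFn_ptOfFn, appTop_fnOf]
  simp only [omegaPt, comp_lift, ← DSPtsLib.theta_comp, spMap_tpt]
  congr 1
  · exact pow_hom_ext _ _ fun i => by rw [Category.assoc, powPt_powPr, powPt_powPr]; exact hc _
  · congr 1
    exact pow_hom_ext _ _ fun i => by rw [Category.assoc, powPt_powPr, powPt_powPr]; exact hc _

theorem rdA_omegaPt (y : Fin n → C) (χ : Multiplicative D.M →* C) (x : Fin m → C) :
    rdA a ε (omegaPt D a y χ x ≫ RedSub.cellMap D eneg epos) = (chart D a ε).cellPt epos eneg y χ x := by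
  rw [RedSub.cellMap, MonObj.comp_mul, MonObj.comp_mul, omegaPt, lift_fst_assoc, lift_snd_assoc, lift_fst_assoc,
    lift_snd_assoc, lift_snd_assoc, rdA_mul, rdA_mul, comp_prodMap, comp_prodMap, rdA_list_prod, rdA_list_prod,
    List.map_ofFn, List.map_ofFn, rdA_i, Chart.cellPt, prodPt_eq_list, prodPt_eq_list]
  congr 1
  · refine congrArg (fun l => (List.ofFn l).prod) (funext fun i => ?_)
    show rdA a ε (powPt _ ≫ powPr _ i ≫ _) = _
    rw [← Category.assoc, powPt_powPr, rdA_u]
  · congr 1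
    refine congrArg (fun l => (List.ofFn l).prod) (funext fun i => ?_)
    show rdA a ε (powPt _ ≫ powPr _ i ≫ _) = _
    rw [← Category.assoc, powPt_powPr, rdA_u]

end Groth.Agent.RootChartLib
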