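import Groth.Agent.RootChartLib.Split

/-!
# Reading points of a split reductive group in charts
-/

set_option autoImplicit false
set_option backward.isDefEq.respectTransparency false
set_option backward.isDefEq.respectTransparency.types false

universe u

open CategoryTheory Limits AlgebraicGeometry MonoidalCategory CartesianMonoidalCategory MonObj GrpObj WithConv
open scoped TensorProduct

namespace Groth.Agent.RootChartLib

open GrpSchLib GrpSchLib.AffineHopf GModLib DynLib RankLib.SplitRedPts

variable {S : Scheme.{u}} {G : Over S} [GrpObj G] (D : Red.SplitRed G)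

include D in
theorem exists_model {R : Type u} [CommRing R] (a : Spec (CommRingCat.of R) ⟶ S) :
    ∃ (A : Type u) (_ : CommRing A) (_ : HopfAlgebra R A) (ε : Red.bc a G ≅ sp R A), IsMonHom ε.hom := by
  haveI := D.reductive.1
  haveI : IsAffineHom (Red.bc a G).hom := MorphismProperty.pullback_snd _ _ inferInstance
  haveI : IsAffine (Red.bc a G).left := isAffine_of_isAffineHom (Red.bc a G).hom
  obtain ⟨A, _, _, ⟨e⟩⟩ := exists_hopf (Red.bc a G)
  exact ⟨A, inferInstance, inferInstance, ((Grp.forget _).mapIso e).symm, e.inv.hom.isMonHom_hom⟩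

/-- A chosen Hopf model of the group over an affine scheme. -/
structure Model {R : Type u} [CommRing R] (G : Over S) [GrpObj G] (a : Spec (CommRingCat.of R) ⟶ S) where
  /-- the Hopf algebra -/
  A : Type u
  [ring : CommRing A]
  [hopf : HopfAlgebra R A]
  /-- the identification -/
  iso : Red.bc a G ≅ sp R A
  isMonHom : IsMonHom iso.hom

attribute [instance] Model.ring Model.hopf Model.isMonHom

/-- A Hopf model of a split reductive group. -/
noncomputable def model {R : Type u} [CommRing R] (a : Spec (CommRingCat.of R) ⟶ S) : Model G a :=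
  have h := exists_model D a
  letI := h.choose_spec.choose
  letI := h.choose_spec.choose_spec.choose
  { A := h.choose
    iso := h.choose_spec.choose_spec.choose_spec.choose
    isMonHom := h.choose_spec.choose_spec.choose_spec.choose_spec }

variable {X : Over S} {C : Type u} [CommRing C] (j : Spec (CommRingCat.of C) ⟶ X.left)

/-- The base point of an affine test scheme. -/
noncomputable abbrev base : Spec (CommRingCat.of C) ⟶ S := j ≫ X.hom

/-- The test morphism. -/
noncomputable def test : (Over.map (base (X := X) j)).obj (sp C C) ⟶ X :=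
  Over.homMk j (by
    show j ≫ X.hom = Spec.map (CommRingCat.ofHom (algebraMap C C)) ≫ base j
    rw [show CommRingCat.ofHom (algebraMap C C) = 𝟙 _ from rfl, Spec.map_id, Category.id_comp])

/-- The chart at an affine test scheme. -/
noncomputable abbrev cht : Chart C (model D (base (X := X) j)).A D.M D.idx :=
  chart D (base (X := X) j) (model D (base (X := X) j)).iso

/-- A point read in the chart. -/
noncomputable def rd (g : X ⟶ G) : WithConv ((model D (base (X := X) j)).A →ₐ[C] C) :=
  hpt (base (X := X) j) (model D (base (X := X) j)).iso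
    ((DSPtsLib.theta_bijective (Y := sp C C) (H := G) (base (X := X) j)).2 (test j ≫ g)).choose

theorem rd_eq (g : X ⟶ G) (x : sp C C ⟶ Red.bc (base (X := X) j) G)
    (hx : DSPtsLib.theta (base (X := X) j) x = test j ≫ g) :
    rd D j g = hpt (base (X := X) j) (model D (base (X := X) j)).iso x := by
  rw [rd]
  congr 1
  exact (DSPtsLib.theta_bijective (base (X := X) j)).1
    (((DSPtsLib.theta_bijective (Y := sp C C) (H := G) (base (X := X) j)).2 (test j ≫ g)).choose_spec.trans hx.symm)

theorem rd_mul (g g' : X ⟶ G) : rd D j (g * g') = rd D j g * rd D j g' := by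
  obtain ⟨x, hx⟩ := (DSPtsLib.theta_bijective (Y := sp C C) (H := G) (base (X := X) j)).2 (test j ≫ g)
  obtain ⟨x', hx'⟩ := (DSPtsLib.theta_bijective (Y := sp C C) (H := G) (base (X := X) j)).2 (test j ≫ g')
  rw [rd_eq D j g x hx, rd_eq D j g' x' hx', ← hpt_mul]
  exact rd_eq D j _ _ (by rw [DSPtsLib.theta_mul, hx, hx', MonObj.comp_mul])

/-- Reading points, as a homomorphism. -/
noncomputable def rdHom : (X ⟶ G) →* WithConv ((model D (base (X := X) j)).A →ₐ[C] C) :=
  MonoidHom.mk' (rd D j) (rd_mul D j)

theorem rd_one : rd D j (1 : X ⟶ G) = 1 := map_one (rdHom D j)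

theorem rd_inv (g : X ⟶ G) : rd D j g⁻¹ = (rd D j g)⁻¹ := map_inv (rdHom D j) g

theorem rd_list_prod (l : List (X ⟶ G)) : rd D j l.prod = (l.map (rd D j)).prod := map_list_prod (rdHom D j) l

theorem rd_injective (g g' : X ⟶ G) (h : rd D j g = rd D j g') : test j ≫ g = test j ≫ g' := by
  have h1 := hpt_injective _ _ h
  have h2 := congrArg (DSPtsLib.theta (base (X := X) j)) h1
  rwa [((DSPtsLib.theta_bijective (Y := sp C C) (H := G) (base (X := X) j)).2 (test j ≫ g)).choose_spec,
    ((DSPtsLib.theta_bijective (Y := sp C C) (H := G) (base (X := X) j)).2 (test j ≫ g')).choose_spec] at h2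

/-- The coordinate of a point of the additive group. -/
noncomputable def gc (x : X ⟶ Red.Ga S) : C :=
  (Scheme.ΓSpecIso (CommRingCat.of C)).hom (j.appTop (Red.gaFn x))

theorem rd_u (r : D.idx) (x : X ⟶ Red.Ga S) : rd D j (x ≫ D.u r) = (cht D j).rPt r (gc j x) := by
  rw [chart_rPt]
  refine rd_eq D j _ _ ?_
  rw [theta_rootPt, ← Category.assoc]
  congr 1
  refine GaPts.gaFn_injective ?_
  show Red.gaFn _ = Red.gaFn _
  rw [GaPts.gaFn_ptOfFn, GaPts.gaFn_comp]
  exact ((Scheme.ΓSpecIso (CommRingCat.of C)).hom_inv_id_apply _)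

/-- The character of a point of the torus. -/
noncomputable def tc (t : X ⟶ D.T) : Multiplicative D.M →* C :=
  ((Scheme.ΓSpecIso (CommRingCat.of C)).hom.hom.toMonoidHom.comp j.appTop.hom.toMonoidHom).comp (ch D t)

theorem rd_i (t : X ⟶ D.T) : rd D j (t ≫ D.i) = (cht D j).tPt (tc D j t) := by
  rw [chart_tPt]
  refine rd_eq D j _ _ ?_
  rw [BC.theta_map, ← Category.assoc]
  congr 1
  refine ch_injective D (MonoidHom.ext fun m => ?_)
  rw [ch_tpt, ch_comp]
  exact ((Scheme.ΓSpecIso (CommRingCat.of C)).hom_inv_id_apply _)

/-- Points are determined by their readings on affine test schemes. -/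
theorem eq_of_rd (g g' : X ⟶ G)
    (h : ∀ (C : Type u) (_ : CommRing C) (j : Spec (CommRingCat.of C) ⟶ X.left), rd D j g = rd D j g') : g = g' := by
  refine Over.OverMorphism.ext (Scheme.Cover.hom_ext X.left.affineCover _ _ fun i => ?_)
  let W := X.left.affineCover.X i
  haveI : IsAffine W := by dsimp only [W]; infer_instance
  have h1 := congrArg CommaMorphism.left (rd_injective D (W.isoSpec.inv ≫ X.left.affineCover.f i) g g'
    (h Γ(W, ⊤) inferInstance _))
  simp only [Over.comp_left, test, Over.homMk_left, Category.assoc] at h1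
  exact (cancel_epi W.isoSpec.inv).mp h1

end Groth.Agent.RootChartLib
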