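import Groth.Agent.RootChartLib.RankOneReduced
import Groth.Agent.RootChartLib.Split
import Groth.Agent.RootChartLib.Points
import Groth.Agent.RootChartLib.CellGeom
import Groth.Agent.RedOpenLib.Nbhd
import Groth.Agent.GModLib.MaxTorusBC
import Groth.Agent.GModLib.MaxTorusGeom
import Mathlib.LinearAlgebra.RootSystem.Reduced

/-!
# The root datum of a split reductive group is reduced
-/

set_option autoImplicit false
set_option backward.isDefEq.respectTransparency false
set_option backward.isDefEq.respectTransparency.types false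

universe u

open CategoryTheory Limits AlgebraicGeometry MonoidalCategory CartesianMonoidalCategory MonObj GrpObj WithConv
open scoped TensorProduct

namespace Groth.Agent.RootChartLib

open GrpSchLib GrpSchLib.AffineHopf GModLib DynLib RankLib.SplitRedPts H23

/-- A linear form nonzero on finitely many nonzero vectors of a lattice. -/
theorem exists_form_ne_zero {M ι₀ : Type} [AddCommGroup M] [Module.Free ℤ M] [Module.Finite ℤ M] [Finite ι₀]
    (v : ι₀ → M) (hv : ∀ i, v i ≠ 0) : ∃ f : M →+ ℤ, ∀ i, f (v i) ≠ 0 := by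
  classical
  haveI := Fintype.ofFinite ι₀
  let b := Module.finBasis ℤ M
  let P : ι₀ → Polynomial ℤ := fun i => ∑ l, Polynomial.C (b.repr (v i) l) * Polynomial.X ^ (l : ℕ)
  have hP : ∀ i, P i ≠ 0 := fun i h => hv i (b.repr.injective (Finsupp.ext fun l => by
    have h1 := congrArg (fun q : Polynomial ℤ => q.coeff (l : ℕ)) h
    simpa [P, Polynomial.finsetSum_coeff, Polynomial.coeff_C_mul, Polynomial.coeff_X_pow, Fin.val_inj] using h1))
  obtain ⟨N, hN⟩ := (Set.finite_iUnion fun i => Polynomial.finite_setOf_isRoot (hP i)).infinite_compl.nonempty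
  let F : M →ₗ[ℤ] ℤ := ∑ l : Fin (Module.finrank ℤ M), (N ^ (l : ℕ)) • b.coord l
  refine ⟨F.toAddMonoidHom, fun i h => hN (Set.mem_iUnion.mpr ⟨i, ?_⟩)⟩
  show (P i).eval N = 0
  rw [← h]
  simp [P, F, Polynomial.eval_finsetSum, mul_comm]

variable {S : Scheme.{u}} {G : Over S} [GrpObj G] (D : Red.SplitRed G) {K : Type u} [Field K] [IsAlgClosed K]
  (a : Spec (CommRingCat.of K) ⟶ S) {A : Type u} [CommRing A] [HopfAlgebra K A] (ε : Red.bc a G ≅ sp K A)
  [IsMonHom ε.hom]

include D a ε in
theorem isReductiveOver_model : Red.IsReductiveOver K (sp K A) := by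
  haveI := D.reductive.1; haveI := D.reductive.2.1
  have hbc : Red.IsReductiveOver K (Red.bc a G) := by
    refine (RedOpenLib.isReductiveOver_bc_iff (fun t => GModLib.isConnected_fibre_of_isReductive D.reductive t)
      (Red.geomPt (a (IsLocalRing.closedPoint K))) a (RedOpenLib.geomPt_closedPoint _)).1 (D.reductive.2.2 _)
  exact RedOpenLib.isReductiveOver_of_iso (Grp.mkIso ε (IsMonHom.one_hom ε.hom) (IsMonHom.mul_hom ε.hom)) hbc

theorem isMaxTorus_torHom : AGF.IsMaxTorus (chart D a ε).torHom := by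
  haveI := D.reductive.1; haveI := D.reductive.2.1; haveI := isMonHom_i D; haveI := mono_i D
  haveI : QuasiCompact G.hom := inferInstance
  haveI : IsAlgClosed K := inferInstance
  let φ := tpt D a (MonoidAlgebra.of K (Multiplicative D.M))
  haveI := isClosedImmersion_i D
  haveI : IsAffineHom D.T.hom := by rw [← Over.w D.i]; infer_instance
  haveI : IsAffineHom (Red.bc a D.T).hom := MorphismProperty.pullback_snd _ _ inferInstance
  haveI : IsAffine (Red.bc a D.T).left := isAffine_of_isAffineHom (Red.bc a D.T).hom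
  obtain ⟨W, _, _, e, he⟩ := GModLib.exists_sp_iso (Red.bc a D.T)
  haveI := he
  obtain ⟨χ, hχ⟩ := exists_eq_tpt D a e
  haveI : IsIso φ := by
    refine ⟨inv e ≫ CentreWeights.pt K χ, ?_, ?_⟩
    · obtain ⟨g, hg⟩ := exists_eq_spMap (φ ≫ inv e ≫ CentreWeights.pt K χ)
      rw [hg, ← spMap_id]
      congr 1
      have h : tpt D a ((g : MonoidAlgebra K (Multiplicative D.M) →* MonoidAlgebra K (Multiplicative D.M)).comp
          (MonoidAlgebra.of K (Multiplicative D.M))) = φ := by
        rw [← spMap_tpt, ← hg, Category.assoc, Category.assoc, RankLib.SplitRedFibre.pt_tpt, ← hχ]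
        simp
      exact MonoidAlgebra.algHom_ext (fun m => DFunLike.congr_fun (tpt_injective D a h) m) (by ext)
    · rw [Category.assoc, RankLib.SplitRedFibre.pt_tpt, ← hχ, IsIso.inv_hom_id]
  have ht : (chart D a ε).torHom = φ ≫ (Over.pullback a).map D.i ≫ ε.hom := spMap_torC D a ε
  haveI : IsMonHom ((Over.pullback a).map D.i ≫ ε.hom) := inferInstance
  haveI : IsMonHom (φ ≫ (Over.pullback a).map D.i ≫ ε.hom) := ht ▸ isMonHom_spMap _
  haveI := (isMaximalTorus_bc D.i D.maximalTorus a).2.1
  haveI : IsMonHom φ := GModLib.isMonHom_of_comp φ ((Over.pullback a).map D.i ≫ ε.hom)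
  let α : Grp.mk (torSp K D.M) ≅ Grp.mk (Red.bc a D.T) :=
    Grp.mkIso (asIso φ) (IsMonHom.one_hom φ) (IsMonHom.mul_hom φ)
  let β : Grp.mk (Red.bc a G) ≅ Grp.mk (sp K A) := Grp.mkIso ε (IsMonHom.one_hom ε.hom) (IsMonHom.mul_hom ε.hom)
  refine isMaxTorus_of_iso α.symm β ((Over.pullback a).map D.i) (chart D a ε).torHom ?_ isTorus_torSp
    (isMaxTorus_of_isMaximalTorus (isMaximalTorus_bc D.i D.maximalTorus a))
  show inv φ ≫ (chart D a ε).torHom = (Over.pullback a).map D.i ≫ ε.hom
  rw [ht, IsIso.inv_hom_id_assoc]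

/-- The reflections of a split group on the points of the chart. -/
theorem exists_isRefl (r : D.idx) : ∃ d n, (chart D a ε).IsRefl r d n := by
  obtain ⟨n₀, hn₀⟩ := D.refl r
  let X := (Over.map a).obj (sp K K)
  let N := ((DSPtsLib.theta_bijective (Y := sp K K) (H := G) a).2 (toUnit X ≫ n₀)).choose
  have hN : DSPtsLib.theta a N = toUnit X ≫ n₀ :=
    ((DSPtsLib.theta_bijective (Y := sp K K) (H := G) a).2 (toUnit X ≫ n₀)).choose_spec
  refine ⟨(D.P.coroot' r).toAddMonoidHom, hpt a ε N, ?_, fun χ => ?_⟩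
  · show D.P.coroot' r (D.P.root r) = 2
    exact D.P.root_coroot_two r
  · rw [chart_tPt, chart_tPt, ← hpt_inv, ← hpt_mul, ← hpt_mul]
    congr 1
    haveI := isMonHom_i D
    refine (DSPtsLib.theta_bijective a).1 ?_
    rw [DSPtsLib.theta_mul, DSPtsLib.theta_mul, BC.theta_inv, BC.theta_map, BC.theta_map, hN, hn₀]
    simp only [← Category.assoc]
    congr 1
    refine ch_injective D (MonoidHom.ext fun m => ?_)
    rw [ch, Category.assoc, split_inv_hom]
    refine (congrArg (fun x => CharPts.chi (M := D.M) x m) (Category.comp_id _)).trans ?_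
    refine (CharPts.chi_map _ _ m).trans ?_
    show ch D (DSPtsLib.theta a (tpt D a χ)) _ = ch D (DSPtsLib.theta a _) m
    rw [ch_tpt, ch_tpt]
    rfl

include a ε in
/-- Proportional roots of a split group agree up to sign. -/
theorem root_eq_or_eq_neg (i j : D.idx) (h : ¬ LinearIndependent ℤ ![D.P.root i, D.P.root j]) :
    D.P.root i = D.P.root j ∨ D.P.root i = -D.P.root j := by
  haveI : Algebra.Smooth K A := smooth_model D a ε
  obtain ⟨φ, hφ⟩ := exists_form_ne_zero D.P.root fun r => D.P.ne_zero r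
  obtain ⟨f, hf, hfi⟩ : ∃ f : D.M →+ ℤ, (∀ r, f (D.P.root r) ≠ 0) ∧ 0 < f (D.P.root i) := by
    rcases lt_or_gt_of_ne (hφ i) with hneg | hpos
    · exact ⟨-φ, fun r => neg_ne_zero.mpr (hφ r), neg_pos.mpr hneg⟩
    · exact ⟨φ, hφ, hpos⟩
  let C := chart D a ε
  have hq : C.qLin i f (D.P.root j) = 0 := by
    rw [LinearIndependent.pair_iff] at h
    push Not at h
    obtain ⟨s, t, hst, hne⟩ := h
    have ht : t ≠ 0 := fun ht => by
      rw [ht, zero_smul, add_zero] at hst
      exact hne ((smul_eq_zero.mp hst).resolve_right (D.P.ne_zero i)) ht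
    have h1 : t • C.qLin i f (D.P.root j) = 0 := by
      rw [← map_zsmul, ← neg_eq_of_add_eq_zero_right hst, map_neg, map_zsmul,
        show C.qLin i f (D.P.root i) = 0 from C.qLin_root i f, smul_zero, neg_zero]
    exact (smul_eq_zero.mp h1).resolve_left ht
  obtain ⟨d, n, hn⟩ := exists_isRefl D a ε i
  have key : ∀ r, 0 < f (D.P.root r) → C.qLin i f (D.P.root r) = 0 → r = i := fun r hr hq =>
    C.eq_of_proportional i f (geomFibres D a ε) hf (isReductiveOver_model D a ε) (isMaxTorus_torHom D a ε) hn hfi hr hq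
  rcases lt_or_gt_of_ne (hf j) with hj | hj
  · right
    have hroot : D.P.root (D.P.reflectionPerm j j) = -D.P.root j := by
      rw [D.P.root_reflectionPerm, D.P.reflection_apply_self]
    have := key (D.P.reflectionPerm j j) (by rw [hroot, map_neg]; exact neg_pos.mpr hj)
      (by rw [hroot, map_neg, hq, neg_zero])
    rw [← this, hroot]
  · left
    rw [key j hj hq]

end Groth.Agent.RootChartLib
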