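import Groth.Agent.RootChartLib.BorelSub
import Groth.Agent.RootChartLib.BorelMax
import Groth.Agent.RootChartLib.Reduced
import Groth.Agent.RootChartLib.CellRange
import Groth.Agent.MultConjLib.Torus

/-!
# The positive half of a split reductive group is a Borel subgroup
-/

set_option autoImplicit false
set_option backward.isDefEq.respectTransparency false
set_option backward.isDefEq.respectTransparency.types false

universe u

open CategoryTheory Limits AlgebraicGeometry MonoidalCategory CartesianMonoidalCategory MonObj GrpObj WithConv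
open scoped TensorProduct

namespace Groth.Agent.RootChartLib

open GrpSchLib GrpSchLib.AffineHopf GrpSchLib.Kunneth GModLib DynLib RankLib.SplitRedPts

namespace Chart

/-- A subgroup landing in the points with a limit is solvable. -/
theorem isSolvableGrp_of_isP {k : Type u} [Field k] [IsAlgClosed k] {A : Type u} [CommRing A] [HopfAlgebra k A]
    {M : Type} [AddCommGroup M] [Module.Free ℤ M] [Module.Finite ℤ M] [Algebra.Smooth k A] {idx : Type} [Fintype idx]
    (C : Chart k A M idx) (f : M →+ ℤ) (hD : C.GeomFibres) (hf : ∀ r, f (C.α r) ≠ 0)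
    {H : Over (Spec (CommRingCat.of k))} [GrpObj H] [Smooth H.hom] [QuasiCompact H.hom] (w : H ⟶ sp k A) [IsMonHom w]
    [IsClosedImmersion w.left] (hw : ∀ p : VecGrp.pt k k ⟶ H, C.IsP f (gp.symm (p ≫ w))) : Red.IsSolvableGrp H := by
  haveI : Mono w := Over.mono_of_mono_left w
  obtain ⟨n, hn⟩ := C.exists_derivedSeries_eq_bot hD f hf (limSubgroup (C.lam f) k) fun g hg => (C.isP_iff f g).mpr hg
  let ρ : (VecGrp.pt k k ⟶ H) →* WithConv (A →ₐ[k] k) := (gp (A := A)).symm.toMonoidHom.comp (pushPt w)
  let P : Subgroup (WithConv (A →ₐ[k] k)) := limSubgroup (C.lam f) k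
  have hmemP : ∀ p, ρ p ∈ P := fun p => (C.isP_iff f (gp.symm (p ≫ w))).mp (hw p)
  let φ : (VecGrp.pt k k ⟶ H) →* P := MonoidHom.codRestrict ρ P hmemP
  have hφ : Function.Injective φ := fun p q h => by
    have h1 : gp.symm (p ≫ w) = gp.symm (q ≫ w) := congrArg Subtype.val h
    exact (cancel_mono w).mp (gp.symm.injective h1)
  refine isSolvableGrp_of_points (n := n) ((Subgroup.map_eq_bot_iff_of_injective _ hφ).mp (eq_bot_iff.mpr ?_))
  exact (map_derivedSeries_le_derivedSeries φ n).trans hn.le

end Chart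

variable {S : Scheme.{u}} {G : Over S} [GrpObj G] (D : Red.SplitRed G) {m : ℕ} (e : Fin m → D.idx) (f : D.M →+ ℤ)
  (hf : ∀ r, f (D.P.root r) ≠ 0) (he : Function.Injective e) (hrange : ∀ r, r ∈ Set.range e ↔ 0 < f (D.P.root r))

/-- The geometric fibres of the half space are connected. -/
theorem connected_halfSrc {K : Type u} [Field K] (a : Spec (CommRingCat.of K) ⟶ S) :
    ConnectedSpace (Red.bc a (HalfSrc D m)).left := by
  let CR := Chart.CellRing K D.M 0 m
  let χ₀ : Multiplicative D.M →* CR :=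
    (algebraMap (MonoidAlgebra K (Multiplicative D.M)) CR : _ →* _).comp (MonoidAlgebra.of K (Multiplicative D.M))
  let x₀ : Fin m → CR := fun i => MvPolynomial.X (Sum.inr i)
  obtain ⟨φ, hφ⟩ := (DSPtsLib.theta_bijective (Y := sp K CR) (H := HalfSrc D m) a).2 (halfPt D a χ₀ x₀)
  haveI := isAffineHom_halfSrc D (m := m)
  haveI : IsAffineHom (Red.bc a (HalfSrc D m)).hom := MorphismProperty.pullback_snd _ _ inferInstance
  haveI : IsAffine (Red.bc a (HalfSrc D m)).left := isAffine_of_isAffineHom (Red.bc a (HalfSrc D m)).hom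
  obtain ⟨W, _, _, e₀, he₀⟩ := GModLib.exists_sp_iso (Red.bc a (HalfSrc D m))
  haveI := he₀
  obtain ⟨χ, x, hx⟩ := exists_eq_halfPt D a (DSPtsLib.theta a e₀)
  have h1 : (inv e₀ ≫ spMap (Chart.cellPoint (R := K) (fun i : Fin 0 => i.elim0) χ x)) ≫ φ = 𝟙 _ := by
    rw [← cancel_epi e₀, Category.comp_id, Category.assoc, IsIso.hom_inv_id_assoc]
    refine (DSPtsLib.theta_bijective a).1 (Eq.trans ?_ hx.symm)
    rw [DSPtsLib.theta_comp, hφ, halfPt, halfPt, comp_lift]
    congr 1
    · rw [← DSPtsLib.theta_comp, spMap_tpt]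
      congr 2
      exact MonoidHom.ext fun k => (Chart.cellPoint_C _ χ x _).trans (MonoidAlgebra.lift_of _ k)
    · rw [gaPowPt_comp]
      congr 1
      exact funext fun i => Chart.cellPoint_X _ χ x _
  haveI : Surjective φ.left := by
    refine ⟨fun z => ⟨(inv e₀ ≫ spMap (Chart.cellPoint (R := K) (fun i : Fin 0 => i.elim0) χ x)).left z, ?_⟩⟩
    rw [← Scheme.Hom.comp_apply, ← Over.comp_left, h1]
    rfl
  haveI : TwoUniqueSums D.M := TwoUniqueSums.of_injective_addHom (Module.finBasis ℤ D.M).equivFun.toAddEquiv.toAddHom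
    (Module.finBasis ℤ D.M).equivFun.injective inferInstance
  haveI : IrreducibleSpace ↥(sp K CR).left := inferInstanceAs (IrreducibleSpace (Spec (CommRingCat.of CR)))
  haveI : ConnectedSpace ↥(sp K CR).left := inferInstance
  exact φ.left.surjective.connectedSpace φ.left.continuous

variable {K : Type u} [Field K] [IsAlgClosed K] (a : Spec (CommRingCat.of K) ⟶ S) [GrpObj (HalfSrc D m)]
  [IsMonHom (RedSub.borelMap D e)]

include hf he hrange in
/-- The geometric fibres of the half space are Borel subgroups. -/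
theorem isBorelOver_half : Red.IsBorelOver K ((Over.pullback a).map (RedSub.borelMap D e)) := by
  classical
  let ε := (model D a).iso
  haveI : IsMonHom ε.hom := (model D a).isMonHom
  haveI := smooth_model D a ε
  haveI := mono_borelMap D e f hf he hrange
  let i := (Over.pullback a).map (RedSub.borelMap D e)
  haveI : IsClosedImmersion i.left := isClosedImmersion_borelMap_bc D e f hf he hrange a
  haveI := smooth_halfSrc D (m := m)
  haveI : Smooth (Red.bc a (HalfSrc D m)).hom := inferInstanceAs (Smooth (pullback.snd _ a))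
  haveI := isAffineHom_halfSrc D (m := m)
  haveI : IsAffineHom (Red.bc a (HalfSrc D m)).hom := MorphismProperty.pullback_snd _ _ inferInstance
  haveI : IsAffine (Red.bc a (HalfSrc D m)).left := isAffine_of_isAffineHom (Red.bc a (HalfSrc D m)).hom
  haveI : QuasiCompact (Red.bc a (HalfSrc D m)).hom := inferInstance
  haveI : IsIso ε.hom.left := inferInstanceAs (IsIso ((Over.forget _).map ε.hom))
  let C := chart D a ε
  have hgp : ∀ x : VecGrp.pt K K ⟶ Red.bc a G, gp.symm (x ≫ ε.hom) = hpt a ε x := fun x =>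
    gp.symm_apply_eq.mpr (spMap_hpt a ε x).symm
  have hmem : ∀ p : VecGrp.pt K K ⟶ Red.bc a (HalfSrc D m), C.IsP f (gp.symm ((p ≫ i) ≫ ε.hom)) := fun p => by
    rw [hgp, ← rdA_theta]
    show C.IsP f (rdAHom D a (DSPtsLib.theta a (p ≫ i)))
    rw [BC.theta_map]
    exact (exists_half_iff D e f a hf he hrange _).mp ⟨_, rfl⟩
  have hlift : ∀ g, C.IsP f g → ∃ p : VecGrp.pt K K ⟶ Red.bc a (HalfSrc D m), (p ≫ i) ≫ ε.hom = gp g := fun g hg => by
    obtain ⟨x, hx⟩ : ∃ x : VecGrp.pt K K ⟶ Red.bc a G, x ≫ ε.hom = gp g :=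
      ⟨gp g ≫ ε.inv, by rw [Category.assoc, ε.inv_hom_id, Category.comp_id]⟩
    obtain ⟨q, hq⟩ := (exists_half_iff D e f a hf he hrange (DSPtsLib.theta a x)).mpr (by
      show C.IsP f (rdA a ε (DSPtsLib.theta a x))
      rw [rdA_theta, ← hgp, hx, MulEquiv.symm_apply_apply]
      exact hg)
    obtain ⟨p, rfl⟩ := (DSPtsLib.theta_bijective (Y := sp K K) (H := HalfSrc D m) a).2 q
    rw [← BC.theta_map] at hq
    have hp : p ≫ i = x := (DSPtsLib.theta_bijective a).1 hq
    exact ⟨p, by rw [← hx, ← hp]⟩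
  haveI : IsClosedImmersion (i ≫ ε.hom).left := by rw [Over.comp_left]; infer_instance
  have hsol : Red.IsSolvableGrp (Red.bc a (HalfSrc D m)) :=
    C.isSolvableGrp_of_isP f (geomFibres D a ε) (fun r => hf r) (i ≫ ε.hom) fun p => by
      rw [← Category.assoc]
      exact hmem p
  refine ⟨inferInstance, inferInstance, inferInstance, connected_halfSrc D a, hsol,
    fun B' _ i' _ u hcl hsm hcn hs' hu => ?_⟩
  haveI := hcl; haveI := hsm; haveI := hcn
  haveI : IsAffineHom (Red.bc a G).hom := by haveI := D.reductive.1; exact MorphismProperty.pullback_snd _ _ inferInstance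
  haveI : IsAffine (Red.bc a G).left := isAffine_of_isAffineHom (Red.bc a G).hom
  haveI : IsAffine B'.left := isAffine_of_isAffineHom i'.left
  haveI : IsReduced B'.left := GrpSchLib.isReduced_of_smooth_field B'.hom
  haveI : IsClosedImmersion (i' ≫ ε.hom).left := by rw [Over.comp_left]; infer_instance
  obtain ⟨g, hg⟩ := exists_form_ne_zero (ι₀ := {p : D.idx × D.idx // p.1 ≠ p.2})
    (fun p => D.P.root p.1.1 - D.P.root p.1.2) (fun p h => p.2 (D.P.root.injective (sub_eq_zero.mp h)))
  have hneg : ∀ r, ∃ r', C.α r' = -C.α r := fun r => ⟨D.P.reflectionPerm r r, by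
    show D.P.root _ = -D.P.root r
    rw [D.P.root_reflectionPerm, D.P.reflection_apply_self]⟩
  have hall := C.isP_of_solvable f (geomFibres D a ε) (fun r => hf r) (isReductiveOver_model D a ε)
    (isMaxTorus_torHom D a ε) (fun r => exists_isRefl D a ε r) hneg g
    (fun r s h e => hg ⟨(r, s), h⟩ (by simp only [map_sub]; exact sub_eq_zero.mpr e))
    (i' ≫ ε.hom) hs' fun p hp => by
      obtain ⟨q, hq⟩ := hlift p hp
      exact ⟨q ≫ u, by rw [Category.assoc, ← Category.assoc u, hu, ← Category.assoc, hq]⟩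
  obtain ⟨v, hv⟩ := exists_factor_of_points i i' fun b => by
    obtain ⟨q, hq⟩ := hlift _ (hall b)
    refine ⟨q, (cancel_mono ε.hom).mp ?_⟩
    rw [hq, MulEquiv.apply_symm_apply, Category.assoc]
  haveI : Mono i := Over.mono_of_mono_left i
  haveI : Mono i' := Over.mono_of_mono_left i'
  exact ⟨v, by rw [← cancel_mono i, Category.assoc, hv, hu, Category.id_comp],
    by rw [← cancel_mono i', Category.assoc, hu, hv, Category.id_comp]⟩

end Groth.Agent.RootChartLib
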