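import Groth.Agent.RootChartLib.CellGeom

/-!
# The big cell map is an open immersion
-/

set_option autoImplicit false
set_option backward.isDefEq.respectTransparency false
set_option backward.isDefEq.respectTransparency.types false

universe u

open CategoryTheory Limits AlgebraicGeometry MonoidalCategory CartesianMonoidalCategory MonObj GrpObj WithConv
open scoped TensorProduct

namespace Groth.Agent.RootChartLib

open GrpSchLib GrpSchLib.AffineHopf GModLib DynLib RankLib.SplitRedPts

variable {S : Scheme.{u}} {G : Over S} [GrpObj G] (D : Red.SplitRed G) {n m : ℕ}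
  (eneg : Fin n → D.idx) (epos : Fin m → D.idx)

theorem isAffineHom_omega : IsAffineHom (Omega D n m).hom := by
  have hGa : IsAffineHom (Red.Ga S).hom := by
    haveI : IsAffine Red.GaZ.{u}.left := inferInstanceAs (IsAffine (Spec _))
    haveI : IsAffineHom Red.GaZ.{u}.hom := inferInstance
    exact MorphismProperty.pullback_snd _ _ inferInstance
  have hpow : ∀ k, IsAffineHom (RedSub.pow (Red.Ga S) k).hom := by
    intro k
    induction k with
    | zero => exact inferInstanceAs (IsAffineHom (𝟙 S))
    | succ k ih =>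
      exact MorphismProperty.comp_mem _ _ _ (MorphismProperty.pullback_fst _ _ ih) hGa
  have hT : IsAffineHom D.T.hom := by
    haveI := isClosedImmersion_i D
    haveI := D.reductive.1
    rw [← Over.w D.i]
    infer_instance
  exact MorphismProperty.comp_mem _ _ _ (MorphismProperty.pullback_fst _ _
    (MorphismProperty.comp_mem _ _ _ (MorphismProperty.pullback_fst _ _ (hpow m)) hT : IsAffineHom (D.T ⊗ RedSub.pow (Red.Ga S) m).hom)) (hpow n)

/-- The big cell map is an open immersion over an affine scheme mapping to the base. -/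
theorem isOpenImmersion_cell_bc (f : D.M →+ ℤ) (hf : ∀ r, f (D.P.root r) ≠ 0)
    (hp : ∀ i, 0 < f (D.P.root (epos i))) (hm : ∀ i, f (D.P.root (eneg i)) < 0)
    (hpi : Function.Injective epos) (hmi : Function.Injective eneg)
    (hpr : ∀ r, 0 < f (D.P.root r) → r ∈ Set.range epos) (hmr : ∀ r, f (D.P.root r) < 0 → r ∈ Set.range eneg)
    {R : Type u} [CommRing R] (a : Spec (CommRingCat.of R) ⟶ S) :
    IsOpenImmersion ((Over.pullback a).map (RedSub.cellMap D eneg epos)).left := by
  let ε := (model D a).iso
  haveI : IsMonHom ε.hom := (model D a).isMonHom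
  haveI := smooth_model D a ε
  let CR := Chart.CellRing R D.M n m
  let y₀ : Fin n → CR := fun i => MvPolynomial.X (Sum.inl i)
  let χ₀ : Multiplicative D.M →* CR :=
    (algebraMap (MonoidAlgebra R (Multiplicative D.M)) CR : _ →* _).comp (MonoidAlgebra.of R (Multiplicative D.M))
  let x₀ : Fin m → CR := fun i => MvPolynomial.X (Sum.inr i)
  obtain ⟨φ, hφ⟩ := (DSPtsLib.theta_bijective (Y := sp R CR) (H := Omega D n m) a).2 (omegaPt D a y₀ χ₀ x₀)
  -- composition with a point
  have hpt : ∀ (C : Type u) (_ : CommRing C) (_ : Algebra R C) (y : Fin n → C) (χ : Multiplicative D.M →* C)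
      (x : Fin m → C), DSPtsLib.theta a (spMap (Chart.cellPoint y χ x) ≫ φ) = omegaPt D a y χ x := by
    intro C _ _ y χ x
    rw [DSPtsLib.theta_comp, hφ, omegaPt_comp]
    congr 1
    · exact funext fun i => Chart.cellPoint_X y χ x _
    · exact MonoidHom.ext fun k => (Chart.cellPoint_C y χ x _).trans (MonoidAlgebra.lift_of _ k)
    · exact funext fun i => Chart.cellPoint_X y χ x _
  haveI : IsIso φ := by
    haveI := isAffineHom_omega D (n := n) (m := m)
    haveI : IsAffineHom (Red.bc a (Omega D n m)).hom := MorphismProperty.pullback_snd _ _ inferInstance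
    haveI : IsAffine (Red.bc a (Omega D n m)).left := isAffine_of_isAffineHom (Red.bc a (Omega D n m)).hom
    obtain ⟨W, _, _, e, he⟩ := GModLib.exists_sp_iso (Red.bc a (Omega D n m))
    haveI := he
    obtain ⟨y, χ, x, hyx⟩ := exists_eq_omegaPt D a (DSPtsLib.theta a e)
    have h1 : (inv e ≫ spMap (Chart.cellPoint y χ x)) ≫ φ = 𝟙 _ := by
      rw [← cancel_epi e, Category.comp_id, Category.assoc, IsIso.hom_inv_id_assoc]
      exact (DSPtsLib.theta_bijective a).1 ((hpt W _ _ y χ x).trans hyx.symm)
    refine ⟨inv e ≫ spMap (Chart.cellPoint y χ x), ?_, h1⟩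
    obtain ⟨g, hg⟩ := exists_eq_spMap' (φ ≫ inv e ≫ spMap (Chart.cellPoint y χ x))
    obtain ⟨y', χ', x', rfl⟩ := Chart.exists_eq_cellPoint g
    have h2 : spMap (Chart.cellPoint y' χ' x') ≫ φ = φ := by
      rw [← hg, Category.assoc, h1, Category.comp_id]
    have h3 := congrArg (DSPtsLib.theta a) h2
    rw [hpt, hφ] at h3
    obtain ⟨rfl, rfl, rfl⟩ := omegaPt_injective D a h3
    rw [hg, ← spMap_id]
    congr 1
    obtain ⟨y', χ', x', h'⟩ := Chart.exists_eq_cellPoint (AlgHom.id R CR)
    rw [h']
    congr 1
    · exact funext fun i => (DFunLike.congr_fun h' (MvPolynomial.X (Sum.inl i))).trans (Chart.cellPoint_X y' χ' x' _)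
    · exact MonoidHom.ext fun k => ((DFunLike.congr_fun h' (χ₀ k)).trans (Chart.cellPoint_C y' χ' x' _)).trans
        (MonoidAlgebra.lift_of _ k)
    · exact funext fun i => (DFunLike.congr_fun h' (MvPolynomial.X (Sum.inr i))).trans (Chart.cellPoint_X y' χ' x' _)
  have key : φ ≫ (Over.pullback a).map (RedSub.cellMap D eneg epos) ≫ ε.hom =
      spMap ((chart D a ε).cellHom epos eneg) := by
    have h := rdA_omegaPt D a ε eneg epos y₀ χ₀ x₀
    rw [← hφ, ← BC.theta_map, rdA_theta] at h
    rw [← Category.assoc, ← spMap_hpt, h]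
    rfl
  have hopen : IsOpenImmersion (spMap ((chart D a ε).cellHom epos eneg)).left :=
    (chart D a ε).isOpenImmersion_cellHom f (geomFibres D a ε) (fun r => hf r) epos hp hpi hpr eneg hm hmi hmr
  rw [← key, Over.comp_left, Over.comp_left] at hopen
  haveI : IsIso φ.left := inferInstanceAs (IsIso ((Over.forget _).map φ))
  haveI : IsIso ε.hom.left := inferInstanceAs (IsIso ((Over.forget _).map ε.hom))
  exact (MorphismProperty.cancel_right_of_respectsIso (P := @IsOpenImmersion) _ ε.hom.left).mp
    ((MorphismProperty.cancel_left_of_respectsIso (P := @IsOpenImmersion) φ.left _).mp hopen)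

/-- The big cell map is an open immersion. -/
theorem isOpenImmersion_cell_left (f : D.M →+ ℤ) (hf : ∀ r, f (D.P.root r) ≠ 0)
    (hp : ∀ i, 0 < f (D.P.root (epos i))) (hm : ∀ i, f (D.P.root (eneg i)) < 0)
    (hpi : Function.Injective epos) (hmi : Function.Injective eneg)
    (hpr : ∀ r, 0 < f (D.P.root r) → r ∈ Set.range epos) (hmr : ∀ r, f (D.P.root r) < 0 → r ∈ Set.range eneg) :
    IsOpenImmersion (RedSub.cellMap D eneg epos).left := by
  let U := S.affineOpenCover
  refine IsZariskiLocalAtTarget.of_openCover (P := @IsOpenImmersion) (U.openCover.pullback₁ G.hom) fun i => ?_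
  have h := isOpenImmersion_cell_bc D eneg epos f hf hp hm hpi hmi hpr hmr (R := U.X i) (U.f i)
  let g := (RedSub.cellMap D eneg epos).left
  let g' := ((Over.pullback (U.f i)).map (RedSub.cellMap D eneg epos)).left
  have hsq : IsPullback (pullback.fst (Omega D n m).hom (U.f i)) g' g (pullback.fst G.hom (U.f i)) := by
    refine IsPullback.of_bot ?_ ?_ (IsPullback.of_hasPullback G.hom (U.f i))
    · rw [show g ≫ G.hom = (Omega D n m).hom from Over.w _,
        show g' ≫ pullback.snd G.hom (U.f i) = pullback.snd (Omega D n m).hom (U.f i) from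
          pullback.lift_snd _ _ _]
      exact IsPullback.of_hasPullback _ _
    · exact (pullback.lift_fst _ _ _).symm
  show IsOpenImmersion (pullback.snd g (pullback.fst G.hom (U.f i)))
  rw [← hsq.isoPullback_inv_snd]
  infer_instance

end Groth.Agent.RootChartLib
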