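import Groth.Agent.RootChartLib.ClosedGroup
import Groth.Agent.RootChartLib.CellGeom
import Groth.Agent.RootChartLib.CellOpen
import Groth.Agent.RootChartLib.Split
import Groth.Agent.MultConjLib.Torus

/-!
# The subgroup scheme of a half space in a split reductive group
-/

set_option autoImplicit false
set_option backward.isDefEq.respectTransparency false
set_option backward.isDefEq.respectTransparency.types false

universe u

open CategoryTheory Limits AlgebraicGeometry MonoidalCategory CartesianMonoidalCategory MonObj GrpObj WithConv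
open scoped TensorProduct

namespace Groth.Agent.RootChartLib

open GrpSchLib GrpSchLib.AffineHopf GModLib DynLib RankLib.SplitRedPts

variable {S : Scheme.{u}} {G : Over S} [GrpObj G] (D : Red.SplitRed G) {m : ℕ} (e : Fin m → D.idx) (f : D.M →+ ℤ)

/-- The source of the map of a half space. -/
noncomputable abbrev HalfSrc (m : ℕ) : Over S := D.T ⊗ RedSub.pow (Red.Ga S) m

section Points

variable {R : Type u} [CommRing R] (a : Spec (CommRingCat.of R) ⟶ S) {C : Type u} [CommRing C] [Algebra R C]

/-- A point of the source. -/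
noncomputable def halfPt (χ : Multiplicative D.M →* C) (c : Fin m → C) :
    (Over.map a).obj (sp R C) ⟶ HalfSrc D m :=
  lift (DSPtsLib.theta a (tpt D a χ)) (gaPowPt a c)

theorem exists_eq_halfPt (p : (Over.map a).obj (sp R C) ⟶ HalfSrc D m) :
    ∃ χ c, p = halfPt D a χ c := by
  obtain ⟨t, ht⟩ := (DSPtsLib.theta_bijective (Y := sp R C) (H := D.T) a).2 (p ≫ fst _ _)
  obtain ⟨χ, rfl⟩ := exists_eq_tpt D a t
  obtain ⟨c, hc⟩ := exists_eq_gaPowPt a (p ≫ snd _ _)
  exact ⟨χ, c, CartesianMonoidalCategory.hom_ext _ _ (by rw [halfPt, lift_fst, ht]) (by rw [halfPt, lift_snd, hc])⟩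

theorem rdAHom_halfPt (χ : Multiplicative D.M →* C) (c : Fin m → C) :
    rdAHom D a (halfPt D a χ c ≫ RedSub.borelMap D e) =
      (chart D a (model D a).iso).tPt χ * (chart D a (model D a).iso).prodPt e c := by
  haveI := (model D a).isMonHom
  rw [RedSub.borelMap, MonObj.comp_mul, map_mul, halfPt, lift_fst_assoc, lift_snd_assoc]
  congr 1
  · exact rdA_i D a _ χ
  · exact rdA_gaPowPt D a _ e c

variable (hf : ∀ r, f (D.P.root r) ≠ 0) (he : Function.Injective e) (hrange : ∀ r, r ∈ Set.range e ↔ 0 < f (D.P.root r))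

include hf he hrange in
/-- The points of the half space are the points with a limit. -/
theorem exists_half_iff (g : (Over.map a).obj (sp R C) ⟶ G) :
    (∃ p, p ≫ RedSub.borelMap D e = g) ↔ (chart D a (model D a).iso).IsP f (rdAHom D a g) := by
  haveI := (model D a).isMonHom
  haveI := smooth_model D a (model D a).iso
  have hp : ∀ i, 0 < f (D.P.root (e i)) := fun i => (hrange _).mp ⟨i, rfl⟩
  constructor
  · rintro ⟨p, rfl⟩
    obtain ⟨χ, c, rfl⟩ := exists_eq_halfPt D a p
    rw [rdAHom_halfPt]
    exact (chart D a _).isP_tPt_mul f e χ hp c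
  · intro h
    obtain ⟨χ, c, hc⟩ := (chart D a (model D a).iso).exists_tPt_mul_prodPt f (geomFibres D a _) (fun r => hf r) e hp he
      (fun r hr => (hrange r).mpr hr) h
    exact ⟨halfPt D a χ c, rdA_injective a (model D a).iso ((rdAHom_halfPt D e a χ c).trans hc)⟩

end Points

variable (hf : ∀ r, f (D.P.root r) ≠ 0) (he : Function.Injective e) (hrange : ∀ r, r ∈ Set.range e ↔ 0 < f (D.P.root r))

include hf he hrange in
theorem mono_borelMap : Mono (RedSub.borelMap D e) := by
  refine ⟨fun {Z} p q hpq => eq_of_test p q fun C _ j => ?_⟩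
  haveI := (model D (base (X := Z) j)).isMonHom
  haveI := smooth_model D (base (X := Z) j) (model D (base (X := Z) j)).iso
  obtain ⟨χ, c, hc⟩ := exists_eq_halfPt D (base (X := Z) j) (test j ≫ p)
  obtain ⟨χ', c', hc'⟩ := exists_eq_halfPt D (base (X := Z) j) (test j ≫ q)
  have h := congrArg (fun w => rdAHom D (base (X := Z) j) (test j ≫ w)) hpq
  simp only [← Category.assoc, hc, hc', rdAHom_halfPt] at h
  obtain ⟨rfl, rfl⟩ := (chart D _ _).tPt_mul_prodPt_unique f e (fun i => (hrange _).mp ⟨i, rfl⟩) he h
  rw [hc, hc']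

include hf he hrange in
/-- Morphisms with values in a half space. -/
theorem exists_half_fac_iff {X : Over S} (g : X ⟶ G) :
    (∃ z, z ≫ RedSub.borelMap D e = g) ↔
      ∀ (C : Type u) (_ : CommRing C) (j : Spec (CommRingCat.of C) ⟶ X.left),
        (chart D (base (X := X) j) (model D (base (X := X) j)).iso).IsP f (rdAHom D (base (X := X) j) (test j ≫ g)) := by
  haveI := mono_borelMap D e f hf he hrange
  refine ⟨?_, fun h => exists_factor_of_test _ g fun C _ j =>
    (exists_half_iff D e f _ hf he hrange _).mpr (h C inferInstance j)⟩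
  rintro ⟨z, rfl⟩ C _ j
  exact (exists_half_iff D e f _ hf he hrange _).mp ⟨test j ≫ z, Category.assoc _ _ _⟩

include hf he hrange in
/-- The half space is a subgroup scheme. -/
theorem exists_grpObj_half : ∃ str : GrpObj (HalfSrc D m),
    @IsMonHom (Over S) _ _ (HalfSrc D m) G str.toMonObj _ (RedSub.borelMap D e) := by
  haveI := mono_borelMap D e f hf he hrange
  let v := RedSub.borelMap D e
  have key := fun {X : Over S} (g : X ⟶ G) => exists_half_fac_iff D e f hf he hrange g
  have mem := fun {X : Over S} (C : Type u) [CommRing C] (j : Spec (CommRingCat.of C) ⟶ X.left) =>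
    (chart D (base (X := X) j) (model D (base (X := X) j)).iso).isP_iff f (C := C)
  obtain ⟨η', hη⟩ := (key (1 : 𝟙_ (Over S) ⟶ G)).mpr fun C _ j => by
    rw [MonObj.comp_one, map_one]; exact (mem C j _).mpr (Subgroup.one_mem _)
  obtain ⟨μ', hμ⟩ := (key ((fst _ _ ≫ v) * (snd _ _ ≫ v))).mpr fun C _ j => by
    rw [MonObj.comp_mul, map_mul]
    exact (mem C j _).mpr (Subgroup.mul_mem _ ((mem C j _).mp ((key _).mp ⟨fst _ _, rfl⟩ C inferInstance j))
      ((mem C j _).mp ((key _).mp ⟨snd _ _, rfl⟩ C inferInstance j)))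
  obtain ⟨ι', hι⟩ := (key v⁻¹).mpr fun C _ j => by
    rw [GrpObj.comp_inv, map_inv]
    exact (mem C j _).mpr (Subgroup.inv_mem _ ((mem C j _).mp ((key _).mp ⟨𝟙 _, Category.id_comp _⟩ C inferInstance j)))
  refine GrpSchLib.exists_grpObj_of_mono v η' (hη.trans ?_) μ' hμ ι' hι
  rw [Hom.one_def, toUnit_unique (toUnit (𝟙_ (Over S))) (𝟙 _), Category.id_comp]

theorem isAffineHom_halfSrc : IsAffineHom (HalfSrc D m).hom := by
  haveI := isAffineHom_pow S m
  have hT : IsAffineHom D.T.hom := by
    haveI := isClosedImmersion_i D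
    haveI := D.reductive.1
    rw [← Over.w D.i]
    infer_instance
  exact MorphismProperty.comp_mem _ _ _ (MorphismProperty.pullback_fst _ _ ‹_›) hT

include hf he hrange in
theorem isClosedImmersion_borelMap_bc {R : Type u} [CommRing R] (a : Spec (CommRingCat.of R) ⟶ S) :
    IsClosedImmersion ((Over.pullback a).map (RedSub.borelMap D e)).left := by
  let ε := (model D a).iso
  haveI : IsMonHom ε.hom := (model D a).isMonHom
  haveI := smooth_model D a ε
  haveI := mono_borelMap D e f hf he hrange
  let I := idealP ((chart D a ε).lam f)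
  let q : sp R ((model D a).A ⧸ I) ⟶ sp R (model D a).A := spMap (Ideal.Quotient.mkₐ R I)
  haveI : IsClosedImmersion q.left := IsClosedImmersion.spec_of_surjective _ Ideal.Quotient.mk_surjective
  haveI : Mono q := Over.mono_of_mono_left q
  let w : Red.bc a (HalfSrc D m) ⟶ sp R (model D a).A := (Over.pullback a).map (RedSub.borelMap D e) ≫ ε.hom
  haveI : Mono w := mono_comp _ _
  haveI := isAffineHom_halfSrc D (m := m)
  haveI : IsAffineHom (Red.bc a (HalfSrc D m)).hom := MorphismProperty.pullback_snd _ _ inferInstance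
  haveI : IsAffine (Red.bc a (HalfSrc D m)).left := isAffine_of_isAffineHom (Red.bc a (HalfSrc D m)).hom
  obtain ⟨W, _, _, e₀, he₀⟩ := GModLib.exists_sp_iso (Red.bc a (HalfSrc D m))
  haveI := he₀
  have hP : (chart D a ε).IsP f (hpt a ε (e₀ ≫ (Over.pullback a).map (RedSub.borelMap D e))) := by
    rw [← rdA_theta, BC.theta_map]
    exact (exists_half_iff D e f a hf he hrange _).mp ⟨_, rfl⟩
  obtain ⟨u, hu⟩ : ∃ u, u ≫ q = w := by
    refine ⟨inv e₀ ≫ spMap (Ideal.Quotient.liftₐ I _ hP), ?_⟩
    rw [Category.assoc, spMap_comp,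
      show (Ideal.Quotient.liftₐ I _ hP).comp (Ideal.Quotient.mkₐ R I) =
        (hpt a ε (e₀ ≫ (Over.pullback a).map (RedSub.borelMap D e))).ofConv from Ideal.Quotient.liftₐ_comp _ _ _,
      spMap_hpt, Category.assoc, IsIso.inv_hom_id_assoc]
  obtain ⟨l, hl⟩ : ∃ l, l ≫ w = q := by
    obtain ⟨x, hx⟩ : ∃ x, x ≫ ε.hom = q := ⟨q ≫ ε.inv, by rw [Category.assoc, ε.inv_hom_id, Category.comp_id]⟩
    obtain ⟨p, hp⟩ := (exists_half_iff D e f a hf he hrange (DSPtsLib.theta a x)).mpr (fun b hb => by
      show (rdA a ε (DSPtsLib.theta a x)).ofConv b = 0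
      rw [rdA_theta]
      have h1 : (hpt a ε x).ofConv = Ideal.Quotient.mkₐ R I := spMap_injective (by rw [spMap_hpt, hx])
      rw [h1]
      exact Ideal.Quotient.eq_zero_iff_mem.mpr hb)
    obtain ⟨p', rfl⟩ := (DSPtsLib.theta_bijective (Y := sp R ((model D a).A ⧸ I)) (H := HalfSrc D m) a).2 p
    refine ⟨p', ?_⟩
    rw [← BC.theta_map] at hp
    rw [← Category.assoc, (DSPtsLib.theta_bijective a).1 hp, hx]
  haveI : IsIso u := ⟨l, by rw [← cancel_mono w, Category.assoc, hl, hu, Category.id_comp],
    by rw [← cancel_mono q, Category.assoc, hu, hl, Category.id_comp]⟩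
  haveI : IsIso u.left := inferInstanceAs (IsIso ((Over.forget _).map u))
  haveI : IsIso ε.hom.left := inferInstanceAs (IsIso ((Over.forget _).map ε.hom))
  have hw : IsClosedImmersion w.left := by rw [← hu, Over.comp_left]; infer_instance
  rw [Over.comp_left] at hw
  exact (MorphismProperty.cancel_right_of_respectsIso (P := @IsClosedImmersion) _ ε.hom.left).mp hw

include hf he hrange in
theorem isClosedImmersion_borelMap : IsClosedImmersion (RedSub.borelMap D e).left := by
  let U := S.affineOpenCover
  refine IsZariskiLocalAtTarget.of_openCover (P := @IsClosedImmersion) (U.openCover.pullback₁ G.hom) fun i => ?_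
  let a := U.f i
  let v := RedSub.borelMap D e
  have h := isClosedImmersion_borelMap_bc D e f hf he hrange (R := U.X i) (U.f i)
  let g' := ((Over.pullback a).map v).left
  have hsq : IsPullback (pullback.fst (HalfSrc D m).hom a) g' v.left (pullback.fst G.hom a) := by
    refine IsPullback.of_bot ?_ ?_ (IsPullback.of_hasPullback G.hom a)
    · rw [show v.left ≫ G.hom = (HalfSrc D m).hom from Over.w _,
        show g' ≫ pullback.snd G.hom a = pullback.snd (HalfSrc D m).hom a from pullback.lift_snd _ _ _]
      exact IsPullback.of_hasPullback _ _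
    · exact (pullback.lift_fst _ _ _).symm
  show IsClosedImmersion (pullback.snd v.left (pullback.fst G.hom a))
  rw [← hsq.isoPullback_inv_snd]
  infer_instance

theorem smooth_halfSrc : Smooth (HalfSrc D m).hom := by
  haveI : Smooth D.T.hom := MultConjLib.smooth_of_isTorus D.maximalTorus.2.2.1
  haveI := smooth_pow S m
  exact MorphismProperty.comp_mem _ _ _ (MorphismProperty.pullback_fst _ _ ‹_›) ‹_›

end Groth.Agent.RootChartLib
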