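import Groth.Agent.RootChartLib.BruhatOne
import Groth.Agent.RootData.Inversions
import Groth.Agent.RootData.Facts
import Groth.Agent.RootData.Weyl

/-!
# The Bruhat decomposition on points
-/

set_option autoImplicit false
set_option backward.isDefEq.respectTransparency false
set_option backward.isDefEq.respectTransparency.types false

universe u

open CategoryTheory Limits AlgebraicGeometry MonoidalCategory CartesianMonoidalCategory MonObj GrpObj WithConv
open scoped TensorProduct

namespace Groth.Agent.RootChartLib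

open GrpSchLib GrpSchLib.AffineHopf GrpSchLib.Kunneth GModLib DynLib RootD

variable {k : Type u} [Field k] [IsAlgClosed k]

/-- Conjugation and subgroups. -/
theorem conj_mem_comap {W : Type u} [Group W] {H : Subgroup W} (m v : W) :
    v ∈ H.comap (MulAut.conj m).toMonoidHom ↔ m * v * m⁻¹ ∈ H := Iff.rfl

namespace Chart

variable {A : Type u} [CommRing A] [HopfAlgebra k A] {M : Type} [AddCommGroup M] [Module.Free ℤ M] [Module.Finite ℤ M]
  [Module.IsTorsionFree ℤ M] [Algebra.Smooth k A] {idx : Type} [Fintype idx] (D : Chart k A M idx)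
  {N : Type} [AddCommGroup N] (P : RootPairing idx ℤ M N) [P.IsReduced] (nr : idx → WithConv (A →ₐ[k] k))
  (Δ : Set idx) (f : M →+ ℤ)

/-- The product of the normaliser points of a word. -/
noncomputable def nw (l : List idx) : WithConv (A →ₐ[k] k) := (l.map nr).prod

/-- The contracted points. -/
noncomputable def upos : Subgroup (WithConv (A →ₐ[k] k)) := limOneSubgroup (D.lam f) k

/-- The union of the Bruhat cells. -/
def InBruhat (g : WithConv (A →ₐ[k] k)) : Prop :=
  ∃ (l : List idx) (u : WithConv (A →ₐ[k] k)) (χ : Multiplicative M →* k) (u' : WithConv (A →ₐ[k] k)),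
    u ∈ D.upos f ∧ u' ∈ D.upos f ∧ g = u * (nw nr l * (D.tPt χ * u'))

variable (hD : D.GeomFibres) (hG : Red.IsReductiveOver k (sp k A)) (hT : AGF.IsMaxTorus D.torHom)
  (hα : ∀ r, D.α r = P.root r) (hΔ : RootData.Simple P Δ) (hfp : ∀ r, 0 < f (D.α r) ↔ r ∈ posOf P Δ)
  (hf : ∀ r, f (D.α r) ≠ 0)
  (hn : ∀ a χ, nr a * D.tPt χ * (nr a)⁻¹ = D.tPt (χ.comp (P.reflection a).toLinearMap.toAddMonoidHom.toMultiplicative))

include hα in
theorem hred (i j : idx) (h : ¬ LinearIndependent ℤ ![D.α i, D.α j]) : D.α i = D.α j ∨ D.α i = -D.α j := by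
  rw [hα, hα] at h ⊢
  exact RootPairing.IsReduced.eq_or_eq_neg i j h

theorem rPt_upos {r : idx} (hr : 0 < f (D.α r)) (x : k) : D.rPt r x ∈ D.upos f :=
  (D.isU_iff f _).mp (D.isU_rPt f r hr x)

include hD in
theorem upos_le {H : Subgroup (WithConv (A →ₐ[k] k))} (h : ∀ r, 0 < f (D.α r) → ∀ x : k, D.rPt r x ∈ H) :
    D.upos f ≤ H := fun v hv => by
  classical
  obtain ⟨m, e, he, hrange⟩ : ∃ (m : ℕ) (e : Fin m → idx), Function.Injective e ∧
      ∀ r, r ∈ Set.range e ↔ 0 < f (D.α r) := ⟨_, exists_enum fun r => 0 < f (D.α r)⟩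
  have hpe : ∀ i, 0 < f (D.α (e i)) := fun i => (hrange _).mp ⟨i, rfl⟩
  obtain ⟨c, rfl⟩ := D.exists_prodPt f hD e hpe he (fun r hr => (hrange r).mpr hr) ((D.isU_iff f v).mpr hv)
  exact D.prodPt_mem e c fun i => h _ (hpe i) _

include hD in
theorem tPt_upos (χ : Multiplicative M →* k) {v : WithConv (A →ₐ[k] k)} (hv : v ∈ D.upos f) :
    D.tPt χ * v * (D.tPt χ)⁻¹ ∈ D.upos f :=
  (conj_mem_comap _ _).mp <| D.upos_le f hD (H := (D.upos f).comap (MulAut.conj (D.tPt χ)).toMonoidHom) (fun r hr x => by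
    rw [conj_mem_comap]
    rw [tPt_conj]
    exact D.rPt_upos f hr _) hv

/-- Inverse of a torus point. -/
theorem tPt_inv (χ : Multiplicative M →* k) : (D.tPt χ)⁻¹ = D.tPt (invChar χ) :=
  inv_eq_of_mul_eq_one_left (by rw [← tPt_mul, invChar_mul, tPt_one])

include hn in
/-- Moving a torus point across the point of a word. -/
theorem tPt_nw (l : List idx) (χ : Multiplicative M →* k) : ∃ χ', D.tPt χ * nw nr l = nw nr l * D.tPt χ' := by
  refine ⟨χ.comp (wEquiv P l).symm.toAddMonoidHom.toMultiplicative, ?_⟩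
  have h := D.conj_word P nr hn l (χ.comp (wEquiv P l).symm.toAddMonoidHom.toMultiplicative)
  have e : (χ.comp (wEquiv P l).symm.toAddMonoidHom.toMultiplicative).comp
      (wEquiv P l).toAddMonoidHom.toMultiplicative = χ := MonoidHom.ext fun x => by
    show χ (Multiplicative.ofAdd ((wEquiv P l).symm (wEquiv P l x.toAdd))) = χ x
    rw [AddEquiv.symm_apply_apply]; rfl
  rw [e] at h
  exact (mul_inv_eq_iff_eq_mul.mp h).symm

include hG hT hn in
/-- The point of a word is determined by the element of the Weyl group up to the torus. -/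
theorem nw_eq_of_word {l l' : List idx} (h : RootData.word P l = RootData.word P l') :
    ∃ χ, nw nr l = nw nr l' * D.tPt χ := by
  obtain ⟨χ, hχ⟩ := D.exists_tPt_of_commute hG hT (g := (nw nr l')⁻¹ * nw nr l) fun η' => by
    have h4 := D.conj_word P nr hn l' η'
    have h5 := D.conj_word P nr hn l η'
    rw [show wEquiv P l' = wEquiv P l by rw [wEquiv, wEquiv, h]] at h4
    have h6 : nw nr l * D.tPt η' * (nw nr l)⁻¹ = nw nr l' * D.tPt η' * (nw nr l')⁻¹ := h5.trans h4.symm
    have gen : ∀ {W : Type u} [Group W] (a b t : W), b * t * b⁻¹ = a * t * a⁻¹ → Commute t (a⁻¹ * b) :=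
      fun a b t e => by
        show t * (a⁻¹ * b) = a⁻¹ * b * t
        calc _ = a⁻¹ * (a * t * a⁻¹) * b := by group
          _ = _ := by rw [← e]; group
    exact gen _ _ _ h6
  exact ⟨χ, by rw [hχ, mul_inv_cancel_left]⟩

include hα hD hn in
theorem rPt_nw (l : List idx) (r : idx) (x : k) :
    ∃ x', D.rPt r x * nw nr l = nw nr l * D.rPt ((RootData.word P l)⁻¹ • r) x' := by
  obtain ⟨x', hx'⟩ := D.exists_rPt_word_inv hD P nr hα (D.hred P hα) hn l r x
  exact ⟨x', by rw [← hx']; unfold nw; group⟩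

include hD in
theorem InBruhat.mul_right {g : WithConv (A →ₐ[k] k)} (hg : D.InBruhat nr f g) (χ : Multiplicative M →* k)
    {v : WithConv (A →ₐ[k] k)} (hv : v ∈ D.upos f) : D.InBruhat nr f (g * (D.tPt χ * v)) := by
  obtain ⟨l, u, χ₁, u', hu, hu', rfl⟩ := hg
  refine ⟨l, u, χ₁ * χ, (D.tPt χ)⁻¹ * u' * D.tPt χ * v, hu, mul_mem ?_ hv, by rw [tPt_mul]; group⟩
  have := D.tPt_upos f hD (invChar χ) hu'
  rw [← tPt_inv, _root_.inv_inv] at this
  exact this

theorem InBruhat.mul_left {g : WithConv (A →ₐ[k] k)} (hg : D.InBruhat nr f g)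
    {v : WithConv (A →ₐ[k] k)} (hv : v ∈ D.upos f) : D.InBruhat nr f (v * g) := by
  obtain ⟨l, u, χ₁, u', hu, hu', rfl⟩ := hg
  exact ⟨l, v * u, χ₁, u', mul_mem hv hu, hu', by group⟩

include hD hn in
theorem InBruhat.tPt_mul_left {g : WithConv (A →ₐ[k] k)} (hg : D.InBruhat nr f g) (χ : Multiplicative M →* k) :
    D.InBruhat nr f (D.tPt χ * g) := by
  obtain ⟨l, u, χ₁, u', hu, hu', rfl⟩ := hg
  obtain ⟨χ', hχ'⟩ := D.tPt_nw P nr hn l χ
  refine ⟨l, D.tPt χ * u * (D.tPt χ)⁻¹, χ' * χ₁, u', D.tPt_upos f hD χ hu, hu', ?_⟩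
  rw [tPt_mul, _root_.mul_assoc (D.tPt χ') (D.tPt χ₁) u', ← _root_.mul_assoc (nw nr l) (D.tPt χ'), ← hχ']
  group

include hD hG hT hα hΔ hfp hf hn in
/-- The cells are stable under the points of simple reflections. -/
theorem InBruhat.refl_mul_left {g : WithConv (A →ₐ[k] k)} (hg : D.InBruhat nr f g) {a : idx} (ha : a ∈ Δ) :
    D.InBruhat nr f (nr a * g) := by
  classical
  obtain ⟨l, u, χ₁, u', hu, hu', rfl⟩ := hg
  have hpa : 0 < f (D.α a) := (hfp a).mpr (hΔ.subset_posOf ha)
  obtain ⟨m, e, he, hrange⟩ : ∃ (m : ℕ) (e : Fin m → idx), Function.Injective e ∧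
      ∀ r, r ∈ Set.range e ↔ (0 < f (D.α r) ∧ r ≠ a) := ⟨_, exists_enum fun r => 0 < f (D.α r) ∧ r ≠ a⟩
  let e' : Fin (m + 1) → idx := Fin.append e (fun _ : Fin 1 => a)
  have he'p : ∀ i, 0 < f (D.α (e' i)) := fun i => by
    induction i using Fin.addCases with
    | left i => simp only [e', Fin.append_left]; exact ((hrange _).mp ⟨i, rfl⟩).1
    | right i => simp only [e', Fin.append_right]; exact hpa
  have he' : Function.Injective e' := fun i j hij => by
    induction i using Fin.addCases with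
    | left i =>
      induction j using Fin.addCases with
      | left j => simp only [e', Fin.append_left] at hij; rw [he hij]
      | right j => simp only [e', Fin.append_left, Fin.append_right] at hij; exact absurd hij ((hrange _).mp ⟨i, rfl⟩).2
    | right i =>
      induction j using Fin.addCases with
      | left j => simp only [e', Fin.append_left, Fin.append_right] at hij; exact absurd hij.symm ((hrange _).mp ⟨j, rfl⟩).2
      | right j => rw [Subsingleton.elim i j]
  have he'r : ∀ r, 0 < f (D.α r) → r ∈ Set.range e' := fun r hr => by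
    by_cases h : r = a
    · exact ⟨Fin.natAdd m 0, by simp only [e', Fin.append_right, h]⟩
    · obtain ⟨i, hi⟩ := (hrange r).mpr ⟨hr, h⟩
      exact ⟨Fin.castAdd 1 i, by simp only [e', Fin.append_left, hi]⟩
  obtain ⟨c, hc⟩ := D.exists_prodPt f hD e' he'p he' he'r ((D.isU_iff f u).mpr hu)
  let v' : WithConv (A →ₐ[k] k) := D.prodPt e fun i => c (Fin.castAdd 1 i)
  let x : k := c (Fin.natAdd m 0)
  have hsplit : u = v' * D.rPt a x := by
    rw [← hc, prodPt_eq_list]
    have h : (fun i => D.rPt (e' i) (c i)) = Fin.append (fun i => D.rPt (e i) (c (Fin.castAdd 1 i)))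
        (fun _ : Fin 1 => D.rPt a x) := funext fun i => by
      induction i using Fin.addCases with
      | left i => simp only [e', Fin.append_left]
      | right i => simp only [e', Fin.append_right, Subsingleton.elim i 0]; rfl
    rw [h, List.ofFn_fin_append, List.prod_append]
    simp [v', prodPt_eq_list]
  have hv' : nr a * v' * (nr a)⁻¹ ∈ D.upos f := by
    refine (conj_mem_comap _ _).mp (D.prodPt_mem (H := (D.upos f).comap (MulAut.conj (nr a)).toMonoidHom) e _ fun i => ?_)
    obtain ⟨hpi, hne⟩ := (hrange _).mp ⟨i, rfl⟩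
    obtain ⟨y, hy⟩ := D.exists_rPt_word hD P nr hα (D.hred P hα) hn [a] (e i) (c (Fin.castAdd 1 i))
    rw [conj_mem_comap]
    simp only [List.map_cons, List.map_nil, List.prod_cons, List.prod_nil, _root_.mul_one] at hy
    rw [hy]
    refine D.rPt_upos f ((hfp _).mpr ?_) y
    rw [show RootData.word P [a] • e i = P.reflectionPerm a (e i) by
      rw [RootData.word_cons, show RootData.word P ([] : List idx) = 1 from rfl, _root_.mul_one, RootData.refl_smul_idx]]
    exact (hΔ.refl_pos_ne RootData.isIndiv_of_reduced ha ((hfp _).mp hpi) hne).1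
  suffices h : D.InBruhat nr f (nr a * (D.rPt a x * nw nr l)) by
    have := (h.mul_left D nr f hv').mul_right D nr f hD χ₁ hu'
    refine (?_ : _ = nr a * (u * (nw nr l * (D.tPt χ₁ * u')))) ▸ this
    rw [hsplit]; group
  obtain ⟨x₁, hx₁⟩ := D.rPt_nw P nr hD hα hn l a x
  by_cases hw : (RootData.word P l)⁻¹ • a ∈ posOf P Δ
  · refine ⟨a :: l, 1, 1, D.rPt _ x₁, one_mem _, D.rPt_upos f ((hfp _).mpr hw) _, ?_⟩
    rw [hx₁, tPt_one, show nw nr (a :: l) = nr a * nw nr l from List.prod_cons]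
    group
  · let r := P.reflectionPerm a a
    obtain ⟨x', hx'⟩ := D.exists_rPt_word hD P nr hα (D.hred P hα) hn [a] a x
    simp only [List.map_cons, List.map_nil, List.prod_cons, List.prod_nil, _root_.mul_one] at hx'
    rw [RootData.word_cons, show RootData.word P ([] : List idx) = 1 from rfl, _root_.mul_one, RootData.refl_smul_idx] at hx'
    have e0 : nr a * (D.rPt a x * nw nr l) = D.rPt r x' * nw nr (a :: l) := by
      rw [← hx', show nw nr (a :: l) = nr a * nw nr l from List.prod_cons]; group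
    rw [e0]
    by_cases hx0 : x' = 0
    · exact ⟨a :: l, 1, 1, 1, one_mem _, one_mem _, by rw [hx0, rPt_zero, tPt_one]; group⟩
    obtain ⟨n', em, hem, hemr⟩ : ∃ (n : ℕ) (em : Fin n → idx), Function.Injective em ∧
        ∀ r, r ∈ Set.range em ↔ f (D.α r) < 0 := ⟨_, exists_enum fun r => f (D.α r) < 0⟩
    have hr : D.α r = -D.α a := by rw [hα, hα]; exact RootData.root_neg P a
    obtain ⟨p, τ, q, hpq⟩ := D.rank_one_bruhat f hD hf hG hT e' em he'p he' he'r
      (fun i => (hemr _).mp ⟨i, rfl⟩) hem (fun r hr => (hemr r).mpr hr) hpa hr (D.hred P hα)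
      (d := (P.coroot' a).toAddMonoidHom) (ν := nr a)
      ⟨by rw [hα]; exact P.root_coroot'_eq_pairing a a ▸ P.pairing_same a, fun χ => by
        rw [hn]; congr 2
        refine MonoidHom.ext fun y => ?_
        show Multiplicative.ofAdd (P.reflection a y.toAdd) = D.reflHom a _ (Multiplicative.ofAdd y.toAdd)
        rw [reflHom_apply, hα, P.reflection_apply]; rfl⟩
      (fun y => by
        obtain ⟨y', hy'⟩ := D.exists_rPt_word hD P nr hα (D.hred P hα) hn [a] r y
        simp only [List.map_cons, List.map_nil, List.prod_cons, List.prod_nil, _root_.mul_one] at hy'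
        rw [RootData.word_cons, show RootData.word P ([] : List idx) = 1 from rfl, _root_.mul_one,
          RootData.refl_smul_idx, P.reflectionPerm_self] at hy'
        exact ⟨y', hy'⟩) hx0
    obtain ⟨q', hq'⟩ := D.rPt_nw P nr hD hα hn (a :: l) a q
    obtain ⟨τ', hτ'⟩ := D.tPt_nw P nr hn (a :: l) τ
    have hpos : (RootData.word P (a :: l))⁻¹ • a ∈ posOf P Δ := by
      rw [RootData.word_cons, _root_.mul_inv_rev, SemigroupAction.mul_smul,
        inv_eq_of_mul_eq_one_right (RootData.refl_mul_self a), RootData.refl_smul_idx, RootData.smul_neg_idx]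
      exact hΔ.neg_mem_posOf_iff.mpr hw
    refine ⟨a :: a :: l, D.rPt a p, τ', D.rPt _ q', D.rPt_upos f hpa p, D.rPt_upos f ((hfp _).mpr hpos) q', ?_⟩
    rw [hpq, show nw nr (a :: a :: l) = nr a * nw nr (a :: l) from List.prod_cons]
    simp only [_root_.mul_assoc]
    rw [hq', ← _root_.mul_assoc (D.tPt τ), hτ']
    simp only [_root_.mul_assoc]

include hD hG hT hα hΔ hfp hf hn in
/-- Every point lies in a cell. -/
theorem inBruhat (g : WithConv (A →ₐ[k] k)) : D.InBruhat nr f g := by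
  classical
  let S : Subgroup (WithConv (A →ₐ[k] k)) :=
    { carrier := {h | ∀ g, D.InBruhat nr f g → D.InBruhat nr f (h * g) ∧ D.InBruhat nr f (h⁻¹ * g)}
      one_mem' := fun g hg => by simpa using hg
      mul_mem' := fun {p q} hp hq g hg => ⟨by rw [_root_.mul_assoc]; exact (hp _ (hq g hg).1).1,
        by rw [_root_.mul_inv_rev, _root_.mul_assoc]; exact (hq _ (hp g hg).2).2⟩
      inv_mem' := fun {p} hp g hg => ⟨(hp g hg).2, by rw [_root_.inv_inv]; exact (hp g hg).1⟩ }
  have hST : ∀ χ, D.tPt χ ∈ S := fun χ g hg =>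
    ⟨hg.tPt_mul_left D P nr f hD hn χ, by rw [tPt_inv]; exact hg.tPt_mul_left D P nr f hD hn _⟩
  have hSU : D.upos f ≤ S := fun v hv g hg => ⟨hg.mul_left D nr f hv, hg.mul_left D nr f (inv_mem hv)⟩
  have hSa : ∀ a ∈ Δ, nr a ∈ S := fun a ha g hg => by
    refine ⟨hg.refl_mul_left D P nr Δ f hD hG hT hα hΔ hfp hf hn ha, ?_⟩
    obtain ⟨χ, hχ⟩ := D.nw_eq_of_word P nr hG hT hn (l := [a, a]) (l' := [])
      (by simp only [RootData.word, List.map_cons, List.map_nil, List.prod_cons, List.prod_nil, _root_.mul_one]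
          exact RootData.refl_mul_self a)
    simp only [nw, List.map_cons, List.map_nil, List.prod_cons, List.prod_nil, _root_.mul_one, _root_.one_mul] at hχ
    rw [show (nr a)⁻¹ = (D.tPt χ)⁻¹ * nr a by rw [← hχ]; group, tPt_inv, _root_.mul_assoc]
    exact (hg.refl_mul_left D P nr Δ f hD hG hT hα hΔ hfp hf hn ha).tPt_mul_left D P nr f hD hn _
  have hSl : ∀ l : List idx, (∀ a ∈ l, a ∈ Δ) → nw nr l ∈ S := fun l hl =>
    list_prod_mem fun p hp => by
      obtain ⟨a, ha, rfl⟩ := List.mem_map.mp hp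
      exact hSa a (hl a ha)
  have hSr : ∀ r x, D.rPt r x ∈ S := fun r x => by
    obtain ⟨w, hw, a, ha, rfl⟩ := hΔ.indiv_conj (RootData.isIndiv_of_reduced r)
    rw [← hΔ.gen_eq_weylGroup] at hw
    obtain ⟨l, hl, rfl⟩ := RootData.exists_word hw
    obtain ⟨x', hx'⟩ := D.rPt_nw P nr hD hα hn l (RootData.word P l • a) x
    rw [inv_smul_smul] at hx'
    rw [eq_mul_inv_iff_mul_eq.mpr hx']
    exact mul_mem (mul_mem (hSl l hl) (hSU (D.rPt_upos f ((hfp a).mpr (hΔ.subset_posOf ha)) x'))) (inv_mem (hSl l hl))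
  obtain ⟨mp, e, he, her⟩ : ∃ (n : ℕ) (e : Fin n → idx), Function.Injective e ∧
      ∀ r, r ∈ Set.range e ↔ 0 < f (D.α r) := ⟨_, exists_enum fun r => 0 < f (D.α r)⟩
  obtain ⟨mn, em, hem, hemr⟩ : ∃ (n : ℕ) (em : Fin n → idx), Function.Injective em ∧
      ∀ r, r ∈ Set.range em ↔ f (D.α r) < 0 := ⟨_, exists_enum fun r => f (D.α r) < 0⟩
  have hcell : ∀ p, D.InCell e em p → p ∈ S := by
    rintro _ ⟨y, χ, x, rfl⟩
    exact mul_mem (D.prodPt_mem em y fun i => hSr _ _) (mul_mem (hST χ) (D.prodPt_mem e x fun i => hSr _ _))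
  obtain ⟨haff, hsm, hcn, -⟩ := hG
  haveI := haff; haveI := hsm; haveI := hcn
  haveI : IsMonHom (𝟙 (sp k A)) := inferInstance
  obtain ⟨c, -, hc1, hc2⟩ := D.exists_two_cell f hD hf e em (fun i => (her _).mp ⟨i, rfl⟩) he
    (fun r hr => (her r).mpr hr) (fun i => (hemr _).mp ⟨i, rfl⟩) hem (fun r hr => (hemr r).mpr hr) (𝟙 (sp k A))
    (g₀ := g) ⟨gp g, Category.comp_id _⟩
  have hgS : g ∈ S := by
    rw [show g = c * (g⁻¹ * c)⁻¹ by group]
    exact mul_mem (hcell _ hc1) (inv_mem (hcell _ hc2))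
  have h1 : D.InBruhat nr f 1 :=
    ⟨[], 1, 1, 1, one_mem _, one_mem _, by simp [nw, tPt_one]⟩
  simpa using (hgS 1 h1).1

include hΔ in
/-- A word carrying the positive roots onto the negative ones. -/
theorem exists_longest : ∃ l₀ : List idx, ∀ r, RootData.word P l₀ • r ∈ posOf P Δ ↔ r ∉ posOf P Δ := by
  have hS := hΔ.posOf_isPosSys
  have hS' : IsPosSys P ((fun r => P.reflectionPerm r r) '' posOf P Δ) := by
    refine RootData.isPosSys_of_closed ?_ (fun i => ?_) ?_
    · rintro _ ⟨r, hr, rfl⟩ ⟨s, hs, e⟩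
      rw [RootData.neg_neg_idx] at e
      simp only at e
      rw [← e] at hr
      exact hS.disjoint hs hr
    · rcases hS.cover i with h | h
      · exact Or.inr ⟨i, h, rfl⟩
      · exact Or.inl ⟨_, h, RootData.neg_neg_idx _ i⟩
    · rintro _ _ q ⟨r, hr, rfl⟩ ⟨s, hs, rfl⟩ hq
      refine ⟨P.reflectionPerm q q, RootData.isPosSys_closed hS hr hs ?_, RootData.neg_neg_idx _ q⟩
      rw [RootData.root_neg, hq, RootData.root_neg, RootData.root_neg]; abel
  obtain ⟨g, hg, hgS⟩ := RootData.exists_smul_posSys hS hS'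
  rw [← hΔ.gen_eq_weylGroup] at hg
  obtain ⟨l, -, rfl⟩ := RootData.exists_word hg
  refine ⟨l, fun r => ⟨fun h hr => ?_, fun h => ?_⟩⟩
  · obtain ⟨s, hs, e⟩ : RootData.word P l • r ∈ (fun r => P.reflectionPerm r r) '' posOf P Δ := hgS ▸ ⟨r, hr, rfl⟩
    simp only at e
    rw [← e] at h
    exact hΔ.neg_mem_posOf_iff.mp h hs
  · by_contra hn
    have h2 : RootData.word P l • r ∈ (fun r => P.reflectionPerm r r) '' posOf P Δ :=
      ⟨_, hΔ.neg_mem_posOf_iff.mpr hn, RootData.neg_neg_idx _ _⟩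
    rw [← hgS] at h2
    obtain ⟨s, hs, e⟩ := h2
    exact h (smul_left_cancel _ e ▸ hs)

end Chart

end Groth.Agent.RootChartLib
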