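import Groth.Agent.RootChartLib.BruhatPts

/-!
# Translates of the big cell by simple root points
-/

set_option autoImplicit false
set_option backward.isDefEq.respectTransparency false
set_option backward.isDefEq.respectTransparency.types false

universe u

open CategoryTheory Limits AlgebraicGeometry MonoidalCategory CartesianMonoidalCategory MonObj GrpObj WithConv
open scoped TensorProduct

namespace Groth.Agent.RootChartLib

open GrpSchLib GrpSchLib.AffineHopf GrpSchLib.Kunneth GModLib DynLib RootD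

variable {k : Type u} [Field k] [IsAlgClosed k]

namespace Chart

variable {A : Type u} [CommRing A] [HopfAlgebra k A] {M : Type} [AddCommGroup M] [Module.Free ℤ M] [Module.Finite ℤ M]
  [Module.IsTorsionFree ℤ M] [Algebra.Smooth k A] {idx : Type} [Fintype idx] (D : Chart k A M idx)
  {N : Type} [AddCommGroup N] (P : RootPairing idx ℤ M N) [P.IsReduced] (nr : idx → WithConv (A →ₐ[k] k))
  (Δ : Set idx) (f : M →+ ℤ)
  (hD : D.GeomFibres) (hG : Red.IsReductiveOver k (sp k A)) (hT : AGF.IsMaxTorus D.torHom)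
  (hα : ∀ r, D.α r = P.root r) (hΔ : RootData.Simple P Δ) (hfp : ∀ r, 0 < f (D.α r) ↔ r ∈ posOf P Δ)
  (hf : ∀ r, f (D.α r) ≠ 0)
  (hn : ∀ a χ, nr a * D.tPt χ * (nr a)⁻¹ = D.tPt (χ.comp (P.reflection a).toLinearMap.toAddMonoidHom.toMultiplicative))

/-- The points of the big cell, as products of contracted points and torus points. -/
def InOmega (g : WithConv (A →ₐ[k] k)) : Prop :=
  ∃ (v : WithConv (A →ₐ[k] k)) (χ : Multiplicative M →* k) (u : WithConv (A →ₐ[k] k)),
    v ∈ D.upos (-f) ∧ u ∈ D.upos f ∧ g = v * (D.tPt χ * u)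

/-- Points fixed by a cocharacter have a limit and normalise the contracted points. -/
theorem upos_normal (g : M →+ ℤ) {s : idx} (hs : g (D.α s) = 0) (x : k) {w : WithConv (A →ₐ[k] k)}
    (hw : w ∈ D.upos g) : D.rPt s x * w * (D.rPt s x)⁻¹ ∈ D.upos g := by
  have h1 : conjHom (D.lam g) k (D.rPt s x) = post (toL k k) (D.rPt s (Polynomial.C x)) := by
    rw [conjHom_apply, lamW_eq, post_rPt, post_rPt, tPt_conj]
    congr 1
    show LaurentPolynomial.T (g (D.α s)) * con k k x = toL k k (Polynomial.C x)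
    rw [hs]
    simp [toL, Polynomial.toLaurentAlg_apply]
  obtain ⟨q, hq, hqw⟩ : ∃ q ∈ (post (A := A) (ev0 k k)).ker, post (toL k k) q = conjHom (D.lam g) k w := hw
  refine ⟨D.rPt s (Polynomial.C x) * q * (D.rPt s (Polynomial.C x))⁻¹, ?_, ?_⟩
  · show post (ev0 k k) _ = 1
    rw [map_mul, map_mul, map_inv, show post (ev0 k k) q = 1 from hq, _root_.mul_one, mul_inv_cancel]
  · rw [map_mul, map_mul, map_inv, map_mul, map_mul, map_inv, h1, hqw]

include hD hα hΔ hfp hn in
/-- The structure of the big cell at a simple root. -/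
theorem exists_wall {a : idx} (ha : a ∈ Δ) (hf : ∀ r, f (D.α r) ≠ 0) :
    ∃ g : M →+ ℤ, g (D.α a) = 0 ∧ g (D.α (P.reflectionPerm a a)) = 0 ∧
      (D.upos g ≤ D.upos f ∧ D.upos (-g) ≤ D.upos (-f)) ∧
      (∀ w ∈ D.upos g, (nr a)⁻¹ * w * nr a ∈ D.upos g) ∧
      (∀ v ∈ D.upos f, ∃ x : k, ∃ w ∈ D.upos g, v = w * D.rPt a x) ∧
      (∀ v ∈ D.upos (-f), ∃ x : k, ∃ w ∈ D.upos (-g), v = w * D.rPt (P.reflectionPerm a a) x) := by
  classical
  let r := P.reflectionPerm a a
  let g : M →+ ℤ := f + f.comp (P.reflection a).toLinearMap.toAddMonoidHom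
  have hgr : ∀ s, g (D.α s) = f (D.α s) + f (D.α (P.reflectionPerm a s)) := fun s => by
    show f (D.α s) + f (P.reflection a (D.α s)) = _
    rw [hα, hα, P.root_reflectionPerm]
  have hra : P.reflectionPerm a r = a := P.reflectionPerm_self a a
  have hr : D.α r = -D.α a := by rw [hα, hα]; exact RootData.root_neg P a
  have hga : g (D.α a) = 0 := by rw [hgr, show P.reflectionPerm a a = r from rfl, hr, map_neg, add_neg_cancel]
  have hgr0 : g (D.α r) = 0 := by rw [hgr, hra, hr, map_neg, neg_add_cancel]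
  have hgpos : ∀ s, 0 < f (D.α s) → s ≠ a → 0 < g (D.α s) := fun s hs hne => by
    rw [hgr]
    have := (hfp _).mpr (hΔ.refl_pos_ne RootData.isIndiv_of_reduced ha ((hfp s).mp hs) hne).1
    omega
  have hgneg : ∀ s, f (D.α s) < 0 → s ≠ r → g (D.α s) < 0 := fun s hs hne => by
    have h1 : 0 < f (D.α (P.reflectionPerm s s)) := by
      rw [hα, RootData.root_neg, map_neg, ← hα]; omega
    have h2 : P.reflectionPerm s s ≠ a := fun e => hne (by rw [← RootData.neg_neg_idx P s, e])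
    have h3 := hgpos _ h1 h2
    rw [hα, RootData.root_neg, map_neg, ← hα] at h3
    omega
  have hgiff : ∀ s, 0 < g (D.α s) → 0 < f (D.α s) := fun s hs => by
    by_contra h
    have hlt : f (D.α s) < 0 := lt_of_le_of_ne (not_lt.mp h) (hf s)
    by_cases e : s = r
    · rw [e, hgr0] at hs; omega
    · have := hgneg s hlt e; omega
  have hgiff' : ∀ s, 0 < (-g) (D.α s) → 0 < (-f) (D.α s) := fun s hs => by
    rw [AddMonoidHom.neg_apply, Left.neg_pos_iff] at hs ⊢
    by_contra h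
    have hlt : 0 < f (D.α s) := lt_of_le_of_ne (not_lt.mp h) (hf s).symm
    by_cases e : s = a
    · rw [e, hga] at hs; omega
    · have := hgpos s hlt e; omega
  refine ⟨g, hga, hgr0, ⟨D.upos_le g hD fun s hs x => D.rPt_upos f (hgiff s hs) x,
    D.upos_le (-g) hD fun s hs x => D.rPt_upos (-f) (hgiff' s hs) x⟩, fun w hw => ?_, ?_, ?_⟩
  · have h := D.upos_le g hD (H := (D.upos g).comap (MulAut.conj (nr a)⁻¹).toMonoidHom) (fun s hs x => by
      rw [conj_mem_comap, _root_.inv_inv]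
      obtain ⟨y, hy⟩ := D.exists_rPt_word_inv hD P nr hα (D.hred P hα) hn [a] s x
      simp only [List.map_cons, List.map_nil, List.prod_cons, List.prod_nil, _root_.mul_one] at hy
      rw [hy, RootData.word_cons, show RootData.word P ([] : List idx) = 1 from rfl, _root_.mul_one,
        inv_eq_of_mul_eq_one_right (RootData.refl_mul_self a), RootData.refl_smul_idx]
      refine D.rPt_upos g ?_ y
      rw [hgr, P.reflectionPerm_self, add_comm, ← hgr]
      exact hs) hw
    rw [conj_mem_comap, _root_.inv_inv] at h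
    exact h
  · intro v hv
    obtain ⟨n, e, he, her⟩ : ∃ (n : ℕ) (e : Fin n → idx), Function.Injective e ∧
        ∀ s, s ∈ Set.range e ↔ (0 < f (D.α s) ∧ s ≠ a) := ⟨_, exists_enum fun s => 0 < f (D.α s) ∧ s ≠ a⟩
    have hpa : 0 < f (D.α a) := (hfp a).mpr (hΔ.subset_posOf ha)
    exact split_last D f hD e he her hpa (fun i => hgpos _ ((her _).mp ⟨i, rfl⟩).1 ((her _).mp ⟨i, rfl⟩).2) hv
  · intro v hv
    obtain ⟨n, e, he, her⟩ : ∃ (n : ℕ) (e : Fin n → idx), Function.Injective e ∧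
        ∀ s, s ∈ Set.range e ↔ (0 < (-f) (D.α s) ∧ s ≠ r) := ⟨_, exists_enum fun s => 0 < (-f) (D.α s) ∧ s ≠ r⟩
    have hpr : 0 < (-f) (D.α r) := by
      have := (hfp a).mpr (hΔ.subset_posOf ha)
      rw [AddMonoidHom.neg_apply, hr, map_neg, neg_neg]; exact this
    refine split_last D (-f) hD e he her hpr (fun i => ?_) hv
    obtain ⟨h1, h2⟩ := (her _).mp ⟨i, rfl⟩
    rw [AddMonoidHom.neg_apply, Left.neg_pos_iff] at h1 ⊢
    exact hgneg _ h1 h2
where
  split_last (D : Chart k A M idx) (f : M →+ ℤ) (hD : D.GeomFibres) {n : ℕ} (e : Fin n → idx)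
      (he : Function.Injective e) {a : idx} (her : ∀ s, s ∈ Set.range e ↔ (0 < f (D.α s) ∧ s ≠ a))
      (hpa : 0 < f (D.α a)) {g : M →+ ℤ} (hg : ∀ i, 0 < g (D.α (e i))) {v : WithConv (A →ₐ[k] k)}
      (hv : v ∈ D.upos f) : ∃ x : k, ∃ w ∈ D.upos g, v = w * D.rPt a x := by
    let e' : Fin (n + 1) → idx := Fin.append e (fun _ : Fin 1 => a)
    have he'p : ∀ i, 0 < f (D.α (e' i)) := fun i => by
      induction i using Fin.addCases with
      | left i => simp only [e', Fin.append_left]; exact ((her _).mp ⟨i, rfl⟩).1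
      | right i => simp only [e', Fin.append_right]; exact hpa
    have he' : Function.Injective e' := fun i j hij => by
      induction i using Fin.addCases with
      | left i =>
        induction j using Fin.addCases with
        | left j => simp only [e', Fin.append_left] at hij; rw [he hij]
        | right j => simp only [e', Fin.append_left, Fin.append_right] at hij; exact absurd hij ((her _).mp ⟨i, rfl⟩).2
      | right i =>
        induction j using Fin.addCases with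
        | left j => simp only [e', Fin.append_left, Fin.append_right] at hij; exact absurd hij.symm ((her _).mp ⟨j, rfl⟩).2
        | right j => rw [Subsingleton.elim i j]
    obtain ⟨c, hc⟩ := D.exists_prodPt f hD e' he'p he' (fun s hs => by
      by_cases h : s = a
      · exact ⟨Fin.natAdd n 0, by simp only [e', Fin.append_right, h]⟩
      · obtain ⟨i, hi⟩ := (her s).mpr ⟨hs, h⟩
        exact ⟨Fin.castAdd 1 i, by simp only [e', Fin.append_left, hi]⟩) ((D.isU_iff f v).mpr hv)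
    refine ⟨c (Fin.natAdd n 0), D.prodPt e fun i => c (Fin.castAdd 1 i),
      D.prodPt_mem e _ fun i => D.rPt_upos g (hg i) _, ?_⟩
    rw [← hc, prodPt_eq_list]
    have h : (fun i => D.rPt (e' i) (c i)) = Fin.append (fun i => D.rPt (e i) (c (Fin.castAdd 1 i)))
        (fun _ : Fin 1 => D.rPt a (c (Fin.natAdd n 0))) := funext fun i => by
      induction i using Fin.addCases with
      | left i => simp only [e', Fin.append_left]
      | right i => simp only [e', Fin.append_right, Subsingleton.elim i 0]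
    rw [h, List.ofFn_fin_append, List.prod_append]
    simp [prodPt_eq_list]

include hD hG hT hα hΔ hfp hf hn in
/-- Properties of the points of a simple root. -/
theorem simple_rank_one {a : idx} (ha : a ∈ Δ) :
    (∀ x : k, ∃ y, nr a * D.rPt a x * (nr a)⁻¹ = D.rPt (P.reflectionPerm a a) y) ∧
    (∀ x : k, ∃ y, nr a * D.rPt (P.reflectionPerm a a) x * (nr a)⁻¹ = D.rPt a y) ∧
    (∃ τ, nr a * nr a = D.tPt τ) ∧
    ∀ x : k, x ≠ 0 → ∃ (p : k) (τ : Multiplicative M →* k) (q : k),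
      D.rPt (P.reflectionPerm a a) x = D.rPt a p * (nr a * (D.tPt τ * D.rPt a q)) := by
  classical
  let r := P.reflectionPerm a a
  have hwa : RootData.word P [a] = RootPairing.Equiv.reflection P a := by
    rw [RootData.word_cons, show RootData.word P ([] : List idx) = 1 from rfl, _root_.mul_one]
  have h1 : ∀ (s : idx) (x : k), ∃ y, nr a * D.rPt s x * (nr a)⁻¹ = D.rPt (P.reflectionPerm a s) y := fun s x => by
    obtain ⟨y, hy⟩ := D.exists_rPt_word hD P nr hα (D.hred P hα) hn [a] s x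
    simp only [List.map_cons, List.map_nil, List.prod_cons, List.prod_nil, _root_.mul_one] at hy
    rw [hwa, RootData.refl_smul_idx] at hy
    exact ⟨y, hy⟩
  refine ⟨h1 a, fun x => ?_, ?_, fun x hx => ?_⟩
  · obtain ⟨y, hy⟩ := h1 r x
    exact ⟨y, by rwa [P.reflectionPerm_self] at hy⟩
  · obtain ⟨χ, hχ⟩ := D.nw_eq_of_word P nr hG hT hn (l := [a, a]) (l' := [])
      (by simp only [RootData.word, List.map_cons, List.map_nil, List.prod_cons, List.prod_nil, _root_.mul_one]
          exact RootData.refl_mul_self a)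
    simp only [nw, List.map_cons, List.map_nil, List.prod_cons, List.prod_nil, _root_.mul_one, _root_.one_mul] at hχ
    exact ⟨χ, hχ⟩
  · obtain ⟨m, e, he, her⟩ : ∃ (n : ℕ) (e : Fin n → idx), Function.Injective e ∧
        ∀ s, s ∈ Set.range e ↔ 0 < f (D.α s) := ⟨_, exists_enum fun s => 0 < f (D.α s)⟩
    obtain ⟨n, em, hem, hemr⟩ : ∃ (n : ℕ) (em : Fin n → idx), Function.Injective em ∧
        ∀ s, s ∈ Set.range em ↔ f (D.α s) < 0 := ⟨_, exists_enum fun s => f (D.α s) < 0⟩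
    refine D.rank_one_bruhat f hD hf hG hT e em (fun i => (her _).mp ⟨i, rfl⟩) he (fun s hs => (her s).mpr hs)
      (fun i => (hemr _).mp ⟨i, rfl⟩) hem (fun s hs => (hemr s).mpr hs) ((hfp a).mpr (hΔ.subset_posOf ha))
      (by rw [hα, hα]; exact RootData.root_neg P a) (D.hred P hα) (d := (P.coroot' a).toAddMonoidHom) ?_ ?_ hx
    · refine ⟨by rw [hα]; exact P.root_coroot'_eq_pairing a a ▸ P.pairing_same a, fun χ => ?_⟩
      rw [hn]; congr 2
      refine MonoidHom.ext fun y => ?_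
      show Multiplicative.ofAdd (P.reflection a y.toAdd) = D.reflHom a _ (Multiplicative.ofAdd y.toAdd)
      rw [reflHom_apply, hα, P.reflection_apply]; rfl
    · intro y
      obtain ⟨y', hy'⟩ := h1 r y
      exact ⟨y', by rwa [P.reflectionPerm_self] at hy'⟩

include hD hG hT hα hΔ hfp hf hn in
/-- The point of a simple reflection lies in the translate of the opposite root group. -/
theorem exists_nr_eq {a : idx} (ha : a ∈ Δ) {x : k} (hx : x ≠ 0) :
    ∃ (p : k) (τ : Multiplicative M →* k) (q : k),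
      nr a = D.rPt a x * (D.rPt (P.reflectionPerm a a) p * (D.tPt τ * D.rPt a q)) := by
  obtain ⟨h1, h2, ⟨τ₀, hτ₀⟩, h4⟩ := D.simple_rank_one P nr Δ f hD hG hT hα hΔ hfp hf hn ha
  obtain ⟨x', hx'⟩ : ∃ x', (nr a)⁻¹ * D.rPt a (-x) * nr a = D.rPt (P.reflectionPerm a a) x' := by
    obtain ⟨y, hy⟩ := D.exists_rPt_word_inv hD P nr hα (D.hred P hα) hn [a] a (-x)
    simp only [List.map_cons, List.map_nil, List.prod_cons, List.prod_nil, _root_.mul_one] at hy
    rw [RootData.word_cons, show RootData.word P ([] : List idx) = 1 from rfl, _root_.mul_one,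
      inv_eq_of_mul_eq_one_right (RootData.refl_mul_self a), RootData.refl_smul_idx] at hy
    exact ⟨y, hy⟩
  have hx0 : x' ≠ 0 := fun h => by
    rw [h, rPt_zero] at hx'
    have : D.rPt a (-x) = D.rPt a (0 : k) := by
      rw [rPt_zero]; calc _ = nr a * ((nr a)⁻¹ * D.rPt a (-x) * nr a) * (nr a)⁻¹ := by group
        _ = _ := by rw [hx']; group
    exact hx (neg_eq_zero.mp (D.rPt_injective a this))
  obtain ⟨p, τ, q, hpq⟩ := h4 x' hx0
  obtain ⟨p', hp'⟩ := h1 p
  refine ⟨p', τ₀ * τ, q, ?_⟩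
  rw [tPt_mul, ← hτ₀, ← hp']
  have hxx : D.rPt a x * D.rPt a (-x) = 1 := by rw [← rPt_add, add_neg_cancel, rPt_zero]
  calc nr a = D.rPt a x * (nr a * ((nr a)⁻¹ * D.rPt a (-x) * nr a)) := by
        rw [show nr a * ((nr a)⁻¹ * D.rPt a (-x) * nr a) = D.rPt a (-x) * nr a by group, ← _root_.mul_assoc, hxx,
          _root_.one_mul]
    _ = _ := by rw [hx', hpq]; group

include hD hG hT hα hΔ hfp hf hn in
/-- The simple reflected cell lies in the translate of the big cell. -/
theorem neg_mul_nr_mem {a : idx} (ha : a ∈ Δ) {x : k} (hx : x ≠ 0) {v : WithConv (A →ₐ[k] k)}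
    (hv : v ∈ D.upos (-f)) (χ : Multiplicative M →* k) {u : WithConv (A →ₐ[k] k)} (hu : u ∈ D.upos f) :
    D.InOmega f ((D.rPt a x)⁻¹ * (v * (nr a * (D.tPt χ * u)))) := by
  obtain ⟨g, hga, hgr, ⟨hgf, hgf'⟩, -, -, hneg⟩ := D.exists_wall P nr Δ f hD hα hΔ hfp hn ha hf
  obtain ⟨z, v', hv', rfl⟩ := hneg v hv
  obtain ⟨h1, -, -, -⟩ := D.simple_rank_one P nr Δ f hD hG hT hα hΔ hfp hf hn ha
  obtain ⟨h1', h2, ⟨τ₀, hτ₀⟩, -⟩ := D.simple_rank_one P nr Δ f hD hG hT hα hΔ hfp hf hn ha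
  -- move the root point to the right of the reflection
  obtain ⟨z', hz'⟩ : ∃ z', D.rPt (P.reflectionPerm a a) z * nr a = nr a * D.rPt a z' := by
    obtain ⟨y, hy⟩ := D.exists_rPt_word_inv hD P nr hα (D.hred P hα) hn [a] (P.reflectionPerm a a) z
    simp only [List.map_cons, List.map_nil, List.prod_cons, List.prod_nil, _root_.mul_one] at hy
    rw [RootData.word_cons, show RootData.word P ([] : List idx) = 1 from rfl, _root_.mul_one,
      inv_eq_of_mul_eq_one_right (RootData.refl_mul_self a), RootData.refl_smul_idx, P.reflectionPerm_self] at hy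
    exact ⟨y, by rw [← hy]; group⟩
  obtain ⟨p, τ, q, hpq⟩ := D.exists_nr_eq P nr Δ f hD hG hT hα hΔ hfp hf hn ha hx
  have hpa : 0 < f (D.α a) := (hfp a).mpr (hΔ.subset_posOf ha)
  have hpr : 0 < (-f) (D.α (P.reflectionPerm a a)) := by
    rw [AddMonoidHom.neg_apply, hα, RootData.root_neg, map_neg, neg_neg, ← hα]; exact hpa
  have hv'' : (D.rPt a x)⁻¹ * v' * D.rPt a x ∈ D.upos (-g) := by
    have h := D.upos_normal (-g) (s := a) (by rw [AddMonoidHom.neg_apply, hga, neg_zero]) (-x) hv'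
    have e : D.rPt a (-x) = (D.rPt a x)⁻¹ :=
      (inv_eq_of_mul_eq_one_right (by rw [← rPt_add, add_neg_cancel, rPt_zero])).symm
    rwa [e, _root_.inv_inv] at h
  refine ⟨(D.rPt a x)⁻¹ * v' * D.rPt a x * D.rPt (P.reflectionPerm a a) p, τ * χ,
    (D.tPt χ)⁻¹ * (D.rPt a q * D.rPt a z') * D.tPt χ * u, mul_mem (hgf' hv'') (D.rPt_upos (-f) hpr p),
    mul_mem ?_ hu, ?_⟩
  · have h := D.tPt_upos f hD (invChar χ) (mul_mem (D.rPt_upos f hpa q) (D.rPt_upos f hpa z'))
    rwa [← tPt_inv, _root_.inv_inv] at h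
  · rw [tPt_mul, show v' * D.rPt (P.reflectionPerm a a) z * (nr a * (D.tPt χ * u)) =
      v' * (D.rPt (P.reflectionPerm a a) z * nr a) * (D.tPt χ * u) by group, hz', hpq]
    group

include hD hG hT hα hΔ hfp hf hn in
/-- Right translates of the big cell by a negative simple root point. -/
theorem omega_mul_neg {a : idx} (ha : a ∈ Δ) {x : k} (hx : x ≠ 0) {g : WithConv (A →ₐ[k] k)} (hg : D.InOmega f g)
    (y : k) :
    D.InOmega f (g * D.rPt (P.reflectionPerm a a) y) ∨
      D.InOmega f ((D.rPt a x)⁻¹ * (g * D.rPt (P.reflectionPerm a a) y)) := by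
  obtain ⟨v, χ, u, hv, hu, rfl⟩ := hg
  obtain ⟨γ', hga, hgr, ⟨hgf, hgf'⟩, hnconj, hpos, -⟩ := D.exists_wall P nr Δ f hD hα hΔ hfp hn ha hf
  obtain ⟨h1, h2, ⟨τ₀, hτ₀⟩, h4⟩ := D.simple_rank_one P nr Δ f hD hG hT hα hΔ hfp hf hn ha
  obtain ⟨s, u', hu', rfl⟩ := hpos u hu
  have hpa : 0 < f (D.α a) := (hfp a).mpr (hΔ.subset_posOf ha)
  have hpr : 0 < (-f) (D.α (P.reflectionPerm a a)) := by
    rw [AddMonoidHom.neg_apply, hα, RootData.root_neg, map_neg, neg_neg, ← hα]; exact hpa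
  -- the rank one product
  have hone : (∃ (z : k) (τ : Multiplicative M →* k) (q : k), D.rPt a s * D.rPt (P.reflectionPerm a a) y =
        D.rPt (P.reflectionPerm a a) z * (D.tPt τ * D.rPt a q)) ∨
      ∃ (τ : Multiplicative M →* k) (q : k), D.rPt a s * D.rPt (P.reflectionPerm a a) y =
        nr a * (D.tPt τ * D.rPt a q) := by
    by_cases hy : y = 0
    · exact Or.inl ⟨0, 1, s, by simp only [hy, rPt_zero, tPt_one]; group⟩
    obtain ⟨p, τ, q, hpq⟩ := h4 y hy
    rw [hpq, ← _root_.mul_assoc (D.rPt a s), ← rPt_add]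
    by_cases hw : s + p = 0
    · exact Or.inr ⟨τ, q, by rw [hw, rPt_zero, _root_.one_mul]⟩
    obtain ⟨p₁, τ₁, q₁, hn₁⟩ := D.exists_nr_eq P nr Δ f hD hG hT hα hΔ hfp hf hn ha (neg_ne_zero.mpr hw)
    refine Or.inl ⟨p₁, τ₁ * τ, invChar τ (Multiplicative.ofAdd (D.α a)) * q₁ + q, ?_⟩
    rw [D.rPt_add a (_ * _ : k), ← tPt_conj, tPt_mul, hn₁,
      show ∀ w w', D.rPt a (s + p) * (D.rPt a (-(s + p)) * w * w') = w * w' from fun w w' => by
        rw [← _root_.mul_assoc, ← _root_.mul_assoc, ← rPt_add, add_neg_cancel, rPt_zero, _root_.one_mul],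
      ← tPt_inv, _root_.inv_inv]
    group
  rcases hone with ⟨z, τ, q, hz⟩ | ⟨τ, q, hz⟩
  · left
    obtain ⟨z', hz'⟩ : ∃ z', D.tPt χ * D.rPt (P.reflectionPerm a a) z =
        D.rPt (P.reflectionPerm a a) z' * D.tPt χ := ⟨_, by rw [← tPt_conj, inv_mul_cancel_right]⟩
    have hu'' : (D.rPt (P.reflectionPerm a a) z)⁻¹ * u' * D.rPt (P.reflectionPerm a a) z ∈ D.upos γ' := by
      have h := D.upos_normal γ' (s := P.reflectionPerm a a) hgr (-z) hu'
      have e : D.rPt (P.reflectionPerm a a) (-z) = (D.rPt (P.reflectionPerm a a) z)⁻¹ :=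
        (inv_eq_of_mul_eq_one_right (by rw [← rPt_add, add_neg_cancel, rPt_zero])).symm
      rwa [e, _root_.inv_inv] at h
    refine ⟨v * D.rPt (P.reflectionPerm a a) z', χ * τ,
      (D.tPt τ)⁻¹ * ((D.rPt (P.reflectionPerm a a) z)⁻¹ * u' * D.rPt (P.reflectionPerm a a) z) * D.tPt τ * D.rPt a q,
      mul_mem hv (D.rPt_upos (-f) hpr z'), mul_mem ?_ (D.rPt_upos f hpa q), ?_⟩
    · have h := D.tPt_upos f hD (invChar τ) (hgf hu'')
      rwa [← tPt_inv, _root_.inv_inv] at h
    · rw [tPt_mul, show v * (D.tPt χ * (u' * D.rPt a s)) * D.rPt (P.reflectionPerm a a) y =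
        v * (D.tPt χ * (u' * (D.rPt a s * D.rPt (P.reflectionPerm a a) y))) by group, hz,
        show v * (D.tPt χ * (u' * (D.rPt (P.reflectionPerm a a) z * (D.tPt τ * D.rPt a q)))) =
          v * (D.tPt χ * D.rPt (P.reflectionPerm a a) z *
            ((D.rPt (P.reflectionPerm a a) z)⁻¹ * u' * D.rPt (P.reflectionPerm a a) z) * (D.tPt τ * D.rPt a q)) by group,
        hz']
      group
  · right
    obtain ⟨τ₁, hτ₁⟩ := D.tPt_nw P nr hn [a] χ
    simp only [nw, List.map_cons, List.map_nil, List.prod_cons, List.prod_nil, _root_.mul_one] at hτ₁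
    have htail : (D.tPt τ)⁻¹ * ((nr a)⁻¹ * u' * nr a) * D.tPt τ * D.rPt a q ∈ D.upos f := by
      refine mul_mem ?_ (D.rPt_upos f hpa q)
      have h := D.tPt_upos f hD (invChar τ) (hgf (hnconj u' hu'))
      rwa [← tPt_inv, _root_.inv_inv] at h
    have h := D.neg_mul_nr_mem P nr Δ f hD hG hT hα hΔ hfp hf hn ha hx hv (τ₁ * τ) htail
    refine (?_ : _ = (D.rPt a x)⁻¹ * (v * (D.tPt χ * (u' * D.rPt a s)) * D.rPt (P.reflectionPerm a a) y)) ▸ h
    rw [tPt_mul, show v * (D.tPt χ * (u' * D.rPt a s)) * D.rPt (P.reflectionPerm a a) y =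
      v * (D.tPt χ * (u' * (D.rPt a s * D.rPt (P.reflectionPerm a a) y))) by group, hz,
      show v * (D.tPt χ * (u' * (nr a * (D.tPt τ * D.rPt a q)))) =
        v * (D.tPt χ * nr a * ((nr a)⁻¹ * u' * nr a * (D.tPt τ * D.rPt a q))) by group, hτ₁]
    group

include hD hG hT hα hΔ hfp hf hn in
/-- A subgroup containing the torus, the positive root groups and the simple reflections is everything. -/
theorem mem_of_gen {H : Subgroup (WithConv (A →ₐ[k] k))} (hHT : ∀ χ, D.tPt χ ∈ H) (hHU : D.upos f ≤ H)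
    (hHn : ∀ a ∈ Δ, nr a ∈ H) (g : WithConv (A →ₐ[k] k)) : g ∈ H := by
  obtain ⟨l, u, χ, u', hu, hu', rfl⟩ := D.inBruhat P nr Δ f hD hG hT hα hΔ hfp hf hn g
  have hw := RootData.word_mem_weylGroup (P := P) l
  rw [← hΔ.gen_eq_weylGroup] at hw
  obtain ⟨l', hl', hll⟩ := RootData.exists_word hw
  obtain ⟨χ', hχ'⟩ := D.nw_eq_of_word P nr hG hT hn hll.symm
  rw [hχ']
  refine mul_mem (hHU hu) (mul_mem (mul_mem ?_ (hHT χ')) (mul_mem (hHT χ) (hHU hu')))
  exact list_prod_mem fun p hp => by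
    obtain ⟨a, ha, rfl⟩ := List.mem_map.mp hp
    exact hHn a (hl' a ha)

include hD in
theorem InOmega.mul_right {g : WithConv (A →ₐ[k] k)} (hg : D.InOmega f g) (χ : Multiplicative M →* k)
    {w : WithConv (A →ₐ[k] k)} (hw : w ∈ D.upos f) : D.InOmega f (g * (D.tPt χ * w)) := by
  obtain ⟨v, χ₁, u, hv, hu, rfl⟩ := hg
  refine ⟨v, χ₁ * χ, (D.tPt χ)⁻¹ * u * D.tPt χ * w, hv, mul_mem ?_ hw, by rw [tPt_mul]; group⟩
  have := D.tPt_upos f hD (invChar χ) hu
  rw [← tPt_inv, _root_.inv_inv] at this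
  exact this

include hD hG hT hα hΔ hfp hf hn in
/-- The translates of the big cell by products of chosen simple root points cover the group. -/
theorem exists_translate {x : idx → k} (hx : ∀ a ∈ Δ, x a ≠ 0) (g : WithConv (A →ₐ[k] k)) :
    ∃ l : List idx, (∀ a ∈ l, a ∈ Δ) ∧ D.InOmega f (((l.map fun a => D.rPt a (x a)).prod)⁻¹ * g) := by
  let 𝒮 : Set (WithConv (A →ₐ[k] k)) :=
    {g | ∃ l : List idx, (∀ a ∈ l, a ∈ Δ) ∧ D.InOmega f (((l.map fun a => D.rPt a (x a)).prod)⁻¹ * g)}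
  let H : Subgroup (WithConv (A →ₐ[k] k)) :=
    { carrier := {h | ∀ g ∈ 𝒮, g * h ∈ 𝒮 ∧ g * h⁻¹ ∈ 𝒮}
      one_mem' := fun g hg => by simpa using hg
      mul_mem' := fun {p q} hp hq g hg => ⟨by rw [← _root_.mul_assoc]; exact (hq _ (hp g hg).1).1,
        by rw [_root_.mul_inv_rev, ← _root_.mul_assoc]; exact (hp _ (hq g hg).2).2⟩
      inv_mem' := fun {p} hp g hg => ⟨(hp g hg).2, by rw [_root_.inv_inv]; exact (hp g hg).1⟩ }
  have hHB : ∀ (χ : Multiplicative M →* k) (w : WithConv (A →ₐ[k] k)), w ∈ D.upos f →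
      ∀ g ∈ 𝒮, g * (D.tPt χ * w) ∈ 𝒮 := fun χ w hw g ⟨l, hl, hg⟩ =>
    ⟨l, hl, by rw [← _root_.mul_assoc]; exact hg.mul_right D f hD χ hw⟩
  have hHT : ∀ χ, D.tPt χ ∈ H := fun χ g hg =>
    ⟨by simpa using hHB χ 1 (one_mem _) g hg, by rw [tPt_inv]; simpa using hHB (invChar χ) 1 (one_mem _) g hg⟩
  have hHU : D.upos f ≤ H := fun w hw g hg =>
    ⟨by simpa [tPt_one] using hHB 1 w hw g hg, by simpa [tPt_one] using hHB 1 _ (inv_mem hw) g hg⟩
  have hneg : ∀ a ∈ Δ, ∀ y : k, D.rPt (P.reflectionPerm a a) y ∈ H := fun a ha => by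
    have h : ∀ y : k, ∀ g ∈ 𝒮, g * D.rPt (P.reflectionPerm a a) y ∈ 𝒮 := fun y g ⟨l, hl, hg⟩ => by
      rcases D.omega_mul_neg P nr Δ f hD hG hT hα hΔ hfp hf hn ha (hx a ha) hg y with h | h
      · exact ⟨l, hl, by rw [← _root_.mul_assoc]; exact h⟩
      · refine ⟨l ++ [a], fun b hb => ?_, ?_⟩
        · rcases List.mem_append.mp hb with hb | hb
          · exact hl b hb
          · rw [List.mem_singleton.mp hb]; exact ha
        · rw [List.map_append, List.prod_append, List.map_cons, List.map_nil, List.prod_cons, List.prod_nil,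
            _root_.mul_one, _root_.mul_inv_rev, _root_.mul_assoc, ← _root_.mul_assoc ((List.map _ l).prod)⁻¹]
          exact h
    intro y g hg
    refine ⟨h y g hg, ?_⟩
    rw [show (D.rPt (P.reflectionPerm a a) y)⁻¹ = D.rPt (P.reflectionPerm a a) (-y) from
      inv_eq_of_mul_eq_one_right (by rw [← rPt_add, add_neg_cancel, rPt_zero])]
    exact h (-y) g hg
  have hHn : ∀ a ∈ Δ, nr a ∈ H := fun a ha => by
    obtain ⟨p, τ, q, hpq⟩ := D.exists_nr_eq P nr Δ f hD hG hT hα hΔ hfp hf hn ha one_ne_zero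
    have hpa : 0 < f (D.α a) := (hfp a).mpr (hΔ.subset_posOf ha)
    rw [hpq]
    exact mul_mem (hHU (D.rPt_upos f hpa _)) (mul_mem (hneg a ha p) (mul_mem (hHT τ) (hHU (D.rPt_upos f hpa q))))
  have h1 : (1 : WithConv (A →ₐ[k] k)) ∈ 𝒮 :=
    ⟨[], by simp, 1, 1, 1, one_mem _, one_mem _, by simp [tPt_one]⟩
  have := (D.mem_of_gen P nr Δ f hD hG hT hα hΔ hfp hf hn hHT hHU hHn g 1 h1).1
  rwa [_root_.one_mul] at this

end Chart

end Groth.Agent.RootChartLib
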