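import Groth.Agent.RootChartLib.WeylConj

/-!
# The big cell on points; the rank one Bruhat relation
-/

set_option autoImplicit false
set_option backward.isDefEq.respectTransparency false
set_option backward.isDefEq.respectTransparency.types false

universe u

open CategoryTheory Limits AlgebraicGeometry MonoidalCategory CartesianMonoidalCategory MonObj GrpObj WithConv
open scoped TensorProduct

namespace Groth.Agent.RootChartLib

open GrpSchLib GrpSchLib.AffineHopf GrpSchLib.Kunneth GModLib DynLib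

variable {k : Type u} [Field k] [IsAlgClosed k]

/-- A basic open containing the identity inside an open immersion. -/
theorem exists_fn_of_isOpenImmersion {A B : Type u} [CommRing A] [Algebra k A] [CommRing B] [Algebra k B]
    (φ : A →ₐ[k] B) [IsOpenImmersion (Spec.map (CommRingCat.ofHom φ.toRingHom))] (θ₀ : B →ₐ[k] k) :
    ∃ F : A, θ₀ (φ F) ≠ 0 ∧ ∀ g : A →ₐ[k] k, g F ≠ 0 → ∃ θ : B →ₐ[k] k, θ.comp φ = g := by
  let s := Spec.map (CommRingCat.ofHom φ.toRingHom)
  let x₀ : PrimeSpectrum A := PrimeSpectrum.comap φ.toRingHom ⟨RingHom.ker θ₀.toRingHom, RingHom.ker_isPrime _⟩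
  have hx₀ : x₀ ∈ Set.range s.base := ⟨⟨RingHom.ker θ₀.toRingHom, RingHom.ker_isPrime _⟩, rfl⟩
  obtain ⟨_, ⟨F, rfl⟩, hxF, hsub⟩ := PrimeSpectrum.isTopologicalBasis_basic_opens.exists_subset_of_mem_open hx₀
    s.isOpenEmbedding.isOpen_range
  refine ⟨F, fun h => hxF (show φ F ∈ RingHom.ker θ₀.toRingHom from h), fun g hg => ?_⟩
  let t := Spec.map (CommRingCat.ofHom g.toRingHom)
  have hr : Set.range t.base ⊆ Set.range s.base := by
    rintro _ ⟨p, rfl⟩
    refine hsub ?_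
    show F ∉ (PrimeSpectrum.comap g.toRingHom p).asIdeal
    intro h
    exact p.2.ne_top ((Ideal.eq_top_iff_one _).mpr (by
      have := p.asIdeal.mul_mem_left (g F)⁻¹ h
      rwa [show g.toRingHom F = g F from rfl, inv_mul_cancel₀ hg] at this))
  obtain ⟨θ, hθ⟩ := Spec.map_surjective (IsOpenImmersion.lift s t hr)
  have h1 : φ.toRingHom = φ.toRingHom := rfl
  have hfac : CommRingCat.ofHom φ.toRingHom ≫ θ = CommRingCat.ofHom g.toRingHom := Spec.map_injective (by
    rw [Spec.map_comp, hθ]; exact IsOpenImmersion.lift_fac _ _ hr)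
  have hθg : ∀ a, θ.hom (φ a) = g a := fun a => congrArg (fun q => q.hom a) hfac
  refine ⟨{ θ.hom with commutes' := fun c => ?_ }, AlgHom.ext hθg⟩
  show θ.hom (algebraMap k B c) = c
  rw [← φ.commutes, hθg, g.commutes]
  rfl

namespace Chart

variable {A : Type u} [CommRing A] [HopfAlgebra k A] {M : Type} [AddCommGroup M] [Module.Free ℤ M] [Module.Finite ℤ M]
  [Module.IsTorsionFree ℤ M] [Algebra.Smooth k A] {idx : Type} [Fintype idx] (D : Chart k A M idx)
  (f : M →+ ℤ) (hD : D.GeomFibres) (hf : ∀ r, f (D.α r) ≠ 0) (hG : Red.IsReductiveOver k (sp k A))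
  (hT : AGF.IsMaxTorus D.torHom) {n m : ℕ} (e : Fin m → idx) (em : Fin n → idx) (hp : ∀ i, 0 < f (D.α (e i)))
  (he : Function.Injective e) (hrange : ∀ r, 0 < f (D.α r) → r ∈ Set.range e)
  (hm : ∀ i, f (D.α (em i)) < 0) (hemi : Function.Injective em) (hmrange : ∀ r, f (D.α r) < 0 → r ∈ Set.range em)

/-- The points of the big cell. -/
def InCell (g : WithConv (A →ₐ[k] k)) : Prop := ∃ y χ x, D.cellPt e em y χ x = g

include hD hf hp he hrange hm hemi hmrange in
/-- Two points of the big cell in a connected subgroup. -/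
theorem exists_two_cell {Z : Over (Spec (CommRingCat.of k))} [GrpObj Z] [IsAffine Z.left] [Smooth Z.hom]
    [ConnectedSpace Z.left] (c : Z ⟶ sp k A) [IsMonHom c] {g₀ : WithConv (A →ₐ[k] k)}
    (hg₀ : ∃ z : VecGrp.pt k k ⟶ Z, z ≫ c = gp g₀) :
    ∃ g, (∃ z : VecGrp.pt k k ⟶ Z, z ≫ c = gp g) ∧ D.InCell e em g ∧ D.InCell e em (g₀⁻¹ * g) := by
  haveI := D.isOpenImmersion_cellHom f hD hf e hp he hrange em hm hemi hmrange
  obtain ⟨F, hF0, hF⟩ := exists_fn_of_isOpenImmersion (D.cellHom e em) (cellPoint (fun _ => 0) 1 fun _ => 0)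
  have hF1 : (1 : WithConv (A →ₐ[k] k)).ofConv F ≠ 0 := by
    have h : toConv ((cellPoint (fun _ => 0) 1 fun _ => 0).comp (D.cellHom e em)) = (1 : WithConv (A →ₐ[k] k)) := by
      rw [cellPoint_comp_cellHom, cellPt, prodPt_zero, prodPt_zero, tPt_one, _root_.one_mul, _root_.one_mul]
    rw [← h]; exact hF0
  have hcell : ∀ g : WithConv (A →ₐ[k] k), g.ofConv F ≠ 0 → D.InCell e em g := fun g hg => by
    obtain ⟨θ, hθ⟩ := hF g.ofConv hg
    obtain ⟨y, χ, x, rfl⟩ := exists_eq_cellPoint θ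
    exact ⟨y, χ, x, by rw [← cellPoint_comp_cellHom, hθ]⟩
  let tr : A →ₐ[k] A := (post (Algebra.ofId k A) g₀⁻¹ * toConv (AlgHom.id k A)).ofConv
  have htr : ∀ g : WithConv (A →ₐ[k] k), g.ofConv (tr F) = (g₀⁻¹ * g).ofConv F := fun g => by
    show (post g.ofConv (post (Algebra.ofId k A) g₀⁻¹ * toConv (AlgHom.id k A))).ofConv F = _
    rw [map_mul]
    congr 3
    refine WithConv.ofConv_injective (AlgHom.ext fun x => ?_)
    show g.ofConv (algebraMap k A _) = _
    rw [AlgHom.commutes]; rfl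
  haveI : IrreducibleSpace Z.left := GrpFieldLib.SmoothDense.irreducibleSpace_of_connected Z.hom
  haveI : IsReduced Z.left := GrpSchLib.isReduced_of_smooth_field Z.hom
  have hval : ∀ (z : VecGrp.pt k k ⟶ Z) (g : WithConv (A →ₐ[k] k)), z ≫ c = gp g → ∀ a,
      pullFn z (ev c (fnA a)) = g.ofConv a := fun z g hz a => by rw [pullFn_ev, hz, pullFn_gp]
  obtain ⟨z₁, hz₁⟩ : ∃ z : VecGrp.pt k k ⟶ Z, z ≫ c = gp (1 : WithConv (A →ₐ[k] k)) :=
    ⟨1, by rw [MonObj.one_comp, map_one]⟩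
  obtain ⟨z₀, hz₀⟩ := hg₀
  let O₁ := Z.left.basicOpen (ev c (fnA F))
  let O₂ := Z.left.basicOpen (ev c (fnA (tr F)))
  have h1 : (O₁ : Set Z.left).Nonempty := ⟨_, (mem_basicOpen_iff z₁ _).mpr (by rwa [hval z₁ 1 hz₁])⟩
  have h2 : (O₂ : Set Z.left).Nonempty := ⟨_, (mem_basicOpen_iff z₀ _).mpr (by
    rwa [hval z₀ g₀ hz₀, htr, inv_mul_cancel])⟩
  obtain ⟨z, hz1, hz2⟩ := exists_point_mem (D := Z) (O₁.isOpen.inter O₂.isOpen)
    (nonempty_preirreducible_inter O₁.isOpen O₂.isOpen h1 h2)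
  refine ⟨gp.symm (z ≫ c), ⟨z, (MulEquiv.apply_symm_apply _ _).symm⟩, hcell _ ?_, hcell _ ?_⟩
  · rw [← hval z _ (MulEquiv.apply_symm_apply _ _).symm]; exact (mem_basicOpen_iff z _).mp hz1
  · rw [← htr, ← hval z _ (MulEquiv.apply_symm_apply _ _).symm]; exact (mem_basicOpen_iff z _).mp hz2

include hp he hm hemi in
/-- A cell point commuting with the subtorus of a root has coordinates only at proportional roots. -/
theorem cellPt_inCent (a : idx) {y : Fin n → k} {χ : Multiplicative M →* k} {x : Fin m → k}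
    (hc : D.InCent a f (D.cellPt e em y χ x)) :
    (∀ i, D.qLin a f (D.α (em i)) ≠ 0 → y i = 0) ∧ ∀ i, D.qLin a f (D.α (e i)) ≠ 0 → x i = 0 := by
  have key : ∀ η' : Multiplicative ↥(LinearMap.range (D.qLin a f)) →* k,
      (∀ i, (η'.comp (D.qHom a f)) (Multiplicative.ofAdd (D.α (em i))) * y i = y i) ∧
      ∀ i, (η'.comp (D.qHom a f)) (Multiplicative.ofAdd (D.α (e i))) * x i = x i := fun η' => by
    let τ : Multiplicative M →* k := η'.comp (D.qHom a f)
    have h1 : D.tPt τ * D.cellPt e em y χ x * (D.tPt τ)⁻¹ = D.cellPt e em y χ x := by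
      rw [← (hc η').eq, mul_inv_cancel_right]
    have h2 : D.tPt τ * D.cellPt e em y χ x * (D.tPt τ)⁻¹ =
        D.cellPt e em (fun i => τ (Multiplicative.ofAdd (D.α (em i))) * y i) χ
          (fun i => τ (Multiplicative.ofAdd (D.α (e i))) * x i) := by
      rw [cellPt, cellPt, ← prodPt_conj, ← prodPt_conj]
      have gen : ∀ {W : Type u} [Group W] (t v c w : W), Commute t c →
          t * (v * (c * w)) * t⁻¹ = t * v * t⁻¹ * (c * (t * w * t⁻¹)) := fun t v c w h => by
        calc _ = t * v * (t⁻¹ * (t * c) * w) * t⁻¹ := by group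
          _ = _ := by rw [h.eq]; group
      exact gen _ _ _ _ (D.tPt_comm τ χ)
    obtain ⟨h3, -, h4⟩ := D.cellPt_unique f e em hm hp he hemi (h2.symm.trans h1)
    exact ⟨fun i => congrFun h3 i, fun i => congrFun h4 i⟩
  have kill : ∀ (r : idx) (v : k), (∀ η' : Multiplicative ↥(LinearMap.range (D.qLin a f)) →* k,
      (η'.comp (D.qHom a f)) (Multiplicative.ofAdd (D.α r)) * v = v) → D.qLin a f (D.α r) ≠ 0 → v = 0 := by
    intro r v h hr
    by_contra hv
    refine hr ?_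
    have : (D.qLin a f).rangeRestrict (D.α r) = 0 := eq_of_forall_char (k := k) fun η' => by
      rw [ofAdd_zero, map_one]
      exact mul_right_cancel₀ hv ((h η').trans (_root_.one_mul v).symm)
    exact congrArg Subtype.val this
  exact ⟨fun i => kill _ _ fun η' => (key η').1 i, fun i => kill _ _ fun η' => (key η').2 i⟩

include hD hf hG hT hp he hrange hm hemi hmrange in
/-- The rank one Bruhat relation. -/
theorem rank_one_bruhat {a r : idx} (ha : 0 < f (D.α a)) (hr : D.α r = -D.α a)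
    (hred : ∀ i j, ¬ LinearIndependent ℤ ![D.α i, D.α j] → D.α i = D.α j ∨ D.α i = -D.α j)
    {d : M →+ ℤ} {ν : WithConv (A →ₐ[k] k)} (hn : D.IsRefl a d ν)
    (hconj : ∀ y : k, ∃ y' : k, ν * D.rPt r y * ν⁻¹ = D.rPt a y') {x : k} (hx : x ≠ 0) :
    ∃ (p : k) (τ : Multiplicative M →* k) (q : k), D.rPt r x = D.rPt a p * (ν * (D.tPt τ * D.rPt a q)) := by
  obtain ⟨Z, _, c, hcm, hcc, hZ, hc, -⟩ := D.exists_cent a f hG
  haveI := hcm; haveI := hcc
  obtain ⟨haff, hsm, hcn, -⟩ := hZ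
  haveI := haff; haveI := hsm; haveI := hcn
  obtain ⟨g, hg, ⟨y, χ, v, hcell⟩, y₁, χ₁, v₁, hcell₁⟩ :=
    D.exists_two_cell f hD hf e em hp he hrange hm hemi hmrange c ((hc ν).mpr (hn.inCent f))
  have hgc : D.InCent a f g := (hc g).mp hg
  have hprop : ∀ s, D.qLin a f (D.α s) = 0 → s = a ∨ s = r := fun s hs => by
    rw [qLin_apply] at hs
    have hdep : ¬ LinearIndependent ℤ ![D.α s, D.α a] := fun h => by
      rw [LinearIndependent.pair_iff] at h
      have := (h (f (D.α a)) (-f (D.α s)) (by rw [neg_smul]; rwa [← sub_eq_add_neg])).1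
      omega
    exact (hred s a hdep).imp (fun h => D.α_injective h) fun h => D.α_injective (h.trans hr.symm)
  have hfr : f (D.α r) < 0 := by rw [hr, map_neg]; omega
  have split : ∀ {y : Fin n → k} {χ : Multiplicative M →* k} {v : Fin m → k},
      D.InCent a f (D.cellPt e em y χ v) →
      ∃ (s t : k), D.cellPt e em y χ v = D.rPt r s * (D.tPt χ * D.rPt a t) := fun {y χ v} h => by
    obtain ⟨h1, h2⟩ := D.cellPt_inCent f e em hp he hm hemi a h
    obtain ⟨s, hs⟩ := D.prodPt_mem (H := D.rootGrp r) em y fun i => by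
      by_cases hq : D.qLin a f (D.α (em i)) = 0
      · rcases hprop _ hq with e' | e'
        · exact absurd (hm i) (by rw [e']; omega)
        · rw [e']; exact ⟨_, rfl⟩
      · rw [h1 i hq, rPt_zero]; exact one_mem _
    obtain ⟨t, ht⟩ := D.prodPt_mem (H := D.rootGrp a) e v fun i => by
      by_cases hq : D.qLin a f (D.α (e i)) = 0
      · rcases hprop _ hq with e' | e'
        · rw [e']; exact ⟨_, rfl⟩
        · exact absurd (hp i) (by rw [e']; omega)
      · rw [h2 i hq, rPt_zero]; exact one_mem _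
    exact ⟨s, t, by rw [cellPt, hs, ht]⟩
  obtain ⟨s, t, hst⟩ := split (hcell.symm ▸ hgc)
  obtain ⟨s₁, t₁, hst₁⟩ := split (hcell₁.symm ▸ (InCent.inv (hn.inCent f)).mul hgc)
  obtain ⟨s', hs'⟩ := hconj s₁
  -- the identity with one parameter
  have hneg : ∀ q : k, (D.rPt a q)⁻¹ = D.rPt a (-q) := fun q =>
    inv_eq_of_mul_eq_one_right (by rw [← rPt_add, add_neg_cancel, rPt_zero])
  have hinv : ∀ η' : Multiplicative M →* k, (D.tPt η')⁻¹ = D.tPt (invChar η') := fun η' =>
    inv_eq_of_mul_eq_one_left (by rw [← tPt_mul, invChar_mul, tPt_one])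
  have e0 : D.rPt r s * (D.tPt χ * D.rPt a t) = D.rPt a s' * (ν * (D.tPt χ₁ * D.rPt a t₁)) := by
    calc _ = g := by rw [← hst, hcell]
      _ = ν * (D.rPt r s₁ * (D.tPt χ₁ * D.rPt a t₁)) := by rw [← hst₁, hcell₁, mul_inv_cancel_left]
      _ = _ := by rw [← hs']; group
  obtain ⟨t'', ht''⟩ : ∃ t'' : k, t'' = χ (Multiplicative.ofAdd (D.α a)) * (t₁ + -t) := ⟨_, rfl⟩
  let χi : Multiplicative M →* k := invChar χ
  have e1 : D.rPt r s = D.rPt a s' * (ν * (D.tPt (χ₁ * χi) * D.rPt a t'')) := by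
    rw [ht'', tPt_mul, ← hinv, ← tPt_conj, rPt_add, ← hneg]
    calc D.rPt r s = D.rPt r s * (D.tPt χ * D.rPt a t) * (D.rPt a t)⁻¹ * (D.tPt χ)⁻¹ := by group
      _ = _ := by rw [e0]; group
  have hs0 : s ≠ 0 := by
    intro h0
    rw [h0, rPt_zero] at e1
    obtain ⟨q, τ, hντ⟩ : ∃ (q : k) (τ : Multiplicative M →* k), ν = D.rPt a q * D.tPt τ := by
      refine ⟨-s' + -t'', invChar (χ₁ * χi), ?_⟩
      rw [rPt_add, ← hneg, ← hneg, ← hinv]
      calc ν = (D.rPt a s')⁻¹ * (D.rPt a s' * (ν * (D.tPt (χ₁ * χi) * D.rPt a t''))) * (D.rPt a t'')⁻¹ *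
            (D.tPt (χ₁ * χi))⁻¹ := by group
        _ = _ := by rw [← e1]; group
    obtain ⟨χ', hχ'⟩ := exists_char_ne_one (k := k) (show (2 : ℤ) • D.α a ≠ 0 from smul_ne_zero two_ne_zero (D.α_ne a))
    have hu : ∀ χ₂ : Multiplicative M →* k, χ₂.comp (D.reflHom a d) = χ₂ := fun χ₂ => by
      have h4 : D.tPt χ₂ * D.rPt a (invChar χ₂ (Multiplicative.ofAdd (D.α a)) * q) =
          D.tPt (χ₂.comp (D.reflHom a d)) * D.rPt a q := by
        rw [← tPt_conj, ← hinv, _root_.inv_inv, ← hn.2, hντ,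
          show D.rPt a q * D.tPt τ * D.tPt χ₂ * (D.rPt a q * D.tPt τ)⁻¹ = D.rPt a q * D.tPt χ₂ * (D.rPt a q)⁻¹ from by
            rw [_root_.mul_assoc (D.rPt a q), D.tPt_comm τ χ₂]; group]
        group
      obtain ⟨i, hi⟩ := hrange a ha
      classical
      let single : k → Fin m → k := fun q => Pi.single i q
      have hsg : ∀ q, D.prodPt e (single q) = D.rPt a q := fun q => by rw [← hi]; exact D.prodPt_single e i q
      have h6 : D.cellPt e em (fun _ => 0) χ₂ (single (invChar χ₂ (Multiplicative.ofAdd (D.α a)) * q)) =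
          D.cellPt e em (fun _ => 0) (χ₂.comp (D.reflHom a d)) (single q) := by
        rw [cellPt, cellPt, hsg, hsg, h4]
      exact (D.cellPt_unique f e em hm hp he hemi h6).2.1.symm
    have h7 : χ'.comp (D.reflHom a d) (Multiplicative.ofAdd (D.α a)) = χ' (Multiplicative.ofAdd (D.α a)) := by
      rw [hu]
    rw [MonoidHom.comp_apply, reflHom_apply, hn.1] at h7
    refine hχ' ?_
    have hne : χ' (Multiplicative.ofAdd (D.α a)) ≠ 0 := ((Group.isUnit (Multiplicative.ofAdd (D.α a))).map χ').ne_zero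
    have h8 : χ' (Multiplicative.ofAdd (D.α a - (2 : ℤ) • D.α a)) * χ' (Multiplicative.ofAdd ((2 : ℤ) • D.α a)) =
        χ' (Multiplicative.ofAdd (D.α a)) := by
      rw [← map_mul, ← ofAdd_add, sub_add_cancel]
    rw [h7] at h8
    exact mul_left_cancel₀ hne (h8.trans (_root_.mul_one _).symm)
  obtain ⟨η', hη'⟩ := D.exists_char_value f hfr.ne (div_ne_zero hx hs0)
  have h9 := D.tPt_conj r η' s
  rw [hη', div_mul_cancel₀ x hs0, e1] at h9
  refine ⟨η' (Multiplicative.ofAdd (D.α a)) * s', (η'.comp (D.reflHom a d)) * (χ₁ * χi) * invChar η',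
    η' (Multiplicative.ofAdd (D.α a)) * t'', ?_⟩
  rw [← h9, ← tPt_conj, ← tPt_conj, tPt_mul _ (η'.comp (D.reflHom a d) * _), tPt_mul _ (η'.comp (D.reflHom a d)),
    show D.tPt (invChar η') = (D.tPt η')⁻¹ from (inv_eq_of_mul_eq_one_left (by rw [← tPt_mul, invChar_mul, tPt_one])).symm,
    ← hn.conj_inv]
  group

end Chart

end Groth.Agent.RootChartLib
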