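import Groth.Agent.RootChartLib.Bruhat

/-!
# The cells of the Bruhat decomposition with their coordinates
-/

set_option autoImplicit false
set_option backward.isDefEq.respectTransparency false
set_option backward.isDefEq.respectTransparency.types false

universe u

open CategoryTheory Limits AlgebraicGeometry MonoidalCategory CartesianMonoidalCategory MonObj GrpObj WithConv
open scoped TensorProduct

namespace Groth.Agent.RootChartLib

open GrpSchLib GrpSchLib.AffineHopf GrpSchLib.Kunneth GModLib DynLib RootD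

variable {k : Type u} [Field k] [IsAlgClosed k]

namespace Chart

variable {A : Type u} [CommRing A] [HopfAlgebra k A] {M : Type} [AddCommGroup M] [Module.Free ℤ M] [Module.Finite ℤ M]
  [Module.IsTorsionFree ℤ M] [Algebra.Smooth k A] {idx : Type} [Fintype idx] (D : Chart k A M idx)
  {N : Type} [AddCommGroup N] (P : RootPairing idx ℤ M N) [P.IsReduced] (nr : idx → WithConv (A →ₐ[k] k))
  (Δ : Set idx) (f : M →+ ℤ)
  (hD : D.GeomFibres) (hG : Red.IsReductiveOver k (sp k A)) (hT : AGF.IsMaxTorus D.torHom)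
  (hα : ∀ r, D.α r = P.root r) (hΔ : RootData.Simple P Δ) (hfp : ∀ r, 0 < f (D.α r) ↔ r ∈ posOf P Δ)
  (hf : ∀ r, f (D.α r) ≠ 0)
  (hn : ∀ a χ, nr a * D.tPt χ * (nr a)⁻¹ = D.tPt (χ.comp (P.reflection a).toLinearMap.toAddMonoidHom.toMultiplicative))
  {m : ℕ} (epos : Fin m → idx) (hep : ∀ i, 0 < f (D.α (epos i))) (hei : Function.Injective epos)
  (her : ∀ r, 0 < f (D.α r) → r ∈ Set.range epos)

include hΔ hfp in
theorem neg_iff (r : idx) (hf : f (D.α r) ≠ 0) : f (D.α r) < 0 ↔ r ∉ posOf P Δ := by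
  have _h := hΔ
  rw [← hfp]; omega

include hD hG hT hα hΔ hfp hf hn hep hei her in
/-- Every point lies in a cell with coordinates. -/
theorem exists_bruhat_coords (g : WithConv (A →ₐ[k] k)) :
    ∃ (l : List idx) (n : ℕ) (e : Fin n → idx), Function.Injective e ∧
      (∀ r, r ∈ Set.range e ↔ r ∉ posOf P Δ ∧ (RootData.word P l)⁻¹ • r ∉ posOf P Δ) ∧
      ∃ (y : Fin n → k) (χ : Multiplicative M →* k) (x : Fin m → k),
        g = D.prodPt e y * (nw nr l * (D.tPt χ * D.prodPt epos x)) := by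
  classical
  obtain ⟨l₀, hl₀⟩ := exists_longest P Δ hΔ
  obtain ⟨l₁, u, χ, u', hu, hu', hg⟩ := D.inBruhat P nr Δ f hD hG hT hα hΔ hfp hf hn ((nw nr l₀)⁻¹ * g)
  let l := l₀ ++ l₁
  have hl : nw nr l = nw nr l₀ * nw nr l₁ := by simp [nw, l]
  obtain ⟨n, e, he, herng⟩ : ∃ (n : ℕ) (e : Fin n → idx), Function.Injective e ∧
      ∀ r, r ∈ Set.range e ↔ r ∉ posOf P Δ ∧ (RootData.word P l)⁻¹ • r ∉ posOf P Δ :=
    ⟨_, exists_enum fun r => r ∉ posOf P Δ ∧ (RootData.word P l)⁻¹ • r ∉ posOf P Δ⟩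
  obtain ⟨n', e', he', he'rng⟩ : ∃ (n : ℕ) (e : Fin n → idx), Function.Injective e ∧
      ∀ r, r ∈ Set.range e ↔ r ∉ posOf P Δ ∧ (RootData.word P l)⁻¹ • r ∈ posOf P Δ :=
    ⟨_, exists_enum fun r => r ∉ posOf P Δ ∧ (RootData.word P l)⁻¹ • r ∈ posOf P Δ⟩
  -- the left factor is contracted by the opposite form
  have hu₀ : nw nr l₀ * u * (nw nr l₀)⁻¹ ∈ D.upos (-f) := by
    refine (conj_mem_comap _ _).mp (D.upos_le f hD
      (H := (D.upos (-f)).comap (MulAut.conj (nw nr l₀)).toMonoidHom) (fun r hr x => ?_) hu)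
    rw [conj_mem_comap]
    obtain ⟨y, hy⟩ := D.exists_rPt_word hD P nr hα (D.hred P hα) hn l₀ r x
    rw [show nw nr l₀ * D.rPt r x * (nw nr l₀)⁻¹ = _ from hy]
    refine D.rPt_upos (-f) ?_ y
    rw [AddMonoidHom.neg_apply, Left.neg_pos_iff, D.neg_iff P Δ f hΔ hfp _ (hf _)]
    exact fun h => (hl₀ r).mp h ((hfp r).mp hr)
  let em : Fin (n + n') → idx := Fin.append e e'
  have hem : Function.Injective em := fun i j hij => by
    induction i using Fin.addCases with
    | left i =>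
      induction j using Fin.addCases with
      | left j => simp only [em, Fin.append_left] at hij; rw [he hij]
      | right j =>
        simp only [em, Fin.append_left, Fin.append_right] at hij
        exact absurd ((he'rng _).mp ⟨j, hij.symm⟩).2 ((herng _).mp ⟨i, rfl⟩).2
    | right i =>
      induction j using Fin.addCases with
      | left j =>
        simp only [em, Fin.append_left, Fin.append_right] at hij
        exact absurd ((he'rng _).mp ⟨i, hij⟩).2 ((herng _).mp ⟨j, rfl⟩).2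
      | right j => simp only [em, Fin.append_right] at hij; rw [he' hij]
  have hemp : ∀ i, 0 < (-f) (D.α (em i)) := fun i => by
    rw [AddMonoidHom.neg_apply, Left.neg_pos_iff, D.neg_iff P Δ f hΔ hfp _ (hf _)]
    induction i using Fin.addCases with
    | left i => simp only [em, Fin.append_left]; exact ((herng _).mp ⟨i, rfl⟩).1
    | right i => simp only [em, Fin.append_right]; exact ((he'rng _).mp ⟨i, rfl⟩).1
  obtain ⟨c, hc⟩ := D.exists_prodPt (-f) hD em hemp hem (fun r hr => by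
    rw [AddMonoidHom.neg_apply, Left.neg_pos_iff, D.neg_iff P Δ f hΔ hfp _ (hf _)] at hr
    by_cases h : (RootData.word P l)⁻¹ • r ∈ posOf P Δ
    · obtain ⟨i, hi⟩ := (he'rng r).mpr ⟨hr, h⟩; exact ⟨Fin.natAdd n i, by simp only [em, Fin.append_right, hi]⟩
    · obtain ⟨i, hi⟩ := (herng r).mpr ⟨hr, h⟩; exact ⟨Fin.castAdd n' i, by simp only [em, Fin.append_left, hi]⟩)
    ((D.isU_iff _ _).mpr hu₀)
  let y : Fin n → k := fun i => c (Fin.castAdd n' i)
  let z : Fin n' → k := fun i => c (Fin.natAdd n i)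
  have hsplit : D.prodPt em c = D.prodPt e y * D.prodPt e' z := by
    rw [prodPt_eq_list, prodPt_eq_list, prodPt_eq_list, ← List.prod_append, ← List.ofFn_fin_append]
    congr 1
    refine congrArg List.ofFn (funext fun i => ?_)
    induction i using Fin.addCases with
    | left i => simp [em, y]
    | right i => simp [em, z]
  have hz : (nw nr l)⁻¹ * D.prodPt e' z * nw nr l ∈ D.upos f := by
    have := (conj_mem_comap _ _).mp (D.prodPt_mem (H := (D.upos f).comap (MulAut.conj (nw nr l)⁻¹).toMonoidHom) e' z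
      fun i => ?_)
    · rwa [_root_.inv_inv] at this
    rw [conj_mem_comap, _root_.inv_inv]
    obtain ⟨y', hy'⟩ := D.exists_rPt_word_inv hD P nr hα (D.hred P hα) hn l (e' i) (z i)
    rw [show (nw nr l)⁻¹ * D.rPt (e' i) (z i) * nw nr l = _ from hy']
    exact D.rPt_upos f ((hfp _).mpr ((he'rng _).mp ⟨i, rfl⟩).2) y'
  have htail : (D.tPt χ)⁻¹ * ((nw nr l)⁻¹ * D.prodPt e' z * nw nr l) * D.tPt χ * u' ∈ D.upos f := by
    refine mul_mem ?_ hu'
    have := D.tPt_upos f hD (invChar χ) hz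
    rwa [← tPt_inv, _root_.inv_inv] at this
  obtain ⟨x, hx⟩ := D.exists_prodPt f hD epos hep hei her ((D.isU_iff f _).mpr htail)
  refine ⟨l, n, e, he, herng, y, χ, x, ?_⟩
  rw [hx, show g = nw nr l₀ * u * (nw nr l₀)⁻¹ * (nw nr l * (D.tPt χ * u')) from by
    rw [hl, show g = nw nr l₀ * ((nw nr l₀)⁻¹ * g) by group, hg]; group, ← hc, hsplit]
  group

include hD hG hT hα hΔ hfp hf hn hep hei in
/-- The cells are disjoint. -/
theorem bruhat_coords_unique {l l' : List idx} {n n' : ℕ} {e : Fin n → idx} {e' : Fin n' → idx}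
    (herng : ∀ i, e i ∉ posOf P Δ) (he'rng : ∀ i, e' i ∉ posOf P Δ)
    {y : Fin n → k} {χ : Multiplicative M →* k} {x : Fin m → k} {y' : Fin n' → k} {χ' : Multiplicative M →* k}
    {x' : Fin m → k}
    (h : D.prodPt e y * (nw nr l * (D.tPt χ * D.prodPt epos x)) =
      D.prodPt e' y' * (nw nr l' * (D.tPt χ' * D.prodPt epos x'))) :
    RootData.word P l = RootData.word P l' := by
  classical
  have hneg : ∀ {p : ℕ} (q : Fin p → idx) (w : Fin p → k), (∀ i, q i ∉ posOf P Δ) → D.prodPt q w ∈ D.upos (-f) :=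
    fun q w hq => D.prodPt_mem q w fun i => D.rPt_upos (-f)
      (by rw [AddMonoidHom.neg_apply, Left.neg_pos_iff, D.neg_iff P Δ f hΔ hfp _ (hf _)]; exact hq i) _
  obtain ⟨v, hv, hvl⟩ : ∃ v ∈ D.upos (-f), v * nw nr l =
      nw nr l' * (D.tPt χ' * D.prodPt epos x' * (D.tPt χ * D.prodPt epos x)⁻¹) :=
    ⟨(D.prodPt e' y')⁻¹ * D.prodPt e y, mul_mem (inv_mem (hneg e' y' he'rng)) (hneg e y herng), by
      calc _ = (D.prodPt e' y')⁻¹ * (D.prodPt e y * (nw nr l * (D.tPt χ * D.prodPt epos x))) *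
            (D.tPt χ * D.prodPt epos x)⁻¹ := by group
        _ = _ := by rw [h]; group⟩
  -- sort the contracted factor by the word
  obtain ⟨q₁, e₁, he₁, he₁r⟩ : ∃ (n : ℕ) (e : Fin n → idx), Function.Injective e ∧
      ∀ r, r ∈ Set.range e ↔ r ∉ posOf P Δ ∧ (RootData.word P l)⁻¹ • r ∉ posOf P Δ :=
    ⟨_, exists_enum fun r => r ∉ posOf P Δ ∧ (RootData.word P l)⁻¹ • r ∉ posOf P Δ⟩
  obtain ⟨q₂, e₂, he₂, he₂r⟩ : ∃ (n : ℕ) (e : Fin n → idx), Function.Injective e ∧
      ∀ r, r ∈ Set.range e ↔ r ∉ posOf P Δ ∧ (RootData.word P l)⁻¹ • r ∈ posOf P Δ :=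
    ⟨_, exists_enum fun r => r ∉ posOf P Δ ∧ (RootData.word P l)⁻¹ • r ∈ posOf P Δ⟩
  let em : Fin (q₁ + q₂) → idx := Fin.append e₁ e₂
  have hem : Function.Injective em := fun i j hij => by
    induction i using Fin.addCases with
    | left i =>
      induction j using Fin.addCases with
      | left j => simp only [em, Fin.append_left] at hij; rw [he₁ hij]
      | right j =>
        simp only [em, Fin.append_left, Fin.append_right] at hij
        exact absurd ((he₂r _).mp ⟨j, hij.symm⟩).2 ((he₁r _).mp ⟨i, rfl⟩).2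
    | right i =>
      induction j using Fin.addCases with
      | left j =>
        simp only [em, Fin.append_left, Fin.append_right] at hij
        exact absurd ((he₂r _).mp ⟨i, hij⟩).2 ((he₁r _).mp ⟨j, rfl⟩).2
      | right j => simp only [em, Fin.append_right] at hij; rw [he₂ hij]
  have hemn : ∀ i, f (D.α (em i)) < 0 := fun i => by
    rw [D.neg_iff P Δ f hΔ hfp _ (hf _)]
    induction i using Fin.addCases with
    | left i => simp only [em, Fin.append_left]; exact ((he₁r _).mp ⟨i, rfl⟩).1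
    | right i => simp only [em, Fin.append_right]; exact ((he₂r _).mp ⟨i, rfl⟩).1
  obtain ⟨c, hc⟩ := D.exists_prodPt (-f) hD em (fun i => by simpa using hemn i) hem (fun r hr => by
    rw [AddMonoidHom.neg_apply, Left.neg_pos_iff, D.neg_iff P Δ f hΔ hfp _ (hf _)] at hr
    by_cases h : (RootData.word P l)⁻¹ • r ∈ posOf P Δ
    · obtain ⟨i, hi⟩ := (he₂r r).mpr ⟨hr, h⟩; exact ⟨Fin.natAdd q₁ i, by simp only [em, Fin.append_right, hi]⟩
    · obtain ⟨i, hi⟩ := (he₁r r).mpr ⟨hr, h⟩; exact ⟨Fin.castAdd q₂ i, by simp only [em, Fin.append_left, hi]⟩)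
    ((D.isU_iff _ _).mpr hv)
  have hsplit : D.prodPt em c = D.prodPt e₁ (fun i => c (Fin.castAdd q₂ i)) *
      D.prodPt e₂ (fun i => c (Fin.natAdd q₁ i)) := by
    rw [prodPt_eq_list, prodPt_eq_list, prodPt_eq_list, ← List.prod_append, ← List.ofFn_fin_append]
    congr 1
    refine congrArg List.ofFn (funext fun i => ?_)
    induction i using Fin.addCases with
    | left i => simp [em]
    | right i => simp [em]
  have hconj : ∀ {p : ℕ} (q : Fin p → idx) (w : Fin p → k) (g : M →+ ℤ),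
      (∀ i, 0 < g (D.α ((RootData.word P l)⁻¹ • q i))) →
      (nw nr l)⁻¹ * D.prodPt q w * nw nr l ∈ D.upos g := fun {p} q w g hq => by
    have := (conj_mem_comap _ _).mp (D.prodPt_mem (H := (D.upos g).comap (MulAut.conj (nw nr l)⁻¹).toMonoidHom) q w
      fun i => ?_)
    · rwa [_root_.inv_inv] at this
    rw [conj_mem_comap, _root_.inv_inv]
    obtain ⟨y₁, hy₁⟩ := D.exists_rPt_word_inv hD P nr hα (D.hred P hα) hn l (q i) (w i)
    rw [show (nw nr l)⁻¹ * D.rPt (q i) (w i) * nw nr l = _ from hy₁]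
    exact D.rPt_upos g (hq i) y₁
  have h₁ := hconj e₁ (fun i => c (Fin.castAdd q₂ i)) (-f) fun i => by
    rw [AddMonoidHom.neg_apply, Left.neg_pos_iff, D.neg_iff P Δ f hΔ hfp _ (hf _)]
    exact ((he₁r _).mp ⟨i, rfl⟩).2
  have h₂ := hconj e₂ (fun i => c (Fin.natAdd q₁ i)) f fun i => (hfp _).mpr ((he₂r _).mp ⟨i, rfl⟩).2
  obtain ⟨v₁, hv₁, v₂, hv₂, hv12⟩ : ∃ v₁ ∈ D.upos (-f), ∃ v₂ ∈ D.upos f, v * nw nr l = nw nr l * (v₁ * v₂) :=
    ⟨_, h₁, _, h₂, by rw [← hc, hsplit]; group⟩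
  -- the quotient point is in the big cell
  obtain ⟨τ₁, hτ₁⟩ : ∃ τ, D.tPt χ' * D.prodPt epos x' * (D.tPt χ * D.prodPt epos x)⁻¹ * v₂⁻¹ ∈
      (fun w => D.tPt τ * w) '' (D.upos f : Set (WithConv (A →ₐ[k] k))) := by
    refine ⟨χ' * invChar χ, D.tPt χ * (D.prodPt epos x' * (D.prodPt epos x)⁻¹) * (D.tPt χ)⁻¹ * v₂⁻¹,
      mul_mem (D.tPt_upos f hD χ (mul_mem ?_ (inv_mem ?_))) (inv_mem hv₂), ?_⟩
    · exact D.prodPt_mem epos x' fun i => D.rPt_upos f (hep i) _
    · exact D.prodPt_mem epos x fun i => D.rPt_upos f (hep i) _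
    · show D.tPt (χ' * invChar χ) * _ = _
      rw [tPt_mul, ← tPt_inv]; group
  obtain ⟨w₂, hw₂, hw₂e⟩ := hτ₁
  simp only at hw₂e
  obtain ⟨mn, en, hen, henr⟩ : ∃ (n : ℕ) (e : Fin n → idx), Function.Injective e ∧
      ∀ r, r ∈ Set.range e ↔ f (D.α r) < 0 := ⟨_, exists_enum fun r => f (D.α r) < 0⟩
  obtain ⟨c₁, hc₁⟩ := D.exists_prodPt (-f) hD en (fun i => by simpa using (henr _).mp ⟨i, rfl⟩) hen
    (fun r hr => (henr r).mpr (by simpa using hr)) ((D.isU_iff _ _).mpr hv₁)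
  obtain ⟨mp', ep, hepi, hepr⟩ : ∃ (n : ℕ) (e : Fin n → idx), Function.Injective e ∧
      ∀ r, r ∈ Set.range e ↔ 0 < f (D.α r) := ⟨_, exists_enum fun r => 0 < f (D.α r)⟩
  have hepp : ∀ i, 0 < f (D.α (ep i)) := fun i => (hepr _).mp ⟨i, rfl⟩
  have henn : ∀ i, f (D.α (en i)) < 0 := fun i => (henr _).mp ⟨i, rfl⟩
  have _hei := hei
  -- ν := (nw l')⁻¹ * nw l acts trivially
  have hcomm : ∀ η' : Multiplicative M →* k, Commute (D.tPt η') ((nw nr l')⁻¹ * nw nr l) := by
    let ν := (nw nr l')⁻¹ * nw nr l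
    have hν : ν⁻¹ * (D.tPt τ₁ * w₂) = v₁ := by
      rw [hw₂e]
      have h1 : ν * (v₁ * v₂) = D.tPt χ' * D.prodPt epos x' * (D.tPt χ * D.prodPt epos x)⁻¹ := by
        show (nw nr l')⁻¹ * nw nr l * (v₁ * v₂) = _
        rw [_root_.mul_assoc, ← hv12, hvl, inv_mul_cancel_left]
      rw [← h1]; group
    intro η'
    -- conjugation sends η' to some η''
    obtain ⟨η₁, hη₁⟩ : ∃ η₁, ν * D.tPt η' * ν⁻¹ = D.tPt η₁ := by
      obtain ⟨η₂, hη₂⟩ : ∃ η₂, nw nr l * D.tPt η' * (nw nr l)⁻¹ = D.tPt η₂ := ⟨_, D.conj_word P nr hn l η'⟩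
      obtain ⟨η₃, hη₃⟩ := D.tPt_nw P nr hn l' η₂
      refine ⟨η₃, ?_⟩
      show (nw nr l')⁻¹ * nw nr l * D.tPt η' * ((nw nr l')⁻¹ * nw nr l)⁻¹ = _
      calc _ = (nw nr l')⁻¹ * (nw nr l * D.tPt η' * (nw nr l)⁻¹) * nw nr l' := by group
        _ = _ := by rw [hη₂, _root_.mul_assoc, hη₃, inv_mul_cancel_left]
    obtain ⟨x₂, hx₂⟩ := D.exists_prodPt f hD ep hepp hepi (fun r hr => (hepr r).mpr hr)
      ((D.isU_iff f _).mpr hw₂)
    have hν' : ν = D.tPt τ₁ * w₂ * v₁⁻¹ := by rw [← hν]; group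
    obtain ⟨c₂, hc₂⟩ := D.exists_prodPt (-f) hD en (fun i => by simpa using henn i) hen
      (fun r hr => (henr r).mpr (by simpa using hr)) ((D.isU_iff _ _).mpr (inv_mem hv₁))
    -- ν⁻¹ = v₁ * w₂⁻¹ * tPt τ₁⁻¹ is a cell point
    obtain ⟨x₃, hx₃⟩ := D.exists_prodPt f hD ep hepp hepi (fun r hr => (hepr r).mpr hr)
      ((D.isU_iff f _).mpr (D.tPt_upos f hD τ₁ (inv_mem hw₂)))
    have hcell : ν⁻¹ = D.cellPt ep en c₁ (invChar τ₁) x₃ := by
      rw [cellPt, hc₁, hx₃, hν', ← tPt_inv]; group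
    have h1 : D.tPt η' * D.cellPt ep en c₁ (invChar τ₁) x₃ = D.cellPt ep en c₁ (invChar τ₁) x₃ * D.tPt η₁ := by
      rw [← hcell, ← hη₁]; group
    have hl : D.tPt η' * D.cellPt ep en c₁ (invChar τ₁) x₃ = D.cellPt ep en
        (fun i => η' (Multiplicative.ofAdd (D.α (en i))) * c₁ i) (η' * invChar τ₁) x₃ := by
      rw [cellPt, cellPt, ← prodPt_conj, tPt_mul]; group
    have hr : D.cellPt ep en c₁ (invChar τ₁) x₃ * D.tPt η₁ = D.cellPt ep en c₁ (invChar τ₁ * η₁)
        (fun i => invChar η₁ (Multiplicative.ofAdd (D.α (ep i))) * x₃ i) := by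
      rw [cellPt, cellPt, ← prodPt_conj, tPt_mul, ← D.tPt_inv η₁, ← D.tPt_inv τ₁]; group
    obtain ⟨-, h2, -⟩ := D.cellPt_unique f ep en henn hepp hepi hen (hl.symm.trans (h1.trans hr))
    have heq : η₁ = η' := by
      have h3 : τ₁ * (η' * invChar τ₁) = τ₁ * (invChar τ₁ * η₁) := congrArg (τ₁ * ·) h2
      rw [show τ₁ * (η' * invChar τ₁) = η' * (invChar τ₁ * τ₁) by rw [_root_.mul_comm τ₁, _root_.mul_assoc],
        show τ₁ * (invChar τ₁ * η₁) = invChar τ₁ * τ₁ * η₁ by rw [← _root_.mul_assoc, _root_.mul_comm τ₁],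
        invChar_mul, _root_.mul_one, _root_.one_mul] at h3
      exact h3.symm
    show D.tPt η' * ν = ν * D.tPt η'
    rw [heq] at hη₁
    calc _ = ν * D.tPt η' * ν⁻¹ * ν := by rw [hη₁]
      _ = _ := by group
  have key : ∀ z : M, wEquiv P l z = wEquiv P l' z := fun z => eq_of_forall_char (k := k) fun η' => by
    have h1 := D.conj_word P nr hn l η'
    have h2 := D.conj_word P nr hn l' η'
    have h3 : nw nr l * D.tPt η' * (nw nr l)⁻¹ = nw nr l' * D.tPt η' * (nw nr l')⁻¹ := by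
      calc _ = nw nr l' * ((nw nr l')⁻¹ * nw nr l * D.tPt η') * ((nw nr l')⁻¹ * nw nr l)⁻¹ * (nw nr l')⁻¹ := by group
        _ = _ := by rw [← (hcomm η').eq]; group
    exact DFunLike.congr_fun (D.tPt_injective (h1.symm.trans (h3.trans h2))) (Multiplicative.ofAdd z)
  exact inv_injective (RootData.aut_ext fun z => key z)

end Chart

end Groth.Agent.RootChartLib
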