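import Groth.Agent.RootChartLib.BruhatPts
import Groth.Agent.RootChartLib.CellGeom

/-!
# The Bruhat decomposition of a split reductive group scheme
-/

set_option autoImplicit false
set_option backward.isDefEq.respectTransparency false
set_option backward.isDefEq.respectTransparency.types false

universe u

open CategoryTheory Limits AlgebraicGeometry MonoidalCategory CartesianMonoidalCategory MonObj GrpObj WithConv
open scoped TensorProduct

namespace Groth.Agent.RootChartLib

open GrpSchLib GrpSchLib.AffineHopf GrpSchLib.Kunneth GModLib DynLib RankLib.SplitRedPts H23 RootD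

variable {S : Scheme.{u}}

/-- The morphism from a geometric point. -/
noncomputable def geomHom {W : Over S} {K : Type u} [Field K] (jx : Spec (CommRingCat.of K) ⟶ W.left) :
    (Over.map (jx ≫ W.hom)).obj (sp K K) ⟶ W :=
  Over.homMk jx (by
    show jx ≫ W.hom = Spec.map (CommRingCat.ofHom (algebraMap K K)) ≫ jx ≫ W.hom
    rw [show CommRingCat.ofHom (algebraMap K K) = 𝟙 (CommRingCat.of K) from rfl, Spec.map_id, Category.id_comp])

/-- Every point carries a geometric point. -/
theorem exists_geomPt {W : Over S} (x : ↥W.left) :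
    ∃ (K : Type u) (_ : Field K) (_ : IsAlgClosed K) (a : Spec (CommRingCat.of K) ⟶ S)
      (g : (Over.map a).obj (sp K K) ⟶ W), g.left (IsLocalRing.closedPoint K) = x := by
  let K := AlgebraicClosure (W.left.residueField x)
  let jx : Spec (CommRingCat.of K) ⟶ W.left :=
    Spec.map (CommRingCat.ofHom (algebraMap (W.left.residueField x) K)) ≫ W.left.fromSpecResidueField x
  refine ⟨K, inferInstance, inferInstance, jx ≫ W.hom, geomHom jx, ?_⟩
  show (Spec.map (CommRingCat.ofHom (algebraMap (W.left.residueField x) K)) ≫ W.left.fromSpecResidueField x).base _ = x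
  rw [Scheme.Hom.comp_base, TopCat.coe_comp, Function.comp_apply]
  exact Scheme.fromSpecResidueField_apply x _

/-- Two points with the same image carry a common geometric point. -/
theorem exists_geomPt_pair {W W' G : Over S} (F : W ⟶ G) (F' : W' ⟶ G) {x : ↥W.left} {x' : ↥W'.left}
    (h : F.left x = F'.left x') :
    ∃ (K : Type u) (_ : Field K) (_ : IsAlgClosed K) (a : Spec (CommRingCat.of K) ⟶ S)
      (g : (Over.map a).obj (sp K K) ⟶ W) (g' : (Over.map a).obj (sp K K) ⟶ W'), g ≫ F = g' ≫ F' := by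
  obtain ⟨z, -, -⟩ := Scheme.Pullback.exists_preimage_pullback x x' h
  let P : Over S := Over.mk (pullback.fst F.left F'.left ≫ W.hom)
  obtain ⟨K, _, _, a, g, -⟩ := exists_geomPt (W := P) z
  have hw : pullback.fst F.left F'.left ≫ F.left = pullback.snd F.left F'.left ≫ F'.left := pullback.condition
  let p₁ : P ⟶ W := Over.homMk (pullback.fst F.left F'.left) rfl
  let p₂ : P ⟶ W' := Over.homMk (pullback.snd F.left F'.left) (by
    show _ = pullback.fst F.left F'.left ≫ W.hom
    rw [← Over.w F', ← Over.w F, ← Category.assoc, ← Category.assoc, hw])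
  refine ⟨K, inferInstance, inferInstance, a, g ≫ p₁, g ≫ p₂, ?_⟩
  rw [Category.assoc, Category.assoc]
  congr 1
  exact Over.OverMorphism.ext hw

variable {G : Over S} [GrpObj G] (D : Red.SplitRed G) {K : Type u} [Field K] [IsAlgClosed K]
  (a : Spec (CommRingCat.of K) ⟶ S) {A : Type u} [CommRing A] [HopfAlgebra K A] (ε : Red.bc a G ≅ sp K A)
  [IsMonHom ε.hom] (nr : D.idx → (𝟙_ (Over S) ⟶ G))

/-- The points realising the reflections, in the model. -/
noncomputable def nrA (r : D.idx) : WithConv (A →ₐ[K] K) :=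
  rdA a ε (toUnit ((Over.map a).obj (sp K K)) ≫ nr r)

omit [IsAlgClosed K] in
theorem rdA_inv (g : (Over.map a).obj (sp K K) ⟶ G) : rdA a ε g⁻¹ = (rdA a ε g)⁻¹ :=
  map_inv (MonoidHom.mk' (rdA a ε) (rdA_mul a ε)) g

theorem conj_nrA (hnr : RedSub.RealisesReflections D nr) (r : D.idx) (χ : Multiplicative D.M →* K) :
    nrA D a ε nr r * (chart D a ε).tPt χ * (nrA D a ε nr r)⁻¹ =
      (chart D a ε).tPt (χ.comp (D.P.reflection r).toLinearMap.toAddMonoidHom.toMultiplicative) := by
  rw [← rdA_i, ← rdA_i, nrA, ← rdA_inv, ← rdA_mul, ← rdA_mul, hnr]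
  congr 1
  haveI := isMonHom_i D
  simp only [← Category.assoc]
  congr 1
  refine ch_injective D (MonoidHom.ext fun m => ?_)
  rw [ch, Category.assoc, split_inv_hom]
  refine (congrArg (fun x => CharPts.chi (M := D.M) x m) (Category.comp_id _)).trans ?_
  refine (CharPts.chi_map _ _ m).trans ?_
  show ch D (DSPtsLib.theta a (tpt D a χ)) _ = ch D (DSPtsLib.theta a _) m
  rw [ch_tpt, ch_tpt]
  rfl

theorem rdA_bruhatMap {n m : ℕ} (e : Fin n → D.idx) (epos : Fin m → D.idx) (l : List D.idx) (y : Fin n → K)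
    (χ : Multiplicative D.M →* K) (x : Fin m → K) :
    rdA a ε (omegaPt D a y χ x ≫ RedSub.bruhatMap D nr l e epos) =
      (chart D a ε).prodPt e y * (Chart.nw (nrA D a ε nr) l * ((chart D a ε).tPt χ * (chart D a ε).prodPt epos x)) := by
  rw [RedSub.bruhatMap, MonObj.comp_mul, MonObj.comp_mul, MonObj.comp_mul, omegaPt, lift_fst_assoc, lift_snd_assoc,
    lift_fst_assoc, lift_snd_assoc, lift_snd_assoc, rdA_mul, rdA_mul, rdA_mul, comp_prodMap, comp_prodMap,
    rdA_list_prod, rdA_list_prod, List.map_ofFn, List.map_ofFn, rdA_i, prodPt_eq_list, prodPt_eq_list]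
  congr 1
  · refine congrArg (fun l => (List.ofFn l).prod) (funext fun i => ?_)
    show rdA a ε (powPt _ ≫ powPr _ i ≫ _) = _
    rw [← Category.assoc, powPt_powPr, rdA_u]
  congr 1
  · rw [← Category.assoc, toUnit_unique (lift _ _ ≫ toUnit _) (toUnit _)]
    have h := map_list_prod (MonoidHom.mk' (fun p : 𝟙_ (Over S) ⟶ G => rdA a ε (toUnit ((Over.map a).obj (sp K K)) ≫ p))
      fun p q => by rw [MonObj.comp_mul, rdA_mul]) (l.map nr)
    rw [List.map_map] at h
    exact h
  congr 1
  refine congrArg (fun l => (List.ofFn l).prod) (funext fun i => ?_)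
  show rdA a ε (powPt _ ≫ powPr _ i ≫ _) = _
  rw [← Category.assoc, powPt_powPr, rdA_u]

omit [GrpObj G] in
theorem wordPerm_symm {ix M N : Type} [AddCommGroup M] [AddCommGroup N] [Fintype ix] (P : RootPairing ix ℤ M N)
    (l : List ix) (r : ix) : (RedSub.wordPerm P l).symm r = (RootData.word P l)⁻¹ • r := by
  rw [Equiv.symm_apply_eq, RedSub.wordPerm, ← RootData.word_smul, smul_inv_smul]

theorem mem_negRoots_iff (b : D.P.Base) (r : D.idx) :
    r ∈ RedSub.negRoots D.P b ↔ r ∉ posOf D.P (b.support : Set D.idx) := by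
  obtain ⟨f, hf, hfp, hfn⟩ := exists_base_functional b
  show _ ↔ r ∉ RedSub.posRoots D.P b
  rw [← hfn, ← hfp]
  have := hf r
  omega

include D a in
omit [IsAlgClosed K] in
theorem isReduced_datum [IsAlgClosed K] : D.P.IsReduced :=
  ⟨fun i j h => root_eq_or_eq_neg D a (model D a).iso i j h⟩

/-- Every point lies in a Bruhat cell. -/
theorem exists_mem_bruhatCell (D : Red.SplitRed G) (b : D.P.Base) {m : ℕ} (epos : Fin m → D.idx)
    (hpos : RedSub.Enumerates (RedSub.posRoots D.P b) epos)
    (nr : D.idx → (𝟙_ (Over S) ⟶ G)) (hnr : RedSub.RealisesReflections D nr) (x : ↥G.left) :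
    ∃ (l : List D.idx) (k : ℕ) (e : Fin k → D.idx),
      RedSub.Enumerates (RedSub.negMeetNeg D.P b (RedSub.wordPerm D.P l)) e ∧
        x ∈ Set.range (RedSub.bruhatMap D nr l e epos).left.base := by
  classical
  obtain ⟨K, _, _, a, g, hg⟩ := exists_geomPt x
  let ε := (model D a).iso
  haveI : IsMonHom ε.hom := (model D a).isMonHom
  haveI := smooth_model D a ε
  haveI := isReduced_datum D a
  obtain ⟨f, hf, hfp, hfn⟩ := exists_base_functional b
  obtain ⟨l, n, e, he, her, y, χ, v, hgv⟩ := (chart D a ε).exists_bruhat_coords D.P (nrA D a ε nr)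
    (b.support : Set D.idx) f (geomFibres D a ε) (isReductiveOver_model D a ε) (isMaxTorus_torHom D a ε)
    (fun r => rfl) (RootData.Simple.of_base b) hfp hf (conj_nrA D a ε nr hnr) epos
    (fun i => (hfp _).mpr (hpos.2 ▸ ⟨i, rfl⟩)) hpos.1 (fun r hr => hpos.2.symm ▸ (hfp r).mp hr) (rdA a ε g)
  refine ⟨l, n, e, ⟨he, Set.ext fun r => ?_⟩, ?_⟩
  · rw [her]
    show _ ↔ r ∈ RedSub.negRoots D.P b ∧ _ ∈ RedSub.negRoots D.P b
    rw [mem_negRoots_iff, mem_negRoots_iff, wordPerm_symm]
  · have h : g = omegaPt D a y χ v ≫ RedSub.bruhatMap D nr l e epos :=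
      rdA_injective a ε (by rw [rdA_bruhatMap]; exact hgv)
    rw [← hg, h]
    exact ⟨_, rfl⟩

/-- The Bruhat cells are disjoint. -/
theorem bruhatCell_disjoint (D : Red.SplitRed G) (b : D.P.Base) {m : ℕ} (epos : Fin m → D.idx)
    (hpos : RedSub.Enumerates (RedSub.posRoots D.P b) epos)
    (nr : D.idx → (𝟙_ (Over S) ⟶ G)) (hnr : RedSub.RealisesReflections D nr)
    (l l' : List D.idx) (k k' : ℕ) (e : Fin k → D.idx) (e' : Fin k' → D.idx) (x : ↥G.left)
    (he : RedSub.Enumerates (RedSub.negMeetNeg D.P b (RedSub.wordPerm D.P l)) e)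
    (he' : RedSub.Enumerates (RedSub.negMeetNeg D.P b (RedSub.wordPerm D.P l')) e')
    (h : x ∈ Set.range (RedSub.bruhatMap D nr l e epos).left.base)
    (h' : x ∈ Set.range (RedSub.bruhatMap D nr l' e' epos).left.base) :
    RedSub.wordPerm D.P l = RedSub.wordPerm D.P l' := by
  classical
  obtain ⟨w, hw⟩ := h
  obtain ⟨w', hw'⟩ := h'
  obtain ⟨K, _, _, a, g, g', hgg⟩ := exists_geomPt_pair (RedSub.bruhatMap D nr l e epos)
    (RedSub.bruhatMap D nr l' e' epos) (hw.trans hw'.symm)
  let ε := (model D a).iso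
  haveI : IsMonHom ε.hom := (model D a).isMonHom
  haveI := smooth_model D a ε
  haveI := isReduced_datum D a
  obtain ⟨f, hf, hfp, hfn⟩ := exists_base_functional b
  obtain ⟨y, χ, v, rfl⟩ := exists_eq_omegaPt D a g
  obtain ⟨y', χ', v', rfl⟩ := exists_eq_omegaPt D a g'
  have hrd := congrArg (rdA a ε) hgg
  rw [rdA_bruhatMap, rdA_bruhatMap] at hrd
  have hnot : ∀ {q : ℕ} {e : Fin q → D.idx} {L : List D.idx},
      RedSub.Enumerates (RedSub.negMeetNeg D.P b (RedSub.wordPerm D.P L)) e →
      ∀ i, e i ∉ posOf D.P (b.support : Set D.idx) := fun {q e L} h i => by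
    have h0 : e i ∈ RedSub.negMeetNeg D.P b (RedSub.wordPerm D.P L) := h.2 ▸ Set.mem_range_self i
    have h1 : e i ∈ RedSub.negRoots D.P b := h0.1
    exact (mem_negRoots_iff D b _).mp h1
  have hword := (chart D a ε).bruhat_coords_unique D.P (nrA D a ε nr)
    (b.support : Set D.idx) f (geomFibres D a ε) (isReductiveOver_model D a ε) (isMaxTorus_torHom D a ε)
    (fun r => rfl) (RootData.Simple.of_base b) hfp hf (conj_nrA D a ε nr hnr) epos
    (fun i => (hfp _).mpr (hpos.2 ▸ ⟨i, rfl⟩)) hpos.1 (hnot he) (hnot he') hrd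
  refine Equiv.ext fun i => ?_
  rw [RedSub.wordPerm, RedSub.wordPerm, ← RootData.word_smul, ← RootData.word_smul, hword]

end Groth.Agent.RootChartLib
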