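import Groth.Agent.RootChartLib.Torus

/-!
# The big cell of a chart
-/

set_option autoImplicit false
set_option backward.isDefEq.respectTransparency false
set_option backward.isDefEq.respectTransparency.types false

universe u

open WithConv AlgebraicGeometry CategoryTheory
open scoped TensorProduct LaurentPolynomial

namespace Groth.Agent.RootChartLib

open DynLib DynSm

namespace Chart

variable {R : Type u} [CommRing R] {A : Type u} [CommRing A] [HopfAlgebra R A] {M : Type} [AddCommGroup M]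
  {idx : Type} (D : Chart R A M idx) {C : Type u} [CommRing C] [Algebra R C]

/-- The geometric fibres are connected of dimension at most the rank plus the number of roots. -/
def GeomFibres [Fintype idx] (_D : Chart R A M idx) : Prop :=
  ∀ (L : Type u) [Field L] [IsAlgClosed L] [Algebra R L],
    ringKrullDim (L ⊗[R] A) ≤ ((Module.finrank ℤ M + Fintype.card idx : ℕ) : WithBot ℕ∞) ∧
      ∀ e : L ⊗[R] A, IsIdempotentElem e → e = 0 ∨ e = 1

variable [Algebra.Smooth R A] (f : M →+ ℤ)

theorem isP_restr (L : Type u) [CommRing L] [Algebra R L] [Algebra L C] [IsScalarTower R L C]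
    (g : WithConv (L ⊗[R] A →ₐ[L] C)) : (D.baseChange L).IsP f g ↔ D.IsP f (restr L g) :=
  (represents_idealP _ C g.ofConv).trans ((D.limExists_restr L f g).trans (represents_idealP _ C _).symm)

theorem isZ_restr (L : Type u) [CommRing L] [Algebra R L] [Algebra L C] [IsScalarTower R L C]
    (g : WithConv (L ⊗[R] A →ₐ[L] C)) (h : D.IsZ f (restr L g)) : (D.baseChange L).IsZ f g := fun a ha => by
  have h1 : idealP ((D.baseChange L).lam f) ≤ RingHom.ker g.ofConv :=
    (D.isP_restr f L g).mpr fun b hb => h b (Ideal.mem_sup_left hb)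
  have h2 : idealP ((D.baseChange L).lam (-f)) ≤ RingHom.ker g.ofConv :=
    (D.isP_restr (-f) L g).mpr fun b hb => h b (Ideal.mem_sup_right hb)
  exact sup_le h1 h2 ha

theorem isU_restr (L : Type u) [CommRing L] [Algebra R L] [Algebra L C] [IsScalarTower R L C]
    (g : WithConv (L ⊗[R] A →ₐ[L] C)) (h : D.IsU f (restr L g)) : (D.baseChange L).IsU f g :=
  (represents_idealU _ C g.ofConv).mpr (D.limIsOne_restr L f g ((represents_idealU _ C _).mp h))

variable [Module.Free ℤ M] [Module.Finite ℤ M] [Fintype idx] (hD : D.GeomFibres) (hf : ∀ r, f (D.α r) ≠ 0)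

include hD hf in
theorem torQ_bijective : Function.Bijective (D.torQ f) := by
  haveI := finitePresentation_monoidAlgebra R M
  haveI : Algebra.FinitePresentation R (A ⧸ D.idealZ f) :=
    Algebra.FinitePresentation.quotient (Submodule.FG.sup (fg_idealP _) (fg_idealP _))
  refine ⟨injective_of_geomFibres _ (D.torQ_surjective f) fun L _ _ _ z hz => ?_, D.torQ_surjective f⟩
  let π : L ⊗[R] A →ₐ[L] L ⊗[R] (A ⧸ D.idealZ f) :=
    Algebra.TensorProduct.map (AlgHom.id L L) (Ideal.Quotient.mkₐ R (D.idealZ f))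
  obtain ⟨y, rfl⟩ : ∃ y, π y = z := by
    clear hz
    induction z using TensorProduct.induction_on with
    | zero => exact ⟨0, map_zero _⟩
    | tmul c q => obtain ⟨a, rfl⟩ := Ideal.Quotient.mk_surjective q; exact ⟨c ⊗ₜ a, rfl⟩
    | add p q hp hq => obtain ⟨a, rfl⟩ := hp; obtain ⟨b, rfl⟩ := hq; exact ⟨a + b, map_add _ _ _⟩
  have hy : (D.torQ f).toLinearMap.lTensor L (π y) =
      Algebra.TensorProduct.map (AlgHom.id L L) (D.tor : A →ₐ[R] MonoidAlgebra R (Multiplicative M)) y := by
    clear hz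
    induction y using TensorProduct.induction_on with
    | zero => simp
    | tmul c a => rfl
    | add p q hp hq => rw [map_add, map_add, map_add, hp, hq]
  have h0 : (D.baseChange L).torQ f (Ideal.Quotient.mk _ y) = 0 := by
    show grpAlgBC L (Algebra.TensorProduct.map (AlgHom.id L L) (D.tor : A →ₐ[R] MonoidAlgebra R (Multiplicative M)) y) = 0
    rw [← hy, hz, map_zero]
  have hmem := (D.baseChange L).torQ_injective_field (hD L).1 (hD L).2 f hf (h0.trans (map_zero _).symm)
  refine D.isZ_restr f L (toConv π) (fun a ha => ?_) y (Ideal.Quotient.eq_zero_iff_mem.mp hmem)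
  show (1 : L) ⊗ₜ[R] Ideal.Quotient.mk (D.idealZ f) a = 0
  rw [Ideal.Quotient.eq_zero_iff_mem.mpr ha, TensorProduct.tmul_zero]

variable {m : ℕ} (e : Fin m → idx) (hp : ∀ i, 0 < f (D.α (e i))) (he : Function.Injective e)
  (hrange : ∀ r, 0 < f (D.α r) → r ∈ Set.range e)

include hD hp he hrange in
theorem ker_Phi : ∀ a, D.Phi e a = 0 → a ∈ idealU (D.lam f) := by
  let φ : A ⧸ idealU (D.lam f) →ₐ[R] MvPolynomial (Fin m) R :=
    Ideal.Quotient.liftₐ _ (D.Phi e) fun a ha => D.isU_prodPt f e hp MvPolynomial.X a ha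
  have hs : Function.Surjective φ := fun p => by
    obtain ⟨a, rfl⟩ := D.Phi_surjective f e hp he p
    exact ⟨Ideal.Quotient.mk _ a, rfl⟩
  haveI : Algebra.FinitePresentation R (A ⧸ idealU (D.lam f)) := Algebra.FinitePresentation.quotient (fg_idealU _)
  suffices h : Function.Injective φ by
    intro a ha
    exact Ideal.Quotient.eq_zero_iff_mem.mp (h (ha.trans (map_zero φ).symm))
  refine injective_of_geomFibres φ hs fun L _ _ _ z hz => ?_
  let π : L ⊗[R] A →ₐ[L] L ⊗[R] (A ⧸ idealU (D.lam f)) :=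
    Algebra.TensorProduct.map (AlgHom.id L L) (Ideal.Quotient.mkₐ R (idealU (D.lam f)))
  obtain ⟨y, rfl⟩ : ∃ y, π y = z := by
    clear hz
    induction z using TensorProduct.induction_on with
    | zero => exact ⟨0, map_zero _⟩
    | tmul c q => obtain ⟨a, rfl⟩ := Ideal.Quotient.mk_surjective q; exact ⟨c ⊗ₜ a, rfl⟩
    | add p q hp hq => obtain ⟨a, rfl⟩ := hp; obtain ⟨b, rfl⟩ := hq; exact ⟨a + b, map_add _ _ _⟩
  let q : L ⊗[R] MvPolynomial (Fin m) R →ₐ[L] MvPolynomial (Fin m) L :=
    Algebra.TensorProduct.lift (Algebra.ofId L _) (MvPolynomial.aeval MvPolynomial.X) fun _ _ => Commute.all _ _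
  have hPhi : (D.baseChange L).Phi e = q.comp (Algebra.TensorProduct.map (AlgHom.id L L) (D.Phi e)) := by
    refine congrArg WithConv.ofConv (restr_injective L (?_ : restr L _ =
      restr L (toConv (q.comp (Algebra.TensorProduct.map (AlgHom.id L L) (D.Phi e))))))
    rw [restr_prodPt, prodPt_eq]
    refine WithConv.ofConv_injective (AlgHom.ext fun a => ?_)
    rw [ofConv_toConv, restr_apply, ofConv_toConv, AlgHom.comp_apply, AlgHom.comp_apply,
      Algebra.TensorProduct.map_tmul, AlgHom.id_apply, Algebra.TensorProduct.lift_tmul, map_one, _root_.one_mul]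
  have hy : φ.toLinearMap.lTensor L (π y) = Algebra.TensorProduct.map (AlgHom.id L L) (D.Phi e) y := by
    clear hz
    induction y using TensorProduct.induction_on with
    | zero => simp
    | tmul c a => rfl
    | add p q hp hq => rw [map_add, map_add, map_add, hp, hq]
  have h0 : y ∈ RingHom.ker ((D.baseChange L).Phi e) := by
    rw [RingHom.mem_ker, hPhi, AlgHom.comp_apply, ← hy, hz, map_zero]
  refine D.isU_restr f L (toConv π) (fun a ha => ?_) y
    ((D.baseChange L).ker_Phi_le f e (hD L).1 he hp hrange h0)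
  show (1 : L) ⊗ₜ[R] Ideal.Quotient.mk (idealU (D.lam f)) a = 0
  rw [Ideal.Quotient.eq_zero_iff_mem.mpr ha, TensorProduct.tmul_zero]

include hD hf in
theorem exists_tPt {z : WithConv (A →ₐ[R] C)} (hz : D.IsZ f z) : ∃ χ, D.tPt χ = z := by
  let eq := AlgEquiv.ofBijective (D.torQ f) (D.torQ_bijective f hD hf)
  let ρ : MonoidAlgebra R (Multiplicative M) →ₐ[R] C := (Ideal.Quotient.liftₐ _ z.ofConv hz).comp eq.symm.toAlgHom
  refine ⟨(MonoidAlgebra.lift R C (Multiplicative M)).symm ρ, WithConv.ofConv_injective (AlgHom.ext fun a => ?_)⟩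
  rw [tPt_apply, Equiv.apply_symm_apply]
  show Ideal.Quotient.liftₐ _ z.ofConv hz (eq.symm (eq (Ideal.Quotient.mk _ a))) = _
  rw [AlgEquiv.symm_apply_apply]
  rfl

include hD hp he hrange in
theorem exists_prodPt {v : WithConv (A →ₐ[R] C)} (hv : D.IsU f v) : ∃ c, D.prodPt e c = v := by
  choose a ha using fun i => D.Phi_surjective f e hp he (MvPolynomial.X i)
  refine ⟨fun i => v.ofConv (a i), ?_⟩
  rw [prodPt_eq]
  refine WithConv.ofConv_injective (AlgHom.ext fun b => ?_)
  rw [ofConv_toConv, AlgHom.comp_apply]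
  let q : MvPolynomial (Fin m) R →ₐ[R] A := MvPolynomial.aeval a
  have hq : ∀ p, D.Phi e (q p) = p := fun p =>
    DFunLike.congr_fun (show (D.Phi e).comp q = AlgHom.id R _ from MvPolynomial.algHom_ext fun i => by simp [q, ha]) p
  have h1 : b - q (D.Phi e b) ∈ idealU (D.lam f) := D.ker_Phi f hD e hp he hrange _ (by rw [map_sub, hq, sub_self])
  have h2 := hv _ h1
  rw [map_sub, sub_eq_zero] at h2
  rw [h2, ← AlgHom.comp_apply v.ofConv q]
  exact DFunLike.congr_fun (MvPolynomial.comp_aeval a v.ofConv).symm _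

theorem prodPt_injective (hp : ∀ i, 0 < f (D.α (e i))) (he : Function.Injective e) :
    Function.Injective (D.prodPt e : (Fin m → C) → _) := fun c c' h => funext fun i => by
  obtain ⟨a, ha⟩ := D.Phi_surjective f e hp he (MvPolynomial.X i)
  have h1 := congrArg (fun w : WithConv (A →ₐ[R] C) => w.ofConv a) h
  simp only [prodPt_eq, ofConv_toConv, AlgHom.comp_apply, ha, MvPolynomial.aeval_X] at h1
  exact h1

include hD hf hp he hrange in
theorem exists_tPt_mul_prodPt {g : WithConv (A →ₐ[R] C)} (hg : D.IsP f g) :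
    ∃ χ c, D.tPt χ * D.prodPt e c = g := by
  obtain ⟨z, v, hz, hv, rfl, _⟩ := D.exists_levi f hg
  obtain ⟨χ, rfl⟩ := D.exists_tPt f hD hf hz
  obtain ⟨c, rfl⟩ := D.exists_prodPt f hD e hp he hrange hv
  exact ⟨χ, c, rfl⟩

theorem isP_tPt_mul (χ : Multiplicative M →* C) (hp : ∀ i, 0 < f (D.α (e i))) (c : Fin m → C) :
    D.IsP f (D.tPt χ * D.prodPt e c) :=
  D.isP_mul f (D.tPt_kills_idealZ f χ) (D.isU_prodPt f e hp c)

theorem tPt_mul_prodPt_unique (hp : ∀ i, 0 < f (D.α (e i))) (he : Function.Injective e)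
    {χ χ' : Multiplicative M →* C} {c c' : Fin m → C} (h : D.tPt χ * D.prodPt e c = D.tPt χ' * D.prodPt e c') :
    χ = χ' ∧ c = c' := by
  obtain ⟨h1, h2⟩ := D.levi_unique f (D.tPt_kills_idealZ f χ) (D.isU_prodPt f e hp c) (D.tPt_kills_idealZ f χ')
    (D.isU_prodPt f e hp c') h
  exact ⟨D.tPt_injective h1, D.prodPt_injective f e hp he h2⟩

/-! ### The big cell -/

variable {n : ℕ} (em : Fin n → idx) (hm : ∀ i, f (D.α (em i)) < 0) (hemi : Function.Injective em)
  (hmrange : ∀ r, f (D.α r) < 0 → r ∈ Set.range em)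

/-- Points of the big cell. -/
noncomputable def cellPt (y : Fin n → C) (χ : Multiplicative M →* C) (x : Fin m → C) : WithConv (A →ₐ[R] C) :=
  D.prodPt em y * (D.tPt χ * D.prodPt e x)

theorem post_cellPt {C' : Type u} [CommRing C'] [Algebra R C'] (φ : C →ₐ[R] C') (y : Fin n → C)
    (χ : Multiplicative M →* C) (x : Fin m → C) :
    post φ (D.cellPt e em y χ x) = D.cellPt e em (φ ∘ y) ((φ : C →* C').comp χ) (φ ∘ x) := by
  simp only [cellPt, map_mul, post_tPt, post_prodPt]

include hm in
theorem cellPt_unique (hp : ∀ i, 0 < f (D.α (e i))) (he : Function.Injective e) (hemi : Function.Injective em)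
    {y y' : Fin n → C} {χ χ' : Multiplicative M →* C} {x x' : Fin m → C}
    (h : D.cellPt e em y χ x = D.cellPt e em y' χ' x') : y = y' ∧ χ = χ' ∧ x = x' := by
  have hm' : ∀ i, 0 < (-f) (D.α (em i)) := fun i => by simpa using hm i
  have h1 : (D.prodPt em y')⁻¹ * D.prodPt em y = (D.tPt χ' * D.prodPt e x') * (D.tPt χ * D.prodPt e x)⁻¹ := by
    rw [eq_mul_inv_iff_mul_eq, _root_.mul_assoc, inv_mul_eq_iff_eq_mul]
    exact h
  have h2 : (D.prodPt em y')⁻¹ * D.prodPt em y = 1 := by
    refine eq_one_of_both (lam := D.lam f) (lamNeg := D.lam (-f)) (D.lam_neg f) ?_ ?_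
    · rw [h1]
      exact (mem_limSubgroup _ _).mp (Subgroup.mul_mem _ ((D.isP_iff f _).mp (D.isP_tPt_mul f e χ' hp x'))
        (Subgroup.inv_mem _ ((D.isP_iff f _).mp (D.isP_tPt_mul f e χ hp x))))
    · exact (mem_limOneSubgroup _ _).mp (Subgroup.mul_mem _
        (Subgroup.inv_mem _ ((D.isU_iff (-f) _).mp (D.isU_prodPt (-f) em hm' y')))
        ((D.isU_iff (-f) _).mp (D.isU_prodPt (-f) em hm' y)))
  have hy := D.prodPt_injective (-f) em hm' hemi (inv_mul_eq_one.mp h2).symm
  subst hy
  exact ⟨rfl, D.tPt_mul_prodPt_unique f e hp he (mul_left_cancel h)⟩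

/-- The coordinate ring of the big cell. -/
abbrev CellRing (R : Type u) [CommRing R] (M : Type) [AddCommGroup M] (n m : ℕ) : Type u :=
  MvPolynomial (Fin n ⊕ Fin m) (MonoidAlgebra R (Multiplicative M))

/-- The big cell, on functions. -/
noncomputable def cellHom : A →ₐ[R] CellRing R M n m :=
  (D.cellPt e em (fun i => MvPolynomial.X (Sum.inl i))
    ((algebraMap (MonoidAlgebra R (Multiplicative M)) (CellRing R M n m) : _ →* _).comp
      (MonoidAlgebra.of R (Multiplicative M))) fun i => MvPolynomial.X (Sum.inr i)).ofConv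

/-- A point of the coordinate ring of the cell. -/
noncomputable def cellPoint (y : Fin n → C) (χ : Multiplicative M →* C) (x : Fin m → C) : CellRing R M n m →ₐ[R] C :=
  letI := (MonoidAlgebra.lift R C (Multiplicative M) χ).toRingHom.toAlgebra
  haveI : IsScalarTower R (MonoidAlgebra R (Multiplicative M)) C :=
    IsScalarTower.of_algebraMap_eq fun r => ((MonoidAlgebra.lift R C (Multiplicative M) χ).commutes r).symm
  (MvPolynomial.aeval (R := MonoidAlgebra R (Multiplicative M)) (Sum.elim y x)).restrictScalars R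

theorem cellPoint_X (y : Fin n → C) (χ : Multiplicative M →* C) (x : Fin m → C) (i : Fin n ⊕ Fin m) :
    cellPoint (R := R) y χ x (MvPolynomial.X i) = Sum.elim y x i := by
  letI := (MonoidAlgebra.lift R C (Multiplicative M) χ).toRingHom.toAlgebra
  exact MvPolynomial.aeval_X _ i

theorem cellPoint_C (y : Fin n → C) (χ : Multiplicative M →* C) (x : Fin m → C)
    (p : MonoidAlgebra R (Multiplicative M)) :
    cellPoint y χ x (algebraMap _ (CellRing R M n m) p) = MonoidAlgebra.lift R C (Multiplicative M) χ p := by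
  letI := (MonoidAlgebra.lift R C (Multiplicative M) χ).toRingHom.toAlgebra
  exact MvPolynomial.aeval_C _ p

theorem cellPoint_comp_cellHom (y : Fin n → C) (χ : Multiplicative M →* C) (x : Fin m → C) :
    toConv ((cellPoint y χ x).comp (D.cellHom e em)) = D.cellPt e em y χ x := by
  show post (cellPoint y χ x) (D.cellPt e em _ _ _) = _
  rw [post_cellPt]
  congr 1
  · exact funext fun i => cellPoint_X y χ x _
  · exact MonoidHom.ext fun m => (cellPoint_C y χ x _).trans (MonoidAlgebra.lift_of _ m)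
  · exact funext fun i => cellPoint_X y χ x _

theorem exists_eq_cellPoint (θ : CellRing R M n m →ₐ[R] C) : ∃ y χ x, θ = cellPoint y χ x := by
  refine ⟨fun i => θ (MvPolynomial.X (Sum.inl i)),
    ((θ : CellRing R M n m →* C).comp (algebraMap (MonoidAlgebra R (Multiplicative M)) (CellRing R M n m) : _ →* _)).comp
      (MonoidAlgebra.of R (Multiplicative M)), fun i => θ (MvPolynomial.X (Sum.inr i)), ?_⟩
  refine AlgHom.coe_ringHom_injective (MvPolynomial.ringHom_ext (fun p => ?_) fun i => ?_)
  · refine Eq.trans ?_ (cellPoint_C _ _ _ p).symm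
    exact DFunLike.congr_fun (MonoidAlgebra.algHom_ext (φ₁ := θ.comp (IsScalarTower.toAlgHom R
      (MonoidAlgebra R (Multiplicative M)) (CellRing R M n m))) (fun m => by simp) (by ext)) p
  · refine Eq.trans ?_ (cellPoint_X _ _ _ i).symm
    rcases i with i | i <;> rfl

include hD hf hp he hrange hm hemi hmrange in
/-- The big cell is open in the group. -/
theorem isOpenImmersion_cellHom : IsOpenImmersion (Spec.map (CommRingCat.ofHom (D.cellHom e em).toRingHom)) := by
  haveI := finitePresentation_monoidAlgebra R M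
  haveI : Algebra.FinitePresentation R (CellRing R M n m) := Algebra.FinitePresentation.mvPolynomial R _ _
  refine isOpenImmersion_of_points (D.cellHom e em) (fun C _ _ θ θ' h => ?_) (fun C _ _ I hI g φ hφ => ?_)
  · obtain ⟨y, χ, x, rfl⟩ := exists_eq_cellPoint θ
    obtain ⟨y', χ', x', rfl⟩ := exists_eq_cellPoint θ'
    have h' := congrArg toConv h
    rw [cellPoint_comp_cellHom, cellPoint_comp_cellHom] at h'
    obtain ⟨rfl, rfl, rfl⟩ := D.cellPt_unique f e em hm hp he hemi h'
    rfl
  · have hm' : ∀ i, 0 < (-f) (D.α (em i)) := fun i => by simpa using hm i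
    have hmr : ∀ r, 0 < (-f) (D.α r) → r ∈ Set.range em := fun r hr => hmrange r (by simpa using hr)
    obtain ⟨y, χ, x, rfl⟩ := exists_eq_cellPoint φ
    have hφ' := congrArg toConv hφ
    rw [cellPoint_comp_cellHom] at hφ'
    let fc : (A ⧸ idealU (D.lam (-f))) ⊗[R] (A ⧸ idealP (D.lam f)) →ₐ[R] C ⧸ I :=
      Algebra.TensorProduct.productMap (Ideal.Quotient.liftₐ _ (D.prodPt em y).ofConv (D.isU_prodPt (-f) em hm' y))
        (Ideal.Quotient.liftₐ _ (D.tPt χ * D.prodPt e x).ofConv (D.isP_tPt_mul f e χ hp x))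
    have hfc : fc.comp (DynSm.cell _ _) = (Ideal.Quotient.mkₐ R I).comp g := by
      refine congrArg WithConv.ofConv (?_ : toConv (fc.comp (DynSm.cell _ _)) = toConv ((Ideal.Quotient.mkₐ R I).comp g))
      rw [toConv_comp_cell, ← hφ']
      show _ = D.prodPt em y * (D.tPt χ * D.prodPt e x)
      congr 1 <;> refine WithConv.ofConv_injective (AlgHom.ext fun a => ?_) <;> simp [fc, DynSm.ptL, DynSm.ptR]
    obtain ⟨θ, hθ, -⟩ := exists_cell_lift (D.lam_neg f) (represents_idealP (D.lam f))
      (represents_idealU (D.lam (-f))) I hI g fc hfc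
    obtain ⟨y', hy'⟩ := D.exists_prodPt (-f) hD em hm' hemi hmr
      (v := toConv (θ.comp (DynSm.ptL _ _))) fun a ha => by simp [DynSm.ptL, Ideal.Quotient.eq_zero_iff_mem.mpr ha]
    obtain ⟨χ', x', hx'⟩ := D.exists_tPt_mul_prodPt f hD hf e hp he hrange
      (g := toConv (θ.comp (DynSm.ptR _ _))) fun a ha => by simp [DynSm.ptR, Ideal.Quotient.eq_zero_iff_mem.mpr ha]
    have hg : D.cellPt e em y' χ' x' = toConv g := by
      rw [← hθ, toConv_comp_cell, ← hy', ← hx']
      rfl
    refine ⟨cellPoint y' χ' x', WithConv.toConv_injective ((cellPoint_comp_cellHom D e em y' χ' x').trans hg), ?_⟩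
    obtain ⟨y'', χ'', x'', h''⟩ := exists_eq_cellPoint ((Ideal.Quotient.mkₐ R I).comp (cellPoint y' χ' x'))
    have h3 : D.cellPt e em y'' χ'' x'' = D.cellPt e em y χ x := by
      rw [← cellPoint_comp_cellHom, ← h'', hφ', ← post_apply]
      show post (Ideal.Quotient.mkₐ R I) (toConv ((cellPoint y' χ' x').comp (D.cellHom e em))) = _
      rw [cellPoint_comp_cellHom, hg]
      rfl
    obtain ⟨rfl, rfl, rfl⟩ := D.cellPt_unique f e em hm hp he hemi h3
    exact h''

end Chart

end Groth.Agent.RootChartLib
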