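import Groth.Agent.RootChartLib.BruhatScheme
import Groth.Agent.RootChartLib.BruhatCover

/-!
# Covers of a split reductive group scheme by translates of the big cell
-/

set_option autoImplicit false
set_option backward.isDefEq.respectTransparency false
set_option backward.isDefEq.respectTransparency.types false

universe u

open CategoryTheory Limits AlgebraicGeometry MonoidalCategory CartesianMonoidalCategory MonObj GrpObj WithConv
open scoped TensorProduct

namespace Groth.Agent.RootChartLib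

open GrpSchLib GrpSchLib.AffineHopf GrpSchLib.Kunneth GModLib DynLib RankLib.SplitRedPts H23 RootD

variable {S : Scheme.{u}} {G : Over S} [GrpObj G]

/-- The setting at a geometric point. -/
structure PtSetting (D : Red.SplitRed G) (b : D.P.Base) (K : Type u) [Field K] [IsAlgClosed K]
    (a : Spec (CommRingCat.of K) ⟶ S) where
  f : D.M →+ ℤ
  hf : ∀ r, f (D.P.root r) ≠ 0
  hfp : ∀ r, 0 < f (D.P.root r) ↔ r ∈ RedSub.posRoots D.P b
  hfn : ∀ r, f (D.P.root r) < 0 ↔ r ∈ RedSub.negRoots D.P b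

/-- A setting exists. -/
noncomputable def ptSetting (D : Red.SplitRed G) (b : D.P.Base) (K : Type u) [Field K] [IsAlgClosed K]
    (a : Spec (CommRingCat.of K) ⟶ S) : PtSetting D b K a :=
  { f := (exists_base_functional b).choose
    hf := (exists_base_functional b).choose_spec.1
    hfp := (exists_base_functional b).choose_spec.2.1
    hfn := (exists_base_functional b).choose_spec.2.2 }

variable (D : Red.SplitRed G) (b : D.P.Base) {n m : ℕ} (eneg : Fin n → D.idx) (epos : Fin m → D.idx)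
  (hneg : RedSub.Enumerates (RedSub.negRoots D.P b) eneg) (hpos : RedSub.Enumerates (RedSub.posRoots D.P b) epos)
  {K : Type u} [Field K] [IsAlgClosed K] (a : Spec (CommRingCat.of K) ⟶ S) {A : Type u} [CommRing A]
  [HopfAlgebra K A] (ε : Red.bc a G ≅ sp K A) [IsMonHom ε.hom] (σ : PtSetting D b K a)

include hneg hpos in
/-- A point of the translate of the big cell. -/
theorem mem_range_translate [Algebra.Smooth K A] (g : (Over.map a).obj (sp K K) ⟶ G) (w : 𝟙_ (Over S) ⟶ G)
    (h : (chart D a ε).InOmega σ.f ((rdA a ε (toUnit _ ≫ w))⁻¹ * rdA a ε g)) :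
    g.left (IsLocalRing.closedPoint K) ∈ Set.range ((toUnit _ ≫ w) * RedSub.cellMap D eneg epos).left.base := by
  obtain ⟨v, χ, u, hv, hu, hvu⟩ := h
  obtain ⟨y, hy⟩ := (chart D a ε).exists_prodPt (-σ.f) (geomFibres D a ε) eneg
    (fun i => by
      have := (σ.hfn (eneg i)).mpr (hneg.2 ▸ ⟨i, rfl⟩)
      simpa [chart_α] using this) hneg.1
    (fun r hr => hneg.2.symm ▸ (σ.hfn r).mp (by simpa [chart_α] using hr)) (((chart D a ε).isU_iff _ _).mpr hv)
  obtain ⟨x, hx⟩ := (chart D a ε).exists_prodPt σ.f (geomFibres D a ε) epos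
    (fun i => (σ.hfp _).mpr (hpos.2 ▸ ⟨i, rfl⟩)) hpos.1 (fun r hr => hpos.2.symm ▸ (σ.hfp r).mp hr)
    (((chart D a ε).isU_iff _ _).mpr hu)
  have hg : g = omegaPt D a y χ x ≫ ((toUnit _ ≫ w) * RedSub.cellMap D eneg epos) := by
    refine rdA_injective a ε ?_
    rw [MonObj.comp_mul, ← Category.assoc _ (toUnit _), toUnit_unique (omegaPt D a y χ x ≫ toUnit _) (toUnit _),
      rdA_mul, rdA_omegaPt, Chart.cellPt, hy, hx, ← hvu, mul_inv_cancel_left]
  rw [hg]
  exact ⟨_, rfl⟩

theorem rdA_toUnit_one : rdA a ε (toUnit ((Over.map a).obj (sp K K)) ≫ (1 : 𝟙_ (Over S) ⟶ G)) = 1 := by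
  rw [MonObj.comp_one]
  exact map_one (MonoidHom.mk' (rdA a ε) (rdA_mul a ε))

include hneg hpos in
/-- A point of the big cell. -/
theorem mem_range_cell [Algebra.Smooth K A] (g : (Over.map a).obj (sp K K) ⟶ G)
    (h : (chart D a ε).InOmega σ.f (rdA a ε g)) :
    g.left (IsLocalRing.closedPoint K) ∈ Set.range (RedSub.cellMap D eneg epos).left.base := by
  have h' := mem_range_translate D b eneg epos hneg hpos a ε σ g 1 (by rwa [rdA_toUnit_one, inv_one, _root_.one_mul])
  rwa [MonObj.comp_one, _root_.one_mul] at h'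

/-- The value of a section of the additive group. -/
noncomputable def secVal (x : 𝟙_ (Over S) ⟶ Red.Ga S) : K :=
  gcA a (toUnit ((Over.map a).obj (sp K K)) ≫ x)

omit [IsAlgClosed K] in
theorem secVal_ne_zero {x : 𝟙_ (Over S) ⟶ Red.Ga S} (hx : IsUnit (Red.gaFn x)) : secVal a x ≠ 0 := by
  refine IsUnit.ne_zero ?_
  rw [secVal, gcA, GaPts.gaFn_comp]
  exact (hx.map _).map _

omit [IsAlgClosed K] in
theorem rdA_sec (r : D.idx) (x : 𝟙_ (Over S) ⟶ Red.Ga S) :
    rdA a ε (toUnit ((Over.map a).obj (sp K K)) ≫ x ≫ D.u r) = (chart D a ε).rPt r (secVal a x) := by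
  rw [← rdA_u, secVal, ptOfFn_gcA, Category.assoc]

theorem exists_nr : ∃ nr : D.idx → (𝟙_ (Over S) ⟶ G), RedSub.RealisesReflections D nr := by
  choose nr h using D.refl
  exact ⟨nr, h⟩

/-- The group is covered by the translates of the big cell by the Weyl group points. -/
theorem exists_weyl_translate (nr : D.idx → (𝟙_ (Over S) ⟶ G)) (hnr : RedSub.RealisesReflections D nr)
    (hneg : RedSub.Enumerates (RedSub.negRoots D.P b) eneg) (hpos : RedSub.Enumerates (RedSub.posRoots D.P b) epos)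
    (x : ↥G.left) :
    ∃ w : List D.idx, x ∈ Set.range ((toUnit _ ≫ (w.map nr).prod) * RedSub.cellMap D eneg epos).left.base := by
  classical
  obtain ⟨K, _, _, a, g, hg⟩ := exists_geomPt x
  let ε := (model D a).iso
  haveI : IsMonHom ε.hom := (model D a).isMonHom
  haveI := smooth_model D a ε
  haveI := isReduced_datum D a
  let σ := ptSetting D b K a
  have hn := conj_nrA D a ε nr hnr
  obtain ⟨l, k, e, he, her, y, χ, v, hgv⟩ := (chart D a ε).exists_bruhat_coords D.P (nrA D a ε nr)
    (b.support : Set D.idx) σ.f (geomFibres D a ε) (isReductiveOver_model D a ε) (isMaxTorus_torHom D a ε)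
    (fun r => rfl) (RootData.Simple.of_base b) σ.hfp σ.hf hn epos
    (fun i => (σ.hfp _).mpr (hpos.2 ▸ ⟨i, rfl⟩)) hpos.1 (fun r hr => hpos.2.symm ▸ (σ.hfp r).mp hr) (rdA a ε g)
  refine ⟨l, hg ▸ mem_range_translate D b eneg epos hneg hpos a ε σ g _ ?_⟩
  have hl : rdA a ε (toUnit ((Over.map a).obj (sp K K)) ≫ (l.map nr).prod) = Chart.nw (nrA D a ε nr) l := by
    have h := map_list_prod (MonoidHom.mk' (fun p : 𝟙_ (Over S) ⟶ G => rdA a ε (toUnit ((Over.map a).obj (sp K K)) ≫ p))
      fun p q => by rw [MonObj.comp_mul, rdA_mul]) (l.map nr)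
    rw [List.map_map] at h
    exact h
  refine ⟨(Chart.nw (nrA D a ε nr) l)⁻¹ * (chart D a ε).prodPt e y * Chart.nw (nrA D a ε nr) l, χ,
    (chart D a ε).prodPt epos v, ?_, (chart D a ε).prodPt_mem epos v fun i =>
      (chart D a ε).rPt_upos σ.f ((σ.hfp _).mpr (hpos.2 ▸ ⟨i, rfl⟩)) _, by rw [hl, hgv]; group⟩
  have h := (chart D a ε).prodPt_mem
    (H := ((chart D a ε).upos (-σ.f)).comap (MulAut.conj (Chart.nw (nrA D a ε nr) l)⁻¹).toMonoidHom) e y fun i => by
    rw [conj_mem_comap, _root_.inv_inv]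
    obtain ⟨z, hz⟩ := (chart D a ε).exists_rPt_word_inv (geomFibres D a ε) D.P (nrA D a ε nr) (fun r => rfl)
      ((chart D a ε).hred D.P fun r => rfl) hn l (e i) (y i)
    rw [show (Chart.nw (nrA D a ε nr) l)⁻¹ * _ * Chart.nw (nrA D a ε nr) l = _ from hz]
    refine (chart D a ε).rPt_upos (-σ.f) ?_ z
    rw [AddMonoidHom.neg_apply, Left.neg_pos_iff, chart_α, σ.hfn, mem_negRoots_iff]
    exact ((her _).mp ⟨i, rfl⟩).2
  rw [conj_mem_comap, _root_.inv_inv] at h
  exact h

/-- The group is covered by the translates of the big cell by simple root sections. -/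
theorem exists_simple_translate (hneg : RedSub.Enumerates (RedSub.negRoots D.P b) eneg)
    (hpos : RedSub.Enumerates (RedSub.posRoots D.P b) epos) (s : D.idx → (𝟙_ (Over S) ⟶ Red.Ga S))
    (hs : ∀ r ∈ b.support, IsUnit (Red.gaFn (s r))) (x : ↥G.left) :
    ∃ l : List D.idx, (∀ r ∈ l, r ∈ b.support) ∧
      x ∈ Set.range ((toUnit _ ≫ (l.map fun r => s r ≫ D.u r).prod) * RedSub.cellMap D eneg epos).left.base := by
  classical
  obtain ⟨K, _, _, a, g, hg⟩ := exists_geomPt x
  let ε := (model D a).iso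
  haveI : IsMonHom ε.hom := (model D a).isMonHom
  haveI := smooth_model D a ε
  haveI := isReduced_datum D a
  let σ := ptSetting D b K a
  obtain ⟨nr, hnr⟩ := exists_nr D
  obtain ⟨l, hl, hom⟩ := (chart D a ε).exists_translate D.P (nrA D a ε nr)
    (b.support : Set D.idx) σ.f (geomFibres D a ε) (isReductiveOver_model D a ε) (isMaxTorus_torHom D a ε)
    (fun r => rfl) (RootData.Simple.of_base b) σ.hfp σ.hf (conj_nrA D a ε nr hnr)
    (x := fun r => secVal a (s r)) (fun r hr => secVal_ne_zero a (hs r hr)) (rdA a ε g)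
  refine ⟨l, hl, hg ▸ mem_range_translate D b eneg epos hneg hpos a ε σ g _ ?_⟩
  have h := map_list_prod (MonoidHom.mk' (fun p : 𝟙_ (Over S) ⟶ G => rdA a ε (toUnit ((Over.map a).obj (sp K K)) ≫ p))
    fun p q => by rw [MonObj.comp_mul, rdA_mul]) (l.map fun r => s r ≫ D.u r)
  rw [List.map_map] at h
  simp only [MonoidHom.mk'_apply] at h
  rw [h]
  refine (congrArg (fun p => (chart D a ε).InOmega σ.f (p⁻¹ * rdA a ε g)) ?_).mpr hom
  refine congrArg List.prod (List.map_congr_left fun r _ => ?_)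
  exact rdA_sec D a ε r (s r)

/-- Right translates of the big cell by a negative simple root section. -/
theorem range_cell_mul_neg (hneg : RedSub.Enumerates (RedSub.negRoots D.P b) eneg)
    (hpos : RedSub.Enumerates (RedSub.posRoots D.P b) epos) {r : D.idx} (hr : r ∈ b.support)
    (s : 𝟙_ (Over S) ⟶ Red.Ga S) (hs : IsUnit (Red.gaFn s)) (t : 𝟙_ (Over S) ⟶ Red.Ga S) :
    Set.range (RedSub.cellMap D eneg epos * (toUnit _ ≫ t ≫ D.u (D.P.reflectionPerm r r))).left.base ⊆
      Set.range (RedSub.cellMap D eneg epos).left.base ∪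
        Set.range ((toUnit _ ≫ s ≫ D.u r) * RedSub.cellMap D eneg epos).left.base := by
  classical
  rintro _ ⟨w, rfl⟩
  obtain ⟨K, _, _, a, g, hg⟩ := exists_geomPt w
  let ε := (model D a).iso
  haveI : IsMonHom ε.hom := (model D a).isMonHom
  haveI := smooth_model D a ε
  haveI := isReduced_datum D a
  let σ := ptSetting D b K a
  obtain ⟨nr, hnr⟩ := exists_nr D
  obtain ⟨y, χ, v, rfl⟩ := exists_eq_omegaPt D a g
  let g' := omegaPt D a y χ v ≫ (RedSub.cellMap D eneg epos * (toUnit _ ≫ t ≫ D.u (D.P.reflectionPerm r r)))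
  have hg' : (RedSub.cellMap D eneg epos * (toUnit _ ≫ t ≫ D.u (D.P.reflectionPerm r r))).left.base w =
      g'.left (IsLocalRing.closedPoint K) := by rw [← hg]; rfl
  have hrd : rdA a ε g' = (chart D a ε).cellPt epos eneg y χ v *
      (chart D a ε).rPt (D.P.reflectionPerm r r) (secVal a t) := by
    show rdA a ε (omegaPt D a y χ v ≫ (_ * _)) = _
    rw [MonObj.comp_mul, rdA_mul, rdA_omegaPt, ← Category.assoc _ (toUnit _),
      toUnit_unique (omegaPt D a y χ v ≫ toUnit _) (toUnit _), rdA_sec]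
  have hcell : (chart D a ε).InOmega σ.f ((chart D a ε).cellPt epos eneg y χ v) :=
    ⟨_, χ, _, (chart D a ε).prodPt_mem eneg y fun i => (chart D a ε).rPt_upos (-σ.f)
      (by rw [AddMonoidHom.neg_apply, Left.neg_pos_iff, chart_α, σ.hfn]; exact hneg.2 ▸ ⟨i, rfl⟩) _,
      (chart D a ε).prodPt_mem epos v fun i =>
        (chart D a ε).rPt_upos σ.f ((σ.hfp _).mpr (hpos.2 ▸ ⟨i, rfl⟩)) _, rfl⟩
  rw [hg']
  rcases (chart D a ε).omega_mul_neg D.P (nrA D a ε nr) (b.support : Set D.idx) σ.f (geomFibres D a ε)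
    (isReductiveOver_model D a ε) (isMaxTorus_torHom D a ε) (fun r => rfl) (RootData.Simple.of_base b) σ.hfp σ.hf
    (conj_nrA D a ε nr hnr) hr (secVal_ne_zero a hs) hcell (secVal a t) with h | h
  · exact Or.inl (mem_range_cell D b eneg epos hneg hpos a ε σ g' (hrd ▸ h))
  · refine Or.inr (mem_range_translate D b eneg epos hneg hpos a ε σ g' _ ?_)
    rw [rdA_sec, hrd]
    exact h

/-- In semisimple rank one two translates of the big cell cover the group. -/
theorem rank_one_cover (hneg : RedSub.Enumerates (RedSub.negRoots D.P b) eneg)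
    (hpos : RedSub.Enumerates (RedSub.posRoots D.P b) epos) {r : D.idx} (hr : r ∈ RedSub.posRoots D.P b)
    (hR : ∀ c : D.idx, c = r ∨ c = D.P.reflectionPerm r r)
    (s : 𝟙_ (Over S) ⟶ Red.Ga S) (hs : IsUnit (Red.gaFn s)) (x : ↥G.left) :
    x ∈ Set.range (RedSub.cellMap D eneg epos).left.base ∨
      x ∈ Set.range ((toUnit _ ≫ s ≫ D.u r) * RedSub.cellMap D eneg epos).left.base := by
  classical
  obtain ⟨K, _, _, a, g, hg⟩ := exists_geomPt x
  let ε := (model D a).iso
  haveI : IsMonHom ε.hom := (model D a).isMonHom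
  haveI := smooth_model D a ε
  haveI := isReduced_datum D a
  let σ := ptSetting D b K a
  obtain ⟨nr, hnr⟩ := exists_nr D
  have hΔ := RootData.Simple.of_base b
  have hrΔ : r ∈ (b.support : Set D.idx) := by
    obtain ⟨c, hc⟩ : (b.support : Set D.idx).Nonempty := by
      by_contra h
      rw [Set.not_nonempty_iff_eq_empty] at h
      have h' : D.P.root r ∈ AddSubmonoid.closure (D.P.root '' (b.support : Set D.idx)) := hr
      rw [h, Set.image_empty, AddSubmonoid.closure_empty, AddSubmonoid.mem_bot] at h'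
      exact D.P.ne_zero r h'
    rcases hR c with rfl | rfl
    · exact hc
    · exact absurd (hΔ.subset_posOf hc) (fun h => hΔ.neg_mem_posOf_iff.mp h hr)
  have hn := conj_nrA D a ε nr hnr
  obtain ⟨l, k, e, he, her, y, χ, v, hgv⟩ := (chart D a ε).exists_bruhat_coords D.P (nrA D a ε nr)
    (b.support : Set D.idx) σ.f (geomFibres D a ε) (isReductiveOver_model D a ε) (isMaxTorus_torHom D a ε)
    (fun r => rfl) hΔ σ.hfp σ.hf hn epos
    (fun i => (σ.hfp _).mpr (hpos.2 ▸ ⟨i, rfl⟩)) hpos.1 (fun r hr => hpos.2.symm ▸ (σ.hfp r).mp hr) (rdA a ε g)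
  have hey : (chart D a ε).prodPt e y ∈ (chart D a ε).upos (-σ.f) :=
    (chart D a ε).prodPt_mem e y fun i => (chart D a ε).rPt_upos (-σ.f) (by
      rw [AddMonoidHom.neg_apply, Left.neg_pos_iff, chart_α, σ.hfn, mem_negRoots_iff]
      exact ((her _).mp ⟨i, rfl⟩).1) _
  have hev : (chart D a ε).prodPt epos v ∈ (chart D a ε).upos σ.f :=
    (chart D a ε).prodPt_mem epos v fun i => (chart D a ε).rPt_upos σ.f ((σ.hfp _).mpr (hpos.2 ▸ ⟨i, rfl⟩)) _
  have hword : RootData.word D.P l = RootData.word D.P [] ∨ RootData.word D.P l = RootData.word D.P [r] := by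
    clear hgv hev hey her
    induction l with
    | nil => exact Or.inl rfl
    | cons c t ih =>
      have hc : RootPairing.Equiv.reflection D.P c = RootPairing.Equiv.reflection D.P r := by
        rcases hR c with rfl | rfl
        · rfl
        · exact RootData.refl_eq_of_zsmul (c := -1) (by rw [RootData.root_neg]; simp)
      rw [RootData.word_cons, hc]
      rcases ih with h | h
      · exact Or.inr (by rw [h, ← RootData.word_cons])
      · refine Or.inl ?_
        rw [h, RootData.word_cons, show RootData.word D.P ([] : List D.idx) = 1 from rfl, _root_.mul_one]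
        exact RootData.refl_mul_self r
  rcases hword with h | h
  · obtain ⟨τ, hτ⟩ := (chart D a ε).nw_eq_of_word D.P (nrA D a ε nr) (isReductiveOver_model D a ε)
      (isMaxTorus_torHom D a ε) hn h
    refine Or.inl (hg ▸ mem_range_cell D b eneg epos hneg hpos a ε σ g ⟨_, τ * χ, _, hey, hev, ?_⟩)
    rw [hgv, hτ, show Chart.nw (nrA D a ε nr) [] = 1 from rfl, Chart.tPt_mul, _root_.one_mul]
    group
  · obtain ⟨τ, hτ⟩ := (chart D a ε).nw_eq_of_word D.P (nrA D a ε nr) (isReductiveOver_model D a ε)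
      (isMaxTorus_torHom D a ε) hn h
    refine Or.inr (hg ▸ mem_range_translate D b eneg epos hneg hpos a ε σ g _ ?_)
    have hom := (chart D a ε).neg_mul_nr_mem D.P (nrA D a ε nr) (b.support : Set D.idx) σ.f (geomFibres D a ε)
      (isReductiveOver_model D a ε) (isMaxTorus_torHom D a ε) (fun r => rfl) hΔ σ.hfp σ.hf hn hrΔ
      (secVal_ne_zero a hs) hey (τ * χ) hev
    rw [rdA_sec, hgv, hτ, show Chart.nw (nrA D a ε nr) [r] = nrA D a ε nr r from List.prod_singleton]
    refine (congrArg ((chart D a ε).InOmega σ.f) ?_).mp hom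
    rw [Chart.tPt_mul]
    group

end Groth.Agent.RootChartLib
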