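import Groth.Agent.RootChartLib.CellGeom

/-!
# Local arguments on affine test schemes, and products of root groups
-/

set_option autoImplicit false
set_option backward.isDefEq.respectTransparency false
set_option backward.isDefEq.respectTransparency.types false

universe u

open CategoryTheory Limits AlgebraicGeometry MonoidalCategory CartesianMonoidalCategory MonObj GrpObj WithConv
open scoped TensorProduct

namespace Groth.Agent.RootChartLib

open GrpSchLib GrpSchLib.AffineHopf GModLib DynLib RankLib.SplitRedPts

variable {S : Scheme.{u}} {X W W' : Over S}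

/-- Morphisms over the base are determined on affine test schemes. -/
theorem eq_of_test (g g' : X ⟶ W)
    (h : ∀ (C : Type u) (_ : CommRing C) (j : Spec (CommRingCat.of C) ⟶ X.left), test j ≫ g = test j ≫ g') : g = g' := by
  refine Over.OverMorphism.ext (Scheme.Cover.hom_ext X.left.affineOpenCover.openCover _ _ fun i => ?_)
  have h1 := congrArg CommaMorphism.left (h _ inferInstance (X.left.affineOpenCover.f i))
  simp only [Over.comp_left, test, Over.homMk_left] at h1
  exact h1

/-- A morphism which factors through a monomorphism on affine test schemes factors. -/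
theorem exists_factor_of_test (v : W ⟶ W') [Mono v] (g : X ⟶ W')
    (h : ∀ (C : Type u) (_ : CommRing C) (j : Spec (CommRingCat.of C) ⟶ X.left),
      ∃ p : (Over.map (base (X := X) j)).obj (sp C C) ⟶ W, p ≫ v = test j ≫ g) :
    ∃ z : X ⟶ W, z ≫ v = g := by
  haveI : Mono v.left := inferInstanceAs (Mono ((Over.forget S).map v))
  let pr := pullback.fst g.left v.left
  let U := X.left.affineOpenCover
  haveI : IsIso pr := by
    show MorphismProperty.isomorphisms Scheme.{u} pr
    refine IsZariskiLocalAtTarget.of_openCover (P := MorphismProperty.isomorphisms Scheme.{u}) U.openCover fun i => ?_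
    show IsIso (pullback.snd pr (U.f i))
    obtain ⟨p, hp⟩ := h _ inferInstance (U.f i)
    have hp' : U.f i ≫ g.left = p.left ≫ v.left := by
      have h1 := congrArg CommaMorphism.left hp
      simp only [Over.comp_left, test, Over.homMk_left] at h1
      exact h1.symm
    let s : U.openCover.X i ⟶ pullback pr (U.f i) :=
      pullback.lift (pullback.lift (U.f i) p.left hp') (𝟙 _) (by simp [pr])
    haveI : Mono pr := inferInstanceAs (Mono (pullback.fst g.left v.left))
    haveI : Mono (pullback.snd pr (U.f i)) := inferInstance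
    haveI : IsSplitEpi (pullback.snd pr (U.f i)) := IsSplitEpi.mk' ⟨s, pullback.lift_snd _ _ _⟩
    exact isIso_of_mono_of_isSplitEpi _
  refine ⟨Over.homMk (inv pr ≫ pullback.snd g.left v.left) ?_, Over.OverMorphism.ext ?_⟩
  · rw [Category.assoc, ← Over.w v, ← pullback.condition_assoc]
    simp [pr]
  · show (inv pr ≫ pullback.snd g.left v.left) ≫ v.left = g.left
    rw [Category.assoc, ← pullback.condition]
    simp [pr]

variable {G : Over S} [GrpObj G] (D : Red.SplitRed G) {R : Type u} [CommRing R] (a : Spec (CommRingCat.of R) ⟶ S)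
  {A : Type u} [CommRing A] [HopfAlgebra R A] (ε : Red.bc a G ≅ sp R A) [IsMonHom ε.hom]
  {C : Type u} [CommRing C] [Algebra R C] {n : ℕ} (e : Fin n → D.idx)

/-- A point of a power of the additive group with given coordinates. -/
noncomputable def gaPowPt (c : Fin n → C) : (Over.map a).obj (sp R C) ⟶ RedSub.pow (Red.Ga S) n :=
  powPt fun i => GaPts.ptOfFn (fnOf a (c i))

omit [IsMonHom ε.hom] in
theorem exists_eq_gaPowPt (p : (Over.map a).obj (sp R C) ⟶ RedSub.pow (Red.Ga S) n) : ∃ c, p = gaPowPt a c :=
  ⟨fun i => gcA a (p ≫ powPr _ i), pow_hom_ext _ _ fun i => by rw [gaPowPt, powPt_powPr, ptOfFn_gcA]⟩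

theorem rdA_gaPowPt (c : Fin n → C) :
    rdA a ε (gaPowPt a c ≫ RedSub.prodMap (Red.Ga S) n fun k => D.u (e k)) = (chart D a ε).prodPt e c := by
  rw [comp_prodMap, rdA_list_prod, List.map_ofFn, prodPt_eq_list]
  refine congrArg (fun l => (List.ofFn l).prod) (funext fun i => ?_)
  show rdA a ε (gaPowPt a c ≫ powPr _ i ≫ _) = _
  rw [← Category.assoc, gaPowPt, powPt_powPr, rdA_u]

omit [IsMonHom ε.hom] in
/-- Products of root groups of distinct roots in a half space are monomorphisms. -/
theorem mono_prodMap (f : D.M →+ ℤ) (hp : ∀ i, 0 < f (D.P.root (e i))) (he : Function.Injective e) :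
    Mono (RedSub.prodMap (Red.Ga S) n fun k => D.u (e k)) := by
  refine ⟨fun {Z} p q hpq => eq_of_test p q fun C _ j => ?_⟩
  haveI := (model D (base (X := Z) j)).isMonHom
  obtain ⟨c, hc⟩ := exists_eq_gaPowPt (base (X := Z) j) (test j ≫ p)
  obtain ⟨c', hc'⟩ := exists_eq_gaPowPt (base (X := Z) j) (test j ≫ q)
  have h := congrArg (fun w => rdA (base (X := Z) j) (model D (base (X := Z) j)).iso (test j ≫ w)) hpq
  simp only [← Category.assoc, hc, hc', rdA_gaPowPt] at h
  haveI := smooth_model D (base (X := Z) j) (model D (base (X := Z) j)).iso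
  rw [hc, hc', (chart D _ _).prodPt_injective f e hp he h]

end Groth.Agent.RootChartLib
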