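import Groth.Agent.RootChartLib.ReflConj
import Groth.Agent.RootChartLib.CoverScheme
import Groth.Agent.RootChartLib.CellRange
import Groth.Agent.RootChartLib.Glue

/-!
# Homomorphisms of a split reductive group are determined on the torus and the simple root groups
-/

set_option autoImplicit false
set_option linter.style.haveILetI false
set_option backward.isDefEq.respectTransparency false
set_option backward.isDefEq.respectTransparency.types false

universe u

open CategoryTheory Limits AlgebraicGeometry MonoidalCategory CartesianMonoidalCategory MonObj GrpObj WithConv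
open scoped TensorProduct

namespace Groth.Agent.RootChartLib

open GrpSchLib GrpSchLib.AffineHopf GModLib DynLib RankLib.SplitRedPts H23 RootD

variable {S : Scheme.{u}} {G H : Over S} [GrpObj G] [GrpObj H]

/-- Two homomorphisms agree on a point. -/
def Agree (f g : G ⟶ H) {X : Over S} (p : X ⟶ G) : Prop := p ≫ f = p ≫ g

variable {f g : G ⟶ H} [IsMonHom f] [IsMonHom g] {X Y : Over S}

theorem Agree.mul {p q : X ⟶ G} (hp : Agree f g p) (hq : Agree f g q) : Agree f g (p * q) := by
  simp only [Agree] at hp hq ⊢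
  rw [MonObj.mul_comp, MonObj.mul_comp, hp, hq]

theorem Agree.inv {p : X ⟶ G} (hp : Agree f g p) : Agree f g p⁻¹ := by
  simp only [Agree] at hp ⊢
  rw [GrpObj.inv_comp, GrpObj.inv_comp, hp]

theorem Agree.one : Agree f g (1 : X ⟶ G) := by
  simp only [Agree]
  rw [MonObj.one_comp, MonObj.one_comp]

omit [GrpObj G] [GrpObj H] [IsMonHom f] [IsMonHom g] in
theorem Agree.pre {p : Y ⟶ G} (hp : Agree f g p) (z : X ⟶ Y) : Agree f g (z ≫ p) := by
  simp only [Agree] at hp ⊢
  rw [Category.assoc, Category.assoc, hp]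

theorem Agree.list_prod : ∀ {l : List (X ⟶ G)}, (∀ p ∈ l, Agree f g p) → Agree f g l.prod
  | [], _ => Agree.one
  | p :: t, h => by
    rw [List.prod_cons]
    exact (h p (List.mem_cons_self ..)).mul (Agree.list_prod fun q hq => h q (List.mem_cons_of_mem _ hq))

theorem Agree.prodMap {W : Over S} : ∀ {n : ℕ} {e : Fin n → (W ⟶ G)}, (∀ k, Agree f g (e k)) →
    Agree f g (RedSub.prodMap W n e)
  | 0, _, _ => Agree.one
  | _ + 1, _, h => by
    show Agree f g (_ * _)
    exact ((h 0).pre _).mul ((Agree.prodMap fun k => h k.succ).pre _)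

variable (D : Red.SplitRed G)

section Affine

variable {R : Type u} [CommRing R] (a : Spec (CommRingCat.of R) ⟶ S) {A : Type u} [CommRing A] [HopfAlgebra R A]
  (ε : Red.bc a G ≅ sp R A) [IsMonHom ε.hom] {C C' : Type u} [CommRing C] [Algebra R C] [CommRing C'] [Algebra R C']

/-- Reading points commutes with change of the test ring. -/
theorem post_rdA (φ : C →ₐ[R] C') (p : (Over.map a).obj (sp R C) ⟶ G) :
    post φ (rdA a ε p) = rdA a ε ((Over.map a).map (spMap φ) ≫ p) := by
  obtain ⟨x, rfl⟩ := (DSPtsLib.theta_bijective (Y := sp R C) (H := G) a).2 p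
  rw [← DSPtsLib.theta_comp, rdA_theta, rdA_theta, hpt_comp]

theorem rdA_inv' (p : (Over.map a).obj (sp R C) ⟶ G) : rdA a ε p⁻¹ = (rdA a ε p)⁻¹ :=
  map_inv (MonoidHom.mk' (rdA a ε) (rdA_mul a ε)) p

/-- The points realising reflections, over a ring. -/
noncomputable def nrR (nr : D.idx → (𝟙_ (Over S) ⟶ G)) (r : D.idx) : WithConv (A →ₐ[R] R) :=
  rdA a ε (toUnit ((Over.map a).obj (sp R R)) ≫ nr r)

theorem up_nrR (nr : D.idx → (𝟙_ (Over S) ⟶ G)) (r : D.idx) :
    Chart.up C (nrR D a ε nr r) = rdA a ε (toUnit ((Over.map a).obj (sp R C)) ≫ nr r) := by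
  rw [Chart.up, nrR, post_rdA, ← Category.assoc]
  congr 2
  exact toUnit_unique _ _

theorem normalises_nrR {nr : D.idx → (𝟙_ (Over S) ⟶ G)} (hnr : RedSub.RealisesReflections D nr) (r : D.idx) :
    (chart D a ε).Normalises (nrR D a ε nr r) (D.P.reflection r).toAddEquiv := fun C _ _ χ => by
  rw [up_nrR, ← rdA_i, ← rdA_i, ← rdA_inv', ← rdA_mul, ← rdA_mul, hnr]
  congr 1
  haveI := isMonHom_i D
  simp only [← Category.assoc]
  congr 1
  refine ch_injective D (MonoidHom.ext fun m => ?_)
  rw [ch, Category.assoc, split_inv_hom]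
  refine (congrArg (fun x => CharPts.chi (M := D.M) x m) (Category.comp_id _)).trans ?_
  refine (CharPts.chi_map _ _ m).trans ?_
  show ch D (DSPtsLib.theta a (tpt D a χ)) _ = ch D (DSPtsLib.theta a _) m
  rw [ch_tpt, ch_tpt]
  rfl

/-- A point of the torus over an affine test scheme has a character. -/
theorem exists_theta_tpt (t : (Over.map a).obj (sp R C) ⟶ D.T) : ∃ χ, t = DSPtsLib.theta a (tpt D a χ) := by
  obtain ⟨x, rfl⟩ := (DSPtsLib.theta_bijective (Y := sp R C) (H := D.T) a).2 t
  obtain ⟨χ, rfl⟩ := exists_eq_tpt D a x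
  exact ⟨χ, rfl⟩

/-- Reading a product of torus and root points pulled back to an affine test scheme. -/
theorem rdA_pre_factor {Z : Over S} (e : (Over.map a).obj (sp R C) ⟶ Z) (r r' : D.idx) {x : Z ⟶ Red.Ga S}
    (hx : Red.gaFn x = 1) (p q : Z ⟶ Red.Ga S) (t : Z ⟶ D.T) :
    ∃ (p' : C) (τ : Multiplicative D.M →* C) (q' : C),
      rdA a ε (e ≫ ((x ≫ D.u r) * ((p ≫ D.u r') * ((t ≫ D.i) * (q ≫ D.u r))))) =
        (chart D a ε).rPt r 1 * ((chart D a ε).rPt r' p' * ((chart D a ε).tPt τ * (chart D a ε).rPt r q')) := by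
  obtain ⟨τ, hτ⟩ := exists_theta_tpt D a (e ≫ t)
  have h1 : gcA a (e ≫ x) = 1 := by
    rw [gcA, GaPts.gaFn_comp, hx]
    exact (congrArg _ (map_one e.left.appTop.hom)).trans (map_one (Scheme.ΓSpecIso (CommRingCat.of C)).hom.hom)
  refine ⟨gcA a (e ≫ p), τ, gcA a (e ≫ q), ?_⟩
  simp only [MonObj.comp_mul, rdA_mul, ← Category.assoc]
  rw [hτ, rdA_i, ← ptOfFn_gcA a (e ≫ x), h1, ← ptOfFn_gcA a (e ≫ p), ← ptOfFn_gcA a (e ≫ q), rdA_u, rdA_u, rdA_u,
    gcA_ptOfFn, gcA_ptOfFn]

omit [GrpObj G] in
/-- The identity of the spectrum of an algebra over the composite base. -/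
theorem exists_baseHom (K : Type u) [CommRing K] [Algebra R K] :
    Nonempty ((Over.map a).obj (sp R K) ⟶
      (Over.map (Spec.map (CommRingCat.ofHom (algebraMap R K)) ≫ a)).obj (sp K K)) := by
  refine ⟨Over.homMk (𝟙 (Spec (CommRingCat.of K))) ?_⟩
  show 𝟙 _ ≫ Spec.map (CommRingCat.ofHom (algebraMap K K)) ≫ Spec.map (CommRingCat.ofHom (algebraMap R K)) ≫ a =
    Spec.map (CommRingCat.ofHom (algebraMap R K)) ≫ a
  rw [show CommRingCat.ofHom (algebraMap K K) = 𝟙 (CommRingCat.of K) from rfl, Spec.map_id, Category.id_comp,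
    Category.id_comp]

/-- At geometric fibres a point realising a simple reflection is a product of torus and root points. -/
theorem nrR_geom (b : D.P.Base) {nr : D.idx → (𝟙_ (Over S) ⟶ G)} (hnr : RedSub.RealisesReflections D nr)
    {r : D.idx} (hr : r ∈ b.support) (K : Type u) [Field K] [IsAlgClosed K] [Algebra R K] :
    ∃ (p : K) (τ : Multiplicative D.M →* K) (q : K),
      Chart.up K (nrR D a ε nr r) = (chart D a ε).rPt r 1 *
        ((chart D a ε).rPt (D.P.reflectionPerm r r) p * ((chart D a ε).tPt τ * (chart D a ε).rPt r q)) := by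
  classical
  let aK : Spec (CommRingCat.of K) ⟶ S := Spec.map (CommRingCat.ofHom (algebraMap R K)) ≫ a
  let εK := (model D aK).iso
  haveI : IsMonHom εK.hom := (model D aK).isMonHom
  haveI := smooth_model D aK εK
  haveI := isReduced_datum D aK
  let σ := ptSetting D b K aK
  obtain ⟨p, τ, q, h⟩ := (chart D aK εK).exists_nr_eq D.P (nrA D aK εK nr) (b.support : Set D.idx) σ.f
    (geomFibres D aK εK) (isReductiveOver_model D aK εK) (isMaxTorus_torHom D aK εK) (fun r => rfl)
    (RootData.Simple.of_base b) σ.hfp σ.hf (conj_nrA D aK εK nr hnr) hr (one_ne_zero : (1 : K) ≠ 0)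
  rw [nrA, ← rdA_u, ← rdA_u, ← rdA_u, ← rdA_i, ← rdA_mul, ← rdA_mul, ← rdA_mul] at h
  have h2 := rdA_injective aK εK h
  obtain ⟨e⟩ := exists_baseHom a K
  obtain ⟨p', τ', q', h3⟩ := rdA_pre_factor D a ε e r (D.P.reflectionPerm r r)
    (x := (GaPts.ptOfFn (fnOf aK (1 : K)) : (Over.map aK).obj (sp K K) ⟶ Red.Ga S))
    (by rw [GaPts.gaFn_ptOfFn]; exact map_one _) _ _ _
  refine ⟨p', τ', q', Eq.trans ?_ h3⟩
  rw [up_nrR, ← h2, ← Category.assoc, toUnit_unique (e ≫ toUnit _) (toUnit _)]

end Affine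

variable {D}

theorem hred_chart [D.P.IsReduced] {R : Type u} [CommRing R] (a : Spec (CommRingCat.of R) ⟶ S) {A : Type u}
    [CommRing A] [HopfAlgebra R A] (ε : Red.bc a G ≅ sp R A) [IsMonHom ε.hom] :
    ∀ i j, ¬ LinearIndependent ℤ ![(chart D a ε).α i, (chart D a ε).α j] →
      (chart D a ε).α i = (chart D a ε).α j ∨ (chart D a ε).α i = -(chart D a ε).α j := fun i j h =>
  RootPairing.IsReduced.eq_or_eq_neg i j h

variable [D.P.IsReduced] (b : D.P.Base) {nr : D.idx → (𝟙_ (Over S) ⟶ G)} (hnr : RedSub.RealisesReflections D nr)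
  (hT : Agree f g D.i)

include hnr hT in
/-- Homomorphisms agreeing on the torus and two opposite simple root groups agree on the reflection point. -/
theorem agree_nr {r : D.idx} (hr : r ∈ b.support) (h₁ : Agree f g (D.u r))
    (h₂ : Agree f g (D.u (D.P.reflectionPerm r r))) : Agree f g (nr r) := by
  refine eq_of_test _ _ fun C _ j => ?_
  let a : Spec (CommRingCat.of C) ⟶ S := base (X := 𝟙_ (Over S)) j
  let ε := (model D a).iso
  haveI : IsMonHom ε.hom := (model D a).isMonHom
  haveI := smooth_model D a ε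
  obtain ⟨c, χ, q, h⟩ := (chart D a ε).exists_refl_factor (geomFibres D a ε) (normalises_nrR D a ε hnr r)
    (D.P.coroot' r).toAddMonoidHom (a := r) (a' := D.P.reflectionPerm r r) (fun x => D.P.reflection_apply r x)
    (RootData.root_neg D.P r) (hred_chart a ε) (fun K _ _ _ => nrR_geom D a ε b hnr hr K)
  rw [← rdA_u, ← rdA_u, ← rdA_u, ← rdA_i, ← rdA_mul, ← rdA_mul, ← rdA_mul] at h
  have h' : test (X := 𝟙_ (Over S)) j ≫ nr r = _ :=
    (congrArg (· ≫ nr r) (toUnit_unique (test (X := 𝟙_ (Over S)) j) (toUnit _))).trans (rdA_injective a ε h)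
  show (test (X := 𝟙_ (Over S)) j) ≫ nr r ≫ f = test (X := 𝟙_ (Over S)) j ≫ nr r ≫ g
  rw [← Category.assoc, ← Category.assoc, h']
  exact ((h₁.pre _).mul ((h₂.pre _).mul ((hT.pre _).mul (h₁.pre _))))

include hnr in
/-- Agreement moves along reflection points. -/
theorem agree_reflect {r s : D.idx} (hn : Agree f g (nr r)) (hs : Agree f g (D.u s)) :
    Agree f g (D.u (D.P.reflectionPerm r s)) := by
  refine eq_of_test _ _ fun C _ j => ?_
  let a : Spec (CommRingCat.of C) ⟶ S := base (X := Red.Ga S) j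
  let ε := (model D a).iso
  haveI : IsMonHom ε.hom := (model D a).isMonHom
  haveI := smooth_model D a ε
  have hα : ∀ i, (D.P.reflection r).toAddEquiv ((chart D a ε).α i) = (chart D a ε).α (D.P.reflectionPerm r i) :=
    fun i => (D.P.root_reflectionPerm r i).symm
  obtain ⟨c, hc⟩ := (chart D a ε).exists_conj_coeff (geomFibres D a ε) (normalises_nrR D a ε hnr r)
    (hred_chart a ε) (fun i => ⟨_, hα i⟩) (r := D.P.reflectionPerm r s) (r' := s) (hα s)
  let y := gcA a (test (X := Red.Ga S) j)
  have h := hc C y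
  rw [up_nrR, ← rdA_u, ← rdA_u, ← rdA_inv', ← rdA_mul, ← rdA_mul] at h
  have h' := rdA_injective a ε h
  rw [ptOfFn_gcA] at h'
  let N := toUnit ((Over.map a).obj (sp C C)) ≫ nr r
  have hN : Agree f g N := hn.pre _
  have key : Agree f g (test (X := Red.Ga S) j ≫ D.u (D.P.reflectionPerm r s)) := by
    have e : test (X := Red.Ga S) j ≫ D.u (D.P.reflectionPerm r s) =
        N⁻¹ * (N * (test (X := Red.Ga S) j ≫ D.u (D.P.reflectionPerm r s)) * N⁻¹) * N := by group
    rw [e, h']
    exact (hN.inv.mul (hs.pre _)).mul hN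
  simpa only [Agree, Category.assoc] using key

include hnr hT in
/-- Homomorphisms agreeing on the torus and the simple and opposite root groups agree on all root groups. -/
theorem agree_roots (hU : ∀ r ∈ b.support, Agree f g (D.u r) ∧ Agree f g (D.u (D.P.reflectionPerm r r))) :
    ∀ r, Agree f g (D.u r) := by
  classical
  have hΔ := RootData.Simple.of_base b
  have hnrA : ∀ r ∈ b.support, Agree f g (nr r) := fun r hr => agree_nr b hnr hT hr (hU r hr).1 (hU r hr).2
  have hword : ∀ (l : List D.idx), (∀ c ∈ l, c ∈ b.support) → ∀ s, Agree f g (D.u s) →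
      Agree f g (D.u (RootData.word D.P l • s)) := by
    intro l
    induction l with
    | nil => intro _ s hs; simpa [RootData.word] using hs
    | cons c t ih =>
      intro hl s hs
      rw [RootData.word_cons, mul_smul, RootData.refl_smul_idx]
      exact agree_reflect hnr (hnrA c (hl c (List.mem_cons_self ..)))
        (ih (fun d hd => hl d (List.mem_cons_of_mem _ hd)) s hs)
  have hpos : ∀ k ∈ RootD.posOf D.P (b.support : Set D.idx),
      Agree f g (D.u k) ∧ Agree f g (D.u (D.P.reflectionPerm k k)) := by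
    intro k hk
    obtain ⟨w, hw, s, hs, -, h⟩ := hΔ.exists_gen_smul (Δ' := (b.support : Set D.idx)) hk fun c hc => by
      by_contra hcn
      exact hc.ne' (hΔ.co_supp hcn)
    have h' : k = w • s := h.resolve_right fun h => RootData.isIndiv_of_reduced (P := D.P) _ _ h.symm
    obtain ⟨l, hl, rfl⟩ := RootData.exists_word hw
    refine ⟨h' ▸ hword l hl s (hU s hs).1, ?_⟩
    have e : D.P.reflectionPerm k k = RootData.word D.P l • D.P.reflectionPerm s s := by
      rw [h']
      clear h h' hw hl hk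
      induction l with
      | nil => simp [RootData.word]
      | cons c t ih =>
        rw [RootData.word_cons, mul_smul, mul_smul, RootData.refl_smul_idx, RootData.refl_smul_idx, ← ih]
        refine D.P.root.injective ?_
        rw [RootData.root_neg, D.P.root_reflectionPerm, D.P.root_reflectionPerm, RootData.root_neg, map_neg]
    exact e ▸ hword l hl _ (hU s hs).2
  intro k
  by_cases hk : k ∈ RootD.posOf D.P (b.support : Set D.idx)
  · exact (hpos k hk).1
  · have h := (hpos _ (hΔ.neg_mem_posOf_iff.mpr hk)).2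
    rwa [show D.P.reflectionPerm (D.P.reflectionPerm k k) (D.P.reflectionPerm k k) = k from
      D.P.root.injective (by rw [RootData.root_neg, RootData.root_neg, neg_neg])] at h

omit [D.P.IsReduced] in
include hT in
/-- Homomorphisms agreeing on the torus and all root groups agree on the big cell. -/
theorem agree_cellMap (hU : ∀ r, Agree f g (D.u r)) {n m : ℕ} (eneg : Fin n → D.idx) (epos : Fin m → D.idx) :
    Agree f g (RedSub.cellMap D eneg epos) :=
  ((Agree.prodMap fun k => hU (eneg k)).pre _).mul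
    (((hT.pre _).pre _).mul (((Agree.prodMap fun k => hU (epos k)).pre _).pre _))

omit [D.P.IsReduced] in
include b hT in
/-- Homomorphisms agreeing on the torus and all root groups are equal. -/
theorem eq_of_agree_roots (hU : ∀ r, Agree f g (D.u r)) : f = g := by
  classical
  obtain ⟨n, eneg, hne, hneg⟩ : ∃ (n : ℕ) (e : Fin n → D.idx), Function.Injective e ∧ ∀ r, r ∈ Set.range e ↔ r ∈ RedSub.negRoots D.P b := ⟨_, exists_enum fun r => r ∈ RedSub.negRoots D.P b⟩
  obtain ⟨m, epos, hpe, hpos⟩ : ∃ (n : ℕ) (e : Fin n → D.idx), Function.Injective e ∧ ∀ r, r ∈ Set.range e ↔ r ∈ RedSub.posRoots D.P b := ⟨_, exists_enum fun r => r ∈ RedSub.posRoots D.P b⟩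
  have hneg' : RedSub.Enumerates (RedSub.negRoots D.P b) eneg := ⟨hne, Set.ext hneg⟩
  have hpos' : RedSub.Enumerates (RedSub.posRoots D.P b) epos := ⟨hpe, Set.ext hpos⟩
  haveI := isOpenImmersion_cellMap D b eneg epos hneg' hpos'
  let one : 𝟙_ (Over S) ⟶ Red.Ga S := GaPts.ptOfFn 1
  let w : List D.idx → (𝟙_ (Over S) ⟶ G) := fun l => (l.map fun r => one ≫ D.u r).prod
  have hw : ∀ l, Agree f g (w l) := fun l => Agree.list_prod fun p hp => by
    obtain ⟨r, -, rfl⟩ := List.mem_map.mp hp
    exact (hU r).pre _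
  let L : (𝟙_ (Over S) ⟶ G) → (G ⟶ G) := fun v => (toUnit G ≫ v) * 𝟙 G
  have hL : ∀ v v' : 𝟙_ (Over S) ⟶ G, v * v' = 1 → L v ≫ L v' = 𝟙 G := fun v v' h => by
    have h' : v' * v = 1 := by rw [eq_inv_of_mul_eq_one_left h, mul_inv_cancel]
    simp only [L, MonObj.comp_mul, Category.comp_id, ← Category.assoc]
    rw [toUnit_unique (((toUnit G ≫ v) * 𝟙 G) ≫ toUnit G) (toUnit G), ← _root_.mul_assoc, ← MonObj.comp_mul, h',
      MonObj.comp_one, _root_.one_mul]
  have hT' : ∀ l, (toUnit _ ≫ w l) * RedSub.cellMap D eneg epos = RedSub.cellMap D eneg epos ≫ L (w l) := fun l => by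
    simp only [L, MonObj.comp_mul, Category.comp_id, ← Category.assoc]
    rw [toUnit_unique (RedSub.cellMap D eneg epos ≫ toUnit G) (toUnit _)]
  have hopen : ∀ l, IsOpenImmersion ((toUnit _ ≫ w l) * RedSub.cellMap D eneg epos).left := fun l => by
    have hiso : IsIso (L (w l)) := ⟨L (w l)⁻¹, hL _ _ (mul_inv_cancel _), hL _ _ (inv_mul_cancel _)⟩
    haveI : IsIso (L (w l)).left := inferInstanceAs (IsIso ((Over.forget S).map (L (w l))))
    rw [hT', Over.comp_left]
    infer_instance
  refine Over.OverMorphism.ext ?_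
  let 𝒰 : G.left.OpenCover := Scheme.Cover.mkOfCovers (List D.idx) (fun _ => (Omega D n m).left)
    (fun l => ((toUnit _ ≫ w l) * RedSub.cellMap D eneg epos).left)
    (fun x => by
      obtain ⟨l, -, hx⟩ := exists_simple_translate D b eneg epos hneg' hpos' (fun _ => one)
        (fun r _ => by rw [GaPts.gaFn_ptOfFn]; exact isUnit_one) x
      exact ⟨l, hx⟩) hopen
  refine Scheme.Cover.hom_ext 𝒰 _ _ fun l => ?_
  have h : Agree f g ((toUnit _ ≫ w l) * RedSub.cellMap D eneg epos) :=
    ((hw l).pre _).mul (agree_cellMap hT hU eneg epos)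
  exact congrArg CommaMorphism.left h

variable (D) in
omit [D.P.IsReduced] in
/-- Homomorphisms agreeing on the torus and the simple and opposite root groups are equal. -/
theorem eq_of_agree_simple (b : D.P.Base) (hT : Agree f g D.i)
    (hU : ∀ r ∈ b.support, Agree f g (D.u r) ∧ Agree f g (D.u (D.P.reflectionPerm r r))) : f = g := by
  rcases isEmpty_or_nonempty ↥G.left with hE | ⟨⟨x⟩⟩
  · exact Over.OverMorphism.ext ((isInitialOfIsEmpty (X := G.left)).hom_ext _ _)
  obtain ⟨K, _, _, a, -, -⟩ := exists_geomPt x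
  haveI := isReduced_datum D a
  obtain ⟨nr, hnr⟩ := exists_nr D
  exact eq_of_agree_roots b hT (agree_roots b hnr hT hU)

end Groth.Agent.RootChartLib
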