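import Groth.Agent.RootChartLib.RankTwoB2

/-!
# Weyl points in type `B₂`
-/

set_option autoImplicit false
set_option linter.style.haveILetI false
set_option backward.isDefEq.respectTransparency false
set_option backward.isDefEq.respectTransparency.types false

universe u

open CategoryTheory Limits AlgebraicGeometry MonoidalCategory CartesianMonoidalCategory MonObj GrpObj WithConv
open scoped TensorProduct

namespace Groth.Agent.RootChartLib

open GrpSchLib GrpSchLib.AffineHopf GModLib DynLib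

/-- The order of a product in a group with the relations of type `B₂`. -/
theorem pow_four_of_relations {G : Type*} [Group G] {p q hp hq : G} (h1 : p * p = hp) (h2 : q * q = hq)
    (h3 : hq * hq = 1) (h4 : p * hq * p⁻¹ = hq * hp) (h5 : q * hp * q⁻¹ = hp)
    (h6 : Commute (p * q * p⁻¹) q) : (p * q) ^ 4 = hp := by
  have hc : Commute (p * q * p⁻¹) hp := by
    rw [← h1]
    show p * q * p⁻¹ * (p * p) = p * p * (p * q * p⁻¹)
    calc p * q * p⁻¹ * (p * p) = p * (q * (p * p) * q⁻¹) * p⁻¹ * (p * q * p⁻¹) := by group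
      _ = _ := by rw [h1, h5, ← h1]; group
  have hcq : Commute q hp := mul_inv_eq_iff_eq_mul.mp h5
  have e : (p * q) ^ 2 = p * q * p⁻¹ * (hp * q) := by rw [← h1, pow_two]; group
  have hsq : (p * q * p⁻¹) ^ 2 = hq * hp := by rw [← h4, ← h2, pow_two]; group
  have hpp : hq * hp * (hp * hp) * hq = hp := by
    have hpq : Commute hp hq := by rw [← h2]; exact (hcq.mul_left hcq).symm
    have hp2 : hp * hp = 1 := by
      have := congrArg (fun w => w * w) h4
      have e' : p * hq * p⁻¹ * (p * hq * p⁻¹) = 1 := by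
        rw [show p * hq * p⁻¹ * (p * hq * p⁻¹) = p * (hq * hq) * p⁻¹ by group, h3]; group
      simp only [e'] at this
      rw [hpq.mul_mul_mul_comm, h3, _root_.one_mul] at this
      exact this.symm
    rw [hp2, _root_.mul_one, _root_.mul_assoc, hpq.eq, ← _root_.mul_assoc, h3, _root_.one_mul]
  calc (p * q) ^ 4 = ((p * q) ^ 2) ^ 2 := by rw [← pow_mul]
    _ = (p * q * p⁻¹) ^ 2 * (hp * q) ^ 2 := by rw [e, (hc.mul_right h6).mul_pow]
    _ = hq * hp * ((hp * hp) * (q * q)) := by rw [hsq, hcq.symm.mul_pow, pow_two, pow_two]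
    _ = hp := by rw [h2, ← _root_.mul_assoc, hpp]

namespace Chart

variable {R : Type u} [CommRing R] {A : Type u} [CommRing A] [HopfAlgebra R A] {M : Type} [AddCommGroup M]
  {idx : Type} (D : Chart R A M idx) [Module.Free ℤ M] [Module.Finite ℤ M] [Algebra.Smooth R A] [Fintype idx]
  {N : Type} [AddCommGroup N] {P : RootPairing idx ℤ M N} [P.IsReduced] (hD : D.GeomFibres)
  (hα : ∀ r, D.α r = P.root r)

variable {a b : idx} (hsp : SimplePair P a b) (f : M →+ ℤ) (hfa : 0 < f (P.root a)) (hfb : 0 < f (P.root b))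
  (da : D.DualAt P a) (db : D.DualAt P b) (hab : P.pairing a b = -1) (hba : P.pairing b a = -2)

include hD hα hsp hfa hfb da db hab hba in
/-- The commutation of the root groups, in type `B₂`. -/
theorem B2_rel (x y : R) :
    D.rPt b y * D.rPt a x = D.rPt a x * D.rPt b y * (D.wPt P b * D.rPt a (x * y) * (D.wPt P b)⁻¹) *
      (D.wPt P a * D.rPt b (x ^ 2 * y) * (D.wPt P a)⁻¹) ∧
    (D.wPt P b * D.rPt a y * (D.wPt P b)⁻¹) * D.rPt a x = D.rPt a x * (D.wPt P b * D.rPt a y * (D.wPt P b)⁻¹) *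
      (D.wPt P a * D.rPt b (2 * x * y) * (D.wPt P a)⁻¹) := by
  obtain ⟨c₁, c₂, r1, r2, k1, k2, -⟩ := D.B2_main hD hα hsp f hfa hfb da db hab hba
  simp only [k1, k2]
  exact ⟨r1 x y, r2 x y⟩

include hD hα hsp hfa hfb da db hab hba in
/-- The Weyl points commute with the orthogonal long root groups. -/
theorem B2_wPt_commute (x : R) : Commute (D.wPt P b) (D.rPt (P.reflectionPerm a b) x) ∧
    Commute (D.wPt P b) (D.rPt (P.reflectionPerm a (P.reflectionPerm b b)) x) := by
  obtain ⟨-, hraab⟩ := B2_root (P := P) hab hba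
  have eb : P.root b = (0 : ℤ) • P.root a + (1 : ℤ) • P.root b := by module
  have eb' : P.root (P.reflectionPerm b b) = (0 : ℤ) • P.root a + (-1 : ℤ) • P.root b := by
    rw [RootData.root_neg]; module
  have en : P.root (P.reflectionPerm a (P.reflectionPerm b b)) = (-2 : ℤ) • P.root a + (-1 : ℤ) • P.root b := by
    rw [P.root_reflectionPerm, RootData.root_neg, map_neg, ← P.root_reflectionPerm, hraab]; module
  have h1 := fun y => D.B2_commute hD hα hsp hab hba eb hraab (.inl (by omega)) (by omega) y x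
  have h2 := fun y => D.B2_commute hD hα hsp hab hba eb' hraab (.inl (by omega)) (by omega) y x
  have h3 := fun y => D.B2_commute hD hα hsp hab hba eb en (.inl (by omega)) (by omega) y x
  have h4 := fun y => D.B2_commute hD hα hsp hab hba eb' en (.inl (by omega)) (by omega) y x
  exact ⟨((h1 1).mul_left (h2 (-1))).mul_left (h1 1), ((h3 1).mul_left (h4 (-1))).mul_left (h3 1)⟩

include hD hα hsp hfa hfb da db hab hba in
/-- The action of the Weyl points in type `B₂`. -/
theorem B2_act (x : R) :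
    D.wPt P a * (D.wPt P b * D.rPt a x * (D.wPt P b)⁻¹) * (D.wPt P a)⁻¹ =
        D.wPt P b * D.rPt a (-x) * (D.wPt P b)⁻¹ ∧
      D.wPt P a * (D.wPt P a * D.rPt b x * (D.wPt P a)⁻¹) * (D.wPt P a)⁻¹ = D.rPt b x ∧
      D.wPt P b * (D.wPt P b * D.rPt a x * (D.wPt P b)⁻¹) * (D.wPt P b)⁻¹ = D.rPt a (-x) ∧
      D.wPt P b * (D.wPt P a * D.rPt b x * (D.wPt P a)⁻¹) * (D.wPt P b)⁻¹ =
        D.wPt P a * D.rPt b x * (D.wPt P a)⁻¹ := by
  obtain ⟨c₁, c₂, -, -, k1, k2, k3⟩ := D.B2_main hD hα hsp f hfa hfb da db hab hba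
  refine ⟨?_, ?_, ?_, ?_⟩
  · rw [k1, k3, k1, neg_neg, mul_neg, neg_neg]
  · rw [D.wPt_sq_conj P hα da, hba]; simp
  · rw [D.wPt_sq_conj P hα db, hab]; simp
  · rw [k2, (D.B2_wPt_commute hD hα hsp f hfa hfb da db hab hba _).1.eq, mul_inv_cancel_right]

include hD hα hsp hfa hfb da db hab hba in
/-- The Coxeter relation in type `B₂`. -/
theorem B2_coxeter : (D.wPt P a * D.wPt P b) ^ 4 = D.tH P R a (-1) ∧
    (D.wPt P b * D.wPt P a) ^ 4 = D.tH P R a (-1) := by
  have c1 := D.wPt_conj_tH hα da b hab (-1)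
  have c2 := D.wPt_conj_tH hα db a hba (-1)
  simp only [neg_neg, zpow_one] at c1
  simp only [neg_neg] at c2
  rw [show ((-1 : Rˣ) ^ (2 : ℤ)) = 1 by simp [zpow_ofNat]] at c2
  rw [show D.tH P R b (1 : Rˣ) = 1 by rw [tH, map_one, map_one], _root_.mul_one] at c2
  obtain ⟨l, hl⟩ := D.exists_wPt_coeff P hD hα da b
  obtain ⟨l', hl'⟩ := D.exists_wPt_coeff P hD hα da (P.reflectionPerm b b)
  have hN : Commute (D.wPt P a * D.wPt P b * (D.wPt P a)⁻¹) (D.wPt P b) := by
    have e : D.wPt P a * D.wPt P b * (D.wPt P a)⁻¹ = (D.wPt P a * D.rPt b 1 * (D.wPt P a)⁻¹) *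
        (D.wPt P a * D.rPt (P.reflectionPerm b b) (-1) * (D.wPt P a)⁻¹) *
        (D.wPt P a * D.rPt b 1 * (D.wPt P a)⁻¹) := by simp only [wPt]; group
    rw [e, hl, hl']
    have h := D.B2_wPt_commute hD hα hsp f hfa hfb da db hab hba
    exact (((h _).1.symm.mul_left (h _).2.symm).mul_left (h _).1.symm)
  have h4 := pow_four_of_relations (D.wPt_sq hα da) (D.wPt_sq hα db)
    (by rw [← tH_mul, neg_mul_neg, _root_.one_mul, tH, map_one, map_one]) c1 c2 hN
  refine ⟨h4, ?_⟩
  have e : (D.wPt P b * D.wPt P a) ^ 4 = (D.wPt P a)⁻¹ * (D.wPt P a * D.wPt P b) ^ 4 * D.wPt P a := by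
    simp only [pow_succ, pow_zero, _root_.one_mul]; group
  rw [e, h4, ← D.wPt_sq hα da]
  group

end Chart

end Groth.Agent.RootChartLib
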