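import Groth.Agent.RootChartLib.RankTwoA2

/-!
# Weyl points in type `A₂`
-/

set_option autoImplicit false
set_option linter.style.haveILetI false
set_option backward.isDefEq.respectTransparency false
set_option backward.isDefEq.respectTransparency.types false

universe u

open CategoryTheory Limits AlgebraicGeometry MonoidalCategory CartesianMonoidalCategory MonObj GrpObj WithConv
open scoped TensorProduct

namespace Groth.Agent.RootChartLib

open GrpSchLib GrpSchLib.AffineHopf GModLib DynLib

namespace Chart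

variable {R : Type u} [CommRing R] {A : Type u} [CommRing A] [HopfAlgebra R A] {M : Type} [AddCommGroup M]
  {idx : Type} (D : Chart R A M idx) [Module.Free ℤ M] [Module.Finite ℤ M] [Algebra.Smooth R A] [Fintype idx]
  {N : Type} [AddCommGroup N] {P : RootPairing idx ℤ M N} [P.IsReduced] (hD : D.GeomFibres)
  (hα : ∀ r, D.α r = P.root r)

include hD hα in
/-- A product of two Weyl points carries root groups to root groups, linearly over every algebra. -/
theorem exists_mul_coeff {a b : idx} (da : D.DualAt P a) (db : D.DualAt P b) {r r' : idx}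
    (hr : P.reflection b (P.reflection a (P.root r')) = P.root r) :
    ∃ c : R, ∀ (C : Type u) [CommRing C] [Algebra R C] (x : C),
      up C (D.wPt P a * D.wPt P b) * D.rPt r x * (up C (D.wPt P a * D.wPt P b))⁻¹ =
        D.rPt r' (algebraMap R C c * x) := by
  have hn := (D.normalises_wPt hα da).mul (D.normalises_wPt hα db)
  refine D.exists_conj_coeff hD hn (D.hredR P hα) (fun s => ⟨P.reflectionPerm b (P.reflectionPerm a s), ?_⟩) ?_
  · rw [hα, hα, P.root_reflectionPerm, P.root_reflectionPerm]; rfl
  · rw [hα, hα]; exact hr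

variable {a b : idx} (hsp : SimplePair P a b) (f : M →+ ℤ) (hfa : 0 < f (P.root a)) (hfb : 0 < f (P.root b))
  (da : D.DualAt P a) (db : D.DualAt P b)

section A2

variable (hab : P.pairing a b = -1) (hba : P.pairing b a = -1)

include hD hα hsp hfa hfb da db hab hba in
/-- The relations of the root groups and Weyl points in type `A₂`. -/
theorem A2_rel :
    (∀ x y : R, D.rPt b y * D.rPt a x =
      D.rPt a x * D.rPt b y * (D.wPt P b * D.rPt a (x * y) * (D.wPt P b)⁻¹)) ∧
    (∀ x : R, D.wPt P a * D.rPt b x * (D.wPt P a)⁻¹ = D.wPt P b * D.rPt a (-x) * (D.wPt P b)⁻¹) := by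
  obtain ⟨c, hc1, hc2, hc3⟩ := D.A2_main hD hα hsp f hfa hfb da db hab hba
  obtain ⟨k, -, hk2, hk3⟩ := D.A2_main hD hα hsp.symm f hfb hfa db da hba hab
  have hrev : P.reflectionPerm a b = P.reflectionPerm b a := P.root.injective (by
    rw [A2_root (P := P) hba, A2_root (P := P) hab, add_comm])
  rw [hrev] at hk2 hk3
  refine ⟨fun x y => by rw [hc2, hc3 x y, _root_.mul_assoc c], fun x => ?_⟩
  have h1 : D.rPt a 1 * D.rPt b 1 = D.rPt b 1 * D.rPt a 1 * D.rPt (P.reflectionPerm b a) c := by
    have h := hc3 1 1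
    simp only [_root_.mul_one] at h
    rw [h, rPt_neg]; group
  have h2 := hk3 1 1
  simp only [_root_.mul_one] at h2
  rw [h2] at h1
  have hkc : -k = c := D.rPt_injective _ (mul_left_cancel h1)
  rw [hk2, hc2, ← hkc]
  congr 1
  ring

include hD hα hsp hfa hfb da db hab hba in
/-- The conjugates of the middle root group by the Weyl points in type `A₂`. -/
theorem A2_act (x : R) :
    D.wPt P a * (D.wPt P b * D.rPt a x * (D.wPt P b)⁻¹) * (D.wPt P a)⁻¹ = D.rPt b x ∧
      D.wPt P b * (D.wPt P b * D.rPt a x * (D.wPt P b)⁻¹) * (D.wPt P b)⁻¹ = D.rPt a (-x) := by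
  constructor
  · have h := (D.A2_rel hD hα hsp f hfa hfb da db hab hba).2 (-x)
    rw [neg_neg] at h
    rw [← h, D.wPt_sq_conj P hα da, hba]
    simp
  · rw [D.wPt_sq_conj P hα db, hab]
    simp

include hD hα hsp hfa hfb da db hab hba in
/-- The Coxeter relation in type `A₂`. -/
theorem A2_coxeter : (D.wPt P a * D.wPt P b) ^ 3 = 1 := by
  have hsa : P.reflection a (P.root b) = P.root b + P.root a := by
    rw [P.reflection_apply_root, hba, neg_smul, one_smul, sub_neg_eq_add]
  have hsb : P.reflection b (P.root a) = P.root a + P.root b := by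
    rw [P.reflection_apply_root, hab, neg_smul, one_smul, sub_neg_eq_add]
  have hN : P.reflection b (P.reflection a (P.root b)) = P.root a := by
    rw [hsa, map_add, hsb, P.reflection_apply_self]; abel
  obtain ⟨ε, hε⟩ := D.exists_mul_coeff hD hα da db (r := a) (r' := b) hN
  obtain ⟨k, hk⟩ := D.exists_mul_coeff hD hα da db (r := P.reflectionPerm a a) (r' := P.reflectionPerm b b)
    (by rw [RootData.root_neg, RootData.root_neg, map_neg, map_neg, hN])
  have hε1 : ε = 1 := by
    have h := hε R 1
    rw [up_self] at h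
    have h' : D.wPt P a * D.wPt P b * D.rPt a 1 * (D.wPt P a * D.wPt P b)⁻¹ = D.rPt b 1 :=
      (by group : _ = D.wPt P a * (D.wPt P b * D.rPt a 1 * (D.wPt P b)⁻¹) * (D.wPt P a)⁻¹).trans
        (D.A2_act hD hα hsp f hfa hfb da db hab hba 1).1
    simpa using (D.rPt_injective _ (h.symm.trans h'))
  have hk1 : k = ε := D.dual_coeff hD hα da db _ (by rw [hε1, _root_.one_mul]) hε hk fun C _ _ z =>
    ((D.normalises_wPt hα da).mul (D.normalises_wPt hα db)).conj_tH D (fun x => by
      show P.coroot' a (P.reflection b (P.reflection a x)) = P.coroot' b x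
      simp only [P.reflection_apply, map_sub, map_smul, P.root_coroot'_eq_pairing, hab, hba, P.pairing_same,
        smul_eq_mul]
      ring) z
  subst hε1 hk1
  have hw : D.wPt P a * D.wPt P b * D.wPt P a * (D.wPt P a * D.wPt P b)⁻¹ = D.wPt P b := by
    have e1 := hε R 1
    have e2 := hk R (-1)
    rw [up_self] at e1 e2
    simp only [map_one, _root_.one_mul] at e1 e2
    generalize D.wPt P a * D.wPt P b = n at e1 e2
    simp only [wPt]
    rw [← e1, ← e2]
    group
  have hb2 := D.wPt_sq hα db
  have ha2 := D.wPt_sq hα da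
  have c1 := D.wPt_conj_tH hα da b hab (-1)
  have c2 := D.wPt_conj_tH hα db b (P.pairing_same b) (-1)
  rw [mul_inv_eq_iff_eq_mul] at hw c1 c2
  set p := D.wPt P a
  set q := D.wPt P b
  calc (p * q) ^ 3 = (p * q * p) * (q * p * q) := by rw [pow_succ, pow_two]; group
    _ = q * (p * (q * q)) * p * q := by rw [hw]; group
    _ = q * D.tH P R b (-1) * (D.tH P R a ((-1) ^ (-(-1) : ℤ)) * (p * p)) * q := by rw [hb2, c1]; group
    _ = q * D.tH P R b (-1) * q := by
      rw [ha2, ← tH_mul, neg_neg, zpow_one, neg_mul_neg, _root_.one_mul, show D.tH P R a (1 : Rˣ) = 1 by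
        rw [tH, map_one, map_one], _root_.mul_one]
    _ = 1 := by
      rw [c2, _root_.mul_assoc, hb2, ← tH_mul, ← tH_mul]
      simp [tH]

end A2

end Chart

end Groth.Agent.RootChartLib
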