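import Groth.Agent.RootChartLib.RankTwoBridge
import Groth.Agent.RootChartLib.RankTwoA2Rel

/-!
# Reducing relations in rank two to charts
-/

set_option autoImplicit false
set_option linter.style.haveILetI false
set_option backward.isDefEq.respectTransparency false
set_option backward.isDefEq.respectTransparency.types false

universe u

open CategoryTheory Limits AlgebraicGeometry MonoidalCategory CartesianMonoidalCategory MonObj GrpObj WithConv
open scoped TensorProduct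

namespace Groth.Agent.RootChartLib

open GrpSchLib GrpSchLib.AffineHopf GModLib DynLib RankLib.SplitRedPts H23

/-- What a chart provides for a pair of simple roots with dual opposite root groups. -/
structure RankTwo {C : Type u} [CommRing C] {A : Type u} [CommRing A] [HopfAlgebra C A] {M : Type} [AddCommGroup M]
    {idx : Type} [Fintype idx] (D : Chart C A M idx) {N : Type} [AddCommGroup N] (P : RootPairing idx ℤ M N) (a b : idx) : Prop where
  reduced : P.IsReduced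
  smooth : Algebra.Smooth C A
  geom : D.GeomFibres
  hα : ∀ r, D.α r = P.root r
  pair : SimplePair P a b
  fn : ∃ f : M →+ ℤ, 0 < f (P.root a) ∧ 0 < f (P.root b)
  dual_left : D.DualAt P a
  dual_right : D.DualAt P b

variable {S : Scheme.{u}} {G : Over S} [GrpObj G] (D : Red.SplitRed G) (bs : D.P.Base)

/-- Identities in rank two are checked in charts. -/
theorem eq_of_rankTwo {a b : D.idx} (ha : a ∈ bs.support) (hb : b ∈ bs.support) (hne : a ≠ b)
    (hd : ∀ r ∈ bs.support, IsDual D r) {X : Over S} (g g' : X ⟶ G)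
    (h : ∀ (C : Type u) (_ : CommRing C) (j : Spec (CommRingCat.of C) ⟶ X.left),
      RankTwo (cht D j) D.P a b → rd D j g = rd D j g') : g = g' := by
  refine eq_of_rd D g g' fun C _ j => ?_
  rcases subsingleton_or_nontrivial C with hC | hC
  · exact WithConv.ofConv_injective (AlgHom.ext fun x => Subsingleton.elim _ _)
  obtain ⟨m, hm⟩ := Ideal.exists_maximal C
  letI : Field (C ⧸ m) := Ideal.Quotient.field m
  let K := AlgebraicClosure (C ⧸ m)
  haveI := isReduced_datum D (K := K)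
    (Spec.map (CommRingCat.ofHom ((algebraMap (C ⧸ m) K).comp (Ideal.Quotient.mk m))) ≫ base (X := X) j)
  haveI := smooth_model D (base (X := X) j) (model D (base (X := X) j)).iso
  obtain ⟨f, -, hfp, -⟩ := exists_base_functional bs
  refine h C _ j ⟨inferInstance, inferInstance, geomFibres D _ _, fun r => rfl,
    SimplePair.of_simple (RootData.Simple.of_base bs) ha hb hne, ⟨f, (hfp a).mpr ?_, (hfp b).mpr ?_⟩,
    dualAt_chart D _ _ (hd a ha), dualAt_chart D _ _ (hd b hb)⟩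
  · exact AddSubmonoid.subset_closure ⟨a, ha, rfl⟩
  · exact AddSubmonoid.subset_closure ⟨b, hb, rfl⟩

variable {a b : D.idx} (ha : a ∈ bs.support) (hb : b ∈ bs.support) (hne : a ≠ b) (hd : ∀ r ∈ bs.support, IsDual D r)
  {e₁ : 𝟙_ (Over S) ⟶ Red.Ga S} (he₁ : Red.gaFn e₁ = 1) {wa wb : 𝟙_ (Over S) ⟶ G}
  (hwa : wa = (e₁ ≫ D.u a) * (e₁ ≫ D.u (D.P.reflectionPerm a a))⁻¹ * (e₁ ≫ D.u a))
  (hwb : wb = (e₁ ≫ D.u b) * (e₁ ≫ D.u (D.P.reflectionPerm b b))⁻¹ * (e₁ ≫ D.u b))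

theorem rd_w (r : D.idx) {w : 𝟙_ (Over S) ⟶ G}
    (hw : w = (e₁ ≫ D.u r) * (e₁ ≫ D.u (D.P.reflectionPerm r r))⁻¹ * (e₁ ≫ D.u r)) (he₁ : Red.gaFn e₁ = 1)
    {X : Over S} {C : Type u} [CommRing C] (j : Spec (CommRingCat.of C) ⟶ X.left) :
    rd D j (toUnit X ≫ w) = (cht D j).wPt D.P r := by
  rw [hw]; exact rd_weyl D j r he₁

theorem rd_sec {C : Type u} [CommRing C] (j : Spec (CommRingCat.of C) ⟶ (𝟙_ (Over S)).left) (g : 𝟙_ (Over S) ⟶ G) :
    rd D j g = rd D j (toUnit (𝟙_ (Over S)) ≫ g) := by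
  rw [toUnit_unique (toUnit (𝟙_ (Over S))) (𝟙 _), Category.id_comp]

theorem rd_pow {X : Over S} {C : Type u} [CommRing C] (j : Spec (CommRingCat.of C) ⟶ X.left) (g : X ⟶ G) (n : ℕ) :
    rd D j (g ^ n) = rd D j g ^ n := map_pow (rdHom D j) g n

theorem gc_mul {X : Over S} {C : Type u} [CommRing C] (j : Spec (CommRingCat.of C) ⟶ X.left) {x y z : X ⟶ Red.Ga S}
    (h : Red.gaFn z = Red.gaFn x * Red.gaFn y) : gc j z = gc j x * gc j y := by
  rw [gc, h, map_mul, map_mul]; rfl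

theorem gc_neg {X : Over S} {C : Type u} [CommRing C] (j : Spec (CommRingCat.of C) ⟶ X.left) {x z : X ⟶ Red.Ga S}
    (h : Red.gaFn z = -Red.gaFn x) : gc j z = -gc j x := by
  rw [gc, h, map_neg, map_neg]; rfl

include ha hb hne hd he₁ hwa hwb

theorem weyl_A1A1 {m₁ : 𝟙_ (Over S) ⟶ Red.Gm S} (hm₁ : Red.gmFn m₁ = -1) (hab : D.P.pairing a b = 0)
    (hba : D.P.pairing b a = 0) : (wa * wb) ^ 2 = (m₁ ≫ avOf D a ≫ D.i) * (m₁ ≫ avOf D b ≫ D.i) := by
  refine eq_of_rankTwo D bs ha hb hne hd _ _ fun C _ j h => ?_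
  haveI := h.reduced; haveI := h.smooth
  rw [rd_pow, rd_mul, rd_mul, rd_sec D j wa, rd_sec D j wb, rd_sec D j (m₁ ≫ _), rd_sec D j (m₁ ≫ avOf D b ≫ _),
    rd_w D a hwa he₁, rd_w D b hwb he₁, rd_minus_one D j a hm₁, rd_minus_one D j b hm₁]
  exact (cht D j).A1A1_sq h.geom h.hα h.pair h.dual_left h.dual_right hab hba

theorem weyl_A2 (hab : D.P.pairing a b = -1) (hba : D.P.pairing b a = -1) : (wa * wb) ^ 3 = 1 := by
  refine eq_of_rankTwo D bs ha hb hne hd _ _ fun C _ j h => ?_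
  haveI := h.reduced; haveI := h.smooth
  obtain ⟨f, hfa, hfb⟩ := h.fn
  rw [rd_pow, rd_mul, rd_one, rd_sec D j wa, rd_sec D j wb, rd_w D a hwa he₁, rd_w D b hwb he₁]
  exact (cht D j).A2_coxeter h.geom h.hα h.pair f hfa hfb h.dual_left h.dual_right hab hba

theorem comm_A2 (hab : D.P.pairing a b = -1) (hba : D.P.pairing b a = -1)
    {X : Over S} (x y xy : X ⟶ Red.Ga S) (hxy : Red.gaFn xy = Red.gaFn x * Red.gaFn y) :
    (y ≫ D.u b) * (x ≫ D.u a) =
      (x ≫ D.u a) * (y ≫ D.u b) * ((toUnit X ≫ wb) * (xy ≫ D.u a) * (toUnit X ≫ wb)⁻¹) := by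
  refine eq_of_rankTwo D bs ha hb hne hd _ _ fun C _ j h => ?_
  haveI := h.reduced; haveI := h.smooth
  obtain ⟨f, hfa, hfb⟩ := h.fn
  simp only [rd_mul, rd_inv, rd_u, rd_w D b hwb he₁, gc_mul j hxy]
  exact ((cht D j).A2_rel h.geom h.hα h.pair f hfa hfb h.dual_left h.dual_right hab hba).1 _ _

theorem act_A2 (hab : D.P.pairing a b = -1) (hba : D.P.pairing b a = -1)
    {X : Over S} (x nx : X ⟶ Red.Ga S) (hnx : Red.gaFn nx = -Red.gaFn x) :
    (toUnit X ≫ wa) * (x ≫ D.u b) * (toUnit X ≫ wa)⁻¹ = (toUnit X ≫ wb) * (nx ≫ D.u a) * (toUnit X ≫ wb)⁻¹ ∧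
    (toUnit X ≫ wa) * ((toUnit X ≫ wb) * (x ≫ D.u a) * (toUnit X ≫ wb)⁻¹) * (toUnit X ≫ wa)⁻¹ = x ≫ D.u b ∧
    (toUnit X ≫ wb) * ((toUnit X ≫ wb) * (x ≫ D.u a) * (toUnit X ≫ wb)⁻¹) * (toUnit X ≫ wb)⁻¹ = nx ≫ D.u a := by
  refine ⟨?_, ?_, ?_⟩
  · refine eq_of_rankTwo D bs ha hb hne hd _ _ fun C _ j h => ?_
    haveI := h.reduced; haveI := h.smooth
    obtain ⟨f, hfa, hfb⟩ := h.fn
    simp only [rd_mul, rd_inv, rd_u, rd_w D a hwa he₁, rd_w D b hwb he₁, gc_neg j hnx]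
    exact ((cht D j).A2_rel h.geom h.hα h.pair f hfa hfb h.dual_left h.dual_right hab hba).2 _
  · refine eq_of_rankTwo D bs ha hb hne hd _ _ fun C _ j h => ?_
    haveI := h.reduced; haveI := h.smooth
    obtain ⟨f, hfa, hfb⟩ := h.fn
    simp only [rd_mul, rd_inv, rd_u, rd_w D a hwa he₁, rd_w D b hwb he₁]
    exact ((cht D j).A2_act h.geom h.hα h.pair f hfa hfb h.dual_left h.dual_right hab hba _).1
  · refine eq_of_rankTwo D bs ha hb hne hd _ _ fun C _ j h => ?_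
    haveI := h.reduced; haveI := h.smooth
    obtain ⟨f, hfa, hfb⟩ := h.fn
    simp only [rd_mul, rd_inv, rd_u, rd_w D a hwa he₁, rd_w D b hwb he₁, gc_neg j hnx]
    exact ((cht D j).A2_act h.geom h.hα h.pair f hfa hfb h.dual_left h.dual_right hab hba _).2

end Groth.Agent.RootChartLib
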