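import Groth.Agent.RootChartLib.ClosedTors
import Groth.Agent.RootChartLib.Glue
import Groth.Agent.RootChartLib.CellOpen
import Groth.Agent.GrpSchLib.MonoSubgroup
import Groth.Agent.GrpSchLib.RankOneNonComm
import Groth.Agent.GModLib.ReductiveCartan

/-!
# The subgroup scheme of a closed set of roots in a half space
-/

set_option autoImplicit false
set_option backward.isDefEq.respectTransparency false
set_option backward.isDefEq.respectTransparency.types false

universe u

open CategoryTheory Limits AlgebraicGeometry MonoidalCategory CartesianMonoidalCategory MonObj GrpObj WithConv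
open scoped TensorProduct

namespace Groth.Agent.RootChartLib

open GrpSchLib GrpSchLib.AffineHopf GModLib DynLib RankLib.SplitRedPts

variable {S : Scheme.{u}} {G : Over S} [GrpObj G] (D : Red.SplitRed G)

section Power

variable {R : Type u} [CommRing R] (a : Spec (CommRingCat.of R) ⟶ S) {C C' : Type u} [CommRing C] [Algebra R C]
  [CommRing C'] [Algebra R C'] {m : ℕ}

theorem gaPowPt_injective : Function.Injective (gaPowPt a : (Fin m → C) → _) := fun c c' h => funext fun i => by
  have h1 := congrArg (fun p => gcA a (p ≫ powPr _ i)) h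
  simp only [gaPowPt, powPt_powPr, gcA_ptOfFn] at h1
  exact h1

theorem gaPowPt_comp (φ : C →ₐ[R] C') (c : Fin m → C) :
    (Over.map a).map (spMap φ) ≫ gaPowPt a c = gaPowPt a (φ ∘ c) := by
  refine pow_hom_ext _ _ fun i => ?_
  rw [Category.assoc, gaPowPt, gaPowPt, powPt_powPr, powPt_powPr]
  refine GaPts.gaFn_injective ?_
  show Red.gaFn _ = Red.gaFn _
  rw [GaPts.gaFn_comp, GaPts.gaFn_ptOfFn, GaPts.gaFn_ptOfFn, appTop_fnOf]
  rfl

theorem isAffineHom_pow (S : Scheme.{u}) : ∀ m : ℕ, IsAffineHom (RedSub.pow (Red.Ga S) m).hom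
  | 0 => inferInstanceAs (IsAffineHom (𝟙 S))
  | m + 1 => by
    haveI : IsAffine Red.GaZ.{u}.left := inferInstanceAs (IsAffine (Spec _))
    haveI : IsAffineHom Red.GaZ.{u}.hom := inferInstance
    have hGa : IsAffineHom (Red.Ga S).hom := MorphismProperty.pullback_snd _ _ inferInstance
    exact MorphismProperty.comp_mem _ _ _ (MorphismProperty.pullback_fst _ _ (isAffineHom_pow S m)) hGa

theorem smooth_pow (S : Scheme.{u}) : ∀ m : ℕ, Smooth (RedSub.pow (Red.Ga S) m).hom
  | 0 => inferInstanceAs (Smooth (𝟙 S))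
  | m + 1 => MorphismProperty.comp_mem _ _ _ (MorphismProperty.pullback_fst _ _ (smooth_pow S m)) (RankOne.smooth_ga S)

/-- A power of the additive group over an affine scheme. -/
theorem exists_powIso (m : ℕ) : ∃ φ : sp R (MvPolynomial (Fin m) R) ⟶ Red.bc a (RedSub.pow (Red.Ga S) m),
    IsIso φ ∧ DSPtsLib.theta a φ = gaPowPt a MvPolynomial.X := by
  let P := MvPolynomial (Fin m) R
  obtain ⟨φ, hφ⟩ := (DSPtsLib.theta_bijective (Y := sp R P) (H := RedSub.pow (Red.Ga S) m) a).2 (gaPowPt a MvPolynomial.X)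
  refine ⟨φ, ?_, hφ⟩
  have hpt : ∀ (C : Type u) (_ : CommRing C) (_ : Algebra R C) (c : Fin m → C),
      DSPtsLib.theta a (spMap (MvPolynomial.aeval c) ≫ φ) = gaPowPt a c := fun C _ _ c => by
    rw [DSPtsLib.theta_comp, hφ, gaPowPt_comp]
    exact congrArg _ (funext fun i => MvPolynomial.aeval_X _ _)
  haveI := isAffineHom_pow S m
  haveI : IsAffineHom (Red.bc a (RedSub.pow (Red.Ga S) m)).hom := MorphismProperty.pullback_snd _ _ inferInstance
  haveI : IsAffine (Red.bc a (RedSub.pow (Red.Ga S) m)).left :=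
    isAffine_of_isAffineHom (Red.bc a (RedSub.pow (Red.Ga S) m)).hom
  obtain ⟨W, _, _, e, he⟩ := GModLib.exists_sp_iso (Red.bc a (RedSub.pow (Red.Ga S) m))
  haveI := he
  obtain ⟨c, hc⟩ := exists_eq_gaPowPt a (DSPtsLib.theta a e)
  have h1 : (inv e ≫ spMap (MvPolynomial.aeval c)) ≫ φ = 𝟙 _ := by
    rw [← cancel_epi e, Category.comp_id, Category.assoc, IsIso.hom_inv_id_assoc]
    exact (DSPtsLib.theta_bijective a).1 ((hpt W _ _ c).trans hc.symm)
  refine ⟨inv e ≫ spMap (MvPolynomial.aeval c), ?_, h1⟩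
  obtain ⟨g, hg⟩ := exists_eq_spMap' (φ ≫ inv e ≫ spMap (MvPolynomial.aeval c))
  have h2 : spMap g ≫ φ = φ := by rw [← hg, Category.assoc, h1, Category.comp_id]
  have h3 := congrArg (DSPtsLib.theta a) h2
  rw [DSPtsLib.theta_comp, hφ, gaPowPt_comp] at h3
  rw [hg, ← spMap_id]
  congr 1
  exact MvPolynomial.algHom_ext fun i => congrFun (gaPowPt_injective a h3) i

end Power

variable {m : ℕ} (e : Fin m → D.idx) (f : D.M →+ ℤ)

theorem isClosedImmersion_prodMap_bc (hp : ∀ i, 0 < f (D.P.root (e i))) (he : Function.Injective e)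
    {R : Type u} [CommRing R] (a : Spec (CommRingCat.of R) ⟶ S) :
    IsClosedImmersion ((Over.pullback a).map (RedSub.prodMap (Red.Ga S) m fun k => D.u (e k))).left := by
  let ε := (model D a).iso
  haveI : IsMonHom ε.hom := (model D a).isMonHom
  haveI := smooth_model D a ε
  obtain ⟨φ, hφi, hφ⟩ := exists_powIso a m
  haveI := hφi
  let P := MvPolynomial (Fin m) R
  let c₀ : Fin m → P := fun i => MvPolynomial.X i
  have key : φ ≫ (Over.pullback a).map (RedSub.prodMap (Red.Ga S) m fun k => D.u (e k)) ≫ ε.hom =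
      spMap ((chart D a ε).Phi e) := by
    have h := rdA_gaPowPt D a ε e c₀
    rw [← hφ, ← BC.theta_map, rdA_theta] at h
    rw [← Category.assoc, ← spMap_hpt, h]
    rfl
  have hcl : IsClosedImmersion (spMap ((chart D a ε).Phi e)).left :=
    IsClosedImmersion.spec_of_surjective (CommRingCat.ofHom ((chart D a ε).Phi e).toRingHom)
      ((chart D a ε).Phi_surjective f e hp he)
  rw [← key, Over.comp_left, Over.comp_left] at hcl
  haveI : IsIso φ.left := inferInstanceAs (IsIso ((Over.forget _).map φ))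
  haveI : IsIso ε.hom.left := inferInstanceAs (IsIso ((Over.forget _).map ε.hom))
  exact (MorphismProperty.cancel_right_of_respectsIso (P := @IsClosedImmersion) _ ε.hom.left).mp
    ((MorphismProperty.cancel_left_of_respectsIso (P := @IsClosedImmersion) φ.left _).mp hcl)

theorem isClosedImmersion_prodMap_left (hp : ∀ i, 0 < f (D.P.root (e i))) (he : Function.Injective e) :
    IsClosedImmersion (RedSub.prodMap (Red.Ga S) m fun k => D.u (e k)).left := by
  let U := S.affineOpenCover
  refine IsZariskiLocalAtTarget.of_openCover (P := @IsClosedImmersion) (U.openCover.pullback₁ G.hom) fun i => ?_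
  let a := U.f i
  let v := RedSub.prodMap (Red.Ga S) m fun k => D.u (e k)
  have h := isClosedImmersion_prodMap_bc D e f hp he (R := U.X i) (U.f i)
  let g := v.left
  let g' := ((Over.pullback a).map v).left
  have hsq : IsPullback (pullback.fst (RedSub.pow (Red.Ga S) m).hom a) g' g (pullback.fst G.hom a) := by
    refine IsPullback.of_bot ?_ ?_ (IsPullback.of_hasPullback G.hom a)
    · rw [show g ≫ G.hom = (RedSub.pow (Red.Ga S) m).hom from Over.w _,
        show g' ≫ pullback.snd G.hom a = pullback.snd (RedSub.pow (Red.Ga S) m).hom a from pullback.lift_snd _ _ _]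
      exact IsPullback.of_hasPullback _ _
    · exact (pullback.lift_fst _ _ _).symm
  show IsClosedImmersion (pullback.snd g (pullback.fst G.hom a))
  rw [← hsq.isoPullback_inv_snd]
  infer_instance

variable (Ψ : Set D.idx) (hpos : ∀ r ∈ Ψ, 0 < f (D.P.root r))
  (hcl : ∀ (r a b : D.idx) (i j : ℕ), a ∈ Ψ → b ∈ Ψ → 1 ≤ i → 1 ≤ j →
    D.P.root r = i • D.P.root a + j • D.P.root b → r ∈ Ψ)
  (he : Function.Injective e) (hrange : ∀ r, r ∈ Set.range e ↔ r ∈ Ψ)

section Points

variable {R : Type u} [CommRing R] (a : Spec (CommRingCat.of R) ⟶ S)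
  {C : Type u} [CommRing C] [Algebra R C]

/-- The reading of points as a homomorphism. -/
noncomputable def rdAHom : ((Over.map a).obj (sp R C) ⟶ G) →* WithConv ((model D a).A →ₐ[R] C) :=
  haveI := (model D a).isMonHom
  MonoidHom.mk' (rdA a (model D a).iso) (rdA_mul a (model D a).iso)

include hpos hcl he hrange in
/-- The points of the subgroup of a closed set of roots. -/
theorem exists_gaPow_iff (g : (Over.map a).obj (sp R C) ⟶ G) :
    (∃ p, p ≫ (RedSub.prodMap (Red.Ga S) m fun k => D.u (e k)) = g) ↔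
      rdAHom D a g ∈ (chart D a (model D a).iso).span Ψ C := by
  classical
  haveI := (model D a).isMonHom
  haveI := smooth_model D a (model D a).iso
  have hm := fun i => (hrange _).mp ⟨i, rfl⟩
  constructor
  · rintro ⟨p, rfl⟩
    obtain ⟨c, rfl⟩ := exists_eq_gaPowPt a p
    show rdA a _ _ ∈ _
    rw [rdA_gaPowPt]
    exact Chart.prodPt_mem _ _ _ fun i => Chart.rPt_mem_span _ (hm i) _
  · intro h
    obtain ⟨c, hc⟩ := (chart D a (model D a).iso).exists_prodPt_span (f := f) hpos (geomFibres D a _) hcl e hm he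
      (fun r hr => (hrange r).mpr hr) h
    exact ⟨gaPowPt a c, rdA_injective a (model D a).iso ((rdA_gaPowPt D a _ e c).trans hc)⟩

end Points

include hpos hcl he hrange in
/-- Morphisms with values in the subgroup of a closed set of roots. -/
theorem exists_fac_iff {X : Over S} (g : X ⟶ G) :
    (∃ z, z ≫ (RedSub.prodMap (Red.Ga S) m fun k => D.u (e k)) = g) ↔
      ∀ (C : Type u) (_ : CommRing C) (j : Spec (CommRingCat.of C) ⟶ X.left),
        rdAHom D (base (X := X) j) (test j ≫ g) ∈ (chart D (base (X := X) j) (model D (base (X := X) j)).iso).span Ψ C := by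
  have hp : ∀ i, 0 < f (D.P.root (e i)) := fun i => hpos _ ((hrange _).mp ⟨i, rfl⟩)
  haveI := mono_prodMap D e f hp he
  refine ⟨?_, fun h => exists_factor_of_test _ g fun C _ j =>
    (exists_gaPow_iff D e f Ψ hpos hcl he hrange _ _).mpr (h C inferInstance j)⟩
  rintro ⟨z, rfl⟩ C _ j
  exact (exists_gaPow_iff D e f Ψ hpos hcl he hrange _ _).mp ⟨test j ≫ z, Category.assoc _ _ _⟩

include hpos hcl he hrange in
theorem exists_grpObj_pow : ∃ str : GrpObj (RedSub.pow (Red.Ga S) m),
    @IsMonHom (Over S) _ _ (RedSub.pow (Red.Ga S) m) G str.toMonObj _ (RedSub.prodMap (Red.Ga S) m fun k => D.u (e k)) := by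
  have hp : ∀ i, 0 < f (D.P.root (e i)) := fun i => hpos _ ((hrange _).mp ⟨i, rfl⟩)
  haveI := mono_prodMap D e f hp he
  let v := RedSub.prodMap (Red.Ga S) m fun k => D.u (e k)
  have key := fun {X : Over S} (g : X ⟶ G) => exists_fac_iff D e f Ψ hpos hcl he hrange g
  obtain ⟨η', hη⟩ := (key (1 : 𝟙_ (Over S) ⟶ G)).mpr fun C _ j => by
    rw [MonObj.comp_one, map_one]; exact Subgroup.one_mem _
  obtain ⟨μ', hμ⟩ := (key ((fst _ _ ≫ v) * (snd _ _ ≫ v))).mpr fun C _ j => by
    rw [MonObj.comp_mul, map_mul]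
    exact Subgroup.mul_mem _ ((key _).mp ⟨fst _ _, rfl⟩ C inferInstance j) ((key _).mp ⟨snd _ _, rfl⟩ C inferInstance j)
  obtain ⟨ι', hι⟩ := (key v⁻¹).mpr fun C _ j => by
    rw [GrpObj.comp_inv, map_inv]
    exact Subgroup.inv_mem _ ((key _).mp ⟨𝟙 _, Category.id_comp _⟩ C inferInstance j)
  refine GrpSchLib.exists_grpObj_of_mono v η' (hη.trans ?_) μ' hμ ι' hι
  rw [Hom.one_def, toUnit_unique (toUnit (𝟙_ (Over S))) (𝟙 _), Category.id_comp]

include hpos hcl he hrange in
theorem exists_torus_conj {X : Over S} (t : X ⟶ D.T) (x : X ⟶ RedSub.pow (Red.Ga S) m) :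
    ∃ x', (t ≫ D.i) * (x ≫ RedSub.prodMap (Red.Ga S) m fun k => D.u (e k)) * (t ≫ D.i)⁻¹ =
      x' ≫ RedSub.prodMap (Red.Ga S) m fun k => D.u (e k) := by
  obtain ⟨z, hz⟩ := (exists_fac_iff D e f Ψ hpos hcl he hrange
      ((t ≫ D.i) * (x ≫ RedSub.prodMap (Red.Ga S) m fun k => D.u (e k)) * (t ≫ D.i)⁻¹)).mpr fun C _ j => by
    obtain ⟨y, hy⟩ := (DSPtsLib.theta_bijective (Y := sp C C) (H := D.T) (base (X := X) j)).2 (test j ≫ t)
    obtain ⟨χ, rfl⟩ := exists_eq_tpt D _ y
    haveI := (model D (base (X := X) j)).isMonHom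
    haveI := smooth_model D (base (X := X) j) (model D (base (X := X) j)).iso
    have ht : rdAHom D (base (X := X) j) (test j ≫ t ≫ D.i) = (chart D _ (model D (base (X := X) j)).iso).tPt χ := by
      rw [← Category.assoc, ← hy]; exact rdA_i D _ _ χ
    rw [MonObj.comp_mul, MonObj.comp_mul, GrpObj.comp_inv, map_mul, map_mul, map_inv, ht]
    exact Chart.tPt_conj_mem_span _ χ ((exists_fac_iff D e f Ψ hpos hcl he hrange _).mp ⟨x, rfl⟩ C inferInstance j)
  exact ⟨z, hz.symm⟩

include hpos hcl he hrange in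
/-- The geometric fibres contain no subtori. -/
theorem hasNoSubtorus_fibre [GrpObj (RedSub.pow (Red.Ga S) m)]
    [IsMonHom (RedSub.prodMap (Red.Ga S) m fun k => D.u (e k))]
    {k : Type u} [Field k] [IsAlgClosed k] (q : Spec (CommRingCat.of k) ⟶ S) :
    Red.HasNoSubtorus k (Red.bc q (RedSub.pow (Red.Ga S) m)) := by
  intro T' _ j _ _ hT
  haveI := isAffineHom_pow S m
  haveI : IsAffineHom (Red.bc q (RedSub.pow (Red.Ga S) m)).hom := MorphismProperty.pullback_snd _ _ inferInstance
  haveI : IsAffine (Red.bc q (RedSub.pow (Red.Ga S) m)).left :=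
    isAffine_of_isAffineHom (Red.bc q (RedSub.pow (Red.Ga S) m)).hom
  haveI := smooth_pow S m
  haveI : Smooth (Red.bc q (RedSub.pow (Red.Ga S) m)).hom := inferInstanceAs (Smooth (pullback.snd _ q))
  have hp : ∀ i, 0 < f (D.P.root (e i)) := fun i => hpos _ ((hrange _).mp ⟨i, rfl⟩)
  haveI := mono_prodMap D e f hp he
  suffices h1 : j = 1 by
    refine isTrivialGrp_of_id_eq_one ?_
    rw [← cancel_mono j, Category.id_comp, MonObj.one_comp, h1]
  refine LineGroups.ext_ev (AlgHom.ext fun P => ?_)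
  by_contra hne
  obtain ⟨t, n, hn, htn, ht⟩ := exists_torsion_ne_zero hT (sub_ne_zero.mpr hne)
  have htj : t ≫ j = 1 := by
    let x : sp k k ⟶ Red.bc q (RedSub.pow (Red.Ga S) m) := t ≫ j
    have hx : x ^ n = 1 := by
      show (t ≫ j) ^ n = 1
      rw [← MonObj.pow_comp, htn, MonObj.one_comp]
    let th : (sp k k ⟶ Red.bc q (RedSub.pow (Red.Ga S) m)) →* ((Over.map q).obj (sp k k) ⟶ RedSub.pow (Red.Ga S) m) :=
      MonoidHom.mk' (DSPtsLib.theta q) (DSPtsLib.theta_mul q)
    haveI := smooth_model D q (model D q).iso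
    have h2 : rdAHom D q (th x ≫ RedSub.prodMap (Red.Ga S) m fun k => D.u (e k)) = 1 := by
      refine (chart D q (model D q).iso).torsion_eq_one (f := f) hpos (geomFibres D q _) hcl
        ((exists_gaPow_iff D e f Ψ hpos hcl he hrange q _).mp ⟨th x, rfl⟩) (IsUnit.mk0 _ hn) ?_
      rw [← map_pow, ← MonObj.pow_comp, ← map_pow th, hx, map_one, MonObj.one_comp, map_one]
    have h3 : th x ≫ (RedSub.prodMap (Red.Ga S) m fun k => D.u (e k)) = (1 : _ ⟶ RedSub.pow (Red.Ga S) m) ≫
        RedSub.prodMap (Red.Ga S) m fun k => D.u (e k) := by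
      rw [MonObj.one_comp]
      exact rdA_injective q (model D q).iso (h2.trans (map_one (rdAHom D q)).symm)
    exact (DSPtsLib.theta_bijective q).1 (((cancel_mono _).mp h3).trans (map_one th).symm)
  refine ht ?_
  rw [map_sub, pullFn_ev, pullFn_ev, htj, MonObj.comp_one, sub_self]

theorem connected_pow_fibre {k : Type u} [Field k] (q : Spec (CommRingCat.of k) ⟶ S) (m : ℕ) :
    ConnectedSpace (Red.bc q (RedSub.pow (Red.Ga S) m)).left := by
  obtain ⟨φ, hφ, -⟩ := exists_powIso (R := k) q m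
  haveI := hφ
  haveI : IsIso φ.left := inferInstanceAs (IsIso ((Over.forget _).map φ))
  haveI : IrreducibleSpace ↥(sp k (MvPolynomial (Fin m) k)).left :=
    inferInstanceAs (IrreducibleSpace (Spec (CommRingCat.of (MvPolynomial (Fin m) k))))
  haveI : IrreducibleSpace ↥(Red.bc q (RedSub.pow (Red.Ga S) m)).left :=
    (asIso φ.left).hom.homeomorph.irreducibleSpace_iff.mp inferInstance
  infer_instance

end Groth.Agent.RootChartLib
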