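import Groth.Agent.RootChartLib.Commutator
import Groth.Agent.RootChartLib.CellGeom

/-!
# Points of the group of a closed set of roots of a half space
-/

set_option autoImplicit false
set_option backward.isDefEq.respectTransparency false
set_option backward.isDefEq.respectTransparency.types false

universe u

open WithConv
open scoped TensorProduct

namespace Groth.Agent.RootChartLib

open DynLib DynSm

namespace Chart

variable {R : Type u} [CommRing R] {A : Type u} [CommRing A] [HopfAlgebra R A] {M : Type} [AddCommGroup M]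
  {idx : Type} (D : Chart R A M idx) (Ψ : Set idx) (f : M →+ ℤ) (C : Type u) [CommRing C] [Algebra R C]

/-- The group generated by the root groups in a set of roots above a level. -/
noncomputable def lev (N : ℤ) : Subgroup (WithConv (A →ₐ[R] C)) :=
  Subgroup.closure {g | ∃ r ∈ Ψ, N ≤ f (D.α r) ∧ ∃ x : C, g = D.rPt r x}

/-- The group generated by the root groups in a set of roots. -/
noncomputable def span : Subgroup (WithConv (A →ₐ[R] C)) :=
  Subgroup.closure {g | ∃ r ∈ Ψ, ∃ x : C, g = D.rPt r x}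

variable {Ψ f C}

theorem lev_anti {N N' : ℤ} (h : N ≤ N') : D.lev Ψ f C N' ≤ D.lev Ψ f C N :=
  Subgroup.closure_mono fun _ ⟨r, hr, hN, x, e⟩ => ⟨r, hr, h.trans hN, x, e⟩

theorem lev_le_span (N : ℤ) : D.lev Ψ f C N ≤ D.span Ψ C :=
  Subgroup.closure_mono fun _ ⟨r, hr, _, x, e⟩ => ⟨r, hr, x, e⟩

theorem rPt_mem_lev {N : ℤ} {r : idx} (hr : r ∈ Ψ) (hN : N ≤ f (D.α r)) (x : C) : D.rPt r x ∈ D.lev Ψ f C N :=
  Subgroup.subset_closure ⟨r, hr, hN, x, rfl⟩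

theorem rPt_mem_span {r : idx} (hr : r ∈ Ψ) (x : C) : D.rPt r x ∈ D.span Ψ C :=
  Subgroup.subset_closure ⟨r, hr, x, rfl⟩

variable (hpos : ∀ r ∈ Ψ, 0 < f (D.α r))

include hpos in
theorem span_eq_lev : D.span Ψ C = D.lev Ψ f C 1 :=
  le_antisymm (Subgroup.closure_mono fun _ ⟨r, hr, x, e⟩ => ⟨r, hr, hpos r hr, x, e⟩) (D.lev_le_span 1)

theorem prodPt_mem {H : Subgroup (WithConv (A →ₐ[R] C))} : ∀ {m : ℕ} (e : Fin m → idx) (c : Fin m → C),
    (∀ i, D.rPt (e i) (c i) ∈ H) → D.prodPt e c ∈ H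
  | 0, _, _, _ => H.one_mem
  | _ + 1, e, c, h => H.mul_mem (h 0) (prodPt_mem (fun i => e i.succ) (fun i => c i.succ) fun i => h i.succ)

variable [Module.Free ℤ M] [Module.Finite ℤ M] [Algebra.Smooth R A] [Fintype idx] (hD : D.GeomFibres)
  (hcl : ∀ (r a b : idx) (i j : ℕ), a ∈ Ψ → b ∈ Ψ → 1 ≤ i → 1 ≤ j → D.α r = i • D.α a + j • D.α b → r ∈ Ψ)

include hpos hD hcl in
theorem comm_root_mem {a b : idx} (ha : a ∈ Ψ) (hb : b ∈ Ψ) {N : ℤ} (hN : N ≤ f (D.α b)) (x y : C) :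
    D.rPt a x * D.rPt b y * (D.rPt a x)⁻¹ * (D.rPt b y)⁻¹ ∈ D.lev Ψ f C (N + 1) := by
  classical
  obtain ⟨ep, hepi, hep⟩ := exists_enum fun r => 0 < f (D.α r)
  obtain ⟨P, hP, hPm⟩ := D.exists_comm_poly f hD ep (fun i => (hep _).mp ⟨i, rfl⟩) hepi
    (fun r hr => (hep r).mpr hr) (hpos a ha) (hpos b hb)
  show D.comm a b x y ∈ _
  rw [hP C x y]
  refine D.prodPt_mem ep _ fun i => ?_
  by_cases h0 : P i = 0
  · rw [h0, map_zero, rPt_zero]; exact Subgroup.one_mem _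
  obtain ⟨v, hv⟩ : ∃ v, (P i).coeff v ≠ 0 := by
    by_contra h
    push Not at h
    exact h0 (MvPolynomial.ext _ _ fun v => by rw [h, MvPolynomial.coeff_zero])
  obtain ⟨h1, h2, h3⟩ := hPm i v hv
  refine D.rPt_mem_lev (hcl _ a b _ _ ha hb h1 h2 h3.symm) ?_ _
  rw [← h3, map_add, map_nsmul, map_nsmul, nsmul_eq_mul, nsmul_eq_mul]
  have := hpos a ha
  have : (1 : ℤ) ≤ v 0 := by exact_mod_cast h1
  have : (1 : ℤ) ≤ v 1 := by exact_mod_cast h2
  nlinarith [hpos b hb]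

include hpos hD hcl in
theorem comm_mem (N : ℤ) : ∀ g ∈ D.span Ψ C, ∀ h ∈ D.lev Ψ f C N, g * h * g⁻¹ * h⁻¹ ∈ D.lev Ψ f C (N + 1) := by
  classical
  obtain ⟨B, hB⟩ : ∃ B : ℤ, ∀ r, f (D.α r) < B :=
    ⟨(∑ r, |f (D.α r)|) + 1, fun r => Int.lt_add_one_iff.mpr
      ((le_abs_self _).trans (Finset.single_le_sum (fun s _ => abs_nonneg (f (D.α s))) (Finset.mem_univ r)))⟩
  induction hd : (B - N).toNat using Nat.strong_induction_on generalizing N with
  | _ d ih =>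
  by_cases hNB : B ≤ N
  · intro g _ h hh
    have hbot : D.lev Ψ f C N = ⊥ := by
      rw [eq_bot_iff, lev, Subgroup.closure_le]
      rintro _ ⟨r, -, hr, -⟩
      exact absurd (hB r) (not_lt.mpr (hNB.trans hr))
    rw [hbot, Subgroup.mem_bot] at hh
    subst hh
    simp [Subgroup.one_mem]
  push Not at hNB
  let K := D.lev Ψ f C (N + 1)
  have hnorm : ∀ g ∈ D.span Ψ C, ∀ k ∈ K, g * k * g⁻¹ ∈ K := fun g hg k hk => by
    have h := D.lev_anti (show N + 1 ≤ N + 1 + 1 by omega) (ih _ (by omega) (N + 1) rfl g hg k hk)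
    have h' := K.mul_mem h hk
    rwa [inv_mul_cancel_right] at h'
  intro g hg
  induction hg using Subgroup.closure_induction with
  | mem g hg =>
    obtain ⟨a, ha, x, rfl⟩ := hg
    intro h hh
    induction hh using Subgroup.closure_induction with
    | mem h hh =>
      obtain ⟨b, hb, hN, y, rfl⟩ := hh
      exact D.comm_root_mem hpos hD hcl ha hb hN x y
    | one => simp [Subgroup.one_mem]
    | mul h₁ h₂ hh₁ _ i₁ i₂ =>
      have h1 : h₁ ∈ D.span Ψ C := D.lev_le_span N hh₁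
      have e : D.rPt a x * (h₁ * h₂) * (D.rPt a x)⁻¹ * (h₁ * h₂)⁻¹ =
          (D.rPt a x * h₁ * (D.rPt a x)⁻¹ * h₁⁻¹) * (h₁ * (D.rPt a x * h₂ * (D.rPt a x)⁻¹ * h₂⁻¹) * h₁⁻¹) := by group
      rw [e]
      exact K.mul_mem i₁ (hnorm _ h1 _ i₂)
    | inv h hh i =>
      have h1 : h⁻¹ ∈ D.span Ψ C := Subgroup.inv_mem _ (D.lev_le_span N hh)
      have e : D.rPt a x * h⁻¹ * (D.rPt a x)⁻¹ * h⁻¹⁻¹ =
          h⁻¹ * (D.rPt a x * h * (D.rPt a x)⁻¹ * h⁻¹)⁻¹ * h⁻¹⁻¹ := by group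
      rw [e]
      exact hnorm _ h1 _ (K.inv_mem i)
  | one => intro h _; simp [Subgroup.one_mem]
  | mul g₁ g₂ hg₁ _ i₁ i₂ =>
    intro h hh
    have e : g₁ * g₂ * h * (g₁ * g₂)⁻¹ * h⁻¹ = g₁ * (g₂ * h * g₂⁻¹ * h⁻¹) * g₁⁻¹ * (g₁ * h * g₁⁻¹ * h⁻¹) := by group
    rw [e]
    exact K.mul_mem (hnorm _ hg₁ _ (i₂ h hh)) (i₁ h hh)
  | inv g hg i =>
    intro h hh
    have e : g⁻¹ * h * g⁻¹⁻¹ * h⁻¹ = g⁻¹ * (g * h * g⁻¹ * h⁻¹)⁻¹ * g⁻¹⁻¹ := by group
    rw [e]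
    exact hnorm _ (Subgroup.inv_mem _ hg) _ (K.inv_mem (i h hh))

include hpos hD hcl in
theorem lev_conj {N : ℤ} {g k : WithConv (A →ₐ[R] C)} (hg : g ∈ D.span Ψ C) (hk : k ∈ D.lev Ψ f C N) :
    g * k * g⁻¹ ∈ D.lev Ψ f C N := by
  have h := Subgroup.mul_mem _ (D.lev_anti (show N ≤ N + 1 by omega) (D.comm_mem hpos hD hcl N g hg k hk)) hk
  rwa [inv_mul_cancel_right] at h

variable {m : ℕ} (e : Fin m → idx) (hem : ∀ i, e i ∈ Ψ)

include hpos hD hcl in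
theorem prodPt_add : ∀ {m : ℕ} (e : Fin m → idx), (∀ i, e i ∈ Ψ) → ∀ (N : ℤ) (c d : Fin m → C),
    (∀ i, d i = 0 ∨ N ≤ f (D.α (e i))) →
      (D.prodPt e c * D.prodPt e d)⁻¹ * D.prodPt e (c + d) ∈ D.lev Ψ f C (N + 1)
  | 0, e, _, N, c, d, _ => by
    show (1 * 1 : WithConv (A →ₐ[R] C))⁻¹ * 1 ∈ _
    simp [Subgroup.one_mem]
  | k + 1, e, hem, N, c, d, hd => by
    let r := e 0
    let P := D.prodPt (fun i => e i.succ) fun i => c i.succ
    let Q := D.prodPt (fun i => e i.succ) fun i => d i.succ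
    let PQ := D.prodPt (fun i => e i.succ) fun i => c i.succ + d i.succ
    have ih : (P * Q)⁻¹ * PQ ∈ D.lev Ψ f C (N + 1) :=
      prodPt_add (fun i => e i.succ) (fun i => hem i.succ) N (fun i => c i.succ) (fun i => d i.succ) fun i => hd i.succ
    have hP : P ∈ D.span Ψ C := D.prodPt_mem _ _ fun i => D.rPt_mem_span (hem _) _
    have hQ : Q ∈ D.span Ψ C := D.prodPt_mem _ _ fun i => D.rPt_mem_span (hem _) _
    have hu : D.rPt r (d 0) ∈ D.lev Ψ f C N := by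
      rcases hd 0 with h | h
      · rw [h, rPt_zero]; exact Subgroup.one_mem _
      · exact D.rPt_mem_lev (hem 0) h _
    have hc := D.comm_mem hpos hD hcl N P⁻¹ (Subgroup.inv_mem _ hP) _ hu
    show (D.rPt r (c 0) * P * (D.rPt r (d 0) * Q))⁻¹ * (D.rPt r (c 0 + d 0) * PQ) ∈ _
    have e1 : (D.rPt r (c 0) * P * (D.rPt r (d 0) * Q))⁻¹ * (D.rPt r (c 0 + d 0) * PQ) =
        (Q⁻¹ * ((D.rPt r (d 0))⁻¹ * (P⁻¹ * D.rPt r (d 0) * P⁻¹⁻¹ * (D.rPt r (d 0))⁻¹) * (D.rPt r (d 0))⁻¹⁻¹) * Q⁻¹⁻¹) *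
          ((P * Q)⁻¹ * PQ) := by
      rw [rPt_add]
      group
    rw [e1]
    exact Subgroup.mul_mem _ (D.lev_conj hpos hD hcl (Subgroup.inv_mem _ hQ)
      (D.lev_conj hpos hD hcl (Subgroup.inv_mem _ (D.lev_le_span N hu)) hc)) ih

variable (he : Function.Injective e) (hrange : ∀ r ∈ Ψ, r ∈ Set.range e)

include hpos hD hcl he hem hrange in
/-- Every point of the group is an ordered product, in any order. -/
theorem exists_prodPt_span {g : WithConv (A →ₐ[R] C)} (hg : g ∈ D.span Ψ C) : ∃ c, D.prodPt e c = g := by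
  classical
  have hlayer : ∀ (N : ℤ), ∀ h ∈ D.lev Ψ f C N, ∃ d : Fin m → C, (∀ i, d i = 0 ∨ N ≤ f (D.α (e i))) ∧
      (D.prodPt e d)⁻¹ * h ∈ D.lev Ψ f C (N + 1) := by
    intro N h hh
    induction hh using Subgroup.closure_induction with
    | mem h hh =>
      obtain ⟨r, hr, hN, y, rfl⟩ := hh
      obtain ⟨i, rfl⟩ := hrange r hr
      refine ⟨Pi.single i y, fun l => ?_, by rw [prodPt_single, inv_mul_cancel]; exact Subgroup.one_mem _⟩
      by_cases hl : l = i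
      · subst hl; exact Or.inr hN
      · exact Or.inl (by simp [hl])
    | one => exact ⟨fun _ => 0, fun _ => Or.inl rfl, by simp [prodPt_zero, Subgroup.one_mem]⟩
    | mul h₁ h₂ hh₁ hh₂ i₁ i₂ =>
      obtain ⟨d₁, hd₁, k₁⟩ := i₁
      obtain ⟨d₂, hd₂, k₂⟩ := i₂
      refine ⟨d₁ + d₂, fun i => ?_, ?_⟩
      · rcases hd₁ i with a | a
        · rcases hd₂ i with b | b
          · left; simp [a, b]
          · exact Or.inr b
        · exact Or.inr a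
      · have hP₂ : D.prodPt e d₂ ∈ D.span Ψ C := D.prodPt_mem _ _ fun i => D.rPt_mem_span (hem _) _
        have hk := D.prodPt_add hpos hD hcl e hem N d₁ d₂ hd₂
        have e1 : (D.prodPt e (d₁ + d₂))⁻¹ * (h₁ * h₂) = ((D.prodPt e d₁ * D.prodPt e d₂)⁻¹ * D.prodPt e (d₁ + d₂))⁻¹ *
            ((D.prodPt e d₂)⁻¹ * ((D.prodPt e d₁)⁻¹ * h₁) * (D.prodPt e d₂)⁻¹⁻¹) * ((D.prodPt e d₂)⁻¹ * h₂) := by group
        rw [e1]
        exact Subgroup.mul_mem _ (Subgroup.mul_mem _ (Subgroup.inv_mem _ hk)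
          (D.lev_conj hpos hD hcl (Subgroup.inv_mem _ hP₂) k₁)) k₂
    | inv h hh i₁ =>
      obtain ⟨d, hd, k⟩ := i₁
      refine ⟨-d, fun i => (hd i).imp (fun a => by simp [a]) id, ?_⟩
      have hk := D.prodPt_add hpos hD hcl e hem N d (-d) fun i => (hd i).imp (fun a => by simp [a]) id
      rw [add_neg_cancel, Pi.zero_def, prodPt_zero, _root_.mul_one] at hk
      have hP : D.prodPt e d ∈ D.span Ψ C := D.prodPt_mem _ _ fun i => D.rPt_mem_span (hem _) _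
      have hP' : D.prodPt e (-d) ∈ D.span Ψ C := D.prodPt_mem _ _ fun i => D.rPt_mem_span (hem _) _
      have e1 : (D.prodPt e (-d))⁻¹ * h⁻¹ = (D.prodPt e d * D.prodPt e (-d))⁻¹ *
          (D.prodPt e d * ((D.prodPt e d)⁻¹ * h)⁻¹ * (D.prodPt e d)⁻¹) := by group
      rw [e1]
      exact Subgroup.mul_mem _ hk (D.lev_conj hpos hD hcl hP (Subgroup.inv_mem _ k))
  have happrox : ∀ N : ℕ, ∃ c : Fin m → C, (D.prodPt e c)⁻¹ * g ∈ D.lev Ψ f C (N + 1) := by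
    intro N
    induction N with
    | zero =>
      refine ⟨fun _ => 0, ?_⟩
      rw [prodPt_zero, inv_one, _root_.one_mul, Nat.cast_zero, zero_add, ← D.span_eq_lev hpos]
      exact hg
    | succ N ih =>
      obtain ⟨c, hc⟩ := ih
      obtain ⟨d, hd, hk⟩ := hlayer _ _ hc
      refine ⟨c + d, ?_⟩
      have hk' := D.prodPt_add hpos hD hcl e hem _ c d hd
      have e1 : (D.prodPt e (c + d))⁻¹ * g = ((D.prodPt e c * D.prodPt e d)⁻¹ * D.prodPt e (c + d))⁻¹ *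
          ((D.prodPt e d)⁻¹ * ((D.prodPt e c)⁻¹ * g)) := by group
      rw [e1, show (((N + 1 : ℕ) : ℤ) + 1) = (N : ℤ) + 1 + 1 by push_cast; ring]
      exact Subgroup.mul_mem _ (Subgroup.inv_mem _ hk') hk
  obtain ⟨c, hc⟩ := happrox (∑ r, |f (D.α r)|).toNat
  refine ⟨c, ?_⟩
  have hbot : D.lev Ψ f C (((∑ r, |f (D.α r)|).toNat : ℤ) + 1) = ⊥ := by
    rw [eq_bot_iff, lev, Subgroup.closure_le]
    rintro _ ⟨r, -, hr, -⟩
    exfalso
    have h1 := Finset.single_le_sum (fun s _ => abs_nonneg (f (D.α s))) (Finset.mem_univ r)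
    have h2 := le_abs_self (f (D.α r))
    omega
  rw [hbot, Subgroup.mem_bot] at hc
  exact inv_mul_eq_one.mp hc

include hpos hD hcl he hem hrange in
theorem mem_span_iff {g : WithConv (A →ₐ[R] C)} : g ∈ D.span Ψ C ↔ ∃ c, D.prodPt e c = g :=
  ⟨D.exists_prodPt_span hpos hD hcl e hem he hrange, fun ⟨c, hc⟩ => hc ▸ D.prodPt_mem _ _ fun i => D.rPt_mem_span (hem _) _⟩

theorem tPt_conj_mem_span (χ : Multiplicative M →* C) {g : WithConv (A →ₐ[R] C)} (hg : g ∈ D.span Ψ C) :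
    D.tPt χ * g * (D.tPt χ)⁻¹ ∈ D.span Ψ C := by
  induction hg using Subgroup.closure_induction with
  | mem g hg =>
    obtain ⟨r, hr, x, rfl⟩ := hg
    rw [tPt_conj]
    exact D.rPt_mem_span hr _
  | one => simp [Subgroup.one_mem]
  | mul g₁ g₂ _ _ i₁ i₂ =>
    rw [show D.tPt χ * (g₁ * g₂) * (D.tPt χ)⁻¹ = (D.tPt χ * g₁ * (D.tPt χ)⁻¹) * (D.tPt χ * g₂ * (D.tPt χ)⁻¹) by group]
    exact Subgroup.mul_mem _ i₁ i₂
  | inv g _ i =>
    rw [show D.tPt χ * g⁻¹ * (D.tPt χ)⁻¹ = (D.tPt χ * g * (D.tPt χ)⁻¹)⁻¹ by group]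
    exact Subgroup.inv_mem _ i

end Chart

end Groth.Agent.RootChartLib
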