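import Groth.Agent.RootChartLib.ClosedPts

/-!
# The group of a closed set of roots in a half space has no torsion of invertible order
-/

set_option autoImplicit false
set_option backward.isDefEq.respectTransparency false
set_option backward.isDefEq.respectTransparency.types false

universe u

open WithConv
open scoped TensorProduct

namespace Groth.Agent.RootChartLib

open DynLib DynSm

namespace Chart

variable {R : Type u} [CommRing R] {A : Type u} [CommRing A] [HopfAlgebra R A] {M : Type} [AddCommGroup M]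
  [Module.Free ℤ M] [Module.Finite ℤ M]
  {idx : Type} (D : Chart R A M idx) (f : M →+ ℤ) {C : Type u} [CommRing C] [Algebra R C]

/-- A root coordinate of an ordered product with coordinates in levels at least that of the root. -/
theorem coord_prodPt {m : ℕ} (e : Fin m → idx) (hp : ∀ i, 0 < f (D.α (e i))) (he : Function.Injective e) (r : idx)
    (hr : f (D.α r) ≠ 0) (c : Fin m → C) (hc : ∀ i, c i = 0 ∨ f (D.α r) ≤ f (D.α (e i))) :
    (D.prodPt e c).ofConv (D.coord r) = ∑ i, open Classical in if e i = r then c i else 0 := by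
  classical
  have key : ∀ v ∈ (D.Phi e (D.coord r)).support, (v.prod fun l n => c l ^ n) ≠ 0 →
      ∃ i, v = Finsupp.single i 1 ∧ e i = r := by
    intro v hv hne
    have hwv : D.wv e v = D.α r := by
      have h := D.coeff_Phi_wt e (D.α r) (D.coord r) v
      rw [(D.coord_spec r).1] at h
      by_contra hh
      rw [if_neg hh] at h
      exact MvPolynomial.mem_support_iff.mp hv h
    have hl : ∀ l ∈ v.support, f (D.α r) ≤ f (D.α (e l)) := fun l hl =>
      (hc l).resolve_left fun h0 => hne (Finset.prod_eq_zero hl (by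
        show c l ^ v l = 0
        rw [h0, zero_pow (Finsupp.mem_support_iff.mp hl)]))
    have hsum : f (D.α r) = ∑ l ∈ v.support, (v l : ℤ) * f (D.α (e l)) := by
      rw [← hwv, wv, map_finsuppSum, Finsupp.sum]
      exact Finset.sum_congr rfl fun l _ => by rw [map_nsmul, nsmul_eq_mul]
    have hv0 : v.support.Nonempty := Finsupp.support_nonempty_iff.mpr fun h => hr (by simp [hsum, h])
    have hge : ∀ l ∈ v.support, f (D.α r) ≤ (v l : ℤ) * f (D.α (e l)) := fun l hl' =>
      (hl l hl').trans (le_mul_of_one_le_left (hp l).le (by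
        have := Finsupp.mem_support_iff.mp hl'
        omega))
    obtain ⟨i, hi⟩ := hv0
    have hrpos : 0 < f (D.α r) := by
      rw [hsum]
      exact Finset.sum_pos (fun l hl' => mul_pos (by have := Finsupp.mem_support_iff.mp hl'; omega) (hp l)) ⟨i, hi⟩
    have hall : ∀ l ∈ v.support, l = i := fun l hl' => by
      by_contra hli
      have h2 := Finset.sum_le_sum_of_subset_of_nonneg (f := fun l => (v l : ℤ) * f (D.α (e l)))
        (show ({l, i} : Finset (Fin m)) ⊆ v.support by simp [Finset.insert_subset_iff, hl', hi])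
        (fun x _ _ => mul_nonneg (Int.natCast_nonneg _) (hp x).le)
      rw [Finset.sum_pair hli, ← hsum] at h2
      have := hge l hl'
      have := hge i hi
      omega
    have hvi : v = Finsupp.single i (v i) := by
      ext l
      by_cases hli : l = i
      · subst hli; simp
      · rw [Finsupp.single_eq_of_ne hli]
        by_contra hh
        exact hli (hall l (Finsupp.mem_support_iff.mpr hh))
    have hval : f (D.α r) = (v i : ℤ) * f (D.α (e i)) := by
      rw [hsum, hvi, Finsupp.support_single_ne_zero _ (Finsupp.mem_support_iff.mp hi)]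
      simp
    have h1 : (v i : ℤ) = 1 := by
      have h3 := hl i hi
      rw [hval] at h3
      have h4 : (v i : ℤ) ≤ 1 := le_of_mul_le_mul_right (by rw [_root_.one_mul]; exact h3) (hp i)
      have := Finsupp.mem_support_iff.mp hi
      omega
    have hvi' : v = Finsupp.single i 1 := by rw [hvi]; congr 1; exact_mod_cast h1
    refine ⟨i, hvi', D.α_injective ?_⟩
    rw [← hwv, hvi', wv, Finsupp.sum_single_index (by exact zero_smul _ _), one_smul]
  rw [prodPt_eq, ofConv_toConv, AlgHom.comp_apply, MvPolynomial.as_sum (D.Phi e (D.coord r)), map_sum]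
  by_cases hex : ∃ i, e i = r
  · obtain ⟨i, rfl⟩ := hex
    rw [Finset.sum_eq_single i (fun j _ hj => if_neg (fun h => hj (he h))) (by simp), if_pos rfl]
    rw [Finset.sum_eq_single (Finsupp.single i 1)]
    · rw [MvPolynomial.aeval_monomial, Finsupp.prod_single_index (by exact pow_zero _), coeff_Phi_single,
        (D.coord_spec (e i)).2, Polynomial.coeff_X_one, map_one, _root_.one_mul, pow_one]
    · intro v hv hne
      rw [MvPolynomial.aeval_monomial]
      by_cases h0 : (v.prod fun l n => c l ^ n) = 0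
      · rw [h0, mul_zero]
      · obtain ⟨j, rfl, hj⟩ := key v hv h0
        exact absurd (by rw [he hj]) hne
    · intro hn
      rw [MvPolynomial.notMem_support_iff.mp hn]
      simp
  · rw [Finset.sum_eq_zero (fun i _ => if_neg fun h => hex ⟨i, h⟩), Finset.sum_eq_zero]
    intro v hv
    rw [MvPolynomial.aeval_monomial]
    by_cases h0 : (v.prod fun l n => c l ^ n) = 0
    · rw [h0, mul_zero]
    · obtain ⟨j, rfl, hj⟩ := key v hv h0
      exact absurd ⟨j, hj⟩ hex

variable {f} [Algebra.Smooth R A] [Fintype idx] {Ψ : Set idx} (hpos : ∀ r ∈ Ψ, 0 < f (D.α r)) (hD : D.GeomFibres)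
  (hcl : ∀ (r a b : idx) (i j : ℕ), a ∈ Ψ → b ∈ Ψ → 1 ≤ i → 1 ≤ j → D.α r = i • D.α a + j • D.α b → r ∈ Ψ)

include hpos hcl in
/-- The roots above a level form a closed set. -/
theorem closed_level (L : ℤ) (r a b : idx) (i j : ℕ) (ha : a ∈ {s ∈ Ψ | L ≤ f (D.α s)}) (hb : b ∈ {s ∈ Ψ | L ≤ f (D.α s)})
    (hi : 1 ≤ i) (hj : 1 ≤ j) (hab : D.α r = i • D.α a + j • D.α b) : r ∈ {s ∈ Ψ | L ≤ f (D.α s)} := by
  refine ⟨hcl r a b i j ha.1 hb.1 hi hj hab, ?_⟩
  rw [hab, map_add, map_nsmul, map_nsmul, nsmul_eq_mul, nsmul_eq_mul]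
  have h1 : f (D.α a) ≤ (i : ℤ) * f (D.α a) := le_mul_of_one_le_left (hpos a ha.1).le (by exact_mod_cast hi)
  have h2 : 0 ≤ (j : ℤ) * f (D.α b) := mul_nonneg (Int.natCast_nonneg _) (hpos b hb.1).le
  have := ha.2
  omega

include hpos hD hcl in
theorem mem_span_level {L : ℤ} {g : WithConv (A →ₐ[R] C)} (hg : g ∈ D.lev Ψ f C L) {m : ℕ} (e : Fin m → idx)
    (he : Function.Injective e) (hrange : ∀ r, r ∈ Set.range e ↔ r ∈ Ψ ∧ L ≤ f (D.α r)) :
    ∃ c, D.prodPt e c = g := by
  refine D.exists_prodPt_span (Ψ := {s ∈ Ψ | L ≤ f (D.α s)}) (f := f) (fun r hr => hpos r hr.1) hD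
    (D.closed_level hpos hcl L) e (fun i => (hrange _).mp ⟨i, rfl⟩) he (fun r hr => (hrange r).mpr hr) ?_
  refine (Subgroup.closure_mono ?_) hg
  rintro _ ⟨r, hr, hL, x, rfl⟩
  exact ⟨r, ⟨hr, hL⟩, x, rfl⟩

include hpos hD hcl in
/-- The group of a closed set of roots in a half space has no torsion of invertible order. -/
theorem torsion_eq_one {g : WithConv (A →ₐ[R] C)} (hg : g ∈ D.span Ψ C) {n : ℕ} (hn : IsUnit (n : C))
    (h : g ^ n = 1) : g = 1 := by
  classical
  obtain ⟨m, e, he, hrange⟩ : ∃ (m : ℕ) (e : Fin m → idx), Function.Injective e ∧ ∀ r, r ∈ Set.range e ↔ r ∈ Ψ :=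
    ⟨_, exists_enum fun r => r ∈ Ψ⟩
  have hem : ∀ i, e i ∈ Ψ := fun i => (hrange _).mp ⟨i, rfl⟩
  have hpe : ∀ i, 0 < f (D.α (e i)) := fun i => hpos _ (hem i)
  have hr' : ∀ r ∈ Ψ, r ∈ Set.range e := fun r hr => (hrange r).mpr hr
  have main : ∀ N : ℕ, g ∈ D.lev Ψ f C ((N : ℤ) + 1) := by
    intro N
    induction N with
    | zero =>
      rw [Nat.cast_zero, zero_add, ← D.span_eq_lev hpos]
      exact hg
    | succ N ih =>
      let L : ℤ := (N : ℤ) + 1
      let K := D.lev Ψ f C (L + 1)
      have hnorm : ∀ x ∈ D.span Ψ C, ∀ y ∈ K, x * y * x⁻¹ ∈ K := fun x hx y hy => D.lev_conj hpos hD hcl hx hy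
      -- the layer of level `L`
      obtain ⟨d, hd, hgd⟩ : ∃ d : Fin m → C, (∀ i, d i = 0 ∨ L ≤ f (D.α (e i))) ∧ (D.prodPt e d)⁻¹ * g ∈ K := by
        obtain ⟨e', he', hr''⟩ := exists_enum fun r => r ∈ Ψ ∧ L ≤ f (D.α r)
        obtain ⟨c', rfl⟩ := D.mem_span_level hpos hD hcl ih e' he' hr''
        -- reorder modulo the next level
        suffices h2 : ∀ {k : ℕ} (e' : Fin k → idx) (c' : Fin k → C), (∀ i, e' i ∈ Ψ ∧ L ≤ f (D.α (e' i))) →
            ∃ d : Fin m → C, (∀ i, d i = 0 ∨ L ≤ f (D.α (e i))) ∧ (D.prodPt e d)⁻¹ * D.prodPt e' c' ∈ K from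
          h2 e' c' fun i => (hr'' _).mp ⟨i, rfl⟩
        intro k
        induction k with
        | zero =>
          intro e' c' _
          exact ⟨fun _ => 0, fun _ => Or.inl rfl, by simp [prodPt_zero, show D.prodPt e' c' = 1 from rfl, Subgroup.one_mem]⟩
        | succ k ihk =>
          intro e' c' hm'
          obtain ⟨d, hd, hk⟩ := ihk (fun i => e' i.succ) (fun i => c' i.succ) fun i => hm' i.succ
          obtain ⟨i₀, hi₀⟩ := hr' _ (hm' 0).1
          refine ⟨Pi.single i₀ (c' 0) + d, fun i => ?_, ?_⟩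
          · by_cases hi : i = i₀
            · subst hi; exact Or.inr (by rw [hi₀]; exact (hm' 0).2)
            · exact (hd i).imp (fun a => by simp [hi, a]) id
          · have hk' := D.prodPt_add hpos hD hcl e hem L (Pi.single i₀ (c' 0)) d hd
            rw [prodPt_single, hi₀] at hk'
            show (D.prodPt e (Pi.single i₀ (c' 0) + d))⁻¹ *
              (D.rPt (e' 0) (c' 0) * D.prodPt (fun i => e' i.succ) fun i => c' i.succ) ∈ K
            have e1 : (D.prodPt e (Pi.single i₀ (c' 0) + d))⁻¹ *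
                (D.rPt (e' 0) (c' 0) * D.prodPt (fun i => e' i.succ) fun i => c' i.succ) =
                ((D.rPt (e' 0) (c' 0) * D.prodPt e d)⁻¹ * D.prodPt e (Pi.single i₀ (c' 0) + d))⁻¹ *
                  ((D.prodPt e d)⁻¹ * D.prodPt (fun i => e' i.succ) fun i => c' i.succ) := by group
            rw [e1]
            exact Subgroup.mul_mem _ (Subgroup.inv_mem _ hk') hk
      have hP : ∀ c : Fin m → C, D.prodPt e c ∈ D.span Ψ C := fun c => D.prodPt_mem _ _ fun i => D.rPt_mem_span (hem _) _
      -- powers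
      have hpow : ∀ k : ℕ, (g ^ k)⁻¹ * D.prodPt e (k • d) ∈ K := by
        intro k
        induction k with
        | zero => simp [prodPt_zero, Pi.zero_def, Subgroup.one_mem]
        | succ k ihk =>
          have hk' := D.prodPt_add hpos hD hcl e hem L (k • d) d hd
          rw [succ_nsmul, pow_succ]
          have e1 : (g ^ k * g)⁻¹ * D.prodPt e (k • d + d) =
              (g⁻¹ * ((g ^ k)⁻¹ * D.prodPt e (k • d)) * g⁻¹⁻¹) *
                (((D.prodPt e d)⁻¹ * g)⁻¹ * ((D.prodPt e (k • d) * D.prodPt e d)⁻¹ * D.prodPt e (k • d + d))) := by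
            group
          rw [e1]
          exact Subgroup.mul_mem _ (hnorm _ (Subgroup.inv_mem _ hg) _ ihk)
            (Subgroup.mul_mem _ (Subgroup.inv_mem _ hgd) hk')
      have hnd : D.prodPt e (n • d) ∈ K := by
        have := hpow n
        rwa [h, inv_one, _root_.one_mul] at this
      -- coordinates of level `L` vanish
      have hd0 : ∀ i, d i = 0 ∨ L + 1 ≤ f (D.α (e i)) := fun i => by
        by_cases hlt : L + 1 ≤ f (D.α (e i))
        · exact Or.inr hlt
        refine (hd i).elim Or.inl fun hL => Or.inl ?_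
        have hfi : f (D.α (e i)) = L := by omega
        obtain ⟨e', he', hr''⟩ := exists_enum fun r => r ∈ Ψ ∧ L + 1 ≤ f (D.α r)
        obtain ⟨c', hc'⟩ := D.mem_span_level hpos hD hcl hnd e' he' hr''
        have hm' : ∀ l, L + 1 ≤ f (D.α (e' l)) := fun l => ((hr'' _).mp ⟨l, rfl⟩).2
        have hkill : (D.prodPt e (n • d)).ofConv (D.coord (e i)) = 0 := by
          rw [← hc', D.coord_prodPt f e' (fun l => hpos _ ((hr'' _).mp ⟨l, rfl⟩).1) he' (e i) (hpe i).ne' c'
            fun l => Or.inr (by have := hm' l; omega)]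
          exact Finset.sum_eq_zero fun l _ => if_neg fun hh => by
            have := hm' l
            rw [hh] at this
            omega
        rw [D.coord_prodPt f e hpe he (e i) (hpe i).ne' (n • d) fun l => (hd l).imp (fun a => by simp [a]) (by omega),
          Finset.sum_eq_single i (fun j _ hj => if_neg fun hh => hj (he hh)) (by simp), if_pos rfl,
          Pi.smul_apply, nsmul_eq_mul, hn.mul_right_eq_zero] at hkill
        exact hkill
      have hPK : D.prodPt e d ∈ K := D.prodPt_mem _ _ fun i => by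
        rcases hd0 i with h0 | h0
        · rw [h0, rPt_zero]; exact Subgroup.one_mem _
        · exact D.rPt_mem_lev (hem i) h0 _
      have := Subgroup.mul_mem _ hPK hgd
      rw [mul_inv_cancel_left] at this
      rwa [Nat.cast_succ]
  have hbot : D.lev Ψ f C (((∑ r, |f (D.α r)|).toNat : ℤ) + 1) = ⊥ := by
    rw [eq_bot_iff, lev, Subgroup.closure_le]
    rintro _ ⟨r, -, hr, -⟩
    exfalso
    have h1 := Finset.single_le_sum (fun s _ => abs_nonneg (f (D.α s))) (Finset.mem_univ r)
    have h2 := le_abs_self (f (D.α r))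
    omega
  have := main (∑ r, |f (D.α r)|).toNat
  rwa [hbot, Subgroup.mem_bot] at this

end Chart

end Groth.Agent.RootChartLib
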