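import Groth.Agent.RootChartLib.Cell

/-!
# Commutators of root subgroups of a chart
-/

set_option autoImplicit false
set_option backward.isDefEq.respectTransparency false
set_option backward.isDefEq.respectTransparency.types false

universe u

open WithConv
open scoped TensorProduct

namespace Groth.Agent.RootChartLib

open DynLib DynSm

namespace Chart

variable {R : Type u} [CommRing R] {A : Type u} [CommRing A] [HopfAlgebra R A] {M : Type} [AddCommGroup M]
  {idx : Type} (D : Chart R A M idx) {C C' : Type u} [CommRing C] [Algebra R C] [CommRing C'] [Algebra R C']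
  [Module.Free ℤ M] [Module.Finite ℤ M] [Algebra.Smooth R A]

/-- The commutator of two root points. -/
noncomputable def comm (a b : idx) (x y : C) : WithConv (A →ₐ[R] C) :=
  D.rPt a x * D.rPt b y * (D.rPt a x)⁻¹ * (D.rPt b y)⁻¹

theorem post_comm (φ : C →ₐ[R] C') (a b : idx) (x y : C) : post φ (D.comm a b x y) = D.comm a b (φ x) (φ y) := by
  simp only [comm, map_mul, map_inv, post_rPt]

theorem comm_zero_left (a b : idx) (y : C) : D.comm a b 0 y = 1 := by
  simp [comm, rPt_zero]

theorem comm_zero_right (a b : idx) (x : C) : D.comm a b x 0 = 1 := by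
  simp [comm, rPt_zero]

theorem tPt_comm_root (a b : idx) (χ : Multiplicative M →* C) (x y : C) :
    D.tPt χ * D.comm a b x y * (D.tPt χ)⁻¹ =
      D.comm a b (χ (Multiplicative.ofAdd (D.α a)) * x) (χ (Multiplicative.ofAdd (D.α b)) * y) := by
  simp only [comm, ← tPt_conj]
  group

variable [Fintype idx] (f : M →+ ℤ) (hD : D.GeomFibres) {m : ℕ} (e : Fin m → idx) (hp : ∀ i, 0 < f (D.α (e i)))
  (he : Function.Injective e) (hrange : ∀ r, 0 < f (D.α r) → r ∈ Set.range e)

theorem isU_rPt (r : idx) (hr : 0 < f (D.α r)) (x : C) : D.IsU f (D.rPt r x) := by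
  have h := D.isU_prodPt f (fun _ : Fin 1 => r) (fun _ => hr) (fun _ => x)
  rwa [show D.prodPt (fun _ : Fin 1 => r) (fun _ => x) = D.rPt r x * 1 from rfl, _root_.mul_one] at h

theorem isU_comm {a b : idx} (ha : 0 < f (D.α a)) (hb : 0 < f (D.α b)) (x y : C) : D.IsU f (D.comm a b x y) := by
  rw [isU_iff]
  have h1 := (D.isU_iff f _).mp (D.isU_rPt f a ha x)
  have h2 := (D.isU_iff f _).mp (D.isU_rPt f b hb y)
  exact Subgroup.mul_mem _ (Subgroup.mul_mem _ (Subgroup.mul_mem _ h1 h2) (Subgroup.inv_mem _ h1)) (Subgroup.inv_mem _ h2)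

include hD hp he hrange in
/-- The commutator of two root points is a product of root points with monomial coordinates. -/
theorem exists_comm_poly {a b : idx} (ha : 0 < f (D.α a)) (hb : 0 < f (D.α b)) :
    ∃ P : Fin m → MvPolynomial (Fin 2) R,
      (∀ (C : Type u) [CommRing C] [Algebra R C] (x y : C),
        D.comm a b x y = D.prodPt e fun i => MvPolynomial.aeval ![x, y] (P i)) ∧
      ∀ i v, (P i).coeff v ≠ 0 → 1 ≤ v 0 ∧ 1 ≤ v 1 ∧ v 0 • D.α a + v 1 • D.α b = D.α (e i) := by
  classical
  obtain ⟨P, hP⟩ := D.exists_prodPt f hD e hp he hrange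
    (D.isU_comm f ha hb (MvPolynomial.X 0 : MvPolynomial (Fin 2) R) (MvPolynomial.X 1))
  have huniv : ∀ (C : Type u) [CommRing C] [Algebra R C] (x y : C),
      D.comm a b x y = D.prodPt e fun i => MvPolynomial.aeval ![x, y] (P i) := fun C _ _ x y => by
    have h := congrArg (post (MvPolynomial.aeval (R := R) ![x, y])) hP
    rw [post_prodPt, post_comm, MvPolynomial.aeval_X, MvPolynomial.aeval_X] at h
    exact h.symm
  refine ⟨P, huniv, fun i v hv => ⟨?_, ?_, ?_⟩⟩
  · by_contra h0
    have h1 : (fun j => MvPolynomial.aeval ![(0 : MvPolynomial (Fin 2) R), MvPolynomial.X 1] (P j)) = fun _ => 0 :=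
      D.prodPt_injective f e hp he (by rw [← huniv, comm_zero_left, prodPt_zero])
    have h2 := congrArg (MvPolynomial.coeff v) (congrFun h1 i)
    rw [show MvPolynomial.aeval ![(0 : MvPolynomial (Fin 2) R), MvPolynomial.X 1] (P i) =
        ∑ w ∈ (P i).support, MvPolynomial.aeval ![(0 : MvPolynomial (Fin 2) R), MvPolynomial.X 1]
          (MvPolynomial.monomial w ((P i).coeff w)) by rw [← map_sum, ← MvPolynomial.as_sum],
      MvPolynomial.coeff_sum, Finset.sum_eq_single v, MvPolynomial.coeff_zero] at h2
    · refine hv ?_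
      rw [MvPolynomial.aeval_monomial, Finsupp.prod_fintype _ _ (fun j => pow_zero _), Fin.prod_univ_two] at h2
      simp only [Matrix.cons_val_zero, Matrix.cons_val_one] at h2
      rw [show v 0 = 0 by omega, pow_zero, _root_.one_mul, MvPolynomial.algebraMap_eq, MvPolynomial.C_mul_X_pow_eq_monomial,
        MvPolynomial.coeff_monomial, if_pos (Finsupp.ext fun j => by fin_cases j <;> simp <;> omega)] at h2
      exact h2
    · intro w _ hwv
      rw [MvPolynomial.aeval_monomial, Finsupp.prod_fintype _ _ (fun j => pow_zero _), Fin.prod_univ_two]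
      simp only [Matrix.cons_val_zero, Matrix.cons_val_one]
      rcases Nat.eq_zero_or_pos (w 0) with h | h
      · rw [h, pow_zero, _root_.one_mul, MvPolynomial.algebraMap_eq, MvPolynomial.C_mul_X_pow_eq_monomial,
          MvPolynomial.coeff_monomial, if_neg]
        intro hw
        refine hwv (Finsupp.ext fun j => ?_)
        fin_cases j
        · simp only [Fin.zero_eta]; omega
        · simpa using DFunLike.congr_fun hw 1
      · rw [zero_pow h.ne', zero_mul, mul_zero, MvPolynomial.coeff_zero]
    · intro hns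
      rw [MvPolynomial.notMem_support_iff.mp hns, map_zero, map_zero, MvPolynomial.coeff_zero]
  · by_contra h0
    have h1 : (fun j => MvPolynomial.aeval ![MvPolynomial.X 0, (0 : MvPolynomial (Fin 2) R)] (P j)) = fun _ => 0 :=
      D.prodPt_injective f e hp he (by rw [← huniv, comm_zero_right, prodPt_zero])
    have h2 := congrArg (MvPolynomial.coeff v) (congrFun h1 i)
    rw [show MvPolynomial.aeval ![MvPolynomial.X 0, (0 : MvPolynomial (Fin 2) R)] (P i) =
        ∑ w ∈ (P i).support, MvPolynomial.aeval ![MvPolynomial.X 0, (0 : MvPolynomial (Fin 2) R)]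
          (MvPolynomial.monomial w ((P i).coeff w)) by rw [← map_sum, ← MvPolynomial.as_sum],
      MvPolynomial.coeff_sum, Finset.sum_eq_single v, MvPolynomial.coeff_zero] at h2
    · refine hv ?_
      rw [MvPolynomial.aeval_monomial, Finsupp.prod_fintype _ _ (fun j => pow_zero _), Fin.prod_univ_two] at h2
      simp only [Matrix.cons_val_zero, Matrix.cons_val_one] at h2
      rw [show v 1 = 0 by omega, pow_zero, _root_.mul_one, MvPolynomial.algebraMap_eq, MvPolynomial.C_mul_X_pow_eq_monomial,
        MvPolynomial.coeff_monomial, if_pos (Finsupp.ext fun j => by fin_cases j <;> simp <;> omega)] at h2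
      exact h2
    · intro w _ hwv
      rw [MvPolynomial.aeval_monomial, Finsupp.prod_fintype _ _ (fun j => pow_zero _), Fin.prod_univ_two]
      simp only [Matrix.cons_val_zero, Matrix.cons_val_one]
      rcases Nat.eq_zero_or_pos (w 1) with h | h
      · rw [h, pow_zero, _root_.mul_one, MvPolynomial.algebraMap_eq, MvPolynomial.C_mul_X_pow_eq_monomial,
          MvPolynomial.coeff_monomial, if_neg]
        intro hw
        refine hwv (Finsupp.ext fun j => ?_)
        fin_cases j
        · simpa using DFunLike.congr_fun hw 0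
        · simp only [Fin.mk_one]; omega
      · rw [zero_pow h.ne', mul_zero, mul_zero, MvPolynomial.coeff_zero]
    · intro hns
      rw [MvPolynomial.notMem_support_iff.mp hns, map_zero, map_zero, MvPolynomial.coeff_zero]
  · let T := MonoidAlgebra (MvPolynomial (Fin 2) R) (Multiplicative M)
    let χ : Multiplicative M →* T := MonoidAlgebra.of (MvPolynomial (Fin 2) R) (Multiplicative M)
    let c : MvPolynomial (Fin 2) R →ₐ[R] T := MonoidAlgebra.singleOneAlgHom
    let σ : MvPolynomial (Fin 2) R →ₐ[R] T := MvPolynomial.aeval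
      ![χ (Multiplicative.ofAdd (D.α a)) * c (MvPolynomial.X 0), χ (Multiplicative.ofAdd (D.α b)) * c (MvPolynomial.X 1)]
    have hχc : ∀ (g : Multiplicative M) (q : MvPolynomial (Fin 2) R), χ g * c q = MonoidAlgebra.single g q := fun g q => by
      show MonoidAlgebra.single g (1 : MvPolynomial (Fin 2) R) * MonoidAlgebra.single 1 q = _
      rw [MonoidAlgebra.single_mul_single, _root_.mul_one, _root_.one_mul]
    have h1 : (fun j => χ (Multiplicative.ofAdd (D.α (e j))) * c (P j)) = fun j => σ (P j) :=
      D.prodPt_injective f e hp he (by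
        show D.prodPt e (fun j => χ _ * c (P j)) = D.prodPt e fun j => MvPolynomial.aeval _ (P j)
        rw [← huniv, ← prodPt_conj, ← tPt_comm_root, ← post_comm, ← hP, post_prodPt]
        rfl)
    have h2 := congrArg (fun t : T => (t.coeff (Multiplicative.ofAdd (D.α (e i)))).coeff v) (congrFun h1 i)
    have hmon : ∀ w, σ (MvPolynomial.monomial w ((P i).coeff w)) =
        MonoidAlgebra.single (Multiplicative.ofAdd (w 0 • D.α a + w 1 • D.α b)) (MvPolynomial.monomial w ((P i).coeff w)) := by
      intro w
      show MvPolynomial.aeval _ _ = _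
      rw [MvPolynomial.aeval_monomial, Finsupp.prod_fintype _ _ (fun j => pow_zero _), Fin.prod_univ_two]
      simp only [Matrix.cons_val_zero, Matrix.cons_val_one, hχc]
      rw [show algebraMap R T ((P i).coeff w) = MonoidAlgebra.single 1 (MvPolynomial.C ((P i).coeff w)) from rfl,
        MonoidAlgebra.single_pow, MonoidAlgebra.single_pow, MonoidAlgebra.single_mul_single,
        MonoidAlgebra.single_mul_single, _root_.one_mul, ← ofAdd_nsmul, ← ofAdd_nsmul, ← ofAdd_add,
        MvPolynomial.monomial_eq, Finsupp.prod_fintype _ _ (fun j => pow_zero _), Fin.prod_univ_two]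
    rw [show σ (P i) = ∑ w ∈ (P i).support, σ (MvPolynomial.monomial w ((P i).coeff w)) by
      rw [← map_sum, ← MvPolynomial.as_sum], MonoidAlgebra.coeff_sum, Finsupp.finsetSum_apply,
      MvPolynomial.coeff_sum] at h2
    simp only [hχc, MonoidAlgebra.coeff_single, Finsupp.single_eq_same, hmon] at h2
    by_contra hne
    refine hv (h2.trans (Finset.sum_eq_zero fun w _ => ?_))
    by_cases hwv : w = v
    · subst hwv
      rw [Finsupp.single_eq_of_ne (fun h => hne (Multiplicative.ofAdd.injective h).symm), MvPolynomial.coeff_zero]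
    · rw [Finsupp.single_apply]
      split_ifs
      · rw [MvPolynomial.coeff_monomial, if_neg hwv]
      · rw [MvPolynomial.coeff_zero]

include hD hp he hrange in
theorem commute {a b : idx} (ha : 0 < f (D.α a)) (hb : 0 < f (D.α b))
    (hno : ∀ (r : idx) (i j : ℕ), 1 ≤ i → 1 ≤ j → D.α r ≠ i • D.α a + j • D.α b) (x y : C) :
    D.rPt a x * D.rPt b y = D.rPt b y * D.rPt a x := by
  obtain ⟨P, hP, hPm⟩ := D.exists_comm_poly f hD e hp he hrange ha hb
  have h0 : ∀ i, P i = 0 := fun i => MvPolynomial.ext _ _ fun v => by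
    by_contra hv
    rw [MvPolynomial.coeff_zero] at hv
    obtain ⟨h1, h2, h3⟩ := hPm i v hv
    exact hno (e i) (v 0) (v 1) h1 h2 h3.symm
  have h := hP C x y
  simp only [h0, map_zero, prodPt_zero] at h
  rw [comm, _root_.mul_assoc, _root_.mul_eq_one_iff_eq_inv, mul_inv_rev, inv_inv, inv_inv] at h
  exact h

end Chart

end Groth.Agent.RootChartLib
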