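import Groth.Agent.RootData.Functional
import Mathlib.LinearAlgebra.RootSystem.Finite.Lemmas

/-!
# Roots with no root as sum, and regular functionals
-/

set_option autoImplicit false

namespace Groth.Agent.RootChartLib

open RootPairing Set

variable {ι M N : Type*} [AddCommGroup M] [AddCommGroup N] [Finite ι] (P : RootPairing ι ℤ M N)

theorem pairing_comb {a b r : ι} {i j : ℤ} (h : P.root r = i • P.root a + j • P.root b) (c : ι) :
    P.pairing r c = i * P.pairing a c + j * P.pairing b c := by
  simp only [← P.root_coroot_eq_pairing, h, map_add, map_smul, LinearMap.add_apply, LinearMap.smul_apply, smul_eq_mul]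

theorem pairing_nonneg {a b : ι} (h0 : P.root a + P.root b ≠ 0) (hab : P.root a + P.root b ∉ range P.root) :
    0 ≤ P.pairing a b := by
  haveI := Fintype.ofFinite ι
  by_contra h
  push Not at h
  refine hab (P.root_add_root_mem_of_pairingIn_neg (i := a) (j := b) ?_ (fun e => h0 (by rw [e, neg_add_cancel])))
  have := P.algebraMap_pairingIn ℤ a b
  simp only [eq_intCast, Int.cast_id] at this
  omega

/-- If the sum of two roots is neither zero nor a root, no positive combination of them is a root. -/
theorem no_comb_root {a b : ι} (h0 : P.root a + P.root b ≠ 0) (hab : P.root a + P.root b ∉ range P.root) :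
    ∀ (N : ℕ) (r : ι) (i j : ℕ), i + j = N → 1 ≤ i → 1 ≤ j → P.root r ≠ i • P.root a + j • P.root b := by
  have hba : P.root b + P.root a ≠ 0 := by rwa [add_comm]
  have hba' : P.root b + P.root a ∉ range P.root := by rwa [add_comm]
  have hab0 := pairing_nonneg P h0 hab
  have hba0 := pairing_nonneg P hba hba'
  intro N
  induction N using Nat.strong_induction_on with
  | _ N ih =>
  intro r i j hN hi hj hr
  have hr' : P.root r = (i : ℤ) • P.root a + (j : ℤ) • P.root b := by rw [natCast_zsmul, natCast_zsmul]; exact hr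
  rcases Nat.lt_or_ge i 2 with hi2 | hi2
  · rcases Nat.lt_or_ge j 2 with hj2 | hj2
    · refine hab ⟨r, ?_⟩
      rw [hr, show i = 1 by omega, show j = 1 by omega, one_nsmul, one_nsmul]
    · have hpos : 0 < P.pairing r b := by
        rw [pairing_comb P hr' b, P.pairing_same]
        nlinarith
      have hne : r ≠ b := fun e => by
        have h := pairing_comb P hr' a
        have h' := pairing_comb P hr' b
        simp only [e, P.pairing_same] at h h' hpos
        nlinarith
      obtain ⟨s, hs⟩ := P.root_sub_root_mem_of_pairingIn_pos (i := r) (j := b) (by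
        have := P.algebraMap_pairingIn ℤ r b
        simp only [eq_intCast, Int.cast_id] at this
        omega) hne
      refine ih (i + (j - 1)) (by omega) s i (j - 1) rfl hi (by omega) ?_
      rw [hs, hr, show j = (j - 1) + 1 by omega, add_nsmul, one_nsmul, Nat.add_sub_cancel]
      abel
  · have hpos : 0 < P.pairing r a := by
      rw [pairing_comb P hr' a, P.pairing_same]
      nlinarith
    have hne : r ≠ a := fun e => by
      have h := pairing_comb P hr' b
      have h' := pairing_comb P hr' a
      simp only [e, P.pairing_same] at h h' hpos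
      nlinarith
    obtain ⟨s, hs⟩ := P.root_sub_root_mem_of_pairingIn_pos (i := r) (j := a) (by
      have := P.algebraMap_pairingIn ℤ r a
      simp only [eq_intCast, Int.cast_id] at this
      omega) hne
    refine ih (i - 1 + j) (by omega) s (i - 1) j rfl (by omega) hj ?_
    rw [hs, hr, show i = (i - 1) + 1 by omega, add_nsmul, one_nsmul, Nat.add_sub_cancel]
    abel

variable [Module.Free ℤ M] [Module.Finite ℤ M]

/-- A functional can be perturbed to one which vanishes on no root and keeps its strict signs. -/
theorem exists_regular_refine (f₀ : M →+ ℤ) :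
    ∃ f : M →+ ℤ, (∀ r, f (P.root r) ≠ 0) ∧ ∀ r, (0 < f₀ (P.root r) → 0 < f (P.root r)) ∧
      (f₀ (P.root r) < 0 → f (P.root r) < 0) := by
  classical
  haveI := Fintype.ofFinite ι
  obtain ⟨φ, hφ⟩ := RootData.exists_hom_ne_zero (Finset.univ.image P.root) fun h => by
    obtain ⟨r, -, hr⟩ := Finset.mem_image.mp h
    exact P.ne_zero r hr
  let N : ℤ := (∑ r, |φ (P.root r)|) + 1
  have hN : ∀ r, |φ (P.root r)| < N := fun r =>
    Int.lt_add_one_iff.mpr (Finset.single_le_sum (fun s _ => abs_nonneg (φ (P.root s))) (Finset.mem_univ r))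
  refine ⟨N • f₀ + φ.toAddMonoidHom, fun r => ?_, fun r => ?_⟩
  · show N * f₀ (P.root r) + φ (P.root r) ≠ 0
    intro h
    have h1 := hN r
    rcases lt_trichotomy (f₀ (P.root r)) 0 with h2 | h2 | h2
    · have := abs_lt.mp h1; nlinarith
    · rw [h2, mul_zero, zero_add] at h
      exact hφ _ (Finset.mem_image.mpr ⟨r, Finset.mem_univ r, rfl⟩) h
    · have := abs_lt.mp h1; nlinarith
  · have h1 := abs_lt.mp (hN r)
    show (0 < f₀ (P.root r) → 0 < N * f₀ (P.root r) + φ (P.root r)) ∧
      (f₀ (P.root r) < 0 → N * f₀ (P.root r) + φ (P.root r) < 0)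
    exact ⟨fun h => by nlinarith, fun h => by nlinarith⟩

/-- Two roots with non-zero sum which is not a root are positive for a regular functional. -/
theorem exists_regular_pos {a b : ι} (h0 : P.root a + P.root b ≠ 0) (hab : P.root a + P.root b ∉ range P.root) :
    ∃ f : M →+ ℤ, (∀ r, f (P.root r) ≠ 0) ∧ 0 < f (P.root a) ∧ 0 < f (P.root b) := by
  have h1 := pairing_nonneg P h0 hab
  have h2 := pairing_nonneg P (a := b) (b := a) (by rwa [add_comm]) (by rwa [add_comm])
  obtain ⟨f, hf, hf'⟩ := exists_regular_refine P ((P.coroot' a + P.coroot' b : M →ₗ[ℤ] ℤ).toAddMonoidHom)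
  refine ⟨f, hf, (hf' a).1 ?_, (hf' b).1 ?_⟩ <;>
  · show 0 < P.coroot' a _ + P.coroot' b _
    simp only [P.root_coroot'_eq_pairing, P.pairing_same]
    omega

end Groth.Agent.RootChartLib

namespace Groth.Agent.RootChartLib

open RootPairing Set

variable {ι M N : Type*} [AddCommGroup M] [AddCommGroup N] [Finite ι] (P : RootPairing ι ℤ M N)

/-- A root is a positive combination of two roots of a half space in at most one way. -/
theorem comb_unique (f : M →+ ℤ) {a b r : ι} (ha : 0 < f (P.root a)) (hb : 0 < f (P.root b)) {i j i' j' : ℕ}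
    (hi : 1 ≤ i) (hj : 1 ≤ j) (hi' : 1 ≤ i') (hj' : 1 ≤ j') (h : P.root r = i • P.root a + j • P.root b)
    (h' : P.root r = i' • P.root a + j' • P.root b) : i = i' ∧ j = j' := by
  haveI := Fintype.ofFinite ι
  haveI : IsAddTorsionFree M := RootData.torsionFreeM P
  by_cases hjj : j = j'
  · subst hjj
    refine ⟨?_, rfl⟩
    have h2 := congrArg f (add_right_cancel (h.symm.trans h'))
    rw [map_nsmul, map_nsmul, nsmul_eq_mul, nsmul_eq_mul] at h2
    exact Int.ofNat.inj (mul_right_cancel₀ ha.ne' h2)
  exfalso
  have hab : ((i : ℤ) - i') • P.root a = ((j' : ℤ) - j) • P.root b := by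
    rw [sub_smul, sub_smul, natCast_zsmul, natCast_zsmul, natCast_zsmul, natCast_zsmul, sub_eq_sub_iff_add_eq_add]
    exact (h.symm.trans h').trans (add_comm _ _)
  have hn : ((j' : ℤ) - j) ≠ 0 := by omega
  have hr : P.root r = (i : ℤ) • P.root a + (j : ℤ) • P.root b := by rw [natCast_zsmul, natCast_zsmul]; exact h
  -- the root is then a multiple of `root a`
  obtain ⟨p, q, hq, hpq⟩ : ∃ p q : ℤ, q ≠ 0 ∧ p • P.root a = q • P.root r :=
    ⟨((j' : ℤ) - j) * i + j * ((i : ℤ) - i'), (j' : ℤ) - j, hn, by
      rw [hr, smul_add, smul_smul, smul_smul, mul_comm ((j' : ℤ) - j) j, ← smul_smul (j : ℤ) _ (P.root b), ← hab,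
        smul_smul, ← add_smul]⟩
  have hii : (i : ℤ) - i' ≠ 0 := fun h0 => by
    rw [h0, zero_smul] at hab
    rcases smul_eq_zero.mp hab.symm with h1 | h1
    · exact hn h1
    · exact P.ne_zero b h1
  obtain ⟨p', q', hq', hpq'⟩ : ∃ p' q' : ℤ, q' ≠ 0 ∧ p' • P.root b = q' • P.root r :=
    ⟨((i : ℤ) - i') * j + i * ((j' : ℤ) - j), (i : ℤ) - i', hii, by
      rw [hr, smul_add, smul_smul, smul_smul, mul_comm ((i : ℤ) - i') i, ← smul_smul (i : ℤ) _ (P.root a), hab,
        smul_smul, ← add_smul, add_comm]⟩
  rcases RootData.proportional_cases P hn hab with e | e | e | e | e | e <;>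
    have e' := congrArg f e <;>
    try simp only [map_neg, map_zsmul, smul_eq_mul] at e'
  · rcases RootData.proportional_cases P hq hpq with d | d | d | d | d | d <;>
      have d' := congrArg f d <;>
      (try simp only [map_neg, map_zsmul, smul_eq_mul] at d') <;>
      (have h2 := congrArg f h; have h3 := congrArg f h'
       simp only [map_add, map_nsmul, nsmul_eq_mul] at h2 h3
       have : (i : ℤ) + j ≤ 2 := by nlinarith
       have : (i' : ℤ) + j' ≤ 2 := by nlinarith
       omega)
  · linarith
  · rcases RootData.proportional_cases P hq hpq with d | d | d | d | d | d <;>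
      have d' := congrArg f d <;>
      (try simp only [map_neg, map_zsmul, smul_eq_mul] at d') <;>
      (have h2 := congrArg f h
       simp only [map_add, map_nsmul, nsmul_eq_mul] at h2
       nlinarith [Int.ofNat_le.mpr hi, Int.ofNat_le.mpr hj])
  · linarith
  · rcases RootData.proportional_cases P hq' hpq' with d | d | d | d | d | d <;>
      have d' := congrArg f d <;>
      (try simp only [map_neg, map_zsmul, smul_eq_mul] at d') <;>
      (have h2 := congrArg f h
       simp only [map_add, map_nsmul, nsmul_eq_mul] at h2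
       nlinarith [Int.ofNat_le.mpr hi, Int.ofNat_le.mpr hj])
  · linarith

end Groth.Agent.RootChartLib
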