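import Groth.Agent.RootChartLib.Glue
import Groth.Agent.RootChartLib.Commutator
import Groth.Agent.RootChartLib.RootFun
import Groth.Agent.RootChartLib.BaseFun

/-!
# The commutator formula of root groups
-/

set_option autoImplicit false
set_option backward.isDefEq.respectTransparency false
set_option backward.isDefEq.respectTransparency.types false

universe u

open CategoryTheory Limits AlgebraicGeometry MonoidalCategory CartesianMonoidalCategory MonObj GrpObj WithConv
open scoped TensorProduct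

namespace Groth.Agent.RootChartLib

open GrpSchLib GrpSchLib.AffineHopf GModLib DynLib RankLib.SplitRedPts

namespace Chart

variable {R : Type u} [CommRing R] {A : Type u} [CommRing A] [HopfAlgebra R A] {M : Type} [AddCommGroup M]
  {idx : Type} (D : Chart R A M idx)

theorem prodPt_append {C : Type u} [CommRing C] [Algebra R C] {n k : ℕ} (e : Fin n → idx) (r : Fin k → idx)
    (c : Fin n → C) :
    D.prodPt (Fin.append e r) (Fin.append c fun _ => 0) = D.prodPt e c := by
  rw [prodPt_eq_list, prodPt_eq_list]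
  have h : (fun i => D.rPt (Fin.append e r i) (Fin.append c (fun _ => (0 : C)) i)) =
      Fin.append (fun i => D.rPt (e i) (c i)) fun _ => 1 := by
    funext i
    induction i using Fin.addCases with
    | left i => simp [Fin.append_left]
    | right i => simp [Fin.append_right, rPt_zero]
  rw [h, List.ofFn_fin_append, List.prod_append, List.ofFn_const, List.prod_replicate, one_pow, _root_.mul_one]

variable [Module.Free ℤ M] [Module.Finite ℤ M] [Algebra.Smooth R A] [Fintype idx]

/-- The commutator formula in a chart. -/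
theorem exists_comm_formula (f : M →+ ℤ) (hD : D.GeomFibres) {a b : idx} (ha : 0 < f (D.α a)) (hb : 0 < f (D.α b))
    {n : ℕ} (e : Fin n → idx) (he : Function.Injective e) (i j : Fin n → ℕ)
    (hep : ∀ k, 0 < f (D.α (e k)))
    (hall : ∀ (c : idx) (p q : ℕ), 1 ≤ p → 1 ≤ q → D.α c = p • D.α a + q • D.α b → c ∈ Set.range e)
    (huniq : ∀ k (p q : ℕ), 1 ≤ p → 1 ≤ q → D.α (e k) = p • D.α a + q • D.α b → p = i k ∧ q = j k) :
    ∃ c : Fin n → R, ∀ (C : Type u) [CommRing C] [Algebra R C] (x y : C),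
      D.rPt a x * D.rPt b y * (D.rPt a x)⁻¹ =
        D.rPt b y * D.prodPt e fun k => algebraMap R C (c k) * x ^ i k * y ^ j k := by
  classical
  obtain ⟨rest, hrest, hrr⟩ := exists_enum fun r => 0 < f (D.α r) ∧ r ∉ Set.range e
  let ep := Fin.append e rest
  have hp : ∀ l, 0 < f (D.α (ep l)) := fun l => by
    induction l using Fin.addCases with
    | left l => simpa [ep, Fin.append_left] using hep l
    | right l => simpa [ep, Fin.append_right] using ((hrr _).mp ⟨l, rfl⟩).1
  have hepi : Function.Injective ep := by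
    intro l l' hll
    induction l using Fin.addCases <;> induction l' using Fin.addCases <;>
      simp only [ep, Fin.append_left, Fin.append_right] at hll
    · rw [he hll]
    · exact absurd ⟨_, hll⟩ ((hrr _).mp ⟨_, rfl⟩).2
    · exact absurd ⟨_, hll.symm⟩ ((hrr _).mp ⟨_, rfl⟩).2
    · rw [hrest hll]
  have hrange : ∀ r, 0 < f (D.α r) → r ∈ Set.range ep := fun r hr => by
    by_cases h : r ∈ Set.range e
    · obtain ⟨l, rfl⟩ := h; exact ⟨Fin.castAdd _ l, Fin.append_left e rest l⟩
    · obtain ⟨l, rfl⟩ := (hrr r).mpr ⟨hr, h⟩; exact ⟨Fin.natAdd _ l, Fin.append_right e rest l⟩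
  obtain ⟨P, hP, hPm⟩ := D.exists_comm_poly f hD ep hp hepi hrange hb ha
  let v : Fin n → Fin 2 →₀ ℕ := fun k => Finsupp.equivFunOnFinite.symm ![j k, i k]
  let p : Fin n → R := fun k => (P (Fin.castAdd _ k)).coeff (v k)
  refine ⟨fun k => (-1) ^ j k * p k, fun C _ _ x y => ?_⟩
  have hPr : ∀ l, P (Fin.natAdd n l) = 0 := fun l => MvPolynomial.ext _ _ fun w => by
    by_contra hw
    rw [MvPolynomial.coeff_zero] at hw
    obtain ⟨h1, h2, h3⟩ := hPm _ w hw
    exact ((hrr _).mp ⟨l, rfl⟩).2 (hall _ (w 1) (w 0) h2 h1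
      (((congrArg D.α (Fin.append_right e rest l)).symm.trans h3.symm).trans (add_comm _ _)))
  have hPl : ∀ k, P (Fin.castAdd _ k) = MvPolynomial.monomial (v k) (p k) := fun k => MvPolynomial.ext _ _ fun w => by
    rw [MvPolynomial.coeff_monomial]
    by_cases hw : (P (Fin.castAdd _ k)).coeff w = 0
    · rw [hw]
      split_ifs with h
      · subst h; exact hw.symm
      · rfl
    · obtain ⟨h1, h2, h3⟩ := hPm _ w hw
      obtain ⟨e1, e2⟩ := huniq k (w 1) (w 0) h2 h1
        (((congrArg D.α (Fin.append_left e rest k)).symm.trans h3.symm).trans (add_comm _ _))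
      have hwv : v k = w := Finsupp.ext fun t => by fin_cases t <;> simp [v, e1, e2]
      rw [if_pos hwv]
      subst hwv
      rfl
  have hc : D.comm b a (-y) x = D.prodPt e fun k => algebraMap R C ((-1) ^ j k * p k) * x ^ i k * y ^ j k := by
    rw [hP C (-y) x, ← prodPt_append D e rest]
    refine congrArg (D.prodPt ep) (funext fun l => ?_)
    induction l using Fin.addCases with
    | left k =>
      rw [Fin.append_left, hPl, MvPolynomial.aeval_monomial, Finsupp.prod_fintype _ _ (fun t => pow_zero _),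
        Fin.prod_univ_two]
      simp only [v, Finsupp.equivFunOnFinite_symm_apply_apply, Matrix.cons_val_zero, Matrix.cons_val_one]
      rw [neg_pow y, map_mul, map_pow, map_neg, map_one]
      ring
    | right l => rw [Fin.append_right, hPr, map_zero]
  rw [← hc, comm, show D.rPt b (-y) = (D.rPt b y)⁻¹ from
    (inv_eq_of_mul_eq_one_right (by rw [← rPt_add, add_neg_cancel, rPt_zero])).symm]
  group

end Chart

variable {S : Scheme.{u}} {G : Over S} [GrpObj G] (D : Red.SplitRed G)

theorem gc_unit (X : Over S) {C : Type u} [CommRing C] (j : Spec (CommRingCat.of C) ⟶ X.left) (c : Γ(S, ⊤)) :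
    gcA (base (X := X) j) (test j ≫ toUnit X ≫ (GaPts.ptOfFn c : 𝟙_ (Over S) ⟶ Red.Ga S)) =
      (Scheme.ΓSpecIso (CommRingCat.of C)).hom (j.appTop (X.hom.appTop c)) := by
  rw [gcA, GaPts.gaFn_comp, GaPts.gaFn_comp, GaPts.gaFn_ptOfFn]
  rfl

/-- The commutator formula. -/
theorem exists_commutator_formula (b : D.P.Base) (α β : D.idx) (hα : α ∈ RedSub.posRoots D.P b)
    (hβ : β ∈ RedSub.posRoots D.P b) {n : ℕ} (e : Fin n → D.idx) (i j : Fin n → ℕ) (he : Function.Injective e)
    (hij : ∀ k, 1 ≤ i k ∧ 1 ≤ j k ∧ D.P.root (e k) = (i k : ℤ) • D.P.root α + (j k : ℤ) • D.P.root β)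
    (hall : ∀ (c : D.idx) (p q : ℕ), 1 ≤ p → 1 ≤ q → D.P.root c = (p : ℤ) • D.P.root α + (q : ℤ) • D.P.root β →
      c ∈ Set.range e) :
    ∃! C : Fin n → Γ(S, ⊤), ∀ (X : Over S) (x y : X ⟶ Red.Ga S) (z : Fin n → (X ⟶ Red.Ga S)),
      (∀ k, Red.gaFn (z k) = X.hom.appTop (C k) * Red.gaFn x ^ (i k) * Red.gaFn y ^ (j k)) →
        (x ≫ D.u α) * (y ≫ D.u β) * (x ≫ D.u α)⁻¹ =
          (y ≫ D.u β) * (List.ofFn (fun k => z k ≫ D.u (e k))).prod := by
  classical
  obtain ⟨f, hf, hfp, -⟩ := exists_base_functional b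
  have ha : 0 < f (D.P.root α) := (hfp α).mpr hα
  have hb : 0 < f (D.P.root β) := (hfp β).mpr hβ
  have hep : ∀ k, 0 < f (D.P.root (e k)) := fun k => by
    obtain ⟨h1, h2, h3⟩ := hij k
    rw [h3, map_add, map_zsmul, map_zsmul, smul_eq_mul, smul_eq_mul]
    have : (1 : ℤ) ≤ i k := by exact_mod_cast h1
    have : (1 : ℤ) ≤ j k := by exact_mod_cast h2
    nlinarith
  haveI := mono_prodMap D e f hep he
  -- the formula in a chart
  have hform : ∀ {X : Over S} {C : Type u} [CommRing C] (jC : Spec (CommRingCat.of C) ⟶ X.left),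
      ∃ c : Fin n → C, ∀ x y : C, (cht D jC).rPt α x * (cht D jC).rPt β y * ((cht D jC).rPt α x)⁻¹ =
        (cht D jC).rPt β y * (cht D jC).prodPt e fun k => c k * x ^ i k * y ^ j k := by
    intro X C _ jC
    haveI := (model D (base (X := X) jC)).isMonHom
    haveI := smooth_model D (base (X := X) jC) (model D (base (X := X) jC)).iso
    obtain ⟨c, hc⟩ := (cht D jC).exists_comm_formula f (geomFibres D _ _) ha hb e he i j hep
      (fun r p q hp hq h => hall r p q hp hq (by rw [natCast_zsmul, natCast_zsmul]; exact h))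
      (fun k p q hp hq h => by
        have h' := (hij k).2.2
        rw [natCast_zsmul, natCast_zsmul] at h'
        exact comb_unique D.P f ha hb hp hq (hij k).1 (hij k).2.1 h h')
    exact ⟨c, fun x y => hc C x y⟩
  let one' : 𝟙_ (Over S) ⟶ Red.Ga S := GaPts.ptOfFn 1
  let g₀ : 𝟙_ (Over S) ⟶ G := (one' ≫ D.u β)⁻¹ * ((one' ≫ D.u α) * (one' ≫ D.u β) * (one' ≫ D.u α)⁻¹)
  have hone : ∀ {X : Over S} {C : Type u} [CommRing C] (jC : Spec (CommRingCat.of C) ⟶ X.left),
      gc jC (toUnit X ≫ one') = 1 := by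
    intro X C _ jC
    rw [gc, GaPts.gaFn_comp, GaPts.gaFn_ptOfFn, map_one, map_one, map_one]
  obtain ⟨z₀, hz₀⟩ := exists_factor_of_test (RedSub.prodMap (Red.Ga S) n fun k => D.u (e k)) g₀ fun C _ jC => by
    haveI := (model D (base (X := 𝟙_ (Over S)) jC)).isMonHom
    obtain ⟨c, hc⟩ := hform jC
    refine ⟨gaPowPt _ c, rdA_injective _ (model D (base (X := 𝟙_ (Over S)) jC)).iso ?_⟩
    rw [rdA_gaPowPt]
    show _ = rd D jC g₀
    have h1 := hone jC
    rw [toUnit_unique (toUnit _) (𝟙 _), Category.id_comp] at h1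
    have h := hc 1 1
    simp only [one_pow, _root_.mul_one] at h
    simp only [g₀, rd_mul, rd_inv, rd_u, h1]
    rw [h, inv_mul_cancel_left]
  refine ⟨fun k => Red.gaFn (z₀ ≫ powPr _ k), fun X x y z hz => ?_, fun C' hC' => funext fun k => ?_⟩
  · refine eq_of_rd D _ _ fun C _ jC => ?_
    haveI := (model D (base (X := X) jC)).isMonHom
    haveI := smooth_model D (base (X := X) jC) (model D (base (X := X) jC)).iso
    obtain ⟨c, hc⟩ := hform jC
    have hc1 : c = fun k => gc jC (toUnit X ≫ z₀ ≫ powPr _ k) := by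
      refine (cht D jC).prodPt_injective f e hep he ?_
      have h := hc 1 1
      simp only [one_pow, _root_.mul_one] at h
      have h' : rd D jC ((toUnit X ≫ z₀) ≫ RedSub.prodMap (Red.Ga S) n fun k => D.u (e k)) =
          (cht D jC).prodPt e c := by
        rw [Category.assoc, hz₀]
        simp only [g₀, MonObj.comp_mul, GrpObj.comp_inv, rd_mul, rd_inv, ← Category.assoc, rd_u, hone]
        rw [h, inv_mul_cancel_left]
      rw [← h', comp_prodMap, rd_list_prod, List.map_ofFn, prodPt_eq_list]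
      refine (congrArg (fun l => (List.ofFn l).prod) (funext fun k => ?_)).symm
      show _ = rd D jC ((toUnit X ≫ z₀) ≫ powPr _ k ≫ D.u (e k))
      rw [← Category.assoc ((toUnit X) ≫ z₀), Category.assoc (toUnit X), rd_u]
    simp only [rd_mul, rd_inv, rd_u, rd_list_prod, List.map_ofFn]
    rw [hc, prodPt_eq_list]
    congr 2
    refine congrArg List.ofFn (funext fun k => ?_)
    show _ = rd D jC (z k ≫ D.u (e k))
    rw [rd_u]
    congr 1
    rw [hc1]
    show gc jC (toUnit X ≫ z₀ ≫ powPr _ k) * gc jC x ^ i k * gc jC y ^ j k = gc jC (z k)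
    simp only [gc, GaPts.gaFn_comp, hz k, map_mul, map_pow]
    rfl
  · have h1 := hC' (𝟙_ (Over S)) one' one' (fun l => GaPts.ptOfFn (C' l)) fun l => by
      rw [GaPts.gaFn_ptOfFn, GaPts.gaFn_ptOfFn, one_pow, one_pow, _root_.mul_one, _root_.mul_one]
      simp
    have h2 : powPt (fun l => (GaPts.ptOfFn (C' l) : 𝟙_ (Over S) ⟶ Red.Ga S)) = z₀ := by
      rw [← cancel_mono (RedSub.prodMap (Red.Ga S) n fun k => D.u (e k)), hz₀, comp_prodMap]
      simp only [← Category.assoc, powPt_powPr]
      rw [← inv_mul_cancel_left (one' ≫ D.u β) (List.ofFn fun l => _).prod, ← h1]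
    show C' k = Red.gaFn (z₀ ≫ powPr _ k)
    rw [← h2, powPt_powPr, GaPts.gaFn_ptOfFn]

end Groth.Agent.RootChartLib
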