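import Groth.Agent.RootChartLib.HomExt
import Groth.Agent.S5427
import Groth.Agent.S8448

/-!
# Dual pairs of simple root homomorphisms
-/

set_option autoImplicit false
set_option linter.style.haveILetI false
set_option backward.isDefEq.respectTransparency false
set_option backward.isDefEq.respectTransparency.types false

universe u

open CategoryTheory Limits AlgebraicGeometry MonoidalCategory CartesianMonoidalCategory MonObj GrpObj

namespace Groth.Agent.RootChartLib

open GrpSchLib RankLib.SplitRedPts H23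

variable {S : Scheme.{u}} {G : Over S} [GrpObj G] (D : Red.SplitRed G) (a : D.idx)

/-- The coroot of a root read through the splitting. -/
noncomputable abbrev avOf : Red.Gm S ⟶ D.T :=
  Red.DSmap S (D.P.coroot a).toAddMonoidHom ≫ D.split.inv.hom.hom

/-- The commutation rule of a dual pair of opposite root homomorphisms. -/
def IsDual : Prop :=
  ∀ (X : Over S) (x y : X ⟶ Red.Ga S), IsUnit (1 + Red.gaFn x * Red.gaFn y) →
    ∃ (x' y' : X ⟶ Red.Ga S) (z : X ⟶ Red.Gm S), Red.gmFn z = 1 + Red.gaFn x * Red.gaFn y ∧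
      Red.gaFn x' * Red.gmFn z = Red.gaFn x ∧ Red.gaFn y' * Red.gmFn z = Red.gaFn y ∧
      (x ≫ D.u a) * (y ≫ D.u (D.P.reflectionPerm a a)) =
        (y' ≫ D.u (D.P.reflectionPerm a a)) * (z ≫ avOf D a ≫ D.i) * (x' ≫ D.u a)

theorem isMonHom_avOf : IsMonHom (avOf D a) := by
  haveI := S5427.isMonHom_DSmap S (D.P.coroot a).toAddMonoidHom
  haveI : IsMonHom D.split.inv.hom.hom := D.split.inv.hom.isMonHom_hom
  infer_instance

theorem ch_avOf {X : Over S} (z : X ⟶ Red.Gm S) (m : D.M) :
    ch D (z ≫ avOf D a) (Multiplicative.ofAdd m) =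
      CharPts.chi (M := ℤ) z (Multiplicative.ofAdd (D.P.coroot a m)) := by
  rw [ch, avOf, Category.assoc, Category.assoc, split_inv_hom]
  refine (congrArg (fun x => CharPts.chi (M := D.M) x _) ?_).trans (CharPts.chi_map (D.P.coroot a).toAddMonoidHom z _)
  exact congrArg (z ≫ ·) (Category.comp_id _)

theorem coroot_eq_coroot' (m : D.M) : D.P.coroot a m = D.P.coroot' a m := by
  show _ = D.P.toLinearMap.flip (D.P.coroot a) m
  rw [LinearMap.flip_apply, D.pairing_eq]
  rfl

theorem avOf_root : avOf D a ≫ D.split.hom.hom.hom ≫ Red.chi S (D.P.root a) = (𝟙 (Red.Gm S)) ^ 2 := by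
  refine GmPts.gmFn_injective ?_
  show Red.gmFn _ = Red.gmFn _
  rw [gmFn_chi, ← Category.id_comp (avOf D a), ch_avOf, coroot_eq_coroot',
    show D.P.coroot' a (D.P.root a) = (1 : ℤ) + 1 from D.P.root_coroot_two a, ofAdd_add, map_mul]
  exact (congrArg₂ (· * ·) (gmFn_eq _).symm (gmFn_eq _).symm).trans (by rw [pow_two, GmPts.gmFn_mul])

theorem root_mul_neg_root {X : Over S} (t : X ⟶ D.T) :
    ch D t (Multiplicative.ofAdd (D.P.root (D.P.reflectionPerm a a))) * ch D t (Multiplicative.ofAdd (D.P.root a)) = 1 := by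
  rw [← map_mul, ← ofAdd_add, D.P.root_reflectionPerm, D.P.reflection_apply_self, neg_add_cancel]
  exact map_one _

/-- A dual pair gives a point realising the reflection. -/
theorem dual_act (h : IsDual D a) {X : Over S} (x x' : X ⟶ Red.Ga S) (hx : Red.gaFn x' * Red.gaFn x = -1)
    (t : X ⟶ D.T) :
    ((x ≫ D.u a) * (x' ≫ D.u (D.P.reflectionPerm a a)) * (x ≫ D.u a)) * (t ≫ D.i) *
        ((x ≫ D.u a) * (x' ≫ D.u (D.P.reflectionPerm a a)) * (x ≫ D.u a))⁻¹ =
      t ≫ D.split.hom.hom.hom ≫ Red.DSmap S (D.P.reflection a).toLinearMap.toAddMonoidHom ≫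
        D.split.inv.hom.hom ≫ D.i := by
  haveI := isMonHom_i D
  haveI := mono_i D
  haveI := isMonHom_u D a
  haveI := isMonHom_u D (D.P.reflectionPerm a a)
  haveI := isMonHom_avOf D a
  haveI := isMonHom_split D
  haveI := S5427.isMonHom_DSmap S (zmultiplesHom D.M (D.P.root a))
  haveI : IsMonHom (D.split.hom.hom.hom ≫ Red.chi S (D.P.root a)) :=
    inferInstanceAs (IsMonHom (D.split.hom.hom.hom ≫ Red.DSmap S (zmultiplesHom D.M (D.P.root a))))
  have h' := (Groth.Agent.S8448.result S G D.T D.i D.maximalTorus.2.2.1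
    (D.split.hom.hom.hom ≫ Red.chi S (D.P.root a)) (D.u a) (D.u (D.P.reflectionPerm a a)) (D.rootHom a).2.2
    (fun X t y => by
      obtain ⟨y', h1, h2⟩ := (D.rootHom (D.P.reflectionPerm a a)).2.2 X t y
      refine ⟨y', h1, ?_⟩
      rw [h2, gmFn_chi, gmFn_chi, mul_right_comm, root_mul_neg_root, _root_.one_mul])
    (avOf D a) (avOf_root D a) h X x x' hx).1 t
  refine h'.trans ?_
  have e : t ≫ D.split.hom.hom.hom ≫ Red.DSmap S (D.P.reflection a).toLinearMap.toAddMonoidHom ≫
      D.split.inv.hom.hom = (t ≫ (D.split.hom.hom.hom ≫ Red.chi S (D.P.root a)) ≫ avOf D a)⁻¹ * t := by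
    rw [eq_inv_mul_iff_mul_eq]
    refine ch_injective D (MonoidHom.ext fun m => ?_)
    obtain ⟨m, rfl⟩ : ∃ x : D.M, Multiplicative.ofAdd x = m := ⟨m.toAdd, rfl⟩
    rw [ch_mul, ← Category.assoc t (_ ≫ _) (avOf D a), ch_avOf]
    rw [show ch D (t ≫ D.split.hom.hom.hom ≫ Red.DSmap S (D.P.reflection a).toLinearMap.toAddMonoidHom ≫
        D.split.inv.hom.hom) (Multiplicative.ofAdd m) = ch D t (Multiplicative.ofAdd (D.P.reflection a m)) by
      rw [ch, Category.assoc, Category.assoc, Category.assoc, split_inv_hom]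
      refine (congrArg (fun x => CharPts.chi (M := D.M) x _) ?_).trans
        (CharPts.chi_map (D.P.reflection a).toLinearMap.toAddMonoidHom (t ≫ D.split.hom.hom.hom) _)
      simp only [← Category.assoc]
      exact Category.comp_id _]
    rw [show CharPts.chi (M := ℤ) (t ≫ D.split.hom.hom.hom ≫ Red.chi S (D.P.root a))
        (Multiplicative.ofAdd (D.P.coroot a m)) = ch D t (Multiplicative.ofAdd (D.P.coroot a m • D.P.root a)) by
      rw [← Category.assoc]
      exact (CharPts.chi_map (zmultiplesHom D.M (D.P.root a)) (t ≫ D.split.hom.hom.hom) _).trans (by simp [ch])]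
    rw [← map_mul, ← ofAdd_add, coroot_eq_coroot', D.P.reflection_apply, add_sub_cancel]
  have h2 := congrArg (· ≫ D.i) e
  simp only [Category.assoc, MonObj.mul_comp, GrpObj.inv_comp] at h2 ⊢
  exact h2.symm

variable {H : Over S} [GrpObj H] {f g : G ⟶ H} [IsMonHom f] [IsMonHom g]

/-- Agreement on a root group and on the point of its dual pair gives agreement on the opposite root group. -/
theorem agree_neg_of_dual (h : IsDual D a) (e₁ : 𝟙_ (Over S) ⟶ Red.Ga S) (he₁ : Red.gaFn e₁ = 1)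
    (hw : Agree f g ((e₁ ≫ D.u a) * (e₁ ≫ D.u (D.P.reflectionPerm a a))⁻¹ * (e₁ ≫ D.u a)))
    (hU : Agree f g (D.u a)) : Agree f g (D.u (D.P.reflectionPerm a a)) := by
  classical
  rcases isEmpty_or_nonempty ↥G.left with hE | ⟨⟨x⟩⟩
  · show _ ≫ f = _ ≫ g
    rw [show f = g from Over.OverMorphism.ext ((isInitialOfIsEmpty (X := G.left)).hom_ext _ _)]
  obtain ⟨K, _, _, a₀, -, -⟩ := exists_geomPt x
  haveI := isReduced_datum D a₀
  obtain ⟨nr, hnr⟩ := exists_nr D
  haveI := isMonHom_u D (D.P.reflectionPerm a a)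
  let w : 𝟙_ (Over S) ⟶ G := (e₁ ≫ D.u a) * (e₁ ≫ D.u (D.P.reflectionPerm a a))⁻¹ * (e₁ ≫ D.u a)
  have hnr' : RedSub.RealisesReflections D (Function.update nr a w) := fun c X t => by
    by_cases hc : c = a
    · subst hc
      rw [Function.update_self]
      have hx : Red.gaFn ((toUnit X ≫ e₁)⁻¹) * Red.gaFn (toUnit X ≫ e₁) = -1 := by
        have h1 : Red.gaFn (toUnit X ≫ e₁) = 1 := by rw [GaPts.gaFn_comp, he₁, map_one]
        have h0 : Red.gaFn (toUnit X ≫ e₁)⁻¹ + Red.gaFn (toUnit X ≫ e₁) = 0 := by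
          rw [← GaPts.gaFn_mul, inv_mul_cancel, GaPts.gaFn_one]
        linear_combination Red.gaFn (toUnit X ≫ e₁) * h0 - (Red.gaFn (toUnit X ≫ e₁) + 1) * h1
      have hd := dual_act D c h (toUnit X ≫ e₁) (toUnit X ≫ e₁)⁻¹ hx t
      have ew : toUnit X ≫ w = ((toUnit X ≫ e₁) ≫ D.u c) *
          ((toUnit X ≫ e₁)⁻¹ ≫ D.u (D.P.reflectionPerm c c)) * ((toUnit X ≫ e₁) ≫ D.u c) := by
        simp only [w, MonObj.comp_mul, GrpObj.comp_inv, GrpObj.inv_comp, Category.assoc]
      rw [ew]
      exact hd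
    · rw [Function.update_of_ne hc]
      exact hnr c X t
  exact agree_reflect hnr' (show Agree f g (Function.update nr a w a) by rw [Function.update_self]; exact hw) hU

end Groth.Agent.RootChartLib
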