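import Groth.Agent.RootChartLib.RankOneReduced

/-!
# Solvable subgroups containing a torus do not contain two opposite root groups
-/

set_option autoImplicit false
set_option backward.isDefEq.respectTransparency false
set_option backward.isDefEq.respectTransparency.types false

universe u

open CategoryTheory Limits AlgebraicGeometry MonoidalCategory CartesianMonoidalCategory MonObj GrpObj WithConv
open scoped TensorProduct LaurentPolynomial

namespace Groth.Agent.RootChartLib

open GrpSchLib GrpSchLib.AffineHopf GrpSchLib.Kunneth GModLib DynLib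

variable {k : Type u} [Field k] [IsAlgClosed k]

/-- Evaluation of a Laurent polynomial at a unit. -/
noncomputable def evL (z : kˣ) : k[T;T⁻¹] →ₐ[k] k :=
  AddMonoidAlgebra.lift k k ℤ ((Units.coeHom k).comp (zpowersHom kˣ z))

omit [IsAlgClosed k] in
theorem evL_T (z : kˣ) (j : ℤ) : evL z (LaurentPolynomial.T j) = ((z ^ j : kˣ) : k) := by
  simp [evL, LaurentPolynomial.T, AddMonoidAlgebra.lift_single, -LaurentPolynomial.single_eq_C_mul_T]

omit [IsAlgClosed k] in
theorem evL_toLaurent (z : kˣ) (q : Polynomial k) : evL z (Polynomial.toLaurent q) = q.eval (z : k) := by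
  have h : (evL z).comp (Polynomial.toLaurentAlg (R := k)) = Polynomial.aeval (z : k) :=
    Polynomial.algHom_ext (by simp [Polynomial.toLaurentAlg_apply, evL_T])
  exact (DFunLike.congr_fun h q).trans (by rw [Polynomial.coe_aeval_eq_eval])

/-- Laurent polynomials are determined by their values at units. -/
theorem evL_ext {P Q : k[T;T⁻¹]} (h : ∀ z : kˣ, evL z P = evL z Q) : P = Q := by
  obtain ⟨n, q, hq⟩ := LaurentPolynomial.exists_T_pow (P - Q)
  have hz : ∀ z : kˣ, q.IsRoot (z : k) := fun z => by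
    rw [Polynomial.IsRoot, ← evL_toLaurent, hq, map_mul, map_sub, h, sub_self, MulZeroClass.zero_mul]
  have h0 : q = 0 := Polynomial.eq_zero_of_infinite_isRoot _ ((Set.finite_singleton (0 : k)).infinite_compl.mono
    fun x (hx : x ≠ 0) => hz (Units.mk0 x hx))
  rw [h0, map_zero] at hq
  exact sub_eq_zero.mp (((LaurentPolynomial.isUnit_T (n : ℤ)).mul_left_eq_zero).mp hq.symm)

namespace Chart

variable {A : Type u} [CommRing A] [HopfAlgebra k A] {M : Type} [AddCommGroup M] [Module.Free ℤ M] [Module.Finite ℤ M]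
  [Module.IsTorsionFree ℤ M] [Algebra.Smooth k A] {idx : Type} [Fintype idx] (D : Chart k A M idx) (a : idx)
  (f : M →+ ℤ)

/-- A character with a prescribed value at a root. -/
theorem exists_char_value {r : idx} (hr : f (D.α r) ≠ 0) {y : k} (hy : y ≠ 0) :
    ∃ χ : Multiplicative M →* k, χ (Multiplicative.ofAdd (D.α r)) = y := by
  obtain ⟨w, hw⟩ := IsAlgClosed.exists_pow_nat_eq y (Int.natAbs_pos.mpr hr)
  have hw0 : w ≠ 0 := fun h => hy (by rw [← hw, h, zero_pow (Int.natAbs_ne_zero.mpr hr)])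
  rcases Int.natAbs_eq (f (D.α r)) with hF | hF
  · refine ⟨(Units.coeHom k).comp ((zpowersHom kˣ (Units.mk0 w hw0)).comp f.toMultiplicative), ?_⟩
    show ((Units.mk0 w hw0 ^ f (D.α r) : kˣ) : k) = y
    rw [hF, zpow_natCast, Units.val_pow_eq_pow_val]
    exact hw
  · refine ⟨(Units.coeHom k).comp ((zpowersHom kˣ (Units.mk0 w hw0)⁻¹).comp f.toMultiplicative), ?_⟩
    show (((Units.mk0 w hw0)⁻¹ ^ f (D.α r) : kˣ) : k) = y
    rw [hF, inv_zpow, zpow_neg, _root_.inv_inv, zpow_natCast, Units.val_pow_eq_pow_val]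
    exact hw

/-- A reflection carries the negative root group into the contracted points. -/
theorem isU_conj_neg {d : M →+ ℤ} {n : WithConv (A →ₐ[k] k)} (hn : D.IsRefl a d n) (ha : 0 < f (D.α a)) {r : idx}
    (hr : D.α r = -D.α a) (y : k) : D.IsU f (n⁻¹ * D.rPt r y * n) := by
  obtain ⟨F, hF⟩ : ∃ F : ℕ, f (D.α a) = F := ⟨_, (Int.toNat_of_nonneg ha.le).symm⟩
  let ι' : k →ₐ[k] Polynomial k := Algebra.ofId k _
  let w : WithConv (A →ₐ[k] Polynomial k) :=
    post ι' n⁻¹ * D.rPt r (Polynomial.C y * Polynomial.X ^ F) * post ι' n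
  have hconst : ∀ (φ : Polynomial k →ₐ[k] k) (g : WithConv (A →ₐ[k] k)), post φ (post ι' g) = g := fun φ g =>
    WithConv.ofConv_injective (AlgHom.ext fun x => by
      show φ (algebraMap k (Polynomial k) (g.ofConv x)) = g.ofConv x
      rw [AlgHom.commutes]
      rfl)
  rw [D.isU_iff]
  refine (mem_limOneSubgroup (D.lam f) (n⁻¹ * D.rPt r y * n).ofConv).mpr ⟨w.ofConv, ?_, ?_⟩
  · refine AlgHom.ext fun x => evL_ext fun z => ?_
    show evL z (Polynomial.toLaurent (w.ofConv x)) = _
    rw [evL_toLaurent, ← Polynomial.coe_aeval_eq_eval]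
    show (post (Polynomial.aeval (R := k) (z : k)) w).ofConv x = (post (evL z) (toConv (Dyn.conjOrbit k A (D.lam f) k
      (n⁻¹ * D.rPt r y * n).ofConv))).ofConv x
    congr 2
    rw [toConv_conjOrbit, toConv_ofConv, conjHom_apply, lamW_eq]
    have hcon : ∀ g : WithConv (A →ₐ[k] k), post (evL z) (post (con k k) g) = g := fun g =>
      WithConv.ofConv_injective (AlgHom.ext fun x => by
        show evL z (con k k (g.ofConv x)) = g.ofConv x
        have h : (evL z).comp (con k k) = AlgHom.id k k := Subsingleton.elim _ _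
        exact DFunLike.congr_fun h _)
    simp only [w, map_mul, map_inv, post_tPt, post_rPt, hconst, hcon]
    let χ : Multiplicative M →* k := ((evL z : k[T;T⁻¹] →ₐ[k] k) : k[T;T⁻¹] →* k).comp (chiF f k)
    have e : χ.comp (D.reflHom a d) (Multiplicative.ofAdd (D.α r)) = (z : k) ^ F := by
      show evL z (chiF f k (D.reflHom a d (Multiplicative.ofAdd (D.α r)))) = _
      rw [reflHom_apply, hr, map_neg d, hn.1, show -D.α a - (-2 : ℤ) • D.α a = D.α a by rw [neg_smul, two_smul]; abel]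
      show evL z (LaurentPolynomial.T (f (D.α a))) = _
      rw [evL_T, hF, zpow_natCast, Units.val_pow_eq_pow_val]
    have h1 : D.tPt χ * (n⁻¹ * D.rPt r y * n) * (D.tPt χ)⁻¹ =
        n⁻¹ * D.rPt r ((χ.comp (D.reflHom a d)) (Multiplicative.ofAdd (D.α r)) * y) * n := by
      rw [← tPt_conj, ← hn.2]
      group
    rw [e] at h1
    rw [show evL z (con k k y) = y from DFunLike.congr_fun (Subsingleton.elim ((evL z).comp (con k k)) (AlgHom.id k k)) y]
    refine Eq.trans ?_ h1.symm
    simp [mul_comm y]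
  · show (post (Polynomial.aeval (R := k) (0 : k)) w).ofConv = _
    rw [map_mul, map_mul, post_rPt, hconst, hconst]
    have hF0 : F ≠ 0 := by omega
    simp [hF0, rPt_zero]
    rfl

variable (hD : D.GeomFibres) (hf : ∀ r, f (D.α r) ≠ 0) (hG : Red.IsReductiveOver k (sp k A))
  (hT : AGF.IsMaxTorus D.torHom)

include hD hf hG hT in
/-- A solvable closed group of points containing the torus and a root group misses the opposite root group. -/
theorem rPt_notMem_of_solvable {d : M →+ ℤ} {n : WithConv (A →ₐ[k] k)} (hn : D.IsRefl a d n) (ha : 0 < f (D.α a))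
    {r : idx} (hr : D.α r = -D.α a) (Hs : Subgroup (VecGrp.pt k k ⟶ sp k A)) (F : Set (Fn (sp k A)))
    (hF : ∀ g, g ∈ Hs ↔ ∀ F' ∈ F, pullFn g F' = 0) {N : ℕ} (hsol : derivedSeries Hs N = ⊥)
    (hTmem : ∀ χ, gp (D.tPt χ) ∈ Hs) (hU : ∀ x, gp (D.rPt a x) ∈ Hs) {x : k} (hx : x ≠ 0) :
    gp (D.rPt r x) ∉ Hs := by
  classical
  intro hmem
  have hfr : f (D.α r) ≠ 0 := by rw [hr, map_neg]; omega
  have hall : ∀ y, gp (D.rPt r y) ∈ Hs := fun y => by
    by_cases hy : y = 0
    · rw [hy, rPt_zero, map_one]; exact Hs.one_mem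
    obtain ⟨χ, hχ⟩ := D.exists_char_value f hfr (div_ne_zero hy hx)
    have h := D.tPt_conj r χ x
    rw [hχ, div_mul_cancel₀ y hx] at h
    rw [← h, map_mul, map_mul, map_inv]
    exact Hs.mul_mem (Hs.mul_mem (hTmem χ) hmem) (Hs.inv_mem (hTmem χ))
  obtain ⟨Z, _, c, hcm, hcc, hZ, hc, hlift⟩ := D.exists_cent a f hG
  haveI := hcm; haveI := hcc
  obtain ⟨haff, hsm, hcn, hred⟩ := id hZ
  haveI := haff; haveI := hsm; haveI := hcn
  haveI := hG.1; haveI := hG.2.1; haveI := hG.2.2.1
  haveI := hT.1; haveI := hT.2.1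
  haveI : Mono c := Over.mono_of_mono_left c
  obtain ⟨h1, h2, h3, -, -⟩ := TorusBasic.torus_props hT.2.2.1
  haveI := h1; haveI := h2; haveI := h3
  obtain ⟨iT, hiT⟩ := hlift (torSp k M) D.torHom fun t => by
    obtain ⟨χ, rfl⟩ := chT.surjective t
    rw [D.chT_torHom]
    exact (hc _).mpr (D.inCent_tPt a f χ)
  haveI : IsMonHom (iT ≫ c) := hiT ▸ inferInstance
  haveI : IsMonHom iT := GModLib.isMonHom_of_comp iT c
  let HZ : Subgroup (VecGrp.pt k k ⟶ Z) := Hs.comap (pushPt c)
  let φ : HZ →* Hs := ((pushPt c).comp HZ.subtype).codRestrict Hs fun g => g.2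
  have hφ : Function.Injective φ := fun p q h => Subtype.ext ((cancel_mono c).mp (congrArg Subtype.val h))
  have hFZ : ∀ g, g ∈ HZ ↔ ∀ F' ∈ (ev c) '' F, pullFn g F' = 0 := fun g => by
    rw [Set.forall_mem_image]
    simp only [pullFn_ev]
    exact hF _
  obtain ⟨B, _, iB, hB, hBT, hBr⟩ := D.exists_borel_of_points c hZ iT HZ ((ev c) '' F) hFZ (N := N)
    ((Subgroup.map_eq_bot_iff_of_injective _ hφ).mp (eq_bot_iff.mpr
      ((map_derivedSeries_le_derivedSeries φ N).trans hsol.le)))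
  have hBT' := hBT fun χ => by
    show (chT χ ≫ iT) ≫ c ∈ Hs
    rw [D.chT_iT a f c hc iT hiT]
    exact hTmem χ
  have hprop : ∀ s, 0 < f (D.α s) → D.qLin a f (D.α s) = 0 → s = a := fun s hs hq =>
    D.eq_of_proportional a f hD hf hG hT hn ha hs hq
  have hqr : D.qLin a f (D.α r) = 0 := by rw [hr, map_neg, qLin_root, neg_zero]
  have hin : ∀ s, D.qLin a f (D.α s) = 0 → (∀ y, gp (D.rPt s y) ∈ Hs) → ∀ y : k, ∃ b : VecGrp.pt k k ⟶ B,
      b ≫ iB ≫ c = gp (D.rPt s y) := fun s hq hs => hBr s fun y => by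
    obtain ⟨z, hz⟩ := (hc _).mpr (D.inCent_rPt a f hq y)
    exact ⟨z, by show z ≫ c ∈ Hs; rw [hz]; exact hs y, hz⟩
  let K : Subgroup (WithConv (A →ₐ[k] k)) :=
    { carrier := Set.range (D.rPt a)
      one_mem' := ⟨0, D.rPt_zero a⟩
      mul_mem' := by rintro _ _ ⟨p, rfl⟩ ⟨q, rfl⟩; exact ⟨p + q, D.rPt_add a p q⟩
      inv_mem' := by
        rintro _ ⟨p, rfl⟩
        exact ⟨-p, (inv_eq_of_mul_eq_one_right (by rw [← rPt_add, add_neg_cancel, rPt_zero])).symm⟩ }
  have hy : ∀ y : k, ∃ y' : k, D.rPt a y' = n⁻¹ * D.rPt r y * n := fun y =>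
    D.mem_of_isU_inCent a f hD hf (K := K) (fun s hs hq y' => by rw [hprop s hs hq]; exact ⟨y', rfl⟩)
      (D.isU_conj_neg a f hn ha hr y)
      (((hn.inCent (f := f)).inv.mul (D.inCent_rPt a f hqr y)).mul (hn.inCent (f := f)))
  choose g hg using hy
  have hinj : Function.Injective g := fun p q h => by
    have h1 := hg p
    rw [h, hg q] at h1
    exact (D.rPt_injective r (mul_left_cancel (mul_right_cancel h1))).symm
  have hfin := D.finite_opposite a f c iB hZ hc iT hiT hD hf hG hT hn ha hB hBT'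
    (fun s hs hq => by rw [hprop s hs hq]; exact hin a (D.qLin_root a f) hU) (fun _ : Fin 1 => a)
    (fun i j _ => Subsingleton.elim i j) (fun _ => ha)
  refine (Set.infinite_range_of_injective (f := fun y : k => fun _ : Fin 1 => g y)
    fun p q h => hinj (congrFun h 0)) (hfin.subset ?_)
  rintro _ ⟨y, rfl⟩
  obtain ⟨b, hb⟩ := hin r hqr hall y
  refine ⟨b, ?_⟩
  show b ≫ iB ≫ c = gp (n * (D.rPt a (g y) * 1) * n⁻¹)
  rw [hb, _root_.mul_one, hg]
  congr 1
  group

end Chart

end Groth.Agent.RootChartLib
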