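import Groth.Agent.RootChartLib.RankOneNeg
import Groth.Agent.RootChartLib.Reduced
import Groth.Agent.RootData.Weyl

/-!
# Normaliser points permute the root groups
-/

set_option autoImplicit false
set_option backward.isDefEq.respectTransparency false
set_option backward.isDefEq.respectTransparency.types false

universe u

open CategoryTheory Limits AlgebraicGeometry MonoidalCategory CartesianMonoidalCategory MonObj GrpObj WithConv
open scoped TensorProduct LaurentPolynomial

namespace Groth.Agent.RootChartLib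

open GrpSchLib GrpSchLib.AffineHopf GrpSchLib.Kunneth GModLib DynLib

variable {k : Type u} [Field k] [IsAlgClosed k]

namespace Chart

variable {A : Type u} [CommRing A] [HopfAlgebra k A] {M : Type} [AddCommGroup M]
  {idx : Type} (D : Chart k A M idx)

/-- The points of a root group. -/
def rootGrp (r : idx) : Subgroup (WithConv (A →ₐ[k] k)) where
  carrier := Set.range (D.rPt r)
  one_mem' := ⟨0, D.rPt_zero r⟩
  mul_mem' := by rintro _ _ ⟨p, rfl⟩ ⟨q, rfl⟩; exact ⟨p + q, D.rPt_add r p q⟩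
  inv_mem' := by
    rintro _ ⟨p, rfl⟩
    exact ⟨-p, (inv_eq_of_mul_eq_one_right (by rw [← rPt_add, add_neg_cancel, rPt_zero])).symm⟩

variable [Module.Free ℤ M] [Module.Finite ℤ M] [Module.IsTorsionFree ℤ M] [Algebra.Smooth k A]

/-- A point normalising the torus carries a root group into the contracted points. -/
theorem isU_conj (g' : M →+ ℤ) {m : WithConv (A →ₐ[k] k)} (e : M ≃+ M)
    (hm : ∀ χ : Multiplicative M →* k, m * D.tPt χ * m⁻¹ = D.tPt (χ.comp e.toAddMonoidHom.toMultiplicative))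
    {r : idx} (hr : 0 < g' (D.α r)) (y : k) :
    D.IsU (g'.comp e.toAddMonoidHom) (m * D.rPt r y * m⁻¹) := by
  let g : M →+ ℤ := g'.comp e.toAddMonoidHom
  obtain ⟨F, hF⟩ : ∃ F : ℕ, g' (D.α r) = F := ⟨_, (Int.toNat_of_nonneg hr.le).symm⟩
  let ι' : k →ₐ[k] Polynomial k := Algebra.ofId k _
  let w : WithConv (A →ₐ[k] Polynomial k) :=
    post ι' m * D.rPt r (Polynomial.C y * Polynomial.X ^ F) * post ι' m⁻¹
  have hconst : ∀ (φ : Polynomial k →ₐ[k] k) (v : WithConv (A →ₐ[k] k)), post φ (post ι' v) = v := fun φ v =>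
    WithConv.ofConv_injective (AlgHom.ext fun x => by
      show φ (algebraMap k (Polynomial k) (v.ofConv x)) = v.ofConv x
      rw [AlgHom.commutes]
      rfl)
  rw [D.isU_iff]
  refine (mem_limOneSubgroup (D.lam g) (m * D.rPt r y * m⁻¹).ofConv).mpr ⟨w.ofConv, ?_, ?_⟩
  · refine AlgHom.ext fun x => evL_ext fun z => ?_
    show evL z (Polynomial.toLaurent (w.ofConv x)) = _
    rw [evL_toLaurent, ← Polynomial.coe_aeval_eq_eval]
    show (post (Polynomial.aeval (R := k) (z : k)) w).ofConv x = (post (evL z) (toConv (Dyn.conjOrbit k A (D.lam g) k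
      (m * D.rPt r y * m⁻¹).ofConv))).ofConv x
    congr 2
    rw [toConv_conjOrbit, toConv_ofConv, conjHom_apply, lamW_eq]
    have hcon : ∀ v : WithConv (A →ₐ[k] k), post (evL z) (post (con k k) v) = v := fun v =>
      WithConv.ofConv_injective (AlgHom.ext fun x => by
        show evL z (con k k (v.ofConv x)) = v.ofConv x
        have h : (evL z).comp (con k k) = AlgHom.id k k := Subsingleton.elim _ _
        exact DFunLike.congr_fun h _)
    simp only [w, map_mul, map_inv, post_tPt, post_rPt, hconst, hcon]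
    let χ : Multiplicative M →* k := ((evL z : k[T;T⁻¹] →ₐ[k] k) : k[T;T⁻¹] →* k).comp (chiF g' k)
    have e1 : ((evL z : k[T;T⁻¹] →ₐ[k] k) : k[T;T⁻¹] →* k).comp (chiF g k) =
        χ.comp e.toAddMonoidHom.toMultiplicative := MonoidHom.ext fun x => rfl
    have e2 : χ (Multiplicative.ofAdd (D.α r)) = (z : k) ^ F := by
      show evL z (LaurentPolynomial.T (g' (D.α r))) = _
      rw [evL_T, hF, zpow_natCast, Units.val_pow_eq_pow_val]
    have h1 : D.tPt (χ.comp e.toAddMonoidHom.toMultiplicative) * (m * D.rPt r y * m⁻¹) *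
        (D.tPt (χ.comp e.toAddMonoidHom.toMultiplicative))⁻¹ =
        m * D.rPt r (χ (Multiplicative.ofAdd (D.α r)) * y) * m⁻¹ := by
      rw [← hm, ← tPt_conj]
      group
    rw [e2] at h1
    rw [show evL z (con k k y) = y from DFunLike.congr_fun (Subsingleton.elim ((evL z).comp (con k k)) (AlgHom.id k k)) y]
    rw [e1]
    refine Eq.trans ?_ h1.symm
    simp [mul_comm y]
  · show (post (Polynomial.aeval (R := k) (0 : k)) w).ofConv = _
    rw [map_mul, map_mul, post_rPt, hconst, hconst]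
    have hF0 : F ≠ 0 := by omega
    simp [hF0, rPt_zero]
    rfl

variable [Fintype idx] (hD : D.GeomFibres)

include hD in
/-- A point normalising the torus carries a root group onto a root group. -/
theorem exists_rPt_conj (hred : ∀ i j, ¬ LinearIndependent ℤ ![D.α i, D.α j] → D.α i = D.α j ∨ D.α i = -D.α j)
    {m : WithConv (A →ₐ[k] k)} (e : M ≃+ M)
    (hm : ∀ χ : Multiplicative M →* k, m * D.tPt χ * m⁻¹ = D.tPt (χ.comp e.toAddMonoidHom.toMultiplicative))
    (he : ∀ s, ∃ s', e (D.α s) = D.α s') {r r' : idx} (hr : e (D.α r') = D.α r) (x : k) :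
    ∃ x', m * D.rPt r x * m⁻¹ = D.rPt r' x' := by
  obtain ⟨φ, hφ⟩ := exists_form_ne_zero D.α D.α_ne
  obtain ⟨g', hg', hg'r⟩ : ∃ g' : M →+ ℤ, (∀ s, g' (D.α s) ≠ 0) ∧ 0 < g' (D.α r) := by
    rcases lt_or_gt_of_ne (hφ r) with hneg | hpos
    · exact ⟨-φ, fun s => neg_ne_zero.mpr (hφ s), neg_pos.mpr hneg⟩
    · exact ⟨φ, hφ, hpos⟩
  let g : M →+ ℤ := g'.comp e.toAddMonoidHom
  have hg : ∀ s, g (D.α s) ≠ 0 := fun s => by
    obtain ⟨s', hs'⟩ := he s
    show g' (e (D.α s)) ≠ 0
    rw [hs']; exact hg' s'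
  have hgr : 0 < g (D.α r') := by show 0 < g' (e (D.α r')); rwa [hr]
  have hprop : ∀ s, 0 < g (D.α s) → D.qLin r' g (D.α s) = 0 → s = r' := fun s hs hq => by
    rw [qLin_apply] at hq
    have hdep : ¬ LinearIndependent ℤ ![D.α s, D.α r'] := fun h => by
      rw [LinearIndependent.pair_iff] at h
      have := (h (g (D.α r')) (-g (D.α s)) (by rw [neg_smul]; rwa [← sub_eq_add_neg])).1
      omega
    refine D.α_injective ((hred s r' hdep).resolve_right fun hn => ?_)
    rw [hn, map_neg] at hs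
    omega
  have hcent : D.InCent r' g (m * D.rPt r x * m⁻¹) := fun χ => by
    let χ' : Multiplicative M →* k := (χ.comp (D.qHom r' g)).comp e.symm.toAddMonoidHom.toMultiplicative
    have e1 : χ'.comp e.toAddMonoidHom.toMultiplicative = χ.comp (D.qHom r' g) := MonoidHom.ext fun x => by
      show χ (D.qHom r' g (Multiplicative.ofAdd (e.symm (e x.toAdd)))) = _
      rw [AddEquiv.symm_apply_apply]; rfl
    have e2 : χ' (Multiplicative.ofAdd (D.α r)) = 1 := by
      show χ (D.qHom r' g (Multiplicative.ofAdd (e.symm (D.α r)))) = 1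
      rw [← hr, AddEquiv.symm_apply_apply, show D.qHom r' g (Multiplicative.ofAdd (D.α r')) = 1 from
        congrArg Multiplicative.ofAdd (Subtype.ext (D.qLin_root r' g)), map_one]
    have h1 := D.tPt_conj r χ' x
    rw [e2, _root_.one_mul] at h1
    rw [← e1, ← hm]
    have h2 : Commute (D.rPt r x) (D.tPt χ') := (mul_inv_eq_iff_eq_mul.mp h1).symm
    show m * D.rPt r x * m⁻¹ * (m * D.tPt χ' * m⁻¹) = m * D.tPt χ' * m⁻¹ * (m * D.rPt r x * m⁻¹)
    calc _ = m * (D.rPt r x * D.tPt χ') * m⁻¹ := by group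
      _ = _ := by rw [h2.eq]; group
  obtain ⟨x', hx'⟩ := D.mem_of_isU_inCent r' g hD hg (K := D.rootGrp r')
    (fun s hs hq y => by rw [hprop s hs hq]; exact ⟨y, rfl⟩) (D.isU_conj g' e hm hg'r x) hcent
  exact ⟨x', hx'.symm⟩

variable {N : Type} [AddCommGroup N] (P : RootPairing idx ℤ M N) (nr : idx → WithConv (A →ₐ[k] k))

/-- The action of a word on characters. -/
noncomputable def wEquiv (l : List idx) : M ≃+ M := DistribMulAction.toAddEquiv M (RootData.word P l)⁻¹

omit [Module.Free ℤ M] [Module.Finite ℤ M] [Module.IsTorsionFree ℤ M] [Fintype idx] in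
theorem refl_smul (a : idx) (x : M) : RootPairing.Equiv.reflection P a • x = P.reflection a x := rfl

omit [Module.Free ℤ M] [Module.Finite ℤ M] [Module.IsTorsionFree ℤ M] [Algebra.Smooth k A] in
theorem conj_word
    (hn : ∀ a χ, nr a * D.tPt χ * (nr a)⁻¹ = D.tPt (χ.comp (P.reflection a).toLinearMap.toAddMonoidHom.toMultiplicative)) :
    ∀ (l : List idx) (χ : Multiplicative M →* k),
      (l.map nr).prod * D.tPt χ * ((l.map nr).prod)⁻¹ =
        D.tPt (χ.comp (wEquiv P l).toAddMonoidHom.toMultiplicative)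
  | [], χ => by
    simp only [List.map_nil, List.prod_nil, _root_.one_mul, inv_one, _root_.mul_one]
    congr 1
    refine MonoidHom.ext fun x => ?_
    show χ x = χ (Multiplicative.ofAdd ((RootData.word P ([] : List idx))⁻¹ • x.toAdd))
    simp [RootData.word]
  | a :: l, χ => by
    rw [List.map_cons, List.prod_cons, _root_.mul_inv_rev,
      show ∀ p q : WithConv (A →ₐ[k] k), p * q * D.tPt χ * (q⁻¹ * p⁻¹) = p * (q * D.tPt χ * q⁻¹) * p⁻¹ from
        fun p q => by group,
      conj_word hn l χ, hn]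
    congr 1
    refine MonoidHom.ext fun x => ?_
    show χ (Multiplicative.ofAdd ((RootData.word P l)⁻¹ • (P.reflection a x.toAdd))) =
      χ (Multiplicative.ofAdd ((RootData.word P (a :: l))⁻¹ • x.toAdd))
    have h2 : (RootPairing.Equiv.reflection P a)⁻¹ = RootPairing.Equiv.reflection P a :=
      inv_eq_of_mul_eq_one_right (RootData.refl_mul_self a)
    rw [RootData.word_cons, _root_.mul_inv_rev, h2, SemigroupAction.mul_smul, refl_smul]

include hD in
theorem exists_rPt_word (hα : ∀ r, D.α r = P.root r)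
    (hred : ∀ i j, ¬ LinearIndependent ℤ ![D.α i, D.α j] → D.α i = D.α j ∨ D.α i = -D.α j)
    (hn : ∀ a χ, nr a * D.tPt χ * (nr a)⁻¹ = D.tPt (χ.comp (P.reflection a).toLinearMap.toAddMonoidHom.toMultiplicative))
    (l : List idx) (r : idx) (x : k) :
    ∃ x', (l.map nr).prod * D.rPt r x * ((l.map nr).prod)⁻¹ = D.rPt (RootData.word P l • r) x' := by
  refine D.exists_rPt_conj hD hred (wEquiv P l) (D.conj_word P nr hn l) (fun s => ⟨(RootData.word P l)⁻¹ • s, ?_⟩) ?_ x
  · rw [hα, hα, RootData.smul_root]; rfl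
  · show (RootData.word P l)⁻¹ • D.α _ = _
    rw [hα, hα, RootData.smul_root, inv_smul_smul]

include hD in
theorem exists_rPt_word_inv (hα : ∀ r, D.α r = P.root r)
    (hred : ∀ i j, ¬ LinearIndependent ℤ ![D.α i, D.α j] → D.α i = D.α j ∨ D.α i = -D.α j)
    (hn : ∀ a χ, nr a * D.tPt χ * (nr a)⁻¹ = D.tPt (χ.comp (P.reflection a).toLinearMap.toAddMonoidHom.toMultiplicative))
    (l : List idx) (r : idx) (x : k) :
    ∃ x', ((l.map nr).prod)⁻¹ * D.rPt r x * (l.map nr).prod = D.rPt ((RootData.word P l)⁻¹ • r) x' := by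
  refine (fun h => by simpa only [_root_.inv_inv] using h) (D.exists_rPt_conj hD hred (wEquiv P l).symm
    (m := ((l.map nr).prod)⁻¹) (fun χ => ?_) (fun s => ⟨RootData.word P l • s, ?_⟩)
    (r := r) (r' := (RootData.word P l)⁻¹ • r) ?_ x)
  · have h := D.conj_word P nr hn l (χ.comp (wEquiv P l).symm.toAddMonoidHom.toMultiplicative)
    have e : (χ.comp (wEquiv P l).symm.toAddMonoidHom.toMultiplicative).comp
        (wEquiv P l).toAddMonoidHom.toMultiplicative = χ := MonoidHom.ext fun x => by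
      show χ (Multiplicative.ofAdd ((wEquiv P l).symm (wEquiv P l x.toAdd))) = χ x
      rw [AddEquiv.symm_apply_apply]; rfl
    rw [e] at h
    conv_lhs => rw [← h]
    group
  · rw [hα, hα, RootData.smul_root]; show ((RootData.word P l)⁻¹)⁻¹ • P.root s = _; rw [_root_.inv_inv]
  · show ((RootData.word P l)⁻¹)⁻¹ • D.α _ = _
    rw [hα, hα, RootData.smul_root, _root_.inv_inv, smul_inv_smul]

end Chart

end Groth.Agent.RootChartLib
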