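import Groth.Agent.RootChartLib.DualPinning
import Groth.Agent.RootData.BaseOf

/-!
# Split groups of the same type are isomorphic
-/

set_option autoImplicit false
set_option linter.style.haveILetI false
set_option linter.unusedSectionVars false
set_option backward.isDefEq.respectTransparency false
set_option backward.isDefEq.respectTransparency.types false

universe u

open CategoryTheory Limits AlgebraicGeometry MonoidalCategory CartesianMonoidalCategory MonObj GrpObj

namespace Groth.Agent.RootChartLib

section Base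

variable {ι₁ ι₂ M₁ M₂ N₁ N₂ : Type*} [AddCommGroup M₁] [AddCommGroup N₁] [AddCommGroup M₂] [AddCommGroup N₂]
  {P : RootPairing ι₁ ℤ M₁ N₁} {Q : RootPairing ι₂ ℤ M₂ N₂}

open Classical in
/-- The image of a base under an isomorphism of root data. -/
noncomputable def baseMap (b : P.Base) (e : RootPairing.Equiv P Q) : Q.Base where
  support := b.support.map e.indexEquiv.toEmbedding
  linearIndepOn_root := by
    rw [Finset.coe_map]
    refine LinearIndepOn.image_of_comp _ Q.root ?_
    rw [show Q.root ∘ e.indexEquiv.toEmbedding = (RootPairing.Equiv.weightEquiv P Q e).toLinearMap ∘ P.root from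
      funext fun i => (RootPairing.Hom.root_weightMap_apply P Q i e.toHom).symm]
    exact b.linearIndepOn_root.map' _ (LinearEquiv.ker _)
  linearIndepOn_coroot := by
    rw [Finset.coe_map]
    refine LinearIndepOn.image_of_comp _ Q.coroot ?_
    rw [show Q.coroot ∘ e.indexEquiv.toEmbedding = (RootPairing.Equiv.coweightEquiv P Q e).symm.toLinearMap ∘ P.coroot from
      funext fun i => ((LinearEquiv.symm_apply_eq _).mpr (by
        rw [RootPairing.Equiv.coweightEquiv_apply]
        exact ((RootPairing.Hom.coroot_coweightMap_apply P Q (e.indexEquiv i) e.toHom).trans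
          (congrArg P.coroot (Equiv.symm_apply_apply _ i))).symm)).symm]
    exact b.linearIndepOn_coroot.map' _ (LinearEquiv.ker _)
  root_mem_or_neg_mem i := by
    obtain ⟨j, rfl⟩ := e.indexEquiv.surjective i
    have hj : ∀ k, Q.root (e.indexEquiv k) = e.weightMap (P.root k) := fun k =>
      (RootPairing.Hom.root_weightMap_apply P Q k e.toHom).symm
    have h : AddSubmonoid.closure (Q.root '' ↑(b.support.map e.indexEquiv.toEmbedding)) =
        (AddSubmonoid.closure (P.root '' ↑b.support)).map e.weightMap.toAddMonoidHom := by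
      rw [AddMonoidHom.map_mclosure, Finset.coe_map, Set.image_image, Set.image_image]
      exact congrArg _ (Set.image_congr fun k _ => hj k)
    rw [h, hj]
    exact (b.root_mem_or_neg_mem j).imp (fun h => ⟨_, h, rfl⟩) fun h => ⟨_, h, map_neg _ _⟩
  coroot_mem_or_neg_mem i := by
    obtain ⟨j, rfl⟩ := e.indexEquiv.surjective i
    have hj : ∀ k, Q.coroot (e.indexEquiv k) = (RootPairing.Equiv.coweightEquiv P Q e).symm (P.coroot k) := fun k =>
      ((LinearEquiv.symm_apply_eq _).mpr (by
        rw [RootPairing.Equiv.coweightEquiv_apply]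
        exact ((RootPairing.Hom.coroot_coweightMap_apply P Q (e.indexEquiv k) e.toHom).trans
          (congrArg P.coroot (Equiv.symm_apply_apply _ k))).symm)).symm
    have h : AddSubmonoid.closure (Q.coroot '' ↑(b.support.map e.indexEquiv.toEmbedding)) =
        (AddSubmonoid.closure (P.coroot '' ↑b.support)).map
          (RootPairing.Equiv.coweightEquiv P Q e).symm.toLinearMap.toAddMonoidHom := by
      rw [AddMonoidHom.map_mclosure, Finset.coe_map, Set.image_image, Set.image_image]
      exact congrArg _ (Set.image_congr fun k _ => hj k)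
    rw [h, hj]
    exact (b.coroot_mem_or_neg_mem j).imp (fun h => ⟨_, h, rfl⟩) fun h => ⟨_, h, map_neg _ _⟩

theorem baseMap_mem (b : P.Base) (e : RootPairing.Equiv P Q) (i : ι₁) :
    e.indexEquiv i ∈ (baseMap b e).support ↔ i ∈ b.support :=
  Finset.mem_map' e.indexEquiv.toEmbedding

end Base

variable {S : Scheme.{u}} {G G' : Over S} [GrpObj G] [GrpObj G']

/-- Split groups with isomorphic root data are isomorphic. -/
theorem nonempty_iso_of_equiv (D : Red.SplitRed G) (D' : Red.SplitRed G') (h : RootPairing.Equiv D'.P D.P) :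
    Nonempty (Grp.mk G ≅ Grp.mk G') := by
  rcases isEmpty_or_nonempty ↥S with hS | hS
  · haveI : IsEmpty ↥G.left := ⟨fun x => hS.false (G.hom x)⟩
    haveI : IsEmpty ↥G'.left := ⟨fun x => hS.false (G'.hom x)⟩
    let i₁ := isInitialOfIsEmpty (X := G.left)
    let i₂ := isInitialOfIsEmpty (X := G'.left)
    have hext : ∀ {X Y : Over S} (_ : IsEmpty ↥X.left) (f g : X ⟶ Y), f = g := fun {X Y} hX f g => by
      haveI := hX
      exact Over.OverMorphism.ext ((isInitialOfIsEmpty (X := X.left)).hom_ext _ _)
    haveI : IsEmpty ↥(𝟙_ (Over S)).left := hS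
    haveI : IsEmpty ↥(G ⊗ G).left := ⟨fun x => hS.false ((G ⊗ G).hom x)⟩
    exact ⟨Grp.mkIso (Over.isoMk (i₁.uniqueUpToIso i₂) (i₁.hom_ext _ _)) (hext inferInstance _ _)
      (hext inferInstance _ _)⟩
  haveI := PMor.isReduced_of_nonempty D'
  haveI : D'.P.IsCrystallographic := ⟨fun i j => ⟨_, Int.cast_id⟩⟩
  obtain ⟨Δ, hΔ⟩ := RootData.exists_simple D'.P
  obtain ⟨bs', -⟩ := hΔ.exists_base
  obtain ⟨f, ⟨hf, -, -⟩, -⟩ :=
    existsUnique_iso D D' (baseMap bs' h) bs' h (fun a' => (baseMap_mem bs' h a').symm)
  exact ⟨Grp.mkIso f (IsMonHom.one_hom f.hom) (IsMonHom.mul_hom f.hom)⟩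

end Groth.Agent.RootChartLib
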