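import Groth.Agent.RootChartLib.Positive
import Groth.Agent.RankLib.RootCotangent
import Mathlib.RingTheory.Polynomial.Basic

/-!
# Over a field the positive root subgroups exhaust the contracted subgroup
-/

set_option autoImplicit false
set_option backward.isDefEq.respectTransparency false
set_option backward.isDefEq.respectTransparency.types false

universe u

open WithConv
open scoped TensorProduct LaurentPolynomial

namespace Groth.Agent.RootChartLib

open DynLib DynSm RankLib.LieWeights RankLib.RootCotangent

/-- A surjective endomorphism of a noetherian ring is injective. -/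
theorem injective_of_surjective_endo {P : Type u} [CommRing P] [IsNoetherianRing P] (ψ : P →+* P)
    (h : Function.Surjective ψ) : Function.Injective ψ := by
  let I : ℕ →o Ideal P :=
    ⟨fun n => RingHom.ker (ψ ^ n), monotone_nat_of_le_succ fun n x hx => by
      rw [RingHom.mem_ker] at hx ⊢
      rw [pow_succ', RingHom.coe_mul, Function.comp_apply, hx, map_zero]⟩
  obtain ⟨n, hn⟩ := monotone_stabilizes_iff_noetherian.mpr (inferInstance : IsNoetherianRing P) I
  refine (injective_iff_map_eq_zero ψ).mpr fun x hx => ?_
  have hs : Function.Surjective (ψ ^ n) := by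
    rw [RingHom.coe_pow]; exact h.iterate n
  obtain ⟨y, rfl⟩ := hs x
  have h1 : y ∈ I (n + 1) := by
    show (ψ ^ (n + 1)) y = 0
    rw [pow_succ', RingHom.coe_mul, Function.comp_apply]
    exact hx
  rw [← hn (n + 1) n.le_succ] at h1
  exact h1

namespace Chart

variable {R : Type u} [CommRing R] {A : Type u} [CommRing A] [HopfAlgebra R A] {M : Type} [AddCommGroup M]
  {idx : Type} (D : Chart R A M idx)

/-- Evaluation of a linear form on the characters. -/
noncomputable def evForm (d : M →+ R) : MonoidAlgebra R (Multiplicative M) →ₗ[R] R :=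
  (MonoidAlgebra.basis (Multiplicative M) R).constr R fun m => d m.toAdd

theorem evForm_single (d : M →+ R) (m : Multiplicative M) (r : R) :
    evForm d (MonoidAlgebra.single m r) = r * d m.toAdd := by
  have h : MonoidAlgebra.single m r = r • (MonoidAlgebra.basis (Multiplicative M) R) m := by
    ext l
    classical
    simp [MonoidAlgebra.coeff_single, Finsupp.single_apply]
  rw [evForm, h, map_smul, Module.Basis.constr_basis, smul_eq_mul]

theorem evForm_mul (d : M →+ R) (F F' : MonoidAlgebra R (Multiplicative M)) :
    evForm d (F * F') = Coalgebra.counit (R := R) F * evForm d F' + Coalgebra.counit (R := R) F' * evForm d F := by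
  induction F using MonoidAlgebra.induction_linear with
  | zero => simp
  | add p q hp hq => rw [add_mul, map_add, hp, hq, map_add, map_add]; ring
  | single a r =>
    induction F' using MonoidAlgebra.induction_linear with
    | zero => simp
    | add p q hp hq => rw [mul_add, map_add, hp, hq, map_add, map_add]; ring
    | single b s =>
      rw [MonoidAlgebra.single_mul_single, evForm_single, evForm_single, evForm_single, toAdd_mul, map_add,
        MonoidAlgebra.counit_single, MonoidAlgebra.counit_single, CommSemiring.counit_apply, CommSemiring.counit_apply]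
      ring

/-- The tangent form of the torus. -/
noncomputable def formT (d : M →+ R) : A →ₗ[R] R :=
  (evForm d).comp (D.tor : A →ₐ[R] MonoidAlgebra R (Multiplicative M)).toLinearMap

/-- The tangent form of a root subgroup. -/
noncomputable def formR (r : idx) : A →ₗ[R] R := (Polynomial.lcoeff R 1).comp (D.root r).toLinearMap

theorem coeff_zero_root (r : idx) (a : A) : (D.root r a).coeff 0 = Coalgebra.counit (R := R) a := by
  have h := DFunLike.congr_fun (congrArg WithConv.ofConv (D.rPt_zero (C := R) r)) a
  rw [rPt_apply, AlgHom.convOne_apply, Algebra.algebraMap_self_apply] at h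
  rw [← h, Polynomial.coeff_zero_eq_aeval_zero]

theorem formR_mul (r : idx) (a b : A) :
    D.formR r (a * b) = Coalgebra.counit (R := R) a * D.formR r b + Coalgebra.counit (R := R) b * D.formR r a := by
  simp only [formR, LinearMap.comp_apply, AlgHom.toLinearMap_apply, Polynomial.lcoeff_apply, map_mul]
  rw [← D.coeff_zero_root r a, ← D.coeff_zero_root r b, Polynomial.mul_coeff_one]
  ring

theorem formT_mul (d : M →+ R) (a b : A) :
    D.formT d (a * b) = Coalgebra.counit (R := R) a * D.formT d b + Coalgebra.counit (R := R) b * D.formT d a := by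
  show evForm d (D.tor (a * b)) = _ * evForm d (D.tor b) + _ * evForm d (D.tor a)
  rw [map_mul, evForm_mul, CoalgHomClass.counit_comp_apply, CoalgHomClass.counit_comp_apply]

theorem tor_wt [DecidableEq M] (μ : M) (a : A) (hμ : μ ≠ 0) : D.tor (D.wt μ a) = 0 := by
  have h := D.tPt_wt (MonoidAlgebra.of R (Multiplicative M)) μ a
  rw [if_neg hμ, tPt_apply] at h
  have hid : MonoidAlgebra.lift R (MonoidAlgebra R (Multiplicative M)) (Multiplicative M)
      (MonoidAlgebra.of R (Multiplicative M)) = AlgHom.id R _ :=
    MonoidAlgebra.algHom_ext (fun m => by simp) (by ext)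
  rwa [hid, AlgHom.id_apply] at h

section Gen

variable [Module.IsTorsionFree ℤ M]

theorem formR_wt [DecidableEq M] (r : idx) (μ : M) (a : A) :
    D.formR r (D.wt μ a) = if D.α r = μ then D.formR r a else 0 := by
  show (D.root r (D.wt μ a)).coeff 1 = _
  rw [coeff_root_wt, one_smul]
  rfl

theorem formR_coord [DecidableEq idx] (r s : idx) : D.formR r (D.coord s) = if r = s then 1 else 0 := by
  classical
  rw [← (D.coord_spec s).1, formR_wt]
  by_cases h : r = s
  · subst h
    rw [if_pos rfl, if_pos rfl]
    show (D.root r (D.coord r)).coeff 1 = 1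
    rw [(D.coord_spec r).2, Polynomial.coeff_X_one]
  · rw [if_neg (fun e => h (D.α_injective e)), if_neg h]

theorem formT_coord (d : M →+ R) (s : idx) : D.formT d (D.coord s) = 0 := by
  classical
  show evForm d (D.tor _) = 0
  rw [← (D.coord_spec s).1, tor_wt D _ _ (D.α_ne s), map_zero]

theorem wpr_coord (f : M →+ ℤ) (s : idx) : wpr (D.lam f) (f (D.α s)) (D.coord s) = D.coord s := by
  classical
  have ho := D.orb_wt (D.α s) (D.coord s)
  rw [(D.coord_spec s).1] at ho
  rw [wpr_lam, ho]
  by_cases h0 : D.coord s = 0
  · simp [h0]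
  · rw [MonoidAlgebra.coeff_single, Finsupp.support_single_ne_zero _ h0, Finset.filter_singleton, toAdd_ofAdd,
      if_pos rfl, Finset.sum_singleton, toAdd_ofAdd, (D.coord_spec s).1]

end Gen

end Chart

/-- Elements of degree `n` of a product. -/
theorem wpr_mul {R : Type u} [CommRing R] {A : Type u} [CommRing A] [HopfAlgebra R A] (lam : A →ₐc[R] R[T;T⁻¹])
    (n : ℤ) (a b : A) :
    wpr lam n (a * b) = ∑ i ∈ (orbit lam a).coeff.support, ∑ j ∈ (orbit lam b).coeff.support,
      if i + j = n then wpr lam i a * wpr lam j b else 0 := by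
  classical
  show (orbit lam (a * b)).coeff n = _
  rw [map_mul, AddMonoidAlgebra.coeff_mul]
  simp only [Finsupp.sum, Finsupp.finsetSum_apply]
  rfl

namespace Chart

variable {k : Type u} [Field k] {A : Type u} [CommRing A] [HopfAlgebra k A] {M : Type} [AddCommGroup M]
  [Module.Free ℤ M] [Module.Finite ℤ M] {idx : Type} [Fintype idx] (D : Chart k A M idx)

/-- The forms of the torus and of the roots detect the cotangent space. -/
theorem mem_sq_of_forms [Algebra.Smooth k A]
    (hdim : ringKrullDim A ≤ ((Module.finrank ℤ M + Fintype.card idx : ℕ) : WithBot ℕ∞))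
    {b : A} (hb : b ∈ aug k A) (hT : ∀ d, D.formT d b = 0) (hR : ∀ r, D.formR r b = 0) :
    b ∈ aug k A ^ 2 := by
  classical
  by_contra hne
  obtain ⟨l, hlb, hl⟩ := Submodule.exists_le_ker_of_notMem (p := ((aug k A) ^ 2).restrictScalars k) (v := b)
    (fun h => hne ((Submodule.restrictScalars_mem k _ _).mp h))
  let lin : A →ₗ[k] k :=
    l ∘ₗ (LinearMap.id - (Algebra.linearMap k A).comp (Coalgebra.counit (R := k) (A := A)))
  have hlin : ∀ c, lin c = l (c - algebraMap k A (Coalgebra.counit (R := k) c)) := fun c => rfl
  have hlin' : ∀ p q, lin (p * q) =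
      Coalgebra.counit (R := k) p * lin q + Coalgebra.counit (R := k) q * lin p := fun p q => by
    have e : l ((p - algebraMap k A (Coalgebra.counit (R := k) p)) *
        (q - algebraMap k A (Coalgebra.counit (R := k) q))) = 0 := by
      refine hl (show _ ∈ aug k A ^ 2 from ?_)
      rw [pow_two]
      refine Ideal.mul_mem_mul ?_ ?_ <;>
      · rw [mem_aug, map_sub, Bialgebra.counit_algebraMap, sub_self]
    rw [hlin, hlin, hlin, Bialgebra.counit_mul, map_mul]
    rw [show p * q - algebraMap k A (Coalgebra.counit (R := k) p) * algebraMap k A (Coalgebra.counit (R := k) q) =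
      (p - algebraMap k A (Coalgebra.counit (R := k) p)) * (q - algebraMap k A (Coalgebra.counit (R := k) q)) +
      Coalgebra.counit (R := k) p • (q - algebraMap k A (Coalgebra.counit (R := k) q)) +
      Coalgebra.counit (R := k) q • (p - algebraMap k A (Coalgebra.counit (R := k) p)) by
        simp only [Algebra.smul_def]; ring, map_add, map_add, e, map_smul, map_smul, zero_add]
    rfl
  let B := Module.Free.chooseBasis ℤ M
  let d : Module.Free.ChooseBasisIndex ℤ M → (M →+ k) := fun j =>
    (Int.castAddHom k).comp ((Finsupp.applyAddHom j).comp B.repr.toLinearMap.toAddMonoidHom)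
  let L : (Module.Free.ChooseBasisIndex ℤ M ⊕ idx) ⊕ Unit → (A →ₗ[k] k) :=
    Sum.elim (Sum.elim (fun j => D.formT (d j)) D.formR) fun _ => lin
  have hL : ∀ i p q, L i (p * q) = Coalgebra.counit (R := k) p * L i q + Coalgebra.counit (R := k) q * L i p := by
    rintro ((j | r) | _) p q
    · exact D.formT_mul _ p q
    · exact D.formR_mul r p q
    · exact hlin' p q
  choose w hw hw' using fun i => exists_of_deriv (L i) (hL i)
  have hli : LinearIndependent k fun i => form (w i) := by
    rw [show (fun i => form (w i)) = L from funext fun i => LinearMap.ext (hw' i), Fintype.linearIndependent_iff]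
    intro c hc
    have heval : ∀ z : A, ∑ j, c (.inl (.inl j)) * D.formT (d j) z + ∑ r, c (.inl (.inr r)) * D.formR r z +
        c (.inr ()) * lin z = 0 := fun z => by
      simpa [Fintype.sum_sum_type, L, LinearMap.sum_apply] using LinearMap.congr_fun hc z
    have hu : c (.inr ()) = 0 := by
      have h := heval b
      rw [Finset.sum_eq_zero fun j _ => by rw [hT, mul_zero], Finset.sum_eq_zero fun r _ => by rw [hR, mul_zero],
        zero_add, zero_add, hlin, mem_aug.mp hb, map_zero, sub_zero] at h
      exact (mul_eq_zero.mp h).resolve_right hlb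
    have hr : ∀ r, c (.inl (.inr r)) = 0 := fun r => by
      have h := heval (D.coord r)
      simpa [formT_coord, formR_coord, hu] using h
    rintro ((j | r) | _)
    · obtain ⟨z, hz⟩ := D.tor_surj (MonoidAlgebra.single (Multiplicative.ofAdd (B j)) 1)
      have h := heval z
      simp only [hr, hu, zero_mul, Finset.sum_const_zero, add_zero] at h
      have e : ∀ l, D.formT (d l) z = if j = l then 1 else 0 := fun l => by
        show evForm (d l) (D.tor z) = _
        rw [hz, evForm_single, _root_.one_mul]
        simp [d, Finsupp.single_apply]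
      simpa [e] using h
    · exact hr r
    · exact hu
  have h := (card_le_dim w hw hli).trans hdim
  rw [Fintype.card_sum, Fintype.card_sum, Fintype.card_unit, ← Module.finrank_eq_card_basis B] at h
  have h' : Module.finrank ℤ M + Fintype.card idx + 1 ≤ Module.finrank ℤ M + Fintype.card idx := by exact_mod_cast h
  omega

section Contracted

variable (f : M →+ ℤ) {m : ℕ} (e : Fin m → idx)

/-- The sum of the polynomials in the coordinates and the ideal of the contracted subgroup. -/
noncomputable def genSub : Submodule k A :=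
  Subalgebra.toSubmodule (Algebra.adjoin k (Set.range fun i => D.coord (e i))) ⊔ (idealU (D.lam f)).restrictScalars k

theorem mul_mem_genSub {x y : A} (hx : x ∈ D.genSub f e) (hy : y ∈ D.genSub f e) : x * y ∈ D.genSub f e := by
  obtain ⟨g, hg, u, hu, rfl⟩ := Submodule.mem_sup.mp hx
  obtain ⟨g', hg', u', hu', rfl⟩ := Submodule.mem_sup.mp hy
  rw [show (g + u) * (g' + u') = g * g' + (g * u' + u * (g' + u')) by ring]
  refine Submodule.add_mem_sup (Subalgebra.mul_mem _ hg hg') ?_
  exact Ideal.add_mem _ (Ideal.mul_mem_left _ _ hu') (Ideal.mul_mem_right _ _ hu)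

theorem wpr_nonpos_mem {i : ℤ} (hi : i ≤ 0) (p : A) :
    wpr (D.lam f) i p - (if i = 0 then algebraMap k A (Coalgebra.counit (R := k) p) else 0) ∈ idealU (D.lam f) := by
  rcases lt_or_eq_of_le hi with h | h
  · rw [if_neg h.ne, sub_zero]
    exact Ideal.mem_sup_left (Ideal.subset_span ⟨p, i, h, rfl⟩)
  · subst h
    rw [if_pos rfl]
    exact Ideal.mem_sup_right (Ideal.subset_span ⟨p, rfl⟩)

set_option maxHeartbeats 1000000 in
/-- Every degree component is a polynomial in the coordinates modulo the contracted ideal. -/
theorem wpr_mem_genSub [Algebra.Smooth k A]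
    (hdim : ringKrullDim A ≤ ((Module.finrank ℤ M + Fintype.card idx : ℕ) : WithBot ℕ∞))
    (he : Function.Injective e) (hrange : ∀ r, 0 < f (D.α r) → r ∈ Set.range e) (n : ℤ) (a : A) :
    wpr (D.lam f) n a ∈ D.genSub f e := by
  classical
  induction hN : n.toNat using Nat.strong_induction_on generalizing n a with
  | _ N ih =>
  by_cases hn : n ≤ 0
  · have h := D.wpr_nonpos_mem f hn a
    have hc : (if n = 0 then algebraMap k A (Coalgebra.counit (R := k) a) else 0) ∈
        Algebra.adjoin k (Set.range fun i => D.coord (e i)) := by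
      split_ifs
      · exact Subalgebra.algebraMap_mem _ _
      · exact Subalgebra.zero_mem _
    refine Submodule.mem_sup.mpr ⟨_, hc, _, h, ?_⟩
    rw [add_sub_cancel]
  push Not at hn
  let x := wpr (D.lam f) n a
  let I := Finset.univ.filter fun i => f (D.α (e i)) = n
  let S : A := ∑ i ∈ I, D.formR (e i) x • D.coord (e i)
  have hS : S ∈ D.genSub f e := Submodule.sum_mem _ fun i _ =>
    Submodule.smul_mem _ _ (Submodule.mem_sup_left (Algebra.subset_adjoin ⟨i, rfl⟩))
  have hx : x ∈ aug k A := by rw [mem_aug, counit_wpr, if_neg hn.ne']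
  have hS' : S ∈ aug k A := by
    refine Ideal.sum_mem _ fun i _ => ?_
    rw [mem_aug, map_smul, ← (D.coord_spec (e i)).1, counit_wt, if_neg (D.α_ne _), smul_zero]
  have hxwt : ∀ (L : A →ₗ[k] k) (hL : ∀ μ, f μ = n → L (D.wt μ a) = 0), L x = 0 := fun L hL => by
    show L (wpr (D.lam f) n a) = 0
    rw [wpr_lam, map_sum]
    exact Finset.sum_eq_zero fun μ hμ => hL _ (Finset.mem_filter.mp hμ).2
  have hT : ∀ d, D.formT d (x - S) = 0 := fun d => by
    rw [map_sub, map_sum, Finset.sum_eq_zero fun i _ => by rw [map_smul, formT_coord, smul_zero], sub_zero]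
    refine hxwt _ fun μ hμ => ?_
    show evForm d (D.tor _) = 0
    rw [D.tor_wt μ a (fun h => hn.ne' (by rw [← hμ, h, map_zero])), map_zero]
  have hR : ∀ r, D.formR r (x - S) = 0 := fun r => by
    rw [map_sub, map_sum]
    by_cases hr : f (D.α r) = n
    · obtain ⟨i, rfl⟩ := hrange r (hr ▸ hn)
      rw [Finset.sum_eq_single i (fun j _ hji => by
          rw [map_smul, formR_coord, if_neg (fun h => hji (he h).symm), smul_zero])
        (fun h => absurd (Finset.mem_filter.mpr ⟨Finset.mem_univ i, hr⟩) h), map_smul, formR_coord, if_pos rfl,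
        smul_eq_mul, _root_.mul_one, sub_self]
    · rw [hxwt _ fun μ hμ => by rw [formR_wt, if_neg (fun h => hr (by rw [h, hμ]))], Finset.sum_eq_zero, sub_zero]
      intro i hi
      rw [map_smul, formR_coord, if_neg (fun h => hr (by rw [h]; exact (Finset.mem_filter.mp hi).2)), smul_zero]
  have hsq : x - S ∈ aug k A * aug k A := pow_two (aug k A) ▸
    D.mem_sq_of_forms hdim (Ideal.sub_mem _ hx hS') hT hR
  have hfix : wpr (D.lam f) n (x - S) = x - S := by
    rw [map_sub, wpr_wpr, if_pos rfl, map_sum]
    refine congrArg (x - ·) (Finset.sum_congr rfl fun i hi => ?_)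
    rw [map_smul]
    congr 1
    rw [← (Finset.mem_filter.mp hi).2, wpr_coord]
  have key : ∀ z ∈ aug k A * aug k A, wpr (D.lam f) n z ∈ D.genSub f e := by
    intro z hz
    induction hz using Submodule.mul_induction_on' with
    | mem_mul_mem p hp q hq =>
      rw [wpr_mul]
      refine Submodule.sum_mem _ fun i _ => Submodule.sum_mem _ fun j _ => ?_
      split_ifs with hij
      · by_cases hi : i ≤ 0
        · refine Submodule.mem_sup_right (Ideal.mul_mem_right _ _ ?_)
          simpa [mem_aug.mp hp] using D.wpr_nonpos_mem f hi p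
        by_cases hj : j ≤ 0
        · refine Submodule.mem_sup_right (Ideal.mul_mem_left _ _ ?_)
          simpa [mem_aug.mp hq] using D.wpr_nonpos_mem f hj q
        exact D.mul_mem_genSub f e (ih i.toNat (by omega) i p rfl) (ih j.toNat (by omega) j q rfl)
      · exact Submodule.zero_mem _
    | add p _ q _ hp hq => rw [map_add]; exact Submodule.add_mem _ hp hq
  have := Submodule.add_mem _ (hfix ▸ key _ hsq) hS
  rwa [sub_add_cancel] at this

/-- Over a field the product map identifies the contracted subgroup with affine space. -/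
theorem ker_Phi_le [Algebra.Smooth k A]
    (hdim : ringKrullDim A ≤ ((Module.finrank ℤ M + Fintype.card idx : ℕ) : WithBot ℕ∞))
    (he : Function.Injective e) (hpos : ∀ i, 0 < f (D.α (e i))) (hrange : ∀ r, 0 < f (D.α r) → r ∈ Set.range e) :
    RingHom.ker (D.Phi e) ≤ idealU (D.lam f) := by
  classical
  have hU : ∀ u ∈ idealU (D.lam f), D.Phi e u = 0 := fun u hu =>
    ((represents_idealU (D.lam f) _ _).mpr (D.limIsOne_prodPt f e hpos MvPolynomial.X)) u hu
  have hall : ∀ a : A, a ∈ D.genSub f e := fun a => by
    have h1 := DFunLike.congr_fun (congrArg WithConv.ofConv (ev1_conjHom (D.lam f) (toConv (AlgHom.id k A)))) a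
    simp only [ofConv_toConv, AlgHom.id_apply] at h1
    rw [← h1]
    show ev1 k A ((conjHom (D.lam f) A (toConv (AlgHom.id k A))).ofConv a) ∈ _
    rw [← conjOrbit_eq, ← AddMonoidAlgebra.sum_single (Dyn.conjOrbit k A (D.lam f) A (AlgHom.id k A) a),
      Finsupp.sum, map_sum]
    refine Submodule.sum_mem _ fun n _ => ?_
    rw [ev1_single]
    exact D.wpr_mem_genSub f e hdim he hrange n a
  let q : MvPolynomial (Fin m) k →ₐ[k] A := MvPolynomial.aeval fun i => D.coord (e i)
  let ψ : MvPolynomial (Fin m) k →ₐ[k] MvPolynomial (Fin m) k := (D.Phi e).comp q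
  have hrangeq : Algebra.adjoin k (Set.range fun i => D.coord (e i)) = q.range := Algebra.adjoin_range_eq_range_aeval k _
  have hψs : Function.Surjective ψ := fun p => by
    obtain ⟨a, rfl⟩ := D.Phi_surjective f e hpos he p
    obtain ⟨g, hg, u, hu, rfl⟩ := Submodule.mem_sup.mp (hall a)
    rw [Subalgebra.mem_toSubmodule, hrangeq] at hg
    obtain ⟨s, rfl⟩ := hg
    exact ⟨s, by rw [map_add, hU u hu, add_zero]; rfl⟩
  have hψi := injective_of_surjective_endo ψ.toRingHom hψs
  intro a ha
  obtain ⟨g, hg, u, hu, rfl⟩ := Submodule.mem_sup.mp (hall a)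
  rw [Subalgebra.mem_toSubmodule, hrangeq] at hg
  obtain ⟨s, rfl⟩ := hg
  rw [RingHom.mem_ker, map_add, hU u hu, add_zero] at ha
  have hs : s = 0 := hψi (ha.trans (map_zero ψ.toRingHom).symm)
  rw [hs, map_zero, zero_add]
  exact hu

end Contracted

end Chart

end Groth.Agent.RootChartLib
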