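import Groth.Agent.RootChartLib.Glue

/-!
# Gluing compatible systems of ring elements into global functions
-/

set_option autoImplicit false
set_option backward.isDefEq.respectTransparency false
set_option backward.isDefEq.respectTransparency.types false

universe u

open CategoryTheory Limits AlgebraicGeometry MonoidalCategory CartesianMonoidalCategory MonObj GrpObj

namespace Groth.Agent.RootChartLib

open GrpSchLib

variable {S : Scheme.{u}}

/-- The evaluation of a global function at an affine point of the base. -/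
noncomputable def evS {C : Type u} [CommRing C] (a : Spec (CommRingCat.of C) ⟶ S) : Γ(S, ⊤) →+* C :=
  (a.appTop ≫ (Scheme.ΓSpecIso (CommRingCat.of C)).hom).hom

/-- Global functions are determined by their evaluations. -/
theorem eq_of_evS {X : Scheme.{u}} (c c' : Γ(X, ⊤))
    (h : ∀ (C : Type u) (_ : CommRing C) (a : Spec (CommRingCat.of C) ⟶ X), evS a c = evS a c') : c = c' := by
  have key : (GaPts.ptOfFn c : (Over.mk (𝟙 X) : Over X) ⟶ Red.Ga X) = GaPts.ptOfFn c' := by
    refine eq_of_test _ _ fun C _ j => GaPts.gaFn_injective ?_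
    show Red.gaFn _ = Red.gaFn _
    rw [GaPts.gaFn_comp, GaPts.gaFn_comp, GaPts.gaFn_ptOfFn, GaPts.gaFn_ptOfFn]
    exact (Scheme.ΓSpecIso (CommRingCat.of C)).commRingCatIsoToRingEquiv.injective (h C inferInstance j)
  have h2 := congrArg Red.gaFn key
  rwa [GaPts.gaFn_ptOfFn, GaPts.gaFn_ptOfFn] at h2

/-- A compatible system of elements glues to a global function. -/
theorem exists_global_of_natural (F : ∀ (C : Type u) [CommRing C], (Spec (CommRingCat.of C) ⟶ S) → C)
    (hF : ∀ (C C' : Type u) [CommRing C] [CommRing C'] (φ : C →+* C') (a : Spec (CommRingCat.of C) ⟶ S),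
      F C' (Spec.map (CommRingCat.ofHom φ) ≫ a) = φ (F C a)) :
    ∃ c : Γ(S, ⊤), ∀ (C : Type u) [CommRing C] (a : Spec (CommRingCat.of C) ⟶ S), evS a c = F C a := by
  let pt : ∀ (C : Type u) [CommRing C] (a : Spec (CommRingCat.of C) ⟶ S), Over.mk a ⟶ Red.Ga S :=
    fun C _ a => GaPts.ptOfFn ((Scheme.ΓSpecIso (CommRingCat.of C)).inv (F C a))
  have hpt : ∀ (C C' : Type u) [CommRing C] [CommRing C'] (φ : C →+* C') (a : Spec (CommRingCat.of C) ⟶ S),
      Spec.map (CommRingCat.ofHom φ) ≫ (pt C a).left = (pt C' (Spec.map (CommRingCat.ofHom φ) ≫ a)).left := by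
    intro C C' _ _ φ a
    have h : (Over.homMk (Spec.map (CommRingCat.ofHom φ)) rfl : Over.mk (Spec.map (CommRingCat.ofHom φ) ≫ a) ⟶
        Over.mk a) ≫ pt C a = pt C' (Spec.map (CommRingCat.ofHom φ) ≫ a) := by
      refine GaPts.gaFn_injective ?_
      show Red.gaFn _ = Red.gaFn _
      rw [GaPts.gaFn_comp, GaPts.gaFn_ptOfFn, GaPts.gaFn_ptOfFn, hF]
      exact (congrArg (fun f => f.hom (F C a)) (Scheme.ΓSpecIso_inv_naturality (CommRingCat.ofHom φ))).symm
    exact congrArg CommaMorphism.left h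
  let U := S.affineOpenCover
  have hcompat : ∀ (C : Type u) [CommRing C] (a : Spec (CommRingCat.of C) ⟶ S) (W : Type u) [CommRing W]
      (w : Spec (CommRingCat.of W) ⟶ Spec (CommRingCat.of C)), w ≫ (pt C a).left = (pt W (w ≫ a)).left := by
    intro C _ a W _ w
    obtain ⟨φ, rfl⟩ := Spec.map_surjective w
    exact hpt C W φ.hom a
  have hmain : ∀ (C C' : Type u) [CommRing C] [CommRing C'] (a : Spec (CommRingCat.of C) ⟶ S)
      (a' : Spec (CommRingCat.of C') ⟶ S) (W : Type u) [CommRing W]
      (w : Spec (CommRingCat.of W) ⟶ Spec (CommRingCat.of C)) (w' : Spec (CommRingCat.of W) ⟶ Spec (CommRingCat.of C')),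
      w ≫ a = w' ≫ a' → w ≫ (pt C a).left = w' ≫ (pt C' a').left := fun C C' _ _ a a' W _ w w' h => by
    rw [hcompat C a W w, hcompat C' a' W w', h]
  let g : S ⟶ (Red.Ga S).left := U.openCover.glueMorphisms (fun i => (pt (U.X i) (U.f i)).left) fun i j => by
    let P := pullback (U.f i) (U.f j)
    refine Scheme.Cover.hom_ext P.affineOpenCover.openCover _ _ fun k => ?_
    exact ((Category.assoc _ _ _).symm.trans (hmain (U.X i) (U.X j) (U.f i) (U.f j) _
      (P.affineOpenCover.f k ≫ pullback.fst (U.f i) (U.f j)) (P.affineOpenCover.f k ≫ pullback.snd (U.f i) (U.f j))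
      (by rw [Category.assoc, Category.assoc, pullback.condition]))).trans (Category.assoc _ _ _)
  have hg : ∀ i, U.f i ≫ g = (pt (U.X i) (U.f i)).left := fun i => U.openCover.ι_glueMorphisms _ _ i
  have hgt : ∀ (C : Type u) [CommRing C] (a : Spec (CommRingCat.of C) ⟶ S), a ≫ g = (pt C a).left := by
    intro C _ a
    refine Scheme.Cover.hom_ext (U.openCover.pullback₁ a) _ _ fun i => ?_
    let P := pullback a (U.f i)
    refine Scheme.Cover.hom_ext P.affineOpenCover.openCover _ _ fun k => ?_
    show P.affineOpenCover.f k ≫ pullback.fst a (U.f i) ≫ a ≫ g =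
      P.affineOpenCover.f k ≫ pullback.fst a (U.f i) ≫ _
    rw [pullback.condition_assoc, hg]
    exact ((Category.assoc _ _ _).symm.trans (hmain (U.X i) C (U.f i) a _
      (P.affineOpenCover.f k ≫ pullback.snd a (U.f i)) (P.affineOpenCover.f k ≫ pullback.fst a (U.f i))
      (by rw [Category.assoc, Category.assoc, pullback.condition]))).trans (Category.assoc _ _ _)
  let x : 𝟙_ (Over S) ⟶ Red.Ga S := Over.homMk g (Scheme.Cover.hom_ext U.openCover _ _ fun i => by
    show U.f i ≫ g ≫ _ = U.f i ≫ 𝟙 S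
    rw [← Category.assoc, hg, Category.comp_id]
    exact Over.w (pt (U.X i) (U.f i)))
  refine ⟨Red.gaFn x, fun C _ a => ?_⟩
  have h : (Over.homMk a (Category.comp_id a) : Over.mk a ⟶ 𝟙_ (Over S)) ≫ x = pt C a :=
    Over.OverMorphism.ext (hgt C a)
  have h2 := congrArg Red.gaFn h
  rw [GaPts.gaFn_comp, GaPts.gaFn_ptOfFn] at h2
  show (Scheme.ΓSpecIso (CommRingCat.of C)).hom (a.appTop (Red.gaFn x)) = _
  rw [show a.appTop (Red.gaFn x) = _ from h2]
  exact (Scheme.ΓSpecIso (CommRingCat.of C)).inv_hom_id_apply _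

end Groth.Agent.RootChartLib
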