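import Groth.Agent.RootChartLib.Ordered
import Groth.Agent.RootChartLib.GlobalFun
import Mathlib.Data.Finset.Finsupp

/-!
# The polynomial group law of the positive unipotent group
-/

set_option autoImplicit false
set_option backward.isDefEq.respectTransparency false
set_option backward.isDefEq.respectTransparency.types false

universe u

open CategoryTheory Limits AlgebraicGeometry MonoidalCategory CartesianMonoidalCategory MonObj GrpObj WithConv
open scoped TensorProduct

namespace Groth.Agent.RootChartLib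

open GrpSchLib GrpSchLib.AffineHopf GModLib DynLib RankLib.SplitRedPts

/-- The monomials of a polynomial scaled by characters have the weight of the polynomial. -/
theorem wt_of_scaling {M : Type} [AddCommGroup M] {σ : Type} {C : Type u} [CommRing C] (w : σ → M) (μ₀ : M)
    (q : MvPolynomial σ C)
    (h : MvPolynomial.eval₂ (MonoidAlgebra.singleOneRingHom.comp MvPolynomial.C)
        (fun l => MonoidAlgebra.single (Multiplicative.ofAdd (w l)) (MvPolynomial.X l)) q =
      (MonoidAlgebra.single (Multiplicative.ofAdd μ₀) q : MonoidAlgebra (MvPolynomial σ C) (Multiplicative M)))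
    (v : σ →₀ ℕ) (hv : q.coeff v ≠ 0) : (v.sum fun l n => n • w l) = μ₀ := by
  classical
  let T := MonoidAlgebra (MvPolynomial σ C) (Multiplicative M)
  have hmon : ∀ (x : σ →₀ ℕ) (c : C), MvPolynomial.eval₂ (MonoidAlgebra.singleOneRingHom.comp MvPolynomial.C)
      (fun l => (MonoidAlgebra.single (Multiplicative.ofAdd (w l)) (MvPolynomial.X l) : T)) (MvPolynomial.monomial x c) =
      MonoidAlgebra.single (Multiplicative.ofAdd (x.sum fun l n => n • w l)) (MvPolynomial.monomial x c) := by
    intro x c
    induction x using Finsupp.induction generalizing c with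
    | zero => simp [MvPolynomial.monomial_zero']
    | single_add l n x hl hn ih =>
      rw [MvPolynomial.monomial_single_add, MvPolynomial.eval₂_mul, MvPolynomial.eval₂_pow, MvPolynomial.eval₂_X, ih,
        MonoidAlgebra.single_pow, MonoidAlgebra.single_mul_single,
        Finsupp.sum_add_index' (h := fun i (k : ℕ) => k • w i) (fun _ => zero_smul _ _) (fun _ _ _ => add_smul _ _ _),
        Finsupp.sum_single_index (by exact zero_smul _ _), ofAdd_add, ofAdd_nsmul]
  have h2 := congrArg (fun t : T => (t.coeff (Multiplicative.ofAdd μ₀)).coeff v) h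
  conv at h2 => lhs; rw [MvPolynomial.as_sum q, MvPolynomial.eval₂_sum]
  simp only [hmon, MonoidAlgebra.coeff_sum, Finsupp.finsetSum_apply, MvPolynomial.coeff_sum,
    MonoidAlgebra.coeff_single, Finsupp.single_eq_same] at h2
  by_contra hne
  refine hv (h2.symm.trans (Finset.sum_eq_zero fun x _ => ?_))
  rw [Finsupp.single_apply]
  split_ifs with hx
  · rw [MvPolynomial.coeff_monomial, if_neg]
    rintro rfl
    exact hne (Multiplicative.ofAdd.injective hx)
  · rw [MvPolynomial.coeff_zero]

variable {S : Scheme.{u}} {G : Over S} [GrpObj G] (D : Red.SplitRed G) {N : ℕ}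

section Law

variable (μ' : RedSub.pow (Red.Ga S) N ⊗ RedSub.pow (Red.Ga S) N ⟶ RedSub.pow (Red.Ga S) N)

/-- The law in coordinates, on the points of an affine test scheme. -/
noncomputable def law {W : Type u} [CommRing W] (b : Spec (CommRingCat.of W) ⟶ S) (x y : Fin N → W) (k : Fin N) : W :=
  gcA (R := W) (C := W) b (lift (gaPowPt b x) (gaPowPt b y) ≫ μ' ≫ powPr _ k)

theorem map_law {W W' : Type u} [CommRing W] [CommRing W'] (φ : W →+* W') (b : Spec (CommRingCat.of W) ⟶ S)
    (x y : Fin N → W) (k : Fin N) :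
    φ (law μ' b x y k) = law μ' (Spec.map (CommRingCat.ofHom φ) ≫ b) (φ ∘ x) (φ ∘ y) k := by
  let h : (Over.map (Spec.map (CommRingCat.ofHom φ) ≫ b)).obj (sp W' W') ⟶ (Over.map b).obj (sp W W) :=
    Over.homMk (Spec.map (CommRingCat.ofHom φ)) (by
      show Spec.map (CommRingCat.ofHom φ) ≫ Spec.map (CommRingCat.ofHom (algebraMap W W)) ≫ b =
        Spec.map (CommRingCat.ofHom (algebraMap W' W')) ≫ Spec.map (CommRingCat.ofHom φ) ≫ b
      rw [show CommRingCat.ofHom (algebraMap W W) = 𝟙 _ from rfl, show CommRingCat.ofHom (algebraMap W' W') = 𝟙 _ from rfl,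
        Spec.map_id, Spec.map_id, Category.id_comp, Category.id_comp])
  have hfn : ∀ c : W, h.left.appTop (fnOf b c) = fnOf (Spec.map (CommRingCat.ofHom φ) ≫ b) (φ c) := fun c =>
    (congrArg (fun f => f.hom c) (Scheme.ΓSpecIso_inv_naturality (CommRingCat.ofHom φ))).symm
  have hp : ∀ c : Fin N → W, h ≫ gaPowPt b c = gaPowPt (Spec.map (CommRingCat.ofHom φ) ≫ b) (φ ∘ c) := fun c => by
    refine pow_hom_ext _ _ fun i => ?_
    rw [Category.assoc, gaPowPt, gaPowPt, powPt_powPr, powPt_powPr]
    refine GaPts.gaFn_injective ?_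
    show Red.gaFn _ = Red.gaFn _
    rw [GaPts.gaFn_comp, GaPts.gaFn_ptOfFn, GaPts.gaFn_ptOfFn, hfn]
    rfl
  show φ (gcA _ _) = gcA _ _
  rw [← hp x, ← hp y, ← comp_lift, Category.assoc, gcA, gcA, GaPts.gaFn_comp h]
  exact (congrArg (fun f => f.hom (Red.gaFn (lift (gaPowPt b x) (gaPowPt b y) ≫ μ' ≫ powPr _ k)))
    (Scheme.ΓSpecIso_naturality (CommRingCat.ofHom φ))).symm

theorem gc_law {Z : Over S} (x y : Fin N → (Z ⟶ Red.Ga S)) {C : Type u} [CommRing C]
    (j : Spec (CommRingCat.of C) ⟶ Z.left) (k : Fin N) :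
    gcA (R := C) (C := C) (base (X := Z) j) (test j ≫ lift (powPt x) (powPt y) ≫ μ' ≫ powPr _ k) =
      law μ' (base (X := Z) j) (fun i => gcA (base (X := Z) j) (test j ≫ x i))
        (fun i => gcA (base (X := Z) j) (test j ≫ y i)) k := by
  have hp : ∀ x : Fin N → (Z ⟶ Red.Ga S), test j ≫ powPt x =
      gaPowPt (base (X := Z) j) fun i => gcA (base (X := Z) j) (test j ≫ x i) := fun x => by
    refine pow_hom_ext _ _ fun i => ?_
    rw [Category.assoc, powPt_powPr, gaPowPt, powPt_powPr, ptOfFn_gcA]
  rw [law, ← hp, ← hp, ← comp_lift, Category.assoc]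

end Law

variable (e : Fin N → D.idx)

/-- The universal law over an affine point of the base. -/
noncomputable abbrev baseX {C : Type u} [CommRing C] (a : Spec (CommRingCat.of C) ⟶ S) :
    Spec (CommRingCat.of (MvPolynomial (Fin N ⊕ Fin N) C)) ⟶ S :=
  Spec.map (CommRingCat.ofHom (MvPolynomial.C : C →+* MvPolynomial (Fin N ⊕ Fin N) C)) ≫ a

variable [LinearOrder D.M] [IsOrderedAddMonoid D.M]
  (hrange : ∀ a : D.idx, a ∈ Set.range e ↔ 0 < D.P.root a) (hmono : StrictMono fun k => D.P.root (e k))

include hrange hmono in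
/-- The group law in coordinates. -/
theorem exists_unique_law (he : Function.Injective e) :
    ∃! Q : Fin N → MvPolynomial (Fin N ⊕ Fin N) Γ(S, ⊤),
      (∀ (X : Over S) (x y z : Fin N → (X ⟶ Red.Ga S)),
        (List.ofFn (fun k => z k ≫ D.u (e k))).prod =
            (List.ofFn (fun k => x k ≫ D.u (e k))).prod * (List.ofFn (fun k => y k ≫ D.u (e k))).prod ↔
          ∀ k, Red.gaFn (z k) = MvPolynomial.eval₂ X.hom.appTop.hom
            (Sum.elim (fun j => Red.gaFn (x j)) (fun j => Red.gaFn (y j))) (Q k)) ∧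
      (∀ k : Fin N, ∀ v ∈ (Q k - MvPolynomial.X (Sum.inl k) - MvPolynomial.X (Sum.inr k)).vars,
        Sum.elim (fun j : Fin N => j < k) (fun j : Fin N => j < k) v) := by
  classical
  obtain ⟨f, -, hf⟩ := exists_order_functional D
  have hp : ∀ i, 0 < f (D.P.root (e i)) := fun i => (hf _).mpr ((hrange _).mp ⟨i, rfl⟩)
  let v := RedSub.prodMap (Red.Ga S) N fun k => D.u (e k)
  haveI : Mono v := mono_prodMap D e f hp he
  have hpos : ∀ r ∈ Set.range e, 0 < f (D.P.root r) := by rintro _ ⟨i, rfl⟩; exact hp i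
  have hcl : ∀ (r a b : D.idx) (i j : ℕ), a ∈ Set.range e → b ∈ Set.range e → 1 ≤ i → 1 ≤ j →
      D.P.root r = i • D.P.root a + j • D.P.root b → r ∈ Set.range e := by
    intro r a b i j ha hb hi hj h
    obtain ⟨k, -, hk⟩ := tail_closed D e hrange hmono 0 r a b i j (by obtain ⟨l, hl⟩ := ha; exact ⟨l, Nat.zero_le _, hl⟩)
      (by obtain ⟨l, hl⟩ := hb; exact ⟨l, Nat.zero_le _, hl⟩) hi hj h
    exact ⟨k, hk⟩
  have key := fun {X : Over S} (g : X ⟶ G) =>
    exists_fac_iff D e f (Set.range e) hpos hcl he (fun _ => Iff.rfl) g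
  obtain ⟨μ', hμ'⟩ := (key ((fst (RedSub.pow (Red.Ga S) N) (RedSub.pow (Red.Ga S) N) ≫ v) * (snd _ _ ≫ v))).mpr
    fun C _ j => by
    rw [MonObj.comp_mul, map_mul]
    exact Subgroup.mul_mem _ ((key _).mp ⟨fst _ _, rfl⟩ C inferInstance j) ((key _).mp ⟨snd _ _, rfl⟩ C inferInstance j)
  -- the law in charts
  have hchart : ∀ (W : Type u) [CommRing W] (b : Spec (CommRingCat.of W) ⟶ S) (x y : Fin N → W),
      (chart D b (model D b).iso).prodPt e (law μ' b x y) =
        (chart D b (model D b).iso).prodPt e x * (chart D b (model D b).iso).prodPt e y := by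
    intro W _ b x y
    haveI := (model D b).isMonHom
    rw [← rdA_gaPowPt, ← rdA_gaPowPt, ← rdA_gaPowPt, ← rdA_mul]
    refine congrArg (rdA b (model D b).iso) ?_
    have h : gaPowPt b (law μ' b x y) = lift (gaPowPt b x) (gaPowPt b y) ≫ μ' := pow_hom_ext _ _ fun i => by
      rw [gaPowPt, powPt_powPr, law, ptOfFn_gcA, Category.assoc]
    rw [h, Category.assoc, hμ', MonObj.comp_mul, lift_fst_assoc, lift_snd_assoc]
  have hinj : ∀ (W : Type u) [CommRing W] (b : Spec (CommRingCat.of W) ⟶ S) (x y z : Fin N → W),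
      (chart D b (model D b).iso).prodPt e z =
        (chart D b (model D b).iso).prodPt e x * (chart D b (model D b).iso).prodPt e y → z = law μ' b x y := by
    intro W _ b x y z h
    haveI := (model D b).isMonHom
    haveI := smooth_model D b (model D b).iso
    exact (chart D b (model D b).iso).prodPt_injective f e hp he (h.trans (hchart W b x y).symm)
  let zc : ∀ (C : Type u) [CommRing C], (Spec (CommRingCat.of C) ⟶ S) → Fin N → MvPolynomial (Fin N ⊕ Fin N) C :=
    fun C _ a k => law μ' (baseX a) (fun i => MvPolynomial.X (Sum.inl i)) (fun i => MvPolynomial.X (Sum.inr i)) k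
  have hzc : ∀ (C W : Type u) [CommRing C] [CommRing W] (a : Spec (CommRingCat.of C) ⟶ S) (ι₀ : C →+* W)
      (x : Fin N ⊕ Fin N → W) (k : Fin N), MvPolynomial.eval₂ ι₀ x (zc C a k) =
        law μ' (Spec.map (CommRingCat.ofHom ι₀) ≫ a) (fun i => x (Sum.inl i)) (fun i => x (Sum.inr i)) k := by
    intro C W _ _ a ι₀ x k
    have h := map_law μ' (MvPolynomial.eval₂Hom ι₀ x) (baseX a) (fun i => MvPolynomial.X (Sum.inl i))
      (fun i => MvPolynomial.X (Sum.inr i)) k
    rw [show MvPolynomial.eval₂ ι₀ x (zc C a k) = MvPolynomial.eval₂Hom ι₀ x (zc C a k) from rfl, h]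
    have hb : Spec.map (CommRingCat.ofHom (MvPolynomial.eval₂Hom ι₀ x)) ≫ baseX a =
        Spec.map (CommRingCat.ofHom ι₀) ≫ a := by
      rw [← Category.assoc, ← Spec.map_comp, ← CommRingCat.ofHom_comp, MvPolynomial.eval₂Hom_comp_C]
    rw [hb]
    congr 1 <;> exact funext fun i => MvPolynomial.eval₂Hom_X' _ _ _
  -- weights
  let w : Fin N ⊕ Fin N → D.M := Sum.elim (fun i => D.P.root (e i)) fun i => D.P.root (e i)
  have hwt : ∀ (C : Type u) [CommRing C] (a : Spec (CommRingCat.of C) ⟶ S) (k : Fin N) (d : Fin N ⊕ Fin N →₀ ℕ),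
      (zc C a k).coeff d ≠ 0 → (d.sum fun l n => n • w l) = D.P.root (e k) := by
    intro C _ a k d hd
    refine wt_of_scaling w _ (zc C a k) ?_ d hd
    let P := MvPolynomial (Fin N ⊕ Fin N) C
    let T := MonoidAlgebra P (Multiplicative D.M)
    let ι₀ : C →+* T := MonoidAlgebra.singleOneRingHom.comp MvPolynomial.C
    let b : Spec (CommRingCat.of T) ⟶ S := Spec.map (CommRingCat.ofHom ι₀) ≫ a
    let χ : Multiplicative D.M →* T := MonoidAlgebra.of P (Multiplicative D.M)
    let c : P →+* T := MonoidAlgebra.singleOneRingHom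
    have hχc : ∀ (g : Multiplicative D.M) (q : P), χ g * c q = MonoidAlgebra.single g q := fun g q => by
      show MonoidAlgebra.single g (1 : P) * MonoidAlgebra.single 1 q = _
      rw [MonoidAlgebra.single_mul_single, _root_.mul_one, _root_.one_mul]
    have h1 := hzc C T a ι₀ (fun l => MonoidAlgebra.single (Multiplicative.ofAdd (w l)) (MvPolynomial.X l)) k
    have h2 : c (zc C a k) = law μ' b (fun i => c (MvPolynomial.X (Sum.inl i))) (fun i => c (MvPolynomial.X (Sum.inr i))) k := by
      rw [← hzc C T a ι₀ (fun l => c (MvPolynomial.X l)) k]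
      exact DFunLike.congr_fun (MvPolynomial.ringHom_ext (f := c)
        (g := MvPolynomial.eval₂Hom ι₀ fun l => c (MvPolynomial.X l)) (fun r => by rw [MvPolynomial.eval₂Hom_C]; rfl) (fun l => by rw [MvPolynomial.eval₂Hom_X'])) _
    rw [h1, ← hχc, h2]
    have hx : ∀ l, MonoidAlgebra.single (Multiplicative.ofAdd (w l)) (MvPolynomial.X l : P) =
        χ (Multiplicative.ofAdd (w l)) * c (MvPolynomial.X l) := fun l => (hχc _ _).symm
    simp only [hx]
    refine (congrFun (hinj T b _ _ (fun i => χ (Multiplicative.ofAdd (D.P.root (e i))) *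
      law μ' b (fun i => c (MvPolynomial.X (Sum.inl i))) (fun i => c (MvPolynomial.X (Sum.inr i))) i) ?_) k).symm
    let Ch := chart D b (model D b).iso
    show Ch.prodPt e (fun i => χ (Multiplicative.ofAdd (Ch.α (e i))) * _) =
      Ch.prodPt e (fun i => χ (Multiplicative.ofAdd (Ch.α (e i))) * c (MvPolynomial.X (Sum.inl i))) *
        Ch.prodPt e fun i => χ (Multiplicative.ofAdd (Ch.α (e i))) * c (MvPolynomial.X (Sum.inr i))
    rw [← Ch.prodPt_conj χ, ← Ch.prodPt_conj χ, ← Ch.prodPt_conj χ, hchart]
    have hg : ∀ {H : Type u} [Group H] (t p q : H), t * (p * q) * t⁻¹ = t * p * t⁻¹ * (t * q * t⁻¹) :=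
      fun t p q => by group
    exact hg _ _ _
  -- the global coefficients
  have hglob : ∀ (k : Fin N) (d : Fin N ⊕ Fin N →₀ ℕ), ∃ c : Γ(S, ⊤),
      ∀ (C : Type u) [CommRing C] (a : Spec (CommRingCat.of C) ⟶ S), evS a c = (zc C a k).coeff d := by
    intro k d
    refine exists_global_of_natural (fun C _ a => (zc C a k).coeff d) fun C C' _ _ φ a => ?_
    show _ = φ _
    rw [← MvPolynomial.coeff_map]
    congr 1
    have h := hzc C (MvPolynomial (Fin N ⊕ Fin N) C') a ((MvPolynomial.C).comp φ) MvPolynomial.X k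
    rw [MvPolynomial.map_eq_eval₂Hom_C_comp, MvPolynomial.coe_eval₂Hom, h]
    show law μ' (baseX (Spec.map (CommRingCat.ofHom φ) ≫ a)) _ _ k = _
    rw [baseX, ← Category.assoc, ← Spec.map_comp, ← CommRingCat.ofHom_comp]
  choose cf hcf using hglob
  let V : Fin N → Finset (Fin N ⊕ Fin N →₀ ℕ) := fun k =>
    Finset.univ.finsupp fun _ => Finset.range ((f (D.P.root (e k))).toNat + 1)
  let Q : Fin N → MvPolynomial (Fin N ⊕ Fin N) Γ(S, ⊤) := fun k => ∑ d ∈ V k, MvPolynomial.monomial d (cf k d)
  have hwpos : ∀ l, 0 < w l := fun l => by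
    rcases l with i | i <;> exact (hrange _).mp ⟨i, rfl⟩
  have hV : ∀ (k : Fin N) (d : Fin N ⊕ Fin N →₀ ℕ), (d.sum fun l n => n • w l) = D.P.root (e k) → d ∈ V k := by
    intro k d hd
    rw [Finset.mem_finsupp_iff]
    refine ⟨Finset.subset_univ _, fun l _ => ?_⟩
    rw [Finset.mem_range, Nat.lt_succ_iff]
    have hwf : ∀ l, 1 ≤ f (w l) := fun l => by rcases l with i | i <;> exact hp i
    have h1 : f (D.P.root (e k)) = ∑ l ∈ d.support, (d l : ℤ) * f (w l) := by
      rw [← hd, map_finsuppSum, Finsupp.sum]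
      exact Finset.sum_congr rfl fun l _ => by rw [map_nsmul, nsmul_eq_mul]
    by_cases hl : l ∈ d.support
    · have h2 : (d l : ℤ) * f (w l) ≤ f (D.P.root (e k)) := h1 ▸ Finset.single_le_sum
        (f := fun l => (d l : ℤ) * f (w l))
        (fun x _ => mul_nonneg (Int.natCast_nonneg _) (by have := hwf x; omega)) hl
      have h3 : (d l : ℤ) ≤ (d l : ℤ) * f (w l) := le_mul_of_one_le_right (Int.natCast_nonneg _) (hwf l)
      omega
    · rw [Finsupp.notMem_support_iff.mp hl]; exact Nat.zero_le _
  have hQ : ∀ (C : Type u) [CommRing C] (a : Spec (CommRingCat.of C) ⟶ S) (k : Fin N),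
      MvPolynomial.map (evS a) (Q k) = zc C a k := by
    intro C _ a k
    ext d
    simp only [Q, map_sum, MvPolynomial.map_monomial, MvPolynomial.coeff_sum, MvPolynomial.coeff_monomial, hcf,
      Finset.sum_ite_eq']
    split_ifs with hd
    · rfl
    · by_contra hne
      exact hd (hV k d (hwt C a k d fun h0 => hne h0.symm))
  have hlaw : ∀ (X : Over S) (x y : Fin N → (X ⟶ Red.Ga S)) (k : Fin N),
      Red.gaFn (lift (powPt x) (powPt y) ≫ μ' ≫ powPr _ k) = MvPolynomial.eval₂ X.hom.appTop.hom
        (Sum.elim (fun j => Red.gaFn (x j)) (fun j => Red.gaFn (y j))) (Q k) := by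
    intro X x y k
    refine eq_of_evS _ _ fun C _ j => ?_
    have hcomp : (evS j).comp X.hom.appTop.hom = evS (base (X := X) j) := by
      rw [evS, evS, ← CommRingCat.hom_comp, ← Category.assoc, ← Scheme.Hom.comp_appTop]
    have hev : ∀ g : X ⟶ Red.Ga S, evS j (Red.gaFn g) = gcA (R := C) (C := C) (base (X := X) j) (test j ≫ g) := fun g => by
      rw [gcA, GaPts.gaFn_comp]
      rfl
    rw [hev, gc_law, MvPolynomial.eval₂_comp_left, hcomp]
    have h := hzc C C (base (X := X) j) (RingHom.id C)
      (evS j ∘ Sum.elim (fun j => Red.gaFn (x j)) fun j => Red.gaFn (y j)) k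
    rw [← hQ C (base (X := X) j) k, MvPolynomial.eval₂_map, RingHom.id_comp] at h
    rw [h]
    simp only [Function.comp_apply, Sum.elim_inl, Sum.elim_inr, hev]
    congr 1
    rw [show CommRingCat.ofHom (RingHom.id C) = 𝟙 _ from rfl, Spec.map_id, Category.id_comp]
  have hiff : ∀ (X : Over S) (x y z : Fin N → (X ⟶ Red.Ga S)),
      (List.ofFn (fun k => z k ≫ D.u (e k))).prod =
          (List.ofFn (fun k => x k ≫ D.u (e k))).prod * (List.ofFn (fun k => y k ≫ D.u (e k))).prod ↔
        ∀ k, z k = lift (powPt x) (powPt y) ≫ μ' ≫ powPr _ k := by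
    intro X x y z
    have hl : ∀ z : Fin N → (X ⟶ Red.Ga S), (List.ofFn fun k => z k ≫ D.u (e k)).prod = powPt z ≫ v := fun z => by
      rw [comp_prodMap]
      simp only [← Category.assoc, powPt_powPr]
    rw [hl, hl, hl, show (powPt x ≫ v) * (powPt y ≫ v) = (lift (powPt x) (powPt y) ≫ μ') ≫ v by
      rw [Category.assoc, hμ', MonObj.comp_mul, lift_fst_assoc, lift_snd_assoc], cancel_mono v]
    exact ⟨fun h k => by rw [← powPt_powPr z k, h, Category.assoc],
      fun h => pow_hom_ext _ _ fun k => by rw [powPt_powPr, h k, Category.assoc]⟩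
  refine ⟨Q, ⟨fun X x y z => (hiff X x y z).trans (forall_congr' fun k => ?_), fun k l hl => ?_⟩, ?_⟩
  · rw [← hlaw X x y k]
    exact ⟨fun h => h ▸ rfl, fun h => GaPts.gaFn_injective h⟩
  · -- triangularity
    have h1 : ∀ (C : Type u) [CommRing C] (a : Spec (CommRingCat.of C) ⟶ S) (s : Fin N ⊕ Fin N),
        (s = Sum.inl k ∨ s = Sum.inr k) → (zc C a k).coeff (Finsupp.single s 1) = 1 := by
      intro C _ a s hs
      let x : Fin N ⊕ Fin N → Polynomial C := Pi.single s Polynomial.X
      have h := hzc C (Polynomial C) a Polynomial.C x k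
      have hval : law μ' (Spec.map (CommRingCat.ofHom (Polynomial.C : C →+* Polynomial C)) ≫ a)
          (fun i => x (Sum.inl i)) (fun i => x (Sum.inr i)) k = Polynomial.X := by
        rcases hs with rfl | rfl
        · rw [← hinj (Polynomial C) _ _ _ (Pi.single k Polynomial.X)]
          · simp
          · rw [show (fun i => x (Sum.inl i)) = Pi.single k Polynomial.X from funext fun i => by
              simp [x, Pi.single_apply], show (fun i => x (Sum.inr i)) = fun _ => 0 from funext fun i => by simp [x],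
              Chart.prodPt_zero, _root_.mul_one]
        · rw [← hinj (Polynomial C) _ _ _ (Pi.single k Polynomial.X)]
          · simp
          · rw [show (fun i => x (Sum.inr i)) = Pi.single k Polynomial.X from funext fun i => by
              simp [x, Pi.single_apply], show (fun i => x (Sum.inl i)) = fun _ => 0 from funext fun i => by simp [x],
              Chart.prodPt_zero, _root_.one_mul]
      rw [hval, MvPolynomial.as_sum (zc C a k), MvPolynomial.eval₂_sum, Finset.sum_eq_single (Finsupp.single s 1)] at h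
      · rw [MvPolynomial.eval₂_monomial, Finsupp.prod_single_index (by exact pow_zero _), pow_one] at h
        have h' := congrArg (fun q => Polynomial.coeff q 1) h
        simpa [x] using h'
      · intro d hd hne
        rw [MvPolynomial.eval₂_monomial]
        by_cases hd' : ∃ t ∈ d.support, t ≠ s
        · obtain ⟨t, ht, hts⟩ := hd'
          rw [Finsupp.prod, Finset.prod_eq_zero ht (by simp [x, hts, Finsupp.mem_support_iff.mp ht]), mul_zero]
        · exfalso
          push Not at hd'
          have hds : d = Finsupp.single s (d s) := by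
            ext t
            by_cases ht : t = s
            · subst ht; simp
            · rw [Finsupp.single_eq_of_ne ht]
              by_contra hh
              exact ht (hd' t (Finsupp.mem_support_iff.mpr hh))
          have hw := hwt C a k d (MvPolynomial.mem_support_iff.mp hd)
          rw [hds, Finsupp.sum_single_index (by exact zero_smul _ _)] at hw
          have hwk : w s = D.P.root (e k) := by rcases hs with rfl | rfl <;> rfl
          have h2 := congrArg f hw
          rw [map_nsmul, hwk, nsmul_eq_mul] at h2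
          have h3 : (d s : ℤ) = 1 := mul_right_cancel₀ (hp k).ne' (h2.trans (_root_.one_mul _).symm)
          exact hne (hds.trans (by congr 1; exact_mod_cast h3))
      · intro hn
        rw [MvPolynomial.notMem_support_iff.mp hn]
        simp
    obtain ⟨d, hd, hld⟩ := (MvPolynomial.mem_vars_iff_mem_support l).mp hl
    rw [MvPolynomial.mem_support_iff] at hd
    have hne : ∃ (C : Type u) (_ : CommRing C) (a : Spec (CommRingCat.of C) ⟶ S),
        (MvPolynomial.map (evS a) (Q k - MvPolynomial.X (Sum.inl k) - MvPolynomial.X (Sum.inr k))).coeff d ≠ 0 := by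
      by_contra hh
      push Not at hh
      refine hd (eq_of_evS _ _ fun C _ a => ?_)
      rw [map_zero, ← MvPolynomial.coeff_map]
      exact hh C inferInstance a
    obtain ⟨C, _, a, ha⟩ := hne
    rw [map_sub, map_sub, hQ, MvPolynomial.map_X, MvPolynomial.map_X, MvPolynomial.coeff_sub, MvPolynomial.coeff_sub,
      MvPolynomial.coeff_X', MvPolynomial.coeff_X'] at ha
    have hsl : ∀ s : Fin N ⊕ Fin N, (s = Sum.inl k ∨ s = Sum.inr k) → d ≠ Finsupp.single s 1 := by
      intro s hs hds
      subst hds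
      rcases hs with rfl | rfl
      · rw [h1 C a _ (Or.inl rfl), if_pos rfl, if_neg (fun e => Sum.inr_ne_inl (Finsupp.single_left_injective one_ne_zero e)),
          sub_self, sub_zero] at ha
        exact ha rfl
      · rw [h1 C a _ (Or.inr rfl), if_pos rfl, if_neg (fun e => Sum.inl_ne_inr (Finsupp.single_left_injective one_ne_zero e)),
          sub_zero, sub_self] at ha
        exact ha rfl
    rw [if_neg (Ne.symm (hsl _ (Or.inl rfl))), if_neg (Ne.symm (hsl _ (Or.inr rfl))), sub_zero, sub_zero] at ha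
    have hw := hwt C a k d ha
    have hl' : 1 ≤ d l := Finsupp.mem_support_iff.mp hld |> Nat.pos_of_ne_zero
    have hlow : w l < D.P.root (e k) := by
      have hle : ∀ t ∈ d.support, 0 ≤ d t • w t := fun t _ => nsmul_nonneg (hwpos t).le _
      by_cases hsup : d.support = {l}
      · by_cases hdl : d l = 1
        · exfalso
          have hds : d = Finsupp.single l 1 := by
            rw [← hdl]
            exact (Finsupp.support_eq_singleton.mp hsup).2
          rw [hds, Finsupp.sum_single_index (by exact zero_smul _ _), one_smul] at hw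
          rcases l with i | i <;> obtain rfl : i = k := he (D.P.root.injective hw)
          · exact hsl _ (Or.inl rfl) hds
          · exact hsl _ (Or.inr rfl) hds
        · rw [← hw, Finsupp.sum, hsup, Finset.sum_singleton]
          obtain ⟨n, hn⟩ : ∃ n, d l = n + 2 := ⟨d l - 2, by omega⟩
          rw [hn, succ_nsmul, succ_nsmul]
          exact lt_add_of_pos_left _ (add_pos_of_nonneg_of_pos (nsmul_nonneg (hwpos l).le n) (hwpos l))
      · obtain ⟨t, ht, htl⟩ : ∃ t ∈ d.support, t ≠ l := by
          by_contra hh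
          push Not at hh
          exact hsup (Finset.eq_singleton_iff_unique_mem.mpr ⟨hld, hh⟩)
        rw [← hw, Finsupp.sum]
        calc w l ≤ d l • w l := le_self_nsmul (hwpos l).le (by omega)
          _ < ∑ s ∈ d.support, d s • w s :=
            Finset.single_lt_sum htl hld ht (by
              obtain ⟨n, hn⟩ : ∃ n, d t = n + 1 := ⟨d t - 1, by have := Finsupp.mem_support_iff.mp ht; omega⟩
              rw [hn, succ_nsmul]
              exact add_pos_of_nonneg_of_pos (nsmul_nonneg (hwpos t).le n) (hwpos t)) (fun s hs _ => hle s hs)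
    rcases l with i | i <;> exact hmono.lt_iff_lt.mp hlow
  · rintro Q' ⟨hQ', -⟩
    funext k
    refine MvPolynomial.ext _ _ fun d => eq_of_evS _ _ fun C _ a => ?_
    rw [← MvPolynomial.coeff_map, ← MvPolynomial.coeff_map]
    congr 1
    let P := MvPolynomial (Fin N ⊕ Fin N) C
    let X₀ : Over S := (Over.map (baseX (N := N) a)).obj (sp P P)
    let pts : Fin N ⊕ Fin N → (X₀ ⟶ Red.Ga S) := fun l => GaPts.ptOfFn (fnOf (baseX a) (MvPolynomial.X l))
    have h := (hQ' X₀ (fun i => pts (Sum.inl i)) (fun i => pts (Sum.inr i))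
      (fun i => lift (powPt fun i => pts (Sum.inl i)) (powPt fun i => pts (Sum.inr i)) ≫ μ' ≫ powPr _ i)).mp
      ((hiff _ _ _ _).mpr fun _ => rfl) k
    rw [hlaw] at h
    have hX : ∀ q : MvPolynomial (Fin N ⊕ Fin N) Γ(S, ⊤), (Scheme.ΓSpecIso (CommRingCat.of P)).hom
        (MvPolynomial.eval₂ X₀.hom.appTop.hom (Sum.elim (fun j => Red.gaFn (pts (Sum.inl j)))
          (fun j => Red.gaFn (pts (Sum.inr j)))) q) = MvPolynomial.map (evS a) q := by
      intro q
      have hbase : ((Scheme.ΓSpecIso (CommRingCat.of P)).hom.hom).comp X₀.hom.appTop.hom = MvPolynomial.C.comp (evS a) := by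
        rw [evS, ← CommRingCat.hom_comp, show X₀.hom = Spec.map (CommRingCat.ofHom
          (MvPolynomial.C : C →+* P)) ≫ a by
            show Spec.map (CommRingCat.ofHom (algebraMap P P)) ≫ baseX a = _
            rw [show CommRingCat.ofHom (algebraMap P P) = 𝟙 _ from rfl, Spec.map_id, Category.id_comp],
          Scheme.Hom.comp_appTop, Category.assoc, Scheme.ΓSpecIso_naturality, ← Category.assoc]
        rfl
      show (Scheme.ΓSpecIso (CommRingCat.of P)).hom.hom _ = _
      rw [MvPolynomial.eval₂_comp_left, hbase]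
      rw [MvPolynomial.map_eq_eval₂Hom_C_comp, MvPolynomial.coe_eval₂Hom]
      congr 1
      funext l
      rcases l with i | i <;>
      · simp only [Function.comp_apply, Sum.elim_inl, Sum.elim_inr, pts, GaPts.gaFn_ptOfFn]
        exact (Scheme.ΓSpecIso (CommRingCat.of P)).inv_hom_id_apply _
    rw [← hX, ← hX, h]

end Groth.Agent.RootChartLib
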