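import Groth.Agent.RootChartLib.Normaliser
import Groth.Agent.RootChartLib.CoverScheme
import Groth.Agent.RootChartLib.CellRange
import Groth.Agent.RootChartLib.HomExt
import Groth.Agent.RootChartLib.NormalSub
import Groth.Agent.S2962

/-!
# A normaliser point commuting with the simple root groups is central
-/

set_option autoImplicit false
set_option linter.style.haveILetI false
set_option backward.isDefEq.respectTransparency false
set_option backward.isDefEq.respectTransparency.types false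

universe u

open CategoryTheory Limits AlgebraicGeometry MonoidalCategory CartesianMonoidalCategory MonObj GrpObj WithConv
open scoped TensorProduct

namespace Groth.Agent.RootChartLib

open GrpSchLib GrpSchLib.AffineHopf GModLib DynLib RankLib.SplitRedPts H23 RootD

namespace Chart

variable {k : Type u} [Field k] [IsAlgClosed k] {A : Type u} [CommRing A] [HopfAlgebra k A] {M : Type} [AddCommGroup M]
  [Module.Free ℤ M] [Module.Finite ℤ M] {idx : Type} [Fintype idx] (D : Chart k A M idx) [Algebra.Smooth k A]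

/-- A nonzero root point determines its root. -/
theorem eq_of_rPt_eq {r s : idx} {c d : k} (hc : c ≠ 0) (h : D.rPt r c = D.rPt s d) : r = s := by
  classical
  obtain ⟨f, hf⟩ := exists_form_ne_zero D.α D.α_ne
  obtain ⟨m, ep, hep, hepr⟩ : ∃ (m : ℕ) (ep : Fin m → idx), Function.Injective ep ∧
      ∀ s, s ∈ Set.range ep ↔ 0 < f (D.α s) := ⟨_, exists_enum fun s => 0 < f (D.α s)⟩
  obtain ⟨n, em, hem, hemr⟩ : ∃ (n : ℕ) (em : Fin n → idx), Function.Injective em ∧
      ∀ s, s ∈ Set.range em ↔ f (D.α s) < 0 := ⟨_, exists_enum fun s => f (D.α s) < 0⟩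
  have rep : ∀ (q : idx) (x : k), ∃ (y : Fin n → k) (z : Fin m → k), D.cellPt ep em y 1 z = D.rPt q x ∧
      (∀ i, y i ≠ 0 → em i = q) ∧ (∀ i, z i ≠ 0 → ep i = q) ∧ (x ≠ 0 → (∃ i, y i ≠ 0) ∨ ∃ i, z i ≠ 0) := by
    intro q x
    rcases lt_or_gt_of_ne (hf q) with hq | hq
    · obtain ⟨i, hi⟩ := (hemr q).mpr hq
      refine ⟨Pi.single i x, fun _ => 0, ?_, fun j hj => ?_, fun j hj => absurd rfl hj, fun hx => Or.inl ⟨i, by simpa⟩⟩
      · rw [cellPt, prodPt_single, prodPt_zero, tPt_one, _root_.one_mul, _root_.mul_one, hi]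
      · by_cases hji : j = i
        · rw [hji, hi]
        · exact (hj (by simp [Pi.single_apply, hji])).elim
    · obtain ⟨i, hi⟩ := (hepr q).mpr hq
      refine ⟨fun _ => 0, Pi.single i x, ?_, fun j hj => absurd rfl hj, fun j hj => ?_, fun hx => Or.inr ⟨i, by simpa⟩⟩
      · rw [cellPt, prodPt_single, prodPt_zero, tPt_one, _root_.one_mul, _root_.one_mul, hi]
      · by_cases hji : j = i
        · rw [hji, hi]
        · exact (hj (by simp [Pi.single_apply, hji])).elim
  obtain ⟨y, z, h1, hy, hz, hne⟩ := rep r c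
  obtain ⟨y', z', h1', hy', hz', -⟩ := rep s d
  obtain ⟨rfl, -, rfl⟩ := D.cellPt_unique f ep em (fun i => (hemr _).mp ⟨i, rfl⟩) (fun i => (hepr _).mp ⟨i, rfl⟩) hep hem
    (h1.trans (h.trans h1'.symm))
  rcases hne hc with ⟨i, hi⟩ | ⟨i, hi⟩
  · exact (hy i hi).symm.trans (hy' i hi)
  · exact (hz i hi).symm.trans (hz' i hi)

variable {N : Type} [AddCommGroup N] [Module.IsTorsionFree ℤ M] (P : RootPairing idx ℤ M N)
  [P.IsReduced] (nr : idx → WithConv (A →ₐ[k] k)) (Δ : Set idx) (f : M →+ ℤ) (hD : D.GeomFibres)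
  (hG : Red.IsReductiveOver k (sp k A)) (hT : AGF.IsMaxTorus D.torHom)
  (hα : ∀ r, D.α r = P.root r) (hΔ : RootData.Simple P Δ) (hfp : ∀ r, 0 < f (D.α r) ↔ r ∈ posOf P Δ)
  (hf : ∀ r, f (D.α r) ≠ 0)
  (hn : ∀ a χ, nr a * D.tPt χ * (nr a)⁻¹ = D.tPt (χ.comp (P.reflection a).toLinearMap.toAddMonoidHom.toMultiplicative))

include hD hG hT hα hΔ hfp hf hn in
/-- A point normalising the torus is a Weyl group point times a torus point. -/
theorem exists_nw_of_normalises {g : WithConv (A →ₐ[k] k)} (hg : ∀ χ, ∃ χ', g * D.tPt χ * g⁻¹ = D.tPt χ') :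
    ∃ (l : List idx) (χ : Multiplicative M →* k), g = nw nr l * D.tPt χ := by
  classical
  obtain ⟨m, ep, hep, hepr⟩ : ∃ (m : ℕ) (ep : Fin m → idx), Function.Injective ep ∧
      ∀ s, s ∈ Set.range ep ↔ 0 < f (D.α s) := ⟨_, exists_enum fun s => 0 < f (D.α s)⟩
  obtain ⟨n', em, hem, hemr⟩ : ∃ (n : ℕ) (em : Fin n → idx), Function.Injective em ∧
      ∀ s, s ∈ Set.range em ↔ f (D.α s) < 0 := ⟨_, exists_enum fun s => f (D.α s) < 0⟩
  have hp : ∀ i, 0 < f (D.α (ep i)) := fun i => (hepr _).mp ⟨i, rfl⟩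
  have hm : ∀ i, f (D.α (em i)) < 0 := fun i => (hemr _).mp ⟨i, rfl⟩
  obtain ⟨l, n, e, -, her, y, χ, x, hgv⟩ := D.exists_bruhat_coords P nr Δ f hD hG hT hα hΔ hfp hf hn ep hp hep
    (fun r hr => (hepr r).mpr hr) g
  let ν := nw nr l
  have hmem : ν⁻¹ * D.prodPt e y * ν ∈ D.upos (-f) := by
    have h := (conj_mem_comap _ _).mp (D.prodPt_mem (H := (D.upos (-f)).comap (MulAut.conj ν⁻¹).toMonoidHom) e y fun i => by
      rw [conj_mem_comap, _root_.inv_inv]
      obtain ⟨z, hz⟩ := D.exists_rPt_word_inv hD P nr hα (D.hred P hα) hn l (e i) (y i)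
      rw [show ν⁻¹ * D.rPt (e i) (y i) * ν = _ from hz]
      refine D.rPt_upos (-f) ?_ z
      rw [AddMonoidHom.neg_apply, Left.neg_pos_iff, D.neg_iff P Δ f hΔ hfp _ (hf _)]
      exact ((her _).mp ⟨i, rfl⟩).2)
    rwa [_root_.inv_inv] at h
  obtain ⟨p, hp'⟩ := D.exists_prodPt (-f) hD em (fun i => by simpa using hm i) hem
    (fun r hr => (hemr r).mpr (by simpa using hr)) ((D.isU_iff (-f) _).mpr hmem)
  have hcell : ν⁻¹ * g = D.cellPt ep em p χ x := by
    rw [cellPt, hp', hgv]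
    simp only [ν]
    group
  have hnorm : ∀ η', ∃ η'', ν⁻¹ * g * D.tPt η' * (ν⁻¹ * g)⁻¹ = D.tPt η'' := fun η' => by
    obtain ⟨θ, hθ⟩ := hg η'
    obtain ⟨θ', hθ'⟩ := D.tPt_nw P nr hn l θ
    refine ⟨θ', ?_⟩
    calc _ = ν⁻¹ * (g * D.tPt η' * g⁻¹) * ν := by group
      _ = ν⁻¹ * (D.tPt θ * nw nr l) := by rw [hθ, _root_.mul_assoc]
      _ = _ := by rw [hθ']; simp only [ν]; group
  have hzero : ∀ η' : Multiplicative M →* k,
      (∀ i, η' (Multiplicative.ofAdd (D.α (em i))) * p i = p i) ∧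
        ∀ i, η' (Multiplicative.ofAdd (D.α (ep i))) * x i = x i := by
    intro η'
    obtain ⟨θ, hθ⟩ := hnorm η'
    rw [hcell] at hθ
    have e2 : D.tPt θ * D.cellPt ep em p χ x * (D.tPt η')⁻¹ = D.cellPt ep em p χ x := by rw [← hθ]; group
    have e3 : D.cellPt ep em (fun i => θ (Multiplicative.ofAdd (D.α (em i))) * p i) (θ * χ * invChar η')
        (fun i => η' (Multiplicative.ofAdd (D.α (ep i))) * x i) = D.tPt θ * D.cellPt ep em p χ x * (D.tPt η')⁻¹ := by
      rw [cellPt, cellPt, ← prodPt_conj, ← prodPt_conj, tPt_mul, tPt_mul, ← tPt_inv]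
      generalize D.prodPt em p = P'
      generalize D.prodPt ep x = Q'
      group
    obtain ⟨h1, h2, h3⟩ := D.cellPt_unique f ep em hm hp hep hem (e3.trans e2)
    have hθη : θ = η' := by
      refine MonoidHom.ext fun z => ?_
      have h := DFunLike.congr_fun h2 z
      have hu : IsUnit (χ z) := (Group.isUnit z).map χ
      have h' := congrArg (fun F : Multiplicative M →* k => F z) (invChar_mul η')
      simp only [MonoidHom.mul_apply, MonoidHom.one_apply] at h h'
      refine mul_right_cancel₀ hu.ne_zero ?_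
      linear_combination η' z * h - θ z * χ z * h'
    exact ⟨fun i => hθη ▸ congrFun h1 i, congrFun h3⟩
  have hval : ∀ r, ∃ η' : Multiplicative M →* k, η' (Multiplicative.ofAdd (D.α r)) ≠ 1 := fun r =>
    exists_char_ne_one (D.α_ne r)
  have hp0 : p = fun _ => 0 := funext fun i => by
    obtain ⟨η', hη⟩ := hval (em i)
    by_contra h
    exact hη (mul_right_cancel₀ h (((hzero η').1 i).trans (_root_.one_mul _).symm))
  have hx0 : x = fun _ => 0 := funext fun i => by
    obtain ⟨η', hη⟩ := hval (ep i)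
    by_contra h
    exact hη (mul_right_cancel₀ h (((hzero η').2 i).trans (_root_.one_mul _).symm))
  refine ⟨l, χ, ?_⟩
  rw [cellPt, hp0, hx0, prodPt_zero, prodPt_zero, _root_.one_mul, _root_.mul_one] at hcell
  rw [← hcell]
  exact (mul_inv_cancel_left _ _).symm

include hD hG hT hα hΔ hfp hf hn in
/-- A normaliser point commuting with the simple root groups lies in the torus. -/
theorem exists_tPt_of_commute_simple {g : WithConv (A →ₐ[k] k)} (hg : ∀ χ, ∃ χ', g * D.tPt χ * g⁻¹ = D.tPt χ')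
    (hs : ∀ a ∈ Δ, g * D.rPt a 1 * g⁻¹ = D.rPt a 1) : ∃ χ, g = D.tPt χ := by
  obtain ⟨l, χ, rfl⟩ := D.exists_nw_of_normalises P nr Δ f hD hG hT hα hΔ hfp hf hn hg
  have hfix : ∀ a ∈ Δ, RootData.word P l • a = a := fun a ha => by
    obtain ⟨z, hz⟩ := D.exists_rPt_word hD P nr hα (D.hred P hα) hn l a (χ (Multiplicative.ofAdd (D.α a)) * 1)
    have h : D.rPt (RootData.word P l • a) z = D.rPt a 1 := by
      refine Eq.trans ?_ (hs a ha)
      rw [← hz, ← tPt_conj]
      unfold nw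
      group
    exact (D.eq_of_rPt_eq one_ne_zero h.symm).symm
  obtain ⟨τ, hτ⟩ := D.nw_eq_of_word P nr hG hT hn (l := l) (l' := []) (by
    rw [show RootData.word P ([] : List idx) = 1 from rfl]
    exact hΔ.eq_one_of_pos (RootData.word_mem_weylGroup l) fun a ha => (hfix a ha).symm ▸ hΔ.subset_posOf ha)
  exact ⟨τ * χ, by rw [hτ, tPt_mul, show nw nr ([] : List idx) = 1 from rfl, _root_.one_mul]⟩

end Chart

variable {S : Scheme.{u}} {G : Over S} [GrpObj G] (D : Red.SplitRed G) (b : D.P.Base)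

/-- A section normalising the torus and commuting with the simple root groups is central. -/
theorem central_of_normalises_commutes (g : 𝟙_ (Over S) ⟶ G)
    (hT : ∀ (X : Over S) (t : X ⟶ D.T), ∃ t' : X ⟶ D.T, (toUnit X ≫ g) * (t ≫ D.i) * (toUnit X ≫ g)⁻¹ = t' ≫ D.i)
    (hu : ∀ a ∈ b.support, ∀ (X : Over S) (x : X ⟶ Red.Ga S),
      (toUnit X ≫ g) * (x ≫ D.u a) * (toUnit X ≫ g)⁻¹ = x ≫ D.u a) :
    ∀ (X : Over S) (y : X ⟶ G), (toUnit X ≫ g) * y * (toUnit X ≫ g)⁻¹ = y := by
  classical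
  obtain ⟨n, eneg, hne, hneg⟩ : ∃ (n : ℕ) (e : Fin n → D.idx), Function.Injective e ∧
      ∀ r, r ∈ Set.range e ↔ r ∈ RedSub.negRoots D.P b := ⟨_, exists_enum fun r => r ∈ RedSub.negRoots D.P b⟩
  obtain ⟨m, epos, hpe, hpos⟩ : ∃ (n : ℕ) (e : Fin n → D.idx), Function.Injective e ∧
      ∀ r, r ∈ Set.range e ↔ r ∈ RedSub.posRoots D.P b := ⟨_, exists_enum fun r => r ∈ RedSub.posRoots D.P b⟩
  have hneg' : RedSub.Enumerates (RedSub.negRoots D.P b) eneg := ⟨hne, Set.ext hneg⟩
  have hpos' : RedSub.Enumerates (RedSub.posRoots D.P b) epos := ⟨hpe, Set.ext hpos⟩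
  haveI := isOpenImmersion_cellMap D b eneg epos hneg' hpos'
  have hsub : Set.range g.left.base ⊆ Set.range (RedSub.cellMap D eneg epos).left.base := by
    rintro _ ⟨s, rfl⟩
    obtain ⟨K, _, _, a, q, hq⟩ := exists_geomPt (W := 𝟙_ (Over S)) s
    let ε := (model D a).iso
    haveI : IsMonHom ε.hom := (model D a).isMonHom
    haveI := smooth_model D a ε
    haveI := isReduced_datum D a
    let σ := ptSetting D b K a
    obtain ⟨nr, hnr⟩ := exists_nr D
    obtain rfl : q = toUnit _ := toUnit_unique _ _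
    obtain ⟨χ, hχ⟩ := (chart D a ε).exists_tPt_of_commute_simple D.P (nrA D a ε nr) (b.support : Set D.idx) σ.f
      (geomFibres D a ε) (isReductiveOver_model D a ε) (isMaxTorus_torHom D a ε) (fun r => rfl)
      (RootData.Simple.of_base b) σ.hfp σ.hf (conj_nrA D a ε nr hnr)
      (g := rdA a ε (toUnit ((Over.map a).obj (sp K K)) ≫ g))
      (fun χ => by
        obtain ⟨t', ht'⟩ := hT _ (DSPtsLib.theta a (tpt D a χ))
        obtain ⟨χ', rfl⟩ := exists_theta_tpt D a t'
        refine ⟨χ', ?_⟩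
        rw [← rdA_i, ← rdA_i, ← rdA_inv, ← rdA_mul, ← rdA_mul, ht'])
      (fun r hr => by rw [← rdA_u, ← rdA_inv, ← rdA_mul, ← rdA_mul, hu r hr])
    have hΩ : (chart D a ε).InOmega σ.f (rdA a ε (toUnit ((Over.map a).obj (sp K K)) ≫ g)) :=
      ⟨1, χ, 1, one_mem _, one_mem _, by rw [hχ, _root_.one_mul, _root_.mul_one]⟩
    have h := mem_range_cell D b eneg epos hneg' hpos' a ε σ _ hΩ
    rw [← hq]
    exact h
  let l := IsOpenImmersion.lift (RedSub.cellMap D eneg epos).left g.left hsub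
  have hl : l ≫ (RedSub.cellMap D eneg epos).left = g.left := IsOpenImmersion.lift_fac _ _ hsub
  let p : 𝟙_ (Over S) ⟶ Omega D n m := Over.homMk l (by
    rw [← Over.w (RedSub.cellMap D eneg epos), ← Category.assoc, hl, Over.w g])
  have hp : p ≫ RedSub.cellMap D eneg epos = g := Over.OverMorphism.ext hl
  have hn := cell_normaliser D b eneg epos hneg' hpos' (𝟙_ (Over S)) p fun X' z t => by
    rw [hp, toUnit_unique z (toUnit X')]
    exact hT X' t
  rw [hp] at hn
  let t : 𝟙_ (Over S) ⟶ D.T := p ≫ snd _ _ ≫ fst _ _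
  have hsimple : ∀ a ∈ b.support, ch D t (Multiplicative.ofAdd (D.P.root a)) = 1 := fun a ha => by
    have h := hu a ha (𝟙_ (Over S)) (GaPts.ptOfFn 1)
    rw [toUnit_unique (toUnit (𝟙_ (Over S))) (𝟙 _), Category.id_comp, hn,
      rootHom_conj D a t (GaPts.ptOfFn 1) (GaPts.ptOfFn (ch D t (Multiplicative.ofAdd (D.P.root a))))
        (by rw [GaPts.gaFn_ptOfFn, GaPts.gaFn_ptOfFn, _root_.mul_one])] at h
    haveI := mono_u D a
    have h' := congrArg Red.gaFn ((cancel_mono (D.u a)).mp h)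
    rwa [GaPts.gaFn_ptOfFn, GaPts.gaFn_ptOfFn] at h'
  have hpos'' : ∀ x ∈ AddSubmonoid.closure (D.P.root '' (b.support : Set D.idx)),
      ch D t (Multiplicative.ofAdd x) = 1 := fun x hx => by
    induction hx using AddSubmonoid.closure_induction with
    | mem x hx => obtain ⟨a, ha, rfl⟩ := hx; exact hsimple a ha
    | zero => exact map_one _
    | add x y _ _ hx hy => rw [ofAdd_add, map_mul, hx, hy, _root_.one_mul]
  have hall : ∀ r, t ≫ D.split.hom.hom.hom ≫ Red.chi S (D.P.root r) = 1 := fun r => by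
    rw [chi_eq_one_iff]
    by_cases hr : r ∈ RedSub.posRoots D.P b
    · exact hpos'' _ hr
    · obtain ⟨f, hf, hfp, -⟩ := exists_base_functional b
      have hr' : D.P.reflectionPerm r r ∈ RedSub.posRoots D.P b := by
        rw [← hfp, RootData.root_neg, map_neg]
        rw [← hfp] at hr
        have := hf r
        omega
      have h1 := hpos'' _ hr'
      rw [RootData.root_neg] at h1
      have h2 : ch D t (Multiplicative.ofAdd (-D.P.root r)) * ch D t (Multiplicative.ofAdd (D.P.root r)) = 1 := by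
        rw [← map_mul, ← ofAdd_add, neg_add_cancel]; exact map_one _
      rwa [h1, _root_.one_mul] at h2
  have hc := (Groth.Agent.S2962.result D (𝟙_ (Over S)) g).mpr ⟨t, hn.symm, hall⟩
  intro X y
  rw [hc X (toUnit X) y, mul_inv_cancel_right]

end Groth.Agent.RootChartLib
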