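import Groth.Agent.RootChartLib.CellRange

/-!
# The big cell meets the normaliser of the torus in the torus
-/

set_option autoImplicit false
set_option backward.isDefEq.respectTransparency false
set_option backward.isDefEq.respectTransparency.types false

universe u

open CategoryTheory Limits AlgebraicGeometry MonoidalCategory CartesianMonoidalCategory MonObj GrpObj WithConv
open scoped TensorProduct

namespace Groth.Agent.RootChartLib

open GrpSchLib GrpSchLib.AffineHopf GModLib DynLib RankLib.SplitRedPts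

theorem Chart.coords_eq_zero {R : Type u} [CommRing R] {A : Type u} [CommRing A] [HopfAlgebra R A] {M : Type}
    [AddCommGroup M] [Module.Free ℤ M] [Module.Finite ℤ M] {idx : Type} [Fintype idx] [Algebra.Smooth R A]
    (D : Chart R A M idx) (f : M →+ ℤ) {n m : ℕ} (e : Fin m → idx) (hp : ∀ i, 0 < f (D.α (e i)))
    (he : Function.Injective e) (em : Fin n → idx) (hm : ∀ i, f (D.α (em i)) < 0) (hemi : Function.Injective em)
    {C : Type u} [CommRing C] [Algebra R C] (y : Fin n → C) (χ : Multiplicative M →* C) (x : Fin m → C)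
    (χ' : Multiplicative M →* MonoidAlgebra C (Multiplicative M))
    (h : post (Chart.const C (Multiplicative M)) (D.cellPt e em y χ x) * D.tPt (MonoidAlgebra.of C (Multiplicative M)) =
      D.tPt χ' * post (Chart.const C (Multiplicative M)) (D.cellPt e em y χ x)) :
    y = 0 ∧ x = 0 := by
  let κ := Chart.const (R := R) C (Multiplicative M)
  let T := MonoidAlgebra.of C (Multiplicative M)
  let u₀ : Multiplicative M →* MonoidAlgebra C (Multiplicative M) :=
    T.comp (MonoidHom.mk' (fun k => k⁻¹) fun p q => by rw [_root_.mul_inv_rev, _root_.mul_comm])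
  have hu₀ : T * u₀ = 1 := MonoidHom.ext fun k => by
    show MonoidAlgebra.of C _ k * MonoidAlgebra.of C _ k⁻¹ = 1
    rw [← map_mul, mul_inv_cancel, map_one]
  have hT1 : D.tPt T * D.tPt u₀ = 1 := by rw [← tPt_mul, hu₀, tPt_one]
  have gen : ∀ {W : Type u} [Group W] (v w : W), v * w = 1 → v⁻¹ = w := fun v w hvw =>
    inv_eq_of_mul_eq_one_right hvw
  have hT : (D.tPt T)⁻¹ = D.tPt u₀ := gen _ _ hT1
  let χc : Multiplicative M →* MonoidAlgebra C (Multiplicative M) := (κ : C →* MonoidAlgebra C (Multiplicative M)).comp χ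
  rw [post_cellPt] at h
  have key : ∀ {W : Type u} [Group W] (v c w s t : W), v * (c * w) * t = s * (v * (c * w)) →
      v * (c * t * (t⁻¹ * w * t⁻¹⁻¹)) = s * v * s⁻¹ * (s * c * w) := fun v c w s t hh =>
    calc _ = v * (c * w) * t := by group
      _ = _ := hh
      _ = _ := by group
  have h1 : D.cellPt e em (κ ∘ y) (χc * T) (fun i => u₀ (Multiplicative.ofAdd (D.α (e i))) * κ (x i)) =
      D.cellPt e em (fun i => χ' (Multiplicative.ofAdd (D.α (em i))) * κ (y i)) (χ' * χc) (κ ∘ x) := by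
    rw [cellPt, cellPt, ← prodPt_conj, ← prodPt_conj, tPt_mul, tPt_mul, ← hT]
    exact key _ _ _ _ _ h
  obtain ⟨h2, h3, h4⟩ := D.cellPt_unique f e em hm hp he hemi h1
  have hcomm : χ' * χc = χc * χ' := MonoidHom.ext fun k => _root_.mul_comm (χ' k) (χc k)
  refine ⟨funext fun i => ?_, funext fun i => ?_⟩
  · -- the character `χ'` is the universal one up to units
    have hχ' : ∀ k, χ' k = T k := fun k => by
      have h5 := DFunLike.congr_fun h3 k
      have hu : IsUnit (χc k) := IsUnit.of_mul_eq_one (χc k⁻¹) (by rw [← map_mul, mul_inv_cancel, map_one])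
      rw [MonoidHom.mul_apply, MonoidHom.mul_apply, _root_.mul_comm (χ' k)] at h5
      exact (hu.mul_left_cancel h5).symm
    have h6 := congrArg (fun z : MonoidAlgebra C (Multiplicative M) => z.coeff 1) (congrFun h2 i)
    simp only [hχ', T, Function.comp_apply, κ, MonoidAlgebra.of_apply, MonoidAlgebra.singleOneAlgHom_apply,
      MonoidAlgebra.single_mul_single, _root_.one_mul, _root_.mul_one, MonoidAlgebra.coeff_single,
      Finsupp.single_eq_same] at h6
    rw [Finsupp.single_eq_of_ne (fun e => D.α_ne (em i) (by simpa using e.symm))] at h6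
    exact h6
  · have h6 := congrArg (fun z : MonoidAlgebra C (Multiplicative M) => z.coeff 1) (congrFun h4 i)
    simp only [u₀, T, MonoidHom.comp_apply, MonoidHom.mk'_apply, Function.comp_apply, κ, MonoidAlgebra.of_apply,
      MonoidAlgebra.singleOneAlgHom_apply, MonoidAlgebra.single_mul_single, _root_.one_mul, _root_.mul_one,
      MonoidAlgebra.coeff_single, Finsupp.single_eq_same] at h6
    rw [Finsupp.single_eq_of_ne (fun e' => D.α_ne (e i) (by simpa using e'.symm))] at h6
    exact h6.symm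

variable {S : Scheme.{u}} {G : Over S} [GrpObj G] (D : Red.SplitRed G)

theorem cell_normaliser (b : D.P.Base) {n m : ℕ} (eneg : Fin n → D.idx) (epos : Fin m → D.idx)
    (hneg : RedSub.Enumerates (RedSub.negRoots D.P b) eneg) (hpos : RedSub.Enumerates (RedSub.posRoots D.P b) epos)
    (X : Over S) (p : X ⟶ Omega D n m)
    (hnorm : ∀ (X' : Over S) (y : X' ⟶ X) (t : X' ⟶ D.T), ∃ t' : X' ⟶ D.T,
      (y ≫ p ≫ RedSub.cellMap D eneg epos) * (t ≫ D.i) * (y ≫ p ≫ RedSub.cellMap D eneg epos)⁻¹ = t' ≫ D.i) :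
    p ≫ RedSub.cellMap D eneg epos = (p ≫ snd _ _ ≫ fst _ _) ≫ D.i := by
  obtain ⟨f, hf, hfp, hfn⟩ := exists_base_functional b
  refine eq_of_rd D _ _ fun C _ j => ?_
  let a := base (X := X) j
  let ε := (model D a).iso
  haveI : IsMonHom ε.hom := (model D a).isMonHom
  haveI := smooth_model D a ε
  obtain ⟨y, χ, x, hq⟩ := exists_eq_omegaPt D a (test j ≫ p)
  let C' := MonoidAlgebra C (Multiplicative D.M)
  let κ : C →ₐ[C] C' := Chart.const C (Multiplicative D.M)
  obtain ⟨t', ht'⟩ := hnorm _ ((Over.map a).map (spMap κ) ≫ test j)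
    (DSPtsLib.theta a (tpt D a (MonoidAlgebra.of C (Multiplicative D.M))))
  obtain ⟨tt, rfl⟩ := (DSPtsLib.theta_bijective (Y := sp C C') (H := D.T) a).2 t'
  obtain ⟨χ', rfl⟩ := exists_eq_tpt D a tt
  have hκ : ((Over.map a).map (spMap κ) ≫ test j) ≫ p ≫ RedSub.cellMap D eneg epos =
      omegaPt D a (κ ∘ y) ((κ : C →* C').comp χ) (κ ∘ x) ≫ RedSub.cellMap D eneg epos := by
    rw [← omegaPt_comp, ← hq, Category.assoc, Category.assoc, Category.assoc]
  have h1 : (chart D a ε).cellPt epos eneg (κ ∘ y) ((κ : C →* C').comp χ) (κ ∘ x) *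
      (chart D a ε).tPt (MonoidAlgebra.of C (Multiplicative D.M)) =
      (chart D a ε).tPt χ' * (chart D a ε).cellPt epos eneg (κ ∘ y) ((κ : C →* C').comp χ) (κ ∘ x) := by
    rw [← rdA_omegaPt, ← rdA_i, ← rdA_i, ← rdA_mul, ← rdA_mul, ← hκ, ← ht', inv_mul_cancel_right]
  rw [← Chart.post_cellPt] at h1
  obtain ⟨hy, hx⟩ := (chart D a ε).coords_eq_zero f epos (fun i => (hfp _).mpr (hpos.2 ▸ ⟨i, rfl⟩)) hpos.1 eneg
    (fun i => (hfn _).mpr (hneg.2 ▸ ⟨i, rfl⟩)) hneg.1 y χ x χ' h1
  show rdA a ε (test j ≫ p ≫ RedSub.cellMap D eneg epos) = rdA a ε (test j ≫ (p ≫ snd _ _ ≫ fst _ _) ≫ D.i)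
  have ht : test j ≫ (p ≫ snd _ _ ≫ fst _ _) ≫ D.i = DSPtsLib.theta a (tpt D a χ) ≫ D.i := by
    simp only [← Category.assoc]
    rw [hq]
    simp [omegaPt]
  rw [← Category.assoc (test j) p, hq, rdA_omegaPt, ht, rdA_i, Chart.cellPt, hy, hx, Pi.zero_def, Pi.zero_def,
    Chart.prodPt_zero, Chart.prodPt_zero, _root_.one_mul, _root_.mul_one]

end Groth.Agent.RootChartLib
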