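import Groth.Agent.RootData.Closed
import Groth.Agent.RootData.Simple
import Groth.Agent.RootData.Dominant

/-!
# Functionals positive on closed sets of roots without opposite pairs
-/

set_option autoImplicit false
set_option linter.unusedSectionVars false

namespace Groth.Agent.RootChartLib

open Set Function Module RootD RootData

variable {ι M N : Type*} [AddCommGroup M] [AddCommGroup N] [Fintype ι] {P : RootPairing ι ℤ M N}

/-- A set of roots without non-trivial relations with non-negative coefficients. -/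
def Pointed (P : RootPairing ι ℤ M N) (S : Set ι) : Prop :=
  ∀ c : ι → ℕ, (∀ a, a ∉ S → c a = 0) → ∑ a, c a • P.root a = 0 → c = 0

/-- A closed set without opposite pairs lies in a system of positive roots. -/
theorem exists_posSys_superset {Ψ : Set ι} (hcl : IsClosedSub P Ψ) (hd : ∀ i ∈ Ψ, P.reflectionPerm i i ∉ Ψ) :
    ∃ S, IsPosSys P S ∧ Ψ ⊆ S := by
  classical
  haveI : IsAddTorsionFree M := torsionFreeM P
  have hΨ : Pointed P Ψ := fun c hc h => pointed_coef hcl hd hc h
  obtain ⟨S, ⟨hS, hsub⟩, hmax⟩ := Set.Finite.exists_maximal (s := {S : Set ι | Pointed P S ∧ Ψ ⊆ S}) (Set.toFinite _)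
    ⟨Ψ, hΨ, le_rfl⟩
  have hadd : ∀ x, x ∈ natSpan P S → -x ∈ natSpan P S → x = 0 := fun x hx hnx => by
    obtain ⟨c, hc, rfl⟩ := natSpan_iff_coef.mp hx
    obtain ⟨d, hd', hd''⟩ := natSpan_iff_coef.mp hnx
    have h0 : c + d = 0 := hS (c + d) (fun a ha => by simp [hc a ha, hd' a ha]) (by
      simp only [Pi.add_apply, add_smul, Finset.sum_add_distrib, hd'', add_neg_cancel])
    have hc0 : c = 0 := funext fun a => by
      have h1 := congrFun h0 a
      simp only [Pi.add_apply, Pi.zero_apply] at h1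
      show c a = 0
      omega
    simp [hc0]
  have hdis : ∀ ⦃i : ι⦄, i ∈ S → P.reflectionPerm i i ∉ S := fun i hi hi' =>
    P.ne_zero i (hadd _ (root_mem_natSpan hi) (by rw [← root_neg P i]; exact root_mem_natSpan hi'))
  have hneg : ∀ a, a ∉ S → ∃ n : ℕ, 0 < n ∧ -(n • P.root a) ∈ natSpan P S := fun a ha => by
    have hnp : ¬ Pointed P (insert a S) := fun h =>
      ha (hmax ⟨h, hsub.trans (Set.subset_insert a S)⟩ (Set.subset_insert a S) (Set.mem_insert a S))
    rw [Pointed] at hnp
    push Not at hnp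
    obtain ⟨c, hc, hsum, hne⟩ := hnp
    have hca : c a ≠ 0 := fun h0 => hne (hS c (fun b hb => by
      by_cases hba : b = a
      · subst hba; exact h0
      · exact hc b (by simp [hba, hb])) hsum)
    refine ⟨c a, Nat.pos_of_ne_zero hca, natSpan_iff_coef.mpr ⟨Function.update c a 0, fun b hb => ?_, ?_⟩⟩
    · by_cases hba : b = a
      · subst hba; simp
      · rw [Function.update_of_ne hba]; exact hc b (by simp [hba, hb])
    · rw [← Finset.sum_erase_add _ _ (Finset.mem_univ a), Function.update_self, zero_smul, add_zero,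
        eq_neg_iff_add_eq_zero]
      rw [← Finset.sum_erase_add _ _ (Finset.mem_univ a)] at hsum
      refine Eq.trans (congrArg (· + _) (Finset.sum_congr rfl fun b hb => ?_)) hsum
      rw [Function.update_of_ne (Finset.ne_of_mem_erase hb)]
  refine ⟨S, ⟨hdis, fun i => ?_, fun k n hn hk => ?_⟩, hsub⟩
  · by_contra hi
    push Not at hi
    obtain ⟨n, hn, hn'⟩ := hneg i hi.1
    obtain ⟨m, hm, hm'⟩ := hneg _ hi.2
    rw [root_neg, smul_neg, neg_neg] at hm'
    have h0 := hadd ((n * m) • P.root i) (by rw [mul_smul]; exact nsmul_mem hm' n)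
      (by rw [mul_comm, mul_smul, ← smul_neg]; exact nsmul_mem hn' m)
    exact P.ne_zero i ((nsmul_eq_zero_iff_right (Nat.mul_pos hn hm).ne').mp h0)
  · by_contra hkS
    obtain ⟨m, hm, hm'⟩ := hneg k hkS
    have h0 := hadd ((m * n) • P.root k) (by rw [mul_smul]; exact nsmul_mem hk m)
      (by rw [mul_comm, mul_smul, ← smul_neg]; exact nsmul_mem hm' n)
    exact P.ne_zero k ((nsmul_eq_zero_iff_right (Nat.mul_pos hm hn).ne').mp h0)

/-- A positive system is cut out by a functional. -/
theorem exists_posSys_functional {S : Set ι} (hS : IsPosSys P S) :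
    ∃ f : M →+ ℤ, (∀ r, f (P.root r) ≠ 0) ∧ ∀ r, 0 < f (P.root r) ↔ r ∈ S := by
  classical
  obtain ⟨x, hx⟩ := exists_regular hS
  let f : M →+ ℤ := (P.RootForm.flip x).toAddMonoidHom
  have hp : ∀ r ∈ S, 0 < f (P.root r) := fun r hr => by
    show 0 < P.RootForm (P.root r) x
    have hpos : 0 < P.RootForm (P.root r) (P.root r) := by rw [bz_eq_rootForm]; exact bz_self_pos P r
    have h2 : 2 * P.RootForm (P.root r) x = P.coroot' r x * P.RootForm (P.root r) (P.root r) := by
      have h := congrArg (fun y => P.toLinearMap x y) (P.rootForm_self_smul_coroot r)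
      simp only [map_smul, map_nsmul, smul_eq_mul, RootPairing.toLinearMap_apply_apply_Polarization] at h
      rw [two_mul, show P.coroot' r x = P.toLinearMap x (P.coroot r) from rfl]
      linarith [h, two_nsmul (P.RootForm (P.root r) x)]
    have := mul_pos (hx r hr) hpos
    linarith
  have hn : ∀ r, r ∉ S → f (P.root r) < 0 := fun r hr => by
    have h := hp _ ((hS.cover r).resolve_left hr)
    rw [root_neg, map_neg] at h
    omega
  refine ⟨f, fun r => ?_, fun r => ⟨fun h => ?_, hp r⟩⟩
  · by_cases hr : r ∈ S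
    · exact (hp r hr).ne'
    · exact (hn r hr).ne
  · by_contra hr
    exact absurd (hn r hr) (by omega)

theorem exists_functional_of_closed {Ψ : Set ι} (hcl : IsClosedSub P Ψ) (hd : ∀ i ∈ Ψ, P.reflectionPerm i i ∉ Ψ) :
    ∃ f : M →+ ℤ, (∀ r, f (P.root r) ≠ 0) ∧ ∀ r ∈ Ψ, 0 < f (P.root r) := by
  obtain ⟨S, hS, hsub⟩ := exists_posSys_superset hcl hd
  obtain ⟨f, hf, hf'⟩ := exists_posSys_functional hS
  exact ⟨f, hf, fun r hr => (hf' r).mpr (hsub hr)⟩

end Groth.Agent.RootChartLib
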