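import Groth.Agent.RootChartLib.ClosedGroup
import Groth.Agent.RootChartLib.PosFun

/-!
# Positive roots for an order on the characters, and their tails
-/

set_option autoImplicit false
set_option backward.isDefEq.respectTransparency false
set_option backward.isDefEq.respectTransparency.types false

universe u

open CategoryTheory Limits AlgebraicGeometry MonoidalCategory CartesianMonoidalCategory MonObj GrpObj WithConv
open scoped TensorProduct

namespace Groth.Agent.RootChartLib

open GrpSchLib GrpSchLib.AffineHopf GModLib DynLib RankLib.SplitRedPts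

namespace Chart

variable {R : Type u} [CommRing R] {A : Type u} [CommRing A] [HopfAlgebra R A] {M : Type} [AddCommGroup M]
  [Module.Free ℤ M] [Module.Finite ℤ M] [Algebra.Smooth R A]
  {idx : Type} [Fintype idx] (D : Chart R A M idx) (hD : D.GeomFibres) (f : M →+ ℤ)
  {C : Type u} [CommRing C] [Algebra R C] {Ψ Ψ' Ψ'' : Set idx}

include hD in
theorem comm_root_span {a b : idx} (ha : 0 < f (D.α a)) (hb : 0 < f (D.α b))
    (hΨ : ∀ (r : idx) (i j : ℕ), 1 ≤ i → 1 ≤ j → D.α r = i • D.α a + j • D.α b → r ∈ Ψ) (x y : C) :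
    D.rPt a x * D.rPt b y * (D.rPt a x)⁻¹ * (D.rPt b y)⁻¹ ∈ D.span Ψ C := by
  classical
  obtain ⟨ep, hepi, hep⟩ := exists_enum fun r => 0 < f (D.α r)
  obtain ⟨P, hP, hPm⟩ := D.exists_comm_poly f hD ep (fun i => (hep _).mp ⟨i, rfl⟩) hepi
    (fun r hr => (hep r).mpr hr) ha hb
  show D.comm a b x y ∈ _
  rw [hP C x y]
  refine D.prodPt_mem ep _ fun i => ?_
  by_cases h0 : P i = 0
  · rw [h0, map_zero, rPt_zero]; exact Subgroup.one_mem _
  obtain ⟨v, hv⟩ : ∃ v, (P i).coeff v ≠ 0 := by
    by_contra h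
    push Not at h
    exact h0 (MvPolynomial.ext _ _ fun v => by rw [h, MvPolynomial.coeff_zero])
  obtain ⟨h1, h2, h3⟩ := hPm i v hv
  exact D.rPt_mem_span (hΨ _ _ _ h1 h2 h3.symm) _

theorem span_mono {Ψ Ψ' : Set idx} (h : Ψ ⊆ Ψ') : D.span Ψ C ≤ D.span Ψ' C := by
  refine Subgroup.closure_mono ?_
  rintro _ ⟨r, hr, x, e⟩
  exact ⟨r, h hr, x, e⟩

/-- Commutators of generated groups, from commutators of root groups. -/
theorem comm_span_mem (hsub : Ψ' ⊆ Ψ)
    (hroot : ∀ a ∈ Ψ, ∀ b ∈ Ψ', ∀ x y : C,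
      D.rPt a x * D.rPt b y * (D.rPt a x)⁻¹ * (D.rPt b y)⁻¹ ∈ D.span Ψ'' C)
    (hnorm : ∀ g ∈ D.span Ψ C, ∀ k ∈ D.span Ψ'' C, g * k * g⁻¹ ∈ D.span Ψ'' C) :
    ∀ g ∈ D.span Ψ C, ∀ h ∈ D.span Ψ' C, g * h * g⁻¹ * h⁻¹ ∈ D.span Ψ'' C := by
  intro g hg
  induction hg using Subgroup.closure_induction with
  | mem g hg =>
    obtain ⟨a, ha, x, rfl⟩ := hg
    intro h hh
    induction hh using Subgroup.closure_induction with
    | mem h hh =>
      obtain ⟨b, hb, y, rfl⟩ := hh
      exact hroot a ha b hb x y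
    | one => simp [Subgroup.one_mem]
    | mul h₁ h₂ hh₁ _ i₁ i₂ =>
      have h1 : h₁ ∈ D.span Ψ C := D.span_mono hsub hh₁
      have e : D.rPt a x * (h₁ * h₂) * (D.rPt a x)⁻¹ * (h₁ * h₂)⁻¹ =
          (D.rPt a x * h₁ * (D.rPt a x)⁻¹ * h₁⁻¹) * (h₁ * (D.rPt a x * h₂ * (D.rPt a x)⁻¹ * h₂⁻¹) * h₁⁻¹) := by group
      rw [e]
      exact Subgroup.mul_mem _ i₁ (hnorm _ h1 _ i₂)
    | inv h hh i =>
      have h1 : h⁻¹ ∈ D.span Ψ C :=
        Subgroup.inv_mem _ (D.span_mono hsub hh)
      have e : D.rPt a x * h⁻¹ * (D.rPt a x)⁻¹ * h⁻¹⁻¹ =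
          h⁻¹ * (D.rPt a x * h * (D.rPt a x)⁻¹ * h⁻¹)⁻¹ * h⁻¹⁻¹ := by group
      rw [e]
      exact hnorm _ h1 _ (Subgroup.inv_mem _ i)
  | one => intro h _; simp [Subgroup.one_mem]
  | mul g₁ g₂ hg₁ _ i₁ i₂ =>
    intro h hh
    have e : g₁ * g₂ * h * (g₁ * g₂)⁻¹ * h⁻¹ = g₁ * (g₂ * h * g₂⁻¹ * h⁻¹) * g₁⁻¹ * (g₁ * h * g₁⁻¹ * h⁻¹) := by group
    rw [e]
    exact Subgroup.mul_mem _ (hnorm _ hg₁ _ (i₂ h hh)) (i₁ h hh)
  | inv g hg i =>
    intro h hh
    have e : g⁻¹ * h * g⁻¹⁻¹ * h⁻¹ = g⁻¹ * (g * h * g⁻¹ * h⁻¹)⁻¹ * g⁻¹⁻¹ := by group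
    rw [e]
    exact hnorm _ (Subgroup.inv_mem _ hg) _ (Subgroup.inv_mem _ (i h hh))

end Chart

variable {S : Scheme.{u}} {G : Over S} [GrpObj G] (D : Red.SplitRed G) [LinearOrder D.M] [IsOrderedAddMonoid D.M]

/-- The roots which are positive for an order are the positive roots of a linear form. -/
theorem exists_order_functional : ∃ f : D.M →+ ℤ, (∀ r, f (D.P.root r) ≠ 0) ∧
    ∀ r, 0 < f (D.P.root r) ↔ 0 < D.P.root r := by
  refine exists_posSys_functional (S := {r | 0 < D.P.root r}) ⟨fun i hi hi' => ?_, fun i => ?_, fun k n hn hk => ?_⟩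
  · simp only [Set.mem_setOf_eq, Groth.Agent.RootData.root_neg, neg_pos] at hi hi'
    exact absurd (hi.trans hi') (lt_irrefl _)
  · rcases lt_trichotomy (0 : D.M) (D.P.root i) with h | h | h
    · exact Or.inl h
    · exact absurd h.symm (D.P.ne_zero i)
    · right
      simp only [Set.mem_setOf_eq, Groth.Agent.RootData.root_neg, neg_pos]
      exact h
  · have h0 : ∀ x ∈ RootD.natSpan D.P {r | 0 < D.P.root r}, 0 ≤ x := fun x hx => by
      induction hx using AddSubmonoid.closure_induction with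
      | mem y hy => obtain ⟨a, ha, rfl⟩ := hy; exact le_of_lt ha
      | zero => exact le_rfl
      | add y z _ _ hy hz => exact add_nonneg hy hz
    rcases lt_trichotomy (0 : D.M) (D.P.root k) with h | h | h
    · exact h
    · exact absurd h.symm (D.P.ne_zero k)
    · exfalso
      have h1 := h0 _ hk
      have h2 : n • D.P.root k < n • (0 : D.M) := by
        obtain ⟨n', rfl⟩ := Nat.exists_eq_succ_of_ne_zero hn.ne'
        rw [succ_nsmul, succ_nsmul]
        exact add_lt_add_of_le_of_lt (nsmul_le_nsmul_right h.le n') h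
      rw [nsmul_zero] at h2
      exact absurd h1 (not_le.mpr h2)

variable {N : ℕ} (e : Fin N → D.idx)

/-- The roots of index at least `i`. -/
def tail (i : ℕ) : Set D.idx := {r | ∃ k : Fin N, i ≤ (k : ℕ) ∧ e k = r}

omit [LinearOrder D.M] [IsOrderedAddMonoid D.M] in
theorem tail_mono {i i' : ℕ} (h : i ≤ i') : tail D e i' ⊆ tail D e i :=
  fun _ ⟨k, hk, hr⟩ => ⟨k, h.trans hk, hr⟩

variable (hrange : ∀ a : D.idx, a ∈ Set.range e ↔ 0 < D.P.root a) (hmono : StrictMono fun k => D.P.root (e k))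

include hrange in
theorem tail_pos {i : ℕ} {r : D.idx} (hr : r ∈ tail D e i) : 0 < D.P.root r := by
  obtain ⟨k, -, rfl⟩ := hr
  exact (hrange _).mp ⟨k, rfl⟩

include hrange hmono in
/-- Combinations with a root of a tail lie in the next tail. -/
theorem tail_comb {i : ℕ} {r a b : D.idx} (p q : ℕ) (ha : 0 < D.P.root a) (hb : b ∈ tail D e i) (hp : 1 ≤ p)
    (hq : 1 ≤ q) (h : D.P.root r = p • D.P.root a + q • D.P.root b) : r ∈ tail D e (i + 1) := by
  have hb0 := tail_pos D e hrange hb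
  obtain ⟨k, hk, rfl⟩ := hb
  have hlt : D.P.root (e k) < D.P.root r := by
    rw [h]
    obtain ⟨p', rfl⟩ : ∃ p', p = p' + 1 := ⟨p - 1, by omega⟩
    obtain ⟨q', rfl⟩ : ∃ q', q = q' + 1 := ⟨q - 1, by omega⟩
    rw [succ_nsmul, succ_nsmul, ← add_assoc]
    exact lt_add_of_pos_left _ (add_pos_of_pos_of_nonneg
      (add_pos_of_nonneg_of_pos (nsmul_nonneg ha.le p') ha) (nsmul_nonneg hb0.le q'))
  obtain ⟨l, rfl⟩ := (hrange r).mpr (hb0.trans hlt)
  exact ⟨l, by have := Fin.lt_def.mp (hmono.lt_iff_lt.mp hlt); omega, rfl⟩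

include hrange hmono in
theorem tail_closed (i : ℕ) (r a b : D.idx) (p q : ℕ) (ha : a ∈ tail D e i) (hb : b ∈ tail D e i) (hp : 1 ≤ p)
    (hq : 1 ≤ q) (h : D.P.root r = p • D.P.root a + q • D.P.root b) : r ∈ tail D e i :=
  tail_mono D e (by omega) (tail_comb D e hrange hmono p q (tail_pos D e hrange ha) hb hp hq h)

include hrange hmono in
/-- Commutators with a tail lie in the next tail. -/
theorem comm_tail {R : Type u} [CommRing R] (a : Spec (CommRingCat.of R) ⟶ S) {C : Type u} [CommRing C] [Algebra R C]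
    (i : ℕ) : ∀ g ∈ (chart D a (model D a).iso).span (tail D e 0) C, ∀ h ∈ (chart D a (model D a).iso).span (tail D e i) C,
      g * h * g⁻¹ * h⁻¹ ∈ (chart D a (model D a).iso).span (tail D e (i + 1)) C := by
  haveI := (model D a).isMonHom
  haveI := smooth_model D a (model D a).iso
  obtain ⟨f, -, hf⟩ := exists_order_functional D
  induction hd : N - i using Nat.strong_induction_on generalizing i with
  | _ d ih =>
  refine Chart.comm_span_mem _ (tail_mono D e (Nat.zero_le i)) (fun r hr s hs x y => ?_) fun g hg k hk => ?_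
  · exact Chart.comm_root_span _ (geomFibres D a _) f ((hf r).mpr (tail_pos D e hrange hr))
      ((hf s).mpr (tail_pos D e hrange hs))
      (fun t p q hp hq h => tail_comb D e hrange hmono p q (tail_pos D e hrange hr) hs hp hq h) x y
  · by_cases hiN : N ≤ i
    · have hbot : (chart D a (model D a).iso).span (tail D e (i + 1)) C = ⊥ := by
        rw [eq_bot_iff, Chart.span, Subgroup.closure_le]
        rintro _ ⟨r, ⟨l, hl, -⟩, -⟩
        exact absurd l.isLt (by omega)
      rw [hbot, Subgroup.mem_bot] at hk ⊢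
      rw [hk, _root_.mul_one, mul_inv_cancel]
    · have h1 := Chart.span_mono _ (tail_mono D e (show i + 1 ≤ i + 1 + 1 by omega))
        (ih (N - (i + 1)) (by omega) (i + 1) rfl g hg k hk)
      have h2 := Subgroup.mul_mem _ h1 hk
      rwa [inv_mul_cancel_right] at h2

variable {i m : ℕ} (hi : i + m = N)

/-- The enumeration of a tail. -/
def tailEnum (k : Fin m) : D.idx := e (Fin.cast hi (Fin.natAdd i k))

omit [LinearOrder D.M] [IsOrderedAddMonoid D.M] in
theorem range_tailEnum (r : D.idx) : r ∈ Set.range (tailEnum D e hi) ↔ r ∈ tail D e i := by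
  constructor
  · rintro ⟨k, rfl⟩; exact ⟨_, by simp, rfl⟩
  · rintro ⟨k, hk, rfl⟩
    exact ⟨⟨(k : ℕ) - i, by omega⟩, congrArg e (Fin.ext (by simp; omega))⟩

omit [LinearOrder D.M] [IsOrderedAddMonoid D.M] in
theorem tailEnum_injective (he : Function.Injective e) : Function.Injective (tailEnum D e hi) := fun a b h => by
  have h1 := congrArg Fin.val (he h)
  simp only [Fin.val_cast, Fin.val_natAdd] at h1
  exact Fin.ext (by omega)

include hrange hmono in
/-- Products of the root groups of a tail. -/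
theorem exists_list_iff (he : Function.Injective e) {X : Over S} (g : X ⟶ G) :
    (∃ z : Fin m → (X ⟶ Red.Ga S), (List.ofFn fun k => z k ≫ D.u (tailEnum D e hi k)).prod = g) ↔
      ∀ (C : Type u) (_ : CommRing C) (j : Spec (CommRingCat.of C) ⟶ X.left),
        rdAHom D (base (X := X) j) (test j ≫ g) ∈
          (chart D (base (X := X) j) (model D (base (X := X) j)).iso).span (tail D e i) C := by
  obtain ⟨f, -, hf⟩ := exists_order_functional D
  rw [← exists_fac_iff D (tailEnum D e hi) f (tail D e i) (fun r hr => (hf r).mpr (tail_pos D e hrange hr))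
    (tail_closed D e hrange hmono i) (tailEnum_injective D e hi he) (range_tailEnum D e hi) g]
  constructor
  · rintro ⟨z, rfl⟩
    refine ⟨powPt z, ?_⟩
    rw [comp_prodMap]
    simp only [← Category.assoc, powPt_powPr]
  · rintro ⟨p, rfl⟩
    refine ⟨fun k => p ≫ powPr _ k, ?_⟩
    rw [comp_prodMap]
    simp only [Category.assoc]

end Groth.Agent.RootChartLib

namespace Groth.Agent.RootChartLib

open GrpSchLib GrpSchLib.AffineHopf GModLib DynLib RankLib.SplitRedPts

variable {S : Scheme.{u}} {G : Over S} [GrpObj G] (D : Red.SplitRed G) [LinearOrder D.M] [IsOrderedAddMonoid D.M]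
  {N : ℕ} (e : Fin N → D.idx)
  (hrange : ∀ a : D.idx, a ∈ Set.range e ↔ 0 < D.P.root a) (hmono : StrictMono fun k => D.P.root (e k))

omit [LinearOrder D.M] [IsOrderedAddMonoid D.M] in
theorem rdAHom_torus {X : Over S} (t : X ⟶ D.T) {C : Type u} [CommRing C] (j : Spec (CommRingCat.of C) ⟶ X.left) :
    ∃ χ, rdAHom D (base (X := X) j) (test j ≫ t ≫ D.i) =
      (chart D (base (X := X) j) (model D (base (X := X) j)).iso).tPt χ := by
  obtain ⟨y, hy⟩ := (DSPtsLib.theta_bijective (Y := sp C C) (H := D.T) (base (X := X) j)).2 (test j ≫ t)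
  obtain ⟨χ, rfl⟩ := exists_eq_tpt D _ y
  haveI := (model D (base (X := X) j)).isMonHom
  exact ⟨χ, by rw [← Category.assoc, ← hy]; exact rdA_i D _ _ χ⟩

include hrange hmono in
/-- Conjugation by positive unipotent points fixes the first coordinate of a tail. -/
theorem exists_conj_tail (he : Function.Injective e) {X : Over S} (x : Fin N → (X ⟶ Red.Ga S)) :
    ∀ {i m : ℕ} (hi : i + m = N) (y : Fin m → (X ⟶ Red.Ga S)), ∃ z : Fin m → (X ⟶ Red.Ga S),
      (List.ofFn fun k => z k ≫ D.u (tailEnum D e hi k)).prod =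
        (List.ofFn fun k => x k ≫ D.u (e k)).prod * (List.ofFn fun k => y k ≫ D.u (tailEnum D e hi k)).prod *
          ((List.ofFn fun k => x k ≫ D.u (e k)).prod)⁻¹ ∧ ∀ k : Fin m, (k : ℕ) = 0 → z k = y k := by
  intro i m hi y
  have hx := (exists_list_iff D e hrange hmono (i := 0) (m := N) (Nat.zero_add N) he
    (List.ofFn fun k => x k ≫ D.u (e k)).prod).mp ⟨x, by
      refine congrArg (fun l => (List.ofFn l).prod) (funext fun k => ?_)
      simp [tailEnum]⟩
  cases m with
  | zero => exact ⟨y, by simp, fun k => k.elim0⟩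
  | succ m =>
  have hi' : (i + 1) + m = N := by omega
  let g := (List.ofFn fun k => x k ≫ D.u (e k)).prod
  let r := y 0 ≫ D.u (tailEnum D e hi 0)
  let H := (List.ofFn fun k : Fin m => y k.succ ≫ D.u (tailEnum D e hi k.succ)).prod
  have hsucc : ∀ k : Fin m, tailEnum D e hi' k = tailEnum D e hi k.succ := fun k =>
    congrArg e (Fin.ext (by simp; omega))
  obtain ⟨z, hz⟩ := (exists_list_iff D e hrange hmono hi' he (r⁻¹ * (g * (r * H) * g⁻¹))).mpr fun C _ j => by
    haveI := (model D (base (X := X) j)).isMonHom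
    haveI := smooth_model D (base (X := X) j) (model D (base (X := X) j)).iso
    have hcomm := comm_tail D e hrange hmono (base (X := X) j) (C := C)
    have hH := (exists_list_iff D e hrange hmono hi' he H).mp ⟨fun k => y k.succ, by
      refine congrArg (fun l => (List.ofFn l).prod) (funext fun k => ?_)
      rw [hsucc]⟩ C inferInstance j
    have hrH := (exists_list_iff D e hrange hmono hi he (r * H)).mp ⟨y, by
      rw [List.ofFn_succ, List.prod_cons]⟩ C inferInstance j
    have hr : rdAHom D (base (X := X) j) (test j ≫ r) ∈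
        (chart D (base (X := X) j) (model D (base (X := X) j)).iso).span (tail D e 0) C :=
      Chart.span_mono _ (tail_mono D e (Nat.zero_le i)) ((exists_list_iff D e hrange hmono hi he r).mp
        ⟨Fin.cons (y 0) fun _ => 1, by
          haveI := fun a => isMonHom_u D a
          rw [List.ofFn_succ, List.prod_cons, Fin.cons_zero]
          simp [MonObj.one_comp, r]⟩ C inferInstance j)
    rw [MonObj.comp_mul, MonObj.comp_mul, MonObj.comp_mul, MonObj.comp_mul, GrpObj.comp_inv, GrpObj.comp_inv, map_mul, map_mul, map_mul, map_mul,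
      map_inv, map_inv]
    rw [MonObj.comp_mul, map_mul] at hrH
    generalize rdAHom D (base (X := X) j) (test j ≫ r) = ρ at hr hrH ⊢
    generalize rdAHom D (base (X := X) j) (test j ≫ H) = η' at hH hrH ⊢
    have hg := hx C inferInstance j
    generalize rdAHom D (base (X := X) j) (test j ≫ g) = γ' at hg ⊢
    have h1 := hcomm i γ' hg _ hrH
    have h2 := Chart.span_mono _ (tail_mono D e (show i + 1 ≤ i + 1 + 1 by omega))
      (hcomm (i + 1) ρ⁻¹ (Subgroup.inv_mem _ hr) _ h1)
    have h3 := Subgroup.mul_mem _ (Subgroup.mul_mem _ h2 h1) hH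
    convert h3 using 1
    group
  refine ⟨Fin.cons (y 0) z, ?_, fun k hk => ?_⟩
  · rw [List.ofFn_succ, List.prod_cons, List.ofFn_succ (f := fun k => y k ≫ D.u (tailEnum D e hi k)), List.prod_cons]
    simp only [Fin.cons_zero, Fin.cons_succ, ← hsucc]
    rw [hz]
    simp only [H, r, g, hsucc]
    group
  · obtain rfl : k = 0 := Fin.ext hk
    rfl

end Groth.Agent.RootChartLib
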