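import Groth.Agent.RootChartLib.Basic
import Groth.Agent.DynSm.Etale
import Mathlib.RingTheory.MvPolynomial.Basic
import Mathlib.Algebra.MvPolynomial.Monad

/-!
# The positive root subgroups of a chart

For a linear form on the characters the product map of the root subgroups of positive roots is a closed
immersion into the subgroup of points contracted by the associated cocharacter.
-/

set_option autoImplicit false
set_option backward.isDefEq.respectTransparency false
set_option backward.isDefEq.respectTransparency.types false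

universe u

open WithConv
open scoped TensorProduct LaurentPolynomial

namespace Groth.Agent.RootChartLib

open DynLib DynSm

variable {R : Type u} [CommRing R] {A : Type u} [CommRing A] [HopfAlgebra R A] {M : Type} [AddCommGroup M]
  {idx : Type}

namespace Chart

variable (D : Chart R A M idx) {C C' : Type u} [CommRing C] [Algebra R C] [CommRing C'] [Algebra R C']
  (f : M →+ ℤ)

/-- The cocharacter of a linear form. -/
noncomputable def lam : A →ₐc[R] R[T;T⁻¹] :=
  ((AddMonoidAlgebra.toMultiplicativeBialgEquiv R R ℤ).symm : MonoidAlgebra R (Multiplicative ℤ) →ₐc[R] R[T;T⁻¹]).comp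
    ((MonoidAlgebra.mapDomainBialgHom R (AddMonoidHom.toMultiplicative f)).comp D.tor)

/-- The character giving the cocharacter. -/
noncomputable def chiF (C : Type u) [CommRing C] : Multiplicative M →* C[T;T⁻¹] where
  toFun m := AddMonoidAlgebra.single (f m.toAdd) 1
  map_one' := by rw [toAdd_one, map_zero]; rfl
  map_mul' a b := by rw [toAdd_mul, map_add, AddMonoidAlgebra.single_mul_single, _root_.one_mul]

theorem lamW_eq : lamW (D.lam f) C = D.tPt (chiF f C) := by
  refine congrArg toConv (AlgHom.ext fun a => ?_)
  show AddMonoidAlgebra.mapAlgHom ℤ (Algebra.ofId R C)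
      ((AddMonoidAlgebra.toMultiplicativeBialgEquiv R R ℤ).symm
        (MonoidAlgebra.mapDomain (AddMonoidHom.toMultiplicative f) (D.tor a))) =
    MonoidAlgebra.lift R C[T;T⁻¹] (Multiplicative M) (chiF f C) (D.tor a)
  induction D.tor a using MonoidAlgebra.induction_linear with
  | zero => simp
  | add F G hF hG =>
    simp only [MonoidAlgebra.mapDomain_add, map_add]
    rw [hF, hG]
  | single n r =>
    rw [MonoidAlgebra.mapDomain_single, MonoidAlgebra.lift_single]
    have hs : (AddMonoidAlgebra.toMultiplicativeBialgEquiv R R ℤ).symm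
        (MonoidAlgebra.single (AddMonoidHom.toMultiplicative f n) r) = AddMonoidAlgebra.single (f n.toAdd) r := by
      apply (AddMonoidAlgebra.toMultiplicativeBialgEquiv R R ℤ).toEquiv.symm_apply_eq.mpr
      exact (AddMonoidAlgebra.toMultiplicativeBialgEquiv_single (R := R) (f n.toAdd) r).symm
    rw [hs]
    ext l
    simp [chiF, Algebra.ofId_apply, AddMonoidAlgebra.coeff_single, Finsupp.single_apply, Algebra.algebraMap_eq_smul_one,
      -LaurentPolynomial.single_eq_C_mul_T]

/-- The degree components are sums of weight components. -/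
theorem wpr_lam (n : ℤ) (a : A) :
    wpr (D.lam f) n a = ∑ m ∈ (D.orb a).coeff.support.filter (fun m => f m.toAdd = n), D.wt m.toAdd a := by
  classical
  have h := coeff_conj (D.lam f) (toConv (AlgHom.id R A)) a n
  rw [conjHom_apply, lamW_eq, conj_eq] at h
  simp only [ofConv_toConv, AlgHom.id_apply, AlgHom.comp_apply] at h
  rw [← h]
  conv_lhs => rw [← MonoidAlgebra.sum_single (D.orb a), Finsupp.sum, map_sum]
  rw [AddMonoidAlgebra.coeff_sum, Finsupp.finsetSum_apply, Finset.sum_filter]
  refine Finset.sum_congr rfl fun m _ => ?_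
  rw [GModLib.CentreWeights.ev_single]
  have hc : ∀ x : A, (post (con R A) (toConv (AlgHom.id R A))).ofConv x = AddMonoidAlgebra.single 0 x := fun x => by
    simp [post_apply, con, IsScalarTower.coe_toAlgHom', LaurentPolynomial.algebraMap_apply]
  rw [hc]
  simp only [chiF, MonoidHom.coe_mk, OneHom.coe_mk, AddMonoidAlgebra.single_mul_single, zero_add, _root_.mul_one,
    AddMonoidAlgebra.coeff_single, Finsupp.single_apply]
  split_ifs <;> simp [wt_apply]

/-! ### Ordered products of root points -/

/-- The ordered product of root points. -/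
noncomputable def prodPt : {m : ℕ} → (Fin m → idx) → (Fin m → C) → WithConv (A →ₐ[R] C)
  | 0, _, _ => 1
  | _ + 1, e, c => D.rPt (e 0) (c 0) * prodPt (fun i => e i.succ) (fun i => c i.succ)

theorem post_prodPt (φ : C →ₐ[R] C') : ∀ {m : ℕ} (e : Fin m → idx) (c : Fin m → C),
    post φ (D.prodPt e c) = D.prodPt e (φ ∘ c)
  | 0, _, _ => map_one _
  | _ + 1, e, c => by
    show post φ (_ * _) = _ * _
    rw [map_mul, post_rPt, post_prodPt]
    rfl

theorem prodPt_conj (χ : Multiplicative M →* C) : ∀ {m : ℕ} (e : Fin m → idx) (c : Fin m → C),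
    D.tPt χ * D.prodPt e c * (D.tPt χ)⁻¹ =
      D.prodPt e (fun i => χ (Multiplicative.ofAdd (D.α (e i))) * c i)
  | 0, _, _ => by
    show D.tPt χ * 1 * _ = 1
    rw [_root_.mul_one, mul_inv_cancel]
  | _ + 1, e, c => by
    show D.tPt χ * (_ * _) * _ = _ * _
    rw [← tPt_conj, ← prodPt_conj χ (fun i => e i.succ) (fun i => c i.succ)]
    group

theorem prodPt_zero : ∀ {m : ℕ} (e : Fin m → idx), D.prodPt e (fun _ => (0 : C)) = 1
  | 0, _ => rfl
  | _ + 1, e => by
    show D.rPt (e 0) 0 * D.prodPt (fun i => e i.succ) (fun _ => (0 : C)) = 1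
    rw [rPt_zero, prodPt_zero, _root_.mul_one]

theorem prodPt_single : ∀ {m : ℕ} (e : Fin m → idx) (i : Fin m) (x : C),
    D.prodPt e (Pi.single i x) = D.rPt (e i) x
  | 0, _, i, _ => i.elim0
  | n + 1, e, i, x => by
    show D.rPt (e 0) ((Pi.single i x : Fin (n + 1) → C) 0) *
      D.prodPt (fun j => e j.succ) (fun j => (Pi.single i x : Fin (n + 1) → C) j.succ) = _
    induction i using Fin.cases with
    | zero =>
      rw [Pi.single_eq_same, show (fun j : Fin n => (Pi.single 0 x : Fin (n + 1) → C) j.succ) = fun _ => 0 from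
        funext fun j => Pi.single_eq_of_ne (Fin.succ_ne_zero j) x, prodPt_zero, _root_.mul_one]
    | succ i =>
      rw [Pi.single_eq_of_ne (Fin.succ_ne_zero i).symm, rPt_zero, _root_.one_mul,
        show (fun j : Fin n => (Pi.single i.succ x : Fin (n + 1) → C) j.succ) = Pi.single i x from
        funext fun j => by simp [Pi.single_apply, Fin.succ_inj]]
      exact prodPt_single (fun j => e j.succ) i x

variable {m : ℕ} (e : Fin m → idx)

/-- The product map, on functions. -/
noncomputable def Phi : A →ₐ[R] MvPolynomial (Fin m) R := (D.prodPt e MvPolynomial.X).ofConv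

theorem prodPt_eq (c : Fin m → C) : D.prodPt e c = toConv ((MvPolynomial.aeval c).comp (D.Phi e)) := by
  have h := D.post_prodPt (MvPolynomial.aeval (R := R) c) e MvPolynomial.X
  rw [show (MvPolynomial.aeval (R := R) c) ∘ MvPolynomial.X = c from funext fun i => by simp] at h
  exact h.symm

/-- The weight of a monomial. -/
def wv (v : Fin m →₀ ℕ) : M := v.sum fun i n => n • D.α (e i)

theorem coeff_Phi_wt [DecidableEq M] (μ : M) (a : A) (v : Fin m →₀ ℕ) :
    (D.Phi e (D.wt μ a)).coeff v = if D.wv e v = μ then (D.Phi e a).coeff v else 0 := by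
  classical
  let P := MvPolynomial (Fin m) R
  have h := D.coeff_conj_const (D.prodPt e (MvPolynomial.X : Fin m → P)) a (Multiplicative.ofAdd μ)
  rw [post_prodPt, prodPt_conj, toAdd_ofAdd, prodPt_eq] at h
  simp only [ofConv_toConv, AlgHom.comp_apply] at h
  rw [show D.Phi e (D.wt μ a) = (D.prodPt e (MvPolynomial.X : Fin m → P)).ofConv (D.wt μ a) from rfl, ← h]
  clear h
  induction D.Phi e a using MvPolynomial.induction_on' with
  | monomial w r =>
    rw [MvPolynomial.aeval_monomial]
    have hp : (w.prod fun i n => ((MonoidAlgebra.of P (Multiplicative M)) (Multiplicative.ofAdd (D.α (e i))) *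
        ((const (R := R) P (Multiplicative M)) ∘ MvPolynomial.X) i) ^ n) =
        MonoidAlgebra.single (Multiplicative.ofAdd (D.wv e w)) (MvPolynomial.monomial w (1 : R)) := by
      induction w using Finsupp.induction with
      | zero => simp [wv, MonoidAlgebra.one_def, P]
      | single_add i n w hi hn ih =>
        rw [Finsupp.prod_add_index' (fun _ => pow_zero _) (fun _ _ _ => pow_add _ _ _), ih, Finsupp.prod_single_index (by exact pow_zero _)]
        simp only [MonoidAlgebra.of_apply, Function.comp_apply, const, MonoidAlgebra.singleOneAlgHom_apply,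
          MonoidAlgebra.single_mul_single, _root_.mul_one, _root_.one_mul, MonoidAlgebra.single_pow]
        congr 1
        · simp only [wv]
          rw [Finsupp.sum_add_index' (h := fun l (k : ℕ) => k • D.α (e l)) (fun _ => zero_smul _ _) (fun _ _ _ => add_smul _ _ _),
            Finsupp.sum_single_index (by exact zero_smul _ _), ofAdd_add, ofAdd_nsmul]
        · exact MvPolynomial.monomial_single_add.symm
    rw [hp, ← Algebra.smul_def, MonoidAlgebra.coeff_smul, Finsupp.smul_apply, MonoidAlgebra.coeff_single,
      Finsupp.single_apply]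
    by_cases hw : D.wv e w = μ
    · rw [if_pos (by rw [hw]), MvPolynomial.smul_monomial, MvPolynomial.coeff_monomial, MvPolynomial.coeff_monomial]
      by_cases hv : w = v
      · subst hv; simp [hw]
      · simp [hv]
    · rw [if_neg (fun h => hw (Multiplicative.ofAdd.injective h)), smul_zero, MvPolynomial.coeff_zero]
      by_cases hv : w = v
      · subst hv; rw [if_neg hw]
      · simp [MvPolynomial.coeff_monomial, hv]
  | add p q hp hq =>
    rw [map_add, MonoidAlgebra.coeff_add, Finsupp.add_apply, MvPolynomial.coeff_add, hp, hq, MvPolynomial.coeff_add]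
    split_ifs <;> simp

theorem constantCoeff_Phi (a : A) : (D.Phi e a).coeff 0 = Coalgebra.counit (R := R) a := by
  have h := D.prodPt_eq e (fun _ => (0 : R))
  rw [prodPt_zero] at h
  have h' := DFunLike.congr_fun (congrArg WithConv.ofConv h) a
  simp only [AlgHom.convOne_apply, ofConv_toConv, AlgHom.comp_apply, Algebra.algebraMap_self_apply] at h'
  rw [h']
  simp [MvPolynomial.constantCoeff_eq]

variable (hpos : ∀ i, 0 < f (D.α (e i)))

include hpos in
theorem f_wv_nonneg (v : Fin m →₀ ℕ) : 0 ≤ f (D.wv e v) ∧ (f (D.wv e v) = 0 → v = 0) := by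
  have hval : f (D.wv e v) = v.sum fun i n => (n : ℤ) * f (D.α (e i)) := by
    rw [wv, map_finsuppSum]
    exact Finsupp.sum_congr fun i _ => by rw [map_nsmul, nsmul_eq_mul]
  rw [hval]
  refine ⟨Finset.sum_nonneg fun i _ => mul_nonneg (Int.natCast_nonneg _) (hpos i).le, fun h => ?_⟩
  ext i
  by_contra hi
  have := (Finset.sum_eq_zero_iff_of_nonneg fun i _ => mul_nonneg (Int.natCast_nonneg _) (hpos i).le).mp h i
    (Finsupp.mem_support_iff.mpr hi)
  rcases mul_eq_zero.mp this with h1 | h1
  · exact hi (by exact_mod_cast h1)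
  · exact (hpos i).ne' h1

include hpos in
theorem Phi_wpr {n : ℤ} (a : A) :
    (n < 0 → D.Phi e (wpr (D.lam f) n a) = 0) ∧
      (n = 0 → D.Phi e (wpr (D.lam f) n a) = MvPolynomial.C (Coalgebra.counit (R := R) a)) := by
  classical
  have hc : ∀ v, (D.Phi e (wpr (D.lam f) n a)).coeff v =
      ∑ μ ∈ (D.orb a).coeff.support.filter (fun μ => f μ.toAdd = n),
        if D.wv e v = μ.toAdd then (D.Phi e a).coeff v else 0 := fun v => by
    rw [wpr_lam, map_sum, MvPolynomial.coeff_sum]
    exact Finset.sum_congr rfl fun μ _ => D.coeff_Phi_wt e _ _ _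
  refine ⟨fun hn => MvPolynomial.ext _ _ fun v => ?_, fun hn => MvPolynomial.ext _ _ fun v => ?_⟩
  · rw [hc, MvPolynomial.coeff_zero]
    refine Finset.sum_eq_zero fun μ hμ => if_neg fun h => ?_
    rw [Finset.mem_filter, ← h] at hμ
    have := (f_wv_nonneg D f e hpos v).1
    omega
  · subst hn
    by_cases hv : v = 0
    · subst hv
      rw [MvPolynomial.coeff_C, if_pos rfl]
      rw [D.constantCoeff_Phi e, counit_wpr, if_pos rfl]
    · rw [hc, MvPolynomial.coeff_C, if_neg (Ne.symm hv)]
      refine Finset.sum_eq_zero fun μ hμ => if_neg fun h => hv ?_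
      rw [Finset.mem_filter, ← h] at hμ
      exact (f_wv_nonneg D f e hpos v).2 hμ.2

include hpos in
theorem limIsOne_prodPt (c : Fin m → C) : Dyn.LimIsOne R A (D.lam f) C (D.prodPt e c).ofConv := by
  rw [limIsOne_iff_wpr, prodPt_eq]
  refine ⟨fun a n hn => ?_, fun a => ?_⟩
  · rw [ofConv_toConv, AlgHom.comp_apply, (D.Phi_wpr f e hpos a).1 hn, map_zero]
  · rw [ofConv_toConv, AlgHom.comp_apply, (D.Phi_wpr f e hpos a).2 rfl, MvPolynomial.aeval_C]

variable [Module.IsTorsionFree ℤ M]

theorem coeff_Phi_single (a : A) (i : Fin m) :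
    (D.Phi e a).coeff (Finsupp.single i 1) = (D.root (e i) a).coeff 1 := by
  classical
  have h := D.prodPt_eq e (Pi.single i (Polynomial.X : Polynomial R))
  rw [prodPt_single] at h
  have h' := DFunLike.congr_fun (congrArg WithConv.ofConv h) a
  rw [rPt_apply, Polynomial.aeval_X_left_apply] at h'
  rw [h']
  simp only [ofConv_toConv, AlgHom.comp_apply]
  clear h h'
  induction D.Phi e a using MvPolynomial.induction_on' with
  | monomial w r =>
    rw [MvPolynomial.coeff_monomial, MvPolynomial.aeval_monomial]
    by_cases hw : ∀ j, j ≠ i → w j = 0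
    · obtain ⟨k, rfl⟩ : ∃ k, w = Finsupp.single i k := ⟨w i, Finsupp.ext fun j => by
        by_cases hj : j = i
        · subst hj; simp
        · rw [hw j hj, Finsupp.single_eq_of_ne hj]⟩
      rw [Finsupp.prod_single_index (by exact pow_zero _), Pi.single_eq_same, ← Algebra.smul_def, Polynomial.coeff_smul,
        Polynomial.coeff_X_pow]
      by_cases hk : k = 1
      · subst hk; simp
      · rw [if_neg (fun h => hk (Finsupp.single_injective i h)), if_neg (Ne.symm hk), smul_zero]
    · push Not at hw
      obtain ⟨j, hj, hwj⟩ := hw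
      have h0 : (w.prod fun l n => (Pi.single i (Polynomial.X : Polynomial R) : Fin m → Polynomial R) l ^ n) = 0 :=
        Finset.prod_eq_zero (Finsupp.mem_support_iff.mpr hwj) (by
          show (Pi.single i (Polynomial.X : Polynomial R) : Fin m → Polynomial R) j ^ _ = 0
          rw [Pi.single_eq_of_ne hj, zero_pow hwj])
      rw [h0, mul_zero, Polynomial.coeff_zero, if_neg]
      intro h
      rw [h, Finsupp.single_eq_of_ne hj] at hwj
      exact hwj rfl
  | add p q hp hq => rw [MvPolynomial.coeff_add, map_add, Polynomial.coeff_add, hp, hq]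

/-- The coordinate of a root. -/
noncomputable def coord (r : idx) : A := (D.root_wt_self r).choose

theorem coord_spec (r : idx) : D.wt (D.α r) (D.coord r) = D.coord r ∧ D.root r (D.coord r) = Polynomial.X :=
  (D.root_wt_self r).choose_spec

variable (he : Function.Injective e)

include hpos he in
/-- The product map is surjective on functions. -/
theorem Phi_surjective : Function.Surjective (D.Phi e) := by
  classical
  suffices hX : ∀ (N : ℕ) (i : Fin m), (f (D.α (e i))).toNat ≤ N → MvPolynomial.X i ∈ (D.Phi e).range by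
    intro p
    induction p using MvPolynomial.induction_on with
    | C r => exact ⟨algebraMap R A r, AlgHom.commutes _ _⟩
    | add p q hp hq => obtain ⟨a, rfl⟩ := hp; obtain ⟨b, rfl⟩ := hq; exact ⟨a + b, map_add _ _ _⟩
    | mul_X p i hp =>
      obtain ⟨a, rfl⟩ := hp
      obtain ⟨b, hb⟩ := hX _ i le_rfl
      exact ⟨a * b, by rw [map_mul]; exact congrArg _ hb⟩
  intro N
  induction N with
  | zero => intro i hi; have := hpos i; omega
  | succ N ih =>
    intro i hi
    let a := D.coord (e i)
    have hsupp : ∀ v, (D.Phi e a).coeff v ≠ 0 → D.wv e v = D.α (e i) := fun v hv => by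
      have h := D.coeff_Phi_wt e (D.α (e i)) a v
      rw [(D.coord_spec (e i)).1] at h
      by_contra hne
      rw [if_neg hne] at h
      exact hv h
    have hrest : D.Phi e a - MvPolynomial.X i ∈ (D.Phi e).range := by
      rw [MvPolynomial.as_sum (D.Phi e a - MvPolynomial.X i)]
      refine Subalgebra.sum_mem _ fun v hv => ?_
      rw [MvPolynomial.mem_support_iff, MvPolynomial.coeff_sub, MvPolynomial.coeff_X'] at hv
      by_cases hvi : Finsupp.single i 1 = v
      · exfalso
        subst hvi
        rw [if_pos rfl, coeff_Phi_single, (D.coord_spec (e i)).2, Polynomial.coeff_X_one, sub_self] at hv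
        exact hv rfl
      rw [if_neg hvi, sub_zero] at hv
      have hwv := hsupp v hv
      rw [MvPolynomial.monomial_eq, ← MvPolynomial.algebraMap_eq]
      refine Subalgebra.mul_mem _ ((D.Phi e).range.algebraMap_mem _) (Subalgebra.prod_mem _ fun j hj => ?_)
      refine Subalgebra.pow_mem _ (ih j ?_) _
      have hsum : f (D.α (e i)) = ∑ l ∈ v.support, (v l : ℤ) * f (D.α (e l)) := by
        rw [← hwv, wv, map_finsuppSum, Finsupp.sum]
        exact Finset.sum_congr rfl fun l _ => by rw [map_nsmul, nsmul_eq_mul]
      have hvj : 1 ≤ (v j : ℤ) := by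
        have := Finsupp.mem_support_iff.mp hj
        omega
      have hle : (v j : ℤ) * f (D.α (e j)) ≤ f (D.α (e i)) :=
        hsum ▸ Finset.single_le_sum (fun l _ => mul_nonneg (Int.natCast_nonneg _) (hpos l).le) hj
      by_contra hlt
      have hj' : f (D.α (e j)) = f (D.α (e i)) ∧ (v j : ℤ) = 1 := by
        have h1 := hpos j
        have h2 : f (D.α (e j)) ≤ (v j : ℤ) * f (D.α (e j)) := le_mul_of_one_le_left h1.le hvj
        have h3 : f (D.α (e j)) = f (D.α (e i)) := by omega
        refine ⟨h3, ?_⟩
        rw [h3] at hle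
        have h4 : (v j : ℤ) ≤ 1 := le_of_mul_le_mul_right (by rw [_root_.one_mul]; exact hle) (hpos i)
        omega
      have hothers : ∀ l ∈ v.support, l = j := fun l hl => by
        by_contra hne
        have h2 : (v l : ℤ) * f (D.α (e l)) + (v j : ℤ) * f (D.α (e j)) ≤ f (D.α (e i)) := by
          rw [hsum, ← Finset.sum_pair (f := fun l => (v l : ℤ) * f (D.α (e l))) hne]
          refine Finset.sum_le_sum_of_subset_of_nonneg ?_ fun l _ _ => mul_nonneg (Int.natCast_nonneg _) (hpos l).le
          intro x hx
          simp only [Finset.mem_insert, Finset.mem_singleton] at hx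
          rcases hx with rfl | rfl
          · exact hl
          · exact hj
        have h3 : 1 ≤ (v l : ℤ) := by
          have := Finsupp.mem_support_iff.mp hl
          omega
        have h4 : f (D.α (e l)) ≤ (v l : ℤ) * f (D.α (e l)) := le_mul_of_one_le_left (hpos l).le h3
        rw [hj'.2, _root_.one_mul, hj'.1] at h2
        have := hpos l
        omega
      have hv1 : v = Finsupp.single j 1 := Finsupp.ext fun l => by
        by_cases hl : l = j
        · subst hl; rw [Finsupp.single_eq_same]; exact_mod_cast hj'.2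
        · rw [Finsupp.single_eq_of_ne hl]
          by_contra h4
          exact hl (hothers l (Finsupp.mem_support_iff.mpr h4))
      rw [hv1, wv, Finsupp.sum_single_index (by exact zero_smul _ _), one_smul] at hwv
      exact hvi (by rw [hv1, he (D.α_injective hwv)])
    have := Subalgebra.sub_mem _ (AlgHom.mem_range_self (D.Phi e) a) hrest
    rwa [sub_sub_cancel] at this

end Chart

end Groth.Agent.RootChartLib
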