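import Groth.Agent.RootChartLib.RankOneCent
import Groth.Agent.GModLib.CartanNormalizer

/-!
# Proportional roots agree up to sign

In the centraliser of the subtorus of a root a maximal torus has two fixed points on the quotient by a Borel subgroup,
so this quotient is a curve and only one positive root is proportional to the given one.
-/

set_option autoImplicit false
set_option backward.isDefEq.respectTransparency false
set_option backward.isDefEq.respectTransparency.types false

universe u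

open CategoryTheory Limits AlgebraicGeometry MonoidalCategory CartesianMonoidalCategory MonObj GrpObj WithConv
open scoped TensorProduct

namespace Groth.Agent.RootChartLib

open GrpSchLib GrpSchLib.AffineHopf GrpSchLib.Kunneth GModLib DynLib

variable {k : Type u} [Field k] [IsAlgClosed k]

/-- A connected solvable subgroup lies in a Borel subgroup. -/
theorem exists_borel_ge {G H : Over (Spec (CommRingCat.of k))} [GrpObj G] [IsAffine G.left] [Smooth G.hom]
    [ConnectedSpace G.left] [GrpObj H] (iH : H ⟶ G) [IsMonHom iH] [IsClosedImmersion iH.left] [Smooth H.hom]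
    [ConnectedSpace H.left] (hsol : Red.IsSolvableGrp H) :
    ∃ (B : Over (Spec (CommRingCat.of k))) (_ : GrpObj B) (iB : B ⟶ G) (u : H ⟶ B),
      Red.IsBorelOver k iB ∧ u ≫ iB = iH := by
  obtain ⟨B, _, i, hB, hco⟩ := exists_borel (G := G)
  haveI := hB.1
  obtain ⟨g, h, hh⟩ := exists_conj_factor i hco iH hsol
  exact ⟨B, inferInstance, i ≫ inner g, h, isBorelOver_inner i hB g, hh.symm⟩

/-- A group whose points of invertible order are trivial has no subtori. -/
theorem hasNoSubtorus_of_torsion {H : Over (Spec (CommRingCat.of k))} [GrpObj H] [IsAffine H.left]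
    (h : ∀ (g : VecGrp.pt k k ⟶ H) (n : ℕ), (n : k) ≠ 0 → g ^ n = 1 → g = 1) : Red.HasNoSubtorus k H := by
  intro T' _ j _ _ hT
  suffices h1 : j = 1 by
    haveI : Mono j := inferInstance
    refine isTrivialGrp_of_id_eq_one ?_
    rw [← cancel_mono j, Category.id_comp, MonObj.one_comp, h1]
  refine LineGroups.ext_ev (AlgHom.ext fun P => ?_)
  by_contra hne
  obtain ⟨t, n, hn, htn, ht⟩ := exists_torsion_ne_zero hT (sub_ne_zero.mpr hne)
  have htj : t ≫ j = 1 := h _ n hn (by rw [← MonObj.pow_comp, htn, MonObj.one_comp])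
  refine ht ?_
  rw [map_sub, pullFn_ev, pullFn_ev, htj, MonObj.comp_one, sub_self]

/-- Characters separate the elements of a free abelian group. -/
theorem eq_of_forall_char {M : Type} [AddCommGroup M] [Module.Free ℤ M] [Module.Finite ℤ M] {x y : M}
    (h : ∀ χ : Multiplicative M →* k, χ (Multiplicative.ofAdd x) = χ (Multiplicative.ofAdd y)) : x = y := by
  by_contra hne
  obtain ⟨χ, hχ⟩ := exists_char_ne_one (k := k) (sub_ne_zero.mpr hne)
  refine hχ ?_
  have h1 : χ (Multiplicative.ofAdd (x - y)) * χ (Multiplicative.ofAdd y) = χ (Multiplicative.ofAdd x) := by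
    rw [← map_mul, ← ofAdd_add, sub_add_cancel]
  have h2 : χ (Multiplicative.ofAdd y) ≠ 0 := ((Group.isUnit (Multiplicative.ofAdd y)).map χ).ne_zero
  exact mul_right_cancel₀ h2 (h1.trans ((h χ).trans (_root_.one_mul _).symm))

namespace Chart

variable {A : Type u} [CommRing A] [HopfAlgebra k A] {M : Type} [AddCommGroup M] [Module.Free ℤ M] [Module.Finite ℤ M]
  {idx : Type} (D : Chart k A M idx) (a : idx) (f : M →+ ℤ)

/-- The reflection of a root. -/
noncomputable def reflHom (d : M →+ ℤ) : Multiplicative M →* Multiplicative M :=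
  (AddMonoidHom.id M - (zmultiplesHom M (D.α a)).comp d).toMultiplicative

theorem reflHom_apply (d : M →+ ℤ) (x : M) :
    D.reflHom a d (Multiplicative.ofAdd x) = Multiplicative.ofAdd (x - d x • D.α a) := rfl

/-- A point acting on the torus by the reflection of the root. -/
def IsRefl (d : M →+ ℤ) (n : WithConv (A →ₐ[k] k)) : Prop :=
  d (D.α a) = 2 ∧ ∀ χ : Multiplicative M →* k, n * D.tPt χ * n⁻¹ = D.tPt (χ.comp (D.reflHom a d))

variable {D a}

theorem IsRefl.comp_comp {d : M →+ ℤ} {n : WithConv (A →ₐ[k] k)} (h : D.IsRefl a d n) (χ : Multiplicative M →* k) :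
    (χ.comp (D.reflHom a d)).comp (D.reflHom a d) = χ := by
  refine MonoidHom.ext fun x => ?_
  rw [← ofAdd_toAdd x, MonoidHom.comp_apply, MonoidHom.comp_apply, reflHom_apply, reflHom_apply]
  congr 2
  rw [map_sub, map_zsmul, h.1, sub_smul, smul_eq_mul, mul_smul, two_smul, zsmul_add]
  abel

theorem IsRefl.conj_inv {d : M →+ ℤ} {n : WithConv (A →ₐ[k] k)} (h : D.IsRefl a d n) (χ : Multiplicative M →* k) :
    n⁻¹ * D.tPt χ * n = D.tPt (χ.comp (D.reflHom a d)) := by
  have h1 := h.2 (χ.comp (D.reflHom a d))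
  rw [h.comp_comp] at h1
  rw [← h1]
  group

theorem IsRefl.inCent {d : M →+ ℤ} {n : WithConv (A →ₐ[k] k)} (h : D.IsRefl a d n) : D.InCent a f n := fun χ => by
  have h1 := h.2 (χ.comp (D.qHom a f))
  have e : (χ.comp (D.qHom a f)).comp (D.reflHom a d) = χ.comp (D.qHom a f) := by
    refine MonoidHom.ext fun x => ?_
    rw [← ofAdd_toAdd x, MonoidHom.comp_apply, MonoidHom.comp_apply, MonoidHom.comp_apply, reflHom_apply]
    congr 1
    refine congrArg Multiplicative.ofAdd (Subtype.ext ?_)
    show D.qLin a f (x.toAdd - d x.toAdd • D.α a) = D.qLin a f x.toAdd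
    rw [map_sub (D.qLin a f), map_zsmul, qLin_root, zsmul_zero, sub_zero]
  rw [e] at h1
  exact mul_inv_eq_iff_eq_mul.mp h1

variable (D a) [Algebra.Smooth k A]

section Normaliser

variable (hG : Red.IsReductiveOver k (sp k A)) (hT : AGF.IsMaxTorus D.torHom)

include hG hT in
/-- The torus is its own centraliser. -/
theorem exists_tPt_of_commute {g : WithConv (A →ₐ[k] k)} (h : ∀ χ, Commute (D.tPt χ) g) : ∃ χ, D.tPt χ = g := by
  haveI := hG.1; haveI := hG.2.1; haveI := hG.2.2.1; haveI := hT.1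
  obtain ⟨h1, h2, -, -, -⟩ := TorusBasic.torus_props hT.2.2.1
  haveI := h1; haveI := h2
  have hc := isCentralizerOf_self_of_reductive D.torHom hT hG
  refine (D.mem_torHom_iff g).mp ((hc.2.2 _ _).mpr fun X s x => commute_pts (gp g) D.torHom (fun p => ?_) s x)
  obtain ⟨χ, rfl⟩ := chT.surjective p
  rw [D.chT_torHom]
  exact ((h χ).symm).map gp

include hT in
/-- A point normalising the torus acts on the characters by an endomorphism. -/
theorem exists_conj_hom {m : WithConv (A →ₐ[k] k)} (hmT : ∀ χ, ∃ χ', m * D.tPt χ * m⁻¹ = D.tPt χ') :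
    ∃ ψ : AddMonoid.End M, ∀ χ, m * D.tPt χ * m⁻¹ = D.tPt (χ.comp ψ.toMultiplicative) := by
  haveI := hT.1; haveI := hT.2.1
  obtain ⟨h1, h2, -, -, -⟩ := TorusBasic.torus_props hT.2.2.1
  haveI := h1; haveI := h2
  haveI : IsReduced (torSp k M).left := GrpSchLib.isReduced_of_smooth_field (torSp k M).hom
  haveI := D.isClosedImmersion_torHom
  haveI : IsMonHom D.torHom := isMonHom_spMap _
  let g₀ : 𝟙_ (Over (Spec (CommRingCat.of k))) ⟶ sp k A := toPt _ ≫ gp m
  have hg₀ : toUnit (VecGrp.pt k k) ≫ g₀ = gp m := by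
    show _ ≫ toPt _ ≫ gp m = _
    rw [← Category.assoc, toUnit_toPt, Category.id_comp]
  have hval : ∀ χ, chT χ ≫ D.torHom ≫ inner g₀ = gp (m * D.tPt χ * m⁻¹) := fun χ => by
    rw [← Category.assoc, comp_inner, hg₀, D.chT_torHom, map_mul, map_mul, map_inv]
  obtain ⟨v, hv⟩ := exists_factor_of_points D.torHom (D.torHom ≫ inner g₀) fun t => by
    obtain ⟨χ, rfl⟩ := chT.surjective t
    obtain ⟨χ', hχ'⟩ := hmT χ
    exact ⟨chT χ', by rw [hval, hχ', D.chT_torHom]⟩
  haveI : IsMonHom (v ≫ D.torHom) := hv ▸ inferInstance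
  haveI : IsMonHom v := GModLib.isMonHom_of_comp v D.torHom
  obtain ⟨φ, hφ⟩ := exists_bialgHom v
  let ψm : Multiplicative M →* Multiplicative M := MonoidAlgebra.mapDomainBialgHomEquiv.symm φ
  have hφψ : φ = MonoidAlgebra.mapDomainBialgHom k ψm := (MonoidAlgebra.mapDomainBialgHomEquiv.apply_symm_apply φ).symm
  let ψ : AddMonoid.End M := AddMonoidHom.toMultiplicative.symm ψm
  have hψ : ψ.toMultiplicative = ψm := AddMonoidHom.toMultiplicative.apply_symm_apply ψm
  have hconj : ∀ χ, m * D.tPt χ * m⁻¹ = D.tPt (χ.comp ψ.toMultiplicative) := fun χ => by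
    refine gp.injective ?_
    rw [← hval, ← D.chT_torHom, ← hv, ← Category.assoc, hψ]
    congr 1
    rw [chT_eq, chT_eq, hφ, spMap_comp]
    congr 1
    refine MonoidAlgebra.algHom_ext (fun x => ?_) (by ext)
    rw [hφψ]
    simp
  exact ⟨ψ, hconj⟩

include hG hT in
/-- A power of a point normalising the torus centralises it. -/
theorem exists_pow_commute {m : WithConv (A →ₐ[k] k)} (hmT : ∀ χ, ∃ χ', m * D.tPt χ * m⁻¹ = D.tPt χ') :
    ∃ j : ℕ, 0 < j ∧ ∀ χ, Commute (D.tPt χ) (m ^ j) := by
  haveI := hG.1; haveI := hG.2.1; haveI := hG.2.2.1; haveI := hT.1; haveI := hT.2.1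
  obtain ⟨h1, h2, -, -, -⟩ := TorusBasic.torus_props hT.2.2.1
  haveI := h1; haveI := h2
  haveI : IsReduced (torSp k M).left := GrpSchLib.isReduced_of_smooth_field (torSp k M).hom
  haveI := D.isClosedImmersion_torHom
  haveI : IsMonHom D.torHom := isMonHom_spMap _
  obtain ⟨t, n, hn, htn, hgen⟩ := GModLib.exists_generic hT.2.2.1 D.torHom
  have hn0 : 0 < n := Nat.pos_of_ne_zero fun h => hn (by simp [h])
  obtain ⟨χ₀, rfl⟩ := chT.surjective t
  choose next hnext using hmT
  have hit : ∀ i : ℕ, m ^ i * D.tPt χ₀ * (m ^ i)⁻¹ = D.tPt (next^[i] χ₀) := fun i => by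
    induction i with
    | zero => simp
    | succ i ih =>
      rw [Function.iterate_succ_apply', ← hnext, ← ih, pow_succ']
      group
  have htor : ∀ i : ℕ, (chT (next^[i] χ₀) : VecGrp.pt k k ⟶ torSp k M) ^ n = 1 := fun i => by
    refine (cancel_mono D.torHom).mp ?_
    have h0 : ((chT χ₀ : VecGrp.pt k k ⟶ torSp k M) ^ n) ≫ D.torHom = 1 := by rw [htn, MonObj.one_comp]
    rw [MonObj.pow_comp, D.chT_torHom, ← map_pow] at h0
    rw [MonObj.pow_comp, MonObj.one_comp, D.chT_torHom, ← map_pow, ← hit, conj_pow, map_mul, map_mul, h0,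
      _root_.mul_one, ← map_mul, mul_inv_cancel, map_one]
  obtain ⟨i, -, l, -, hil, heq⟩ := Set.infinite_univ.exists_lt_map_eq_of_mapsTo
    (f := fun i : ℕ => (chT (next^[i] χ₀) : VecGrp.pt k k ⟶ torSp k M)) (fun i _ => htor i)
    (finite_torsion hT.2.2.1 hn0)
  have h4 : m ^ l * D.tPt χ₀ * (m ^ l)⁻¹ = m ^ i * D.tPt χ₀ * (m ^ i)⁻¹ := by
    rw [hit, hit, chT.injective heq]
  refine ⟨l - i, Nat.sub_pos_of_lt hil, fun χ => ?_⟩
  have hc : Commute (D.tPt χ₀) (m ^ (l - i)) := by
    have e : m ^ l = m ^ i * m ^ (l - i) := by rw [← pow_add, Nat.add_sub_cancel' hil.le]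
    rw [e, _root_.mul_inv_rev] at h4
    have h5 : m ^ i * (m ^ (l - i) * D.tPt χ₀ * (m ^ (l - i))⁻¹) * (m ^ i)⁻¹ = m ^ i * D.tPt χ₀ * (m ^ i)⁻¹ := by
      rw [← h4]; group
    exact (mul_inv_eq_iff_eq_mul.mp (mul_left_cancel (mul_right_cancel h5))).symm
  have h6 := hgen (gp (m ^ (l - i))) (by rw [D.chT_torHom]; exact hc.map gp) (chT χ)
  rw [D.chT_torHom] at h6
  exact Commute.of_map gp.injective h6

include hG hT in
/-- A point normalising the torus and centralising the subtorus of the root acts on the root by a sign. -/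
theorem exists_auto (ha : 0 < f (D.α a)) {m : WithConv (A →ₐ[k] k)} (hm : D.InCent a f m)
    (hmT : ∀ χ, ∃ χ', m * D.tPt χ * m⁻¹ = D.tPt χ') :
    ∃ ψ : AddMonoid.End M, (∀ χ, m * D.tPt χ * m⁻¹ = D.tPt (χ.comp ψ.toMultiplicative)) ∧
      (ψ (D.α a) = D.α a ∨ ψ (D.α a) = -D.α a) ∧ (ψ (D.α a) = D.α a → ∃ χ, D.tPt χ = m) := by
  classical
  obtain ⟨ψ, hconj⟩ := D.exists_conj_hom hT hmT
  have hN : ∀ x, D.qLin a f (ψ x) = D.qLin a f x := fun x => by
    refine congrArg Subtype.val (show (D.qLin a f).rangeRestrict (ψ x) = (D.qLin a f).rangeRestrict x from ?_)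
    refine eq_of_forall_char (k := k) fun χ => ?_
    have h := hconj (χ.comp (D.qHom a f))
    rw [(hm χ).eq, mul_inv_cancel_right] at h
    exact (DFunLike.congr_fun (D.tPt_injective h) (Multiplicative.ofAdd x)).symm
  obtain ⟨j, hj, hcommj⟩ := D.exists_pow_commute hG hT hmT
  obtain ⟨χj, hχj⟩ := D.exists_tPt_of_commute hG hT hcommj
  have hpow : ∀ (i : ℕ) (χ : Multiplicative M →* k),
      m ^ i * D.tPt χ * (m ^ i)⁻¹ = D.tPt (χ.comp (ψ ^ i : AddMonoid.End M).toMultiplicative) := fun i => by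
    induction i with
    | zero => intro χ; simp; rfl
    | succ i ih =>
      intro χ
      rw [show m ^ (i + 1) * D.tPt χ * (m ^ (i + 1))⁻¹ = m * (m ^ i * D.tPt χ * (m ^ i)⁻¹) * m⁻¹ by
        rw [pow_succ']; group, ih, hconj]
      congr 1
  have hfix : ∀ x, (ψ ^ j : AddMonoid.End M) x = x := fun x => eq_of_forall_char (k := k) fun χ => by
    have h := hpow j χ
    rw [← hχj, D.tPt_comm, mul_inv_cancel_right] at h
    exact (DFunLike.congr_fun (D.tPt_injective h) (Multiplicative.ofAdd x)).symm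
  have hker : ∀ y, D.qLin a f y = 0 → f (D.α a) • y = f y • D.α a := fun y hy => sub_eq_zero.mp hy
  have hkψ : D.qLin a f (ψ (D.α a)) = 0 := by rw [hN, qLin_root]
  have hGF : ∀ i : ℕ, f ((ψ ^ i : AddMonoid.End M) (D.α a)) * f (D.α a) ^ i = f (D.α a) * f (ψ (D.α a)) ^ i := by
    intro i
    induction i with
    | zero => simp
    | succ i ih =>
      have hk : D.qLin a f ((ψ ^ i : AddMonoid.End M) (D.α a)) = 0 := by
        clear ih
        induction i with
        | zero => exact D.qLin_root a f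
        | succ i ih => rw [pow_succ', AddMonoid.End.coe_mul, Function.comp_apply, hN, ih]
      have h := congrArg (fun y => f (ψ y)) (hker _ hk)
      simp only [map_zsmul, smul_eq_mul] at h
      rw [pow_succ' ψ, AddMonoid.End.coe_mul, Function.comp_apply,
        show f (ψ ((ψ ^ i : AddMonoid.End M) (D.α a))) * f (D.α a) ^ (i + 1) =
          (f (D.α a) * f (ψ ((ψ ^ i : AddMonoid.End M) (D.α a)))) * f (D.α a) ^ i by rw [pow_succ]; ring, h,
        mul_right_comm, ih, pow_succ, _root_.mul_assoc]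
  have hpm : f (ψ (D.α a)) = f (D.α a) ∨ f (ψ (D.α a)) = -f (D.α a) := by
    have h := hGF j
    rw [hfix] at h
    have h' := congrArg Int.natAbs (mul_left_cancel₀ ha.ne' h)
    rw [Int.natAbs_pow, Int.natAbs_pow] at h'
    exact Int.natAbs_eq_natAbs_iff.mp (Nat.pow_left_injective hj.ne' h').symm
  have hcancel : ∀ y z : M, f (D.α a) • y = f (D.α a) • z → y = z := fun y z h => smul_right_injective M ha.ne' h
  have hcases : ψ (D.α a) = D.α a ∨ ψ (D.α a) = -D.α a := by
    rcases hpm with h | h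
    · exact Or.inl (hcancel _ _ (by rw [hker _ hkψ, h]))
    · exact Or.inr (hcancel _ _ (by rw [hker _ hkψ, h, neg_zsmul, zsmul_neg]))
  refine ⟨ψ, hconj, hcases, fun hplus => D.exists_tPt_of_commute hG hT fun χ => ?_⟩
  have hfixN : ∀ y, D.qLin a f y = 0 → ψ y = y := fun y hy => hcancel _ _ (by
    rw [← map_zsmul, hker y hy, map_zsmul, hplus])
  have hid : ∀ x, ψ x = x := fun x => by
    have hy : D.qLin a f (ψ x - x) = 0 := by rw [map_sub, hN, sub_self]
    have hi : ∀ i : ℕ, (ψ ^ i : AddMonoid.End M) x = x + i • (ψ x - x) := fun i => by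
      induction i with
      | zero => simp
      | succ i ih =>
        rw [pow_succ', AddMonoid.End.coe_mul, Function.comp_apply, ih, map_add, map_nsmul, hfixN _ hy, succ_nsmul]
        abel
    have h := hfix x
    rw [hi, add_eq_left] at h
    have h' : (j : ℤ) • (ψ x - x) = 0 := by rw [natCast_zsmul]; exact h
    exact sub_eq_zero.mp ((smul_eq_zero.mp h').resolve_left (by exact_mod_cast hj.ne'))
  have h := hconj χ
  rw [show χ.comp ψ.toMultiplicative = χ from MonoidHom.ext fun x => congrArg χ (congrArg Multiplicative.ofAdd (hid x.toAdd))] at h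
  exact (mul_inv_eq_iff_eq_mul.mp h).symm

end Normaliser

end Chart

end Groth.Agent.RootChartLib
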