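import Groth.Agent.RootChartLib.RankOneDict
import Groth.Agent.TransLib.Centralizer
import Groth.Agent.GModLib.CentralizerScheme
import Groth.Agent.GModLib.ReductiveCentralizer
import Groth.Agent.GModLib.LunaBorel
import Groth.Agent.GModLib.BorelCentralizing
import Groth.Agent.GModLib.TwoFixedPoints
import Groth.Agent.GModLib.ReductiveCartan

/-!
# The rank one group of a root, on rational points
-/

set_option autoImplicit false
set_option backward.isDefEq.respectTransparency false
set_option backward.isDefEq.respectTransparency.types false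

universe u

open CategoryTheory Limits AlgebraicGeometry MonoidalCategory CartesianMonoidalCategory MonObj GrpObj WithConv
open scoped TensorProduct

namespace Groth.Agent.RootChartLib

open GrpSchLib GrpSchLib.AffineHopf GrpSchLib.Kunneth GModLib

variable {k : Type u} [Field k] [IsAlgClosed k]

theorem commute_pts {W G : Over (Spec (CommRingCat.of k))} [GrpObj G] [IsAffine W.left] [Smooth W.hom] [IsAffine G.left]
    (g : VecGrp.pt k k ⟶ G) (i : W ⟶ G) (h : ∀ p : VecGrp.pt k k ⟶ W, Commute g (p ≫ i))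
    {X : Over (Spec (CommRingCat.of k))} (s : X ⟶ VecGrp.pt k k) (x : X ⟶ W) : Commute (s ≫ g) (x ≫ i) := by
  haveI : IsReduced W.left := GrpSchLib.isReduced_of_smooth_field W.hom
  let g₀ : W ⟶ G := toUnit W ≫ toPt _ ≫ g
  have e : g₀ * i = i * g₀ := by
    refine LineGroups.ext_ev (AlgHom.ext fun f => ?_)
    refine sub_eq_zero.mp (by_contra fun hne => ?_)
    have hU : (W.left.basicOpen (ev (g₀ * i) f - ev (i * g₀) f) : Set W.left).Nonempty := by
      by_contra h0
      rw [Set.not_nonempty_iff_eq_empty] at h0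
      exact hne ((basicOpen_eq_bot_iff _).mp (TopologicalSpace.Opens.ext (h0.trans (by simp))))
    obtain ⟨x₀, hx₀⟩ := hU
    obtain ⟨p, hp⟩ := exists_point_mem (D := W) (W.left.basicOpen _).isOpen ⟨x₀, hx₀⟩
    refine (mem_basicOpen_iff p _).mp hp ?_
    have hg : p ≫ g₀ = g := by
      show p ≫ toUnit W ≫ toPt _ ≫ g = g
      rw [← Category.assoc, ← Category.assoc, toUnit_unique (p ≫ toUnit W) (toUnit _), toUnit_toPt, Category.id_comp]
    rw [map_sub, pullFn_ev, pullFn_ev, MonObj.comp_mul, MonObj.comp_mul, hg, (h p).eq, sub_self]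
  have hs : x ≫ g₀ = s ≫ g := by
    show x ≫ toUnit W ≫ toPt _ ≫ g = s ≫ g
    rw [← Category.assoc, ← Category.assoc, toUnit_unique (x ≫ toUnit W) (s ≫ toUnit _), Category.assoc s, toUnit_toPt,
      Category.comp_id]
  have h1 := congrArg (x ≫ ·) e
  simp only [MonObj.comp_mul, hs] at h1
  exact h1

/-- The points of a closed subscheme are the points killing its equations. -/
theorem exists_point_of_kills {Z G : Over (Spec (CommRingCat.of k))} [GrpObj Z] [IsAffine G.left] [Smooth Z.hom]
    (i : Z ⟶ G) [IsClosedImmersion i.left] (g : VecGrp.pt k k ⟶ G) (h : ∀ f, ev i f = 0 → pullFn g f = 0) :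
    ∃ z : VecGrp.pt k k ⟶ Z, z ≫ i = g := by
  haveI : IsAffine Z.left := isAffine_of_isAffineHom i.left
  have hs : Function.Surjective (ev i : Fn G →ₐ[k] Fn Z) := i.left.app_surjective ⊤ (isAffineOpen_top _)
  obtain ⟨z, hz⟩ := exists_point_of_algHom (G := Z) (AlgHom.liftOfSurjective (ev i) hs (pullFn g) h)
  refine ⟨z, ?_⟩
  refine Over.OverMorphism.ext (ext_of_isAffine ?_)
  have h1 : ∀ f, pullFn (z ≫ i) f = pullFn g f := fun f => by
    rw [← pullFn_ev, hz, AlgHom.liftOfSurjective_apply]
  ext f
  exact (Scheme.ΓSpecIso (CommRingCat.of k)).commRingCatIsoToRingEquiv.injective (h1 f)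

namespace Chart

variable {A : Type u} [CommRing A] [HopfAlgebra k A] {M : Type} [AddCommGroup M] [Module.Free ℤ M] [Module.Finite ℤ M]
  {idx : Type} (D : Chart k A M idx) (a : idx) (f : M →+ ℤ)

/-- The map killing exactly the multiples of the root. -/
noncomputable def qLin : M →ₗ[ℤ] M :=
  (f (D.α a)) • LinearMap.id - f.toIntLinearMap.smulRight (D.α a)

theorem qLin_apply (x : M) : D.qLin a f x = f (D.α a) • x - f x • D.α a := rfl

theorem qLin_root : D.qLin a f (D.α a) = 0 := by rw [qLin_apply, sub_self]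

/-- Characters killing the multiples of the root. -/
noncomputable def qHom : Multiplicative M →* Multiplicative ↥(LinearMap.range (D.qLin a f)) :=
  (D.qLin a f).rangeRestrict.toAddMonoidHom.toMultiplicative

/-- The subtorus of the root. -/
noncomputable def subTor : A →ₐc[k] MonoidAlgebra k (Multiplicative ↥(LinearMap.range (D.qLin a f))) :=
  (MonoidAlgebra.mapDomainBialgHom k (D.qHom a f)).comp D.tor

theorem chT_subTor (χ : Multiplicative ↥(LinearMap.range (D.qLin a f)) →* k) :
    chT χ ≫ spMap (D.subTor a f : A →ₐ[k] MonoidAlgebra k (Multiplicative ↥(LinearMap.range (D.qLin a f)))) =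
      gp (D.tPt (χ.comp (D.qHom a f))) := by
  rw [chT_eq, spMap_comp, gp_eq]
  congr 1
  refine AlgHom.ext fun x => ?_
  show MonoidAlgebra.lift k k _ χ (MonoidAlgebra.mapDomainBialgHom k (D.qHom a f) (D.tor x)) =
    MonoidAlgebra.lift k k _ (χ.comp (D.qHom a f)) (D.tor x)
  induction D.tor x using MonoidAlgebra.induction_linear with
  | zero => simp
  | add p q hp hq => simp only [map_add, hp, hq]
  | single m r => simp

theorem subTor_surjective : Function.Surjective (D.subTor a f) := fun p => by
  obtain ⟨p', rfl⟩ : ∃ p', MonoidAlgebra.mapDomainBialgHom k (D.qHom a f) p' = p := by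
    induction p using MonoidAlgebra.induction_linear with
    | zero => exact ⟨0, map_zero _⟩
    | add p q hp hq =>
      obtain ⟨p', rfl⟩ := hp
      obtain ⟨q', rfl⟩ := hq
      exact ⟨p' + q', map_add _ _ _⟩
    | single m r =>
      obtain ⟨x, hx⟩ := (D.qLin a f).surjective_rangeRestrict m.toAdd
      refine ⟨MonoidAlgebra.single (Multiplicative.ofAdd x) r, ?_⟩
      rw [MonoidAlgebra.mapDomainBialgHom_single]
      exact congrArg (fun z => MonoidAlgebra.single z r) (congrArg Multiplicative.ofAdd hx)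
  obtain ⟨x, hx⟩ := D.tor_surj p'
  exact ⟨x, congrArg (MonoidAlgebra.mapDomainBialgHom k (D.qHom a f)) hx⟩

/-- Points commuting with the subtorus of the root. -/
def InCent (g : WithConv (A →ₐ[k] k)) : Prop :=
  ∀ χ : Multiplicative ↥(LinearMap.range (D.qLin a f)) →* k, Commute g (D.tPt (χ.comp (D.qHom a f)))

variable [Algebra.Smooth k A]

/-- The centraliser of the subtorus of the root is reductive. -/
theorem exists_cent (hG : Red.IsReductiveOver k (sp k A)) :
    ∃ (Z : Over (Spec (CommRingCat.of k))) (_ : GrpObj Z) (c : Z ⟶ sp k A) (_ : IsMonHom c),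
      IsClosedImmersion c.left ∧ Red.IsReductiveOver k Z ∧
      (∀ g, (∃ z : VecGrp.pt k k ⟶ Z, z ≫ c = gp g) ↔ D.InCent a f g) ∧
      ∀ (T : Over (Spec (CommRingCat.of k))) (i : T ⟶ sp k A) [IsAffine T.left] [Smooth T.hom],
        (∀ t : VecGrp.pt k k ⟶ T, ∃ z : VecGrp.pt k k ⟶ Z, z ≫ c = t ≫ i) → ∃ u, u ≫ c = i := by
  let iS : torSp k ↥(LinearMap.range (D.qLin a f)) ⟶ sp k A :=
    spMap (D.subTor a f : A →ₐ[k] MonoidAlgebra k (Multiplicative ↥(LinearMap.range (D.qLin a f))))
  haveI : IsMonHom iS := isMonHom_spMap _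
  haveI : IsClosedImmersion iS.left := IsClosedImmersion.spec_of_surjective _ (D.subTor_surjective a f)
  haveI : Mono iS := Over.mono_of_mono_left iS
  have hS : Red.IsTorus (torSp k ↥(LinearMap.range (D.qLin a f))) := isTorus_torSp
  obtain ⟨h1, h2, h3, -, -⟩ := TorusBasic.torus_props hS
  haveI := h1; haveI := h2
  haveI := hG.2.1
  obtain ⟨Z, _, c, hcm, hcc, hc⟩ := TransLib.exists_centralizer iS
  haveI := hcm; haveI := hcc
  haveI : Mono c := Over.mono_of_mono_left c
  have hcc' : Red.IsCentralizerOf iS c := ⟨hcm, inferInstance, fun X g => (hc X g).trans Iff.rfl⟩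
  refine ⟨Z, inferInstance, c, hcm, hcc, isReductiveOver_centralizer hG iS hS c hcc', fun g => ⟨?_, fun h => ?_⟩,
    fun T i _ _ h => ?_⟩
  · rintro ⟨z, hz⟩ χ
    have h' := (hc _ _).mp ⟨z, hz⟩ _ (𝟙 _) (chT χ)
    rw [Category.id_comp, D.chT_subTor] at h'
    exact gp.injective (by rw [map_mul, map_mul]; exact h'.eq)
  · refine (hc _ _).mpr fun X s x => commute_pts (gp g) iS (fun p => ?_) s x
    obtain ⟨χ, rfl⟩ := chT.surjective p
    rw [D.chT_subTor]
    exact (h χ).map gp
  · haveI : IsReduced T.left := GrpSchLib.isReduced_of_smooth_field T.hom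
    exact exists_factor_of_points c i fun p => h p

variable {D a f}

theorem InCent.mul {g h : WithConv (A →ₐ[k] k)} (hg : D.InCent a f g) (hh : D.InCent a f h) : D.InCent a f (g * h) :=
  fun χ => (hg χ).mul_left (hh χ)

theorem InCent.inv {g : WithConv (A →ₐ[k] k)} (hg : D.InCent a f g) : D.InCent a f g⁻¹ := fun χ => (hg χ).inv_left

variable (D a f) [Module.IsTorsionFree ℤ M] [Fintype idx]

theorem inCent_tPt (χ : Multiplicative M →* k) : D.InCent a f (D.tPt χ) := fun _ => D.tPt_comm _ _

theorem inCent_rPt {r : idx} (hr : D.qLin a f (D.α r) = 0) (x : k) : D.InCent a f (D.rPt r x) := fun χ => by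
  have h := D.tPt_conj r (χ.comp (D.qHom a f)) x
  have h1 : D.qHom a f (Multiplicative.ofAdd (D.α r)) = 1 := congrArg Multiplicative.ofAdd (Subtype.ext hr)
  rw [MonoidHom.comp_apply, h1, map_one, _root_.one_mul] at h
  exact (mul_inv_eq_iff_eq_mul.mp h).symm

/-- Coordinates of a point of the centraliser vanish outside the multiples of the root. -/
theorem coord_eq_zero_of_inCent {n : ℕ} (e : Fin n → idx) (he : Function.Injective e) (hp : ∀ i, 0 < f (D.α (e i)))
    (c : Fin n → k) (hc : D.InCent a f (D.prodPt e c)) (i : Fin n) (hi : D.qLin a f (D.α (e i)) ≠ 0) : c i = 0 := by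
  obtain ⟨χ, hχ⟩ := exists_char_ne_one (k := k) (M := ↥(LinearMap.range (D.qLin a f)))
    (x := (D.qLin a f).rangeRestrict (D.α (e i))) (fun h => hi (congrArg Subtype.val h))
  have h := D.prodPt_conj (χ.comp (D.qHom a f)) e c
  rw [← (hc χ).eq, mul_inv_cancel_right] at h
  have h1 := congrFun (D.prodPt_injective f e hp he h) i
  by_contra hne
  exact hχ (mul_right_cancel₀ hne ((_root_.one_mul (c i)).trans h1).symm)

end Chart

end Groth.Agent.RootChartLib
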