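import Groth.Agent.RootChartLib.ClosedTors
import Groth.Agent.GModLib.PtSubgroup
import Groth.Agent.GModLib.TorusBasic
import Groth.Agent.Chevalley.CommAff.Torus
import Groth.Agent.GModLib.Cocompact
import Mathlib.LinearAlgebra.Dual.Lemmas

/-!
# Points of a chart over an algebraically closed field as rational points of a group scheme
-/

set_option autoImplicit false
set_option backward.isDefEq.respectTransparency false
set_option backward.isDefEq.respectTransparency.types false

universe u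

open CategoryTheory Limits AlgebraicGeometry MonoidalCategory CartesianMonoidalCategory MonObj GrpObj WithConv
open scoped TensorProduct

namespace Groth.Agent.RootChartLib

open GrpSchLib GrpSchLib.AffineHopf GrpSchLib.Kunneth GModLib

variable {k : Type u} [Field k] {A : Type u} [CommRing A] [HopfAlgebra k A]

/-- Points with values in the field, as rational points. -/
noncomputable def gp : WithConv (A →ₐ[k] k) ≃* (VecGrp.pt k k ⟶ sp k A) :=
  Spec.mapMulEquiv

theorem gp_eq (g : WithConv (A →ₐ[k] k)) : gp g = spMap g.ofConv := rfl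

/-- An element of the algebra as a function. -/
noncomputable def fnA (a : A) : Fn (sp k A) := (Scheme.ΓSpecIso (CommRingCat.of A)).inv a

theorem pullFn_gp (g : WithConv (A →ₐ[k] k)) (a : A) : pullFn (gp g) (fnA a) = g.ofConv a := by
  rw [pullFn_apply, gp_eq]
  show (Scheme.ΓSpecIso (CommRingCat.of k)).hom ((Spec.map (CommRingCat.ofHom g.ofConv.toRingHom)).appTop
    ((Scheme.ΓSpecIso (CommRingCat.of A)).inv a)) = _
  rw [← CommRingCat.comp_apply, Scheme.ΓSpecIso_naturality, CommRingCat.comp_apply, ← CommRingCat.comp_apply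
    (Scheme.ΓSpecIso (CommRingCat.of A)).inv, Iso.inv_hom_id]
  rfl

theorem gp_symm_ofConv (g : VecGrp.pt k k ⟶ sp k A) (a : A) : (gp.symm g).ofConv a = pullFn g (fnA a) := by
  rw [← pullFn_gp, MulEquiv.apply_symm_apply]

variable {M : Type} [AddCommGroup M]

/-- The torus of a chart. -/
noncomputable abbrev torSp (k : Type u) [Field k] (M : Type) [AddCommGroup M] : Over (Spec (CommRingCat.of k)) :=
  sp k (MonoidAlgebra k (Multiplicative M))

/-- The points of the torus. -/
noncomputable def chT : (Multiplicative M →* k) ≃ (VecGrp.pt k k ⟶ torSp k M) :=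
  (MonoidAlgebra.lift k k (Multiplicative M)).trans ((WithConv.equiv _).symm.trans gp.toEquiv)

theorem chT_eq (χ : Multiplicative M →* k) : chT χ = spMap (MonoidAlgebra.lift k k (Multiplicative M) χ) := rfl

theorem isTorus_torSp [Module.Free ℤ M] [Module.Finite ℤ M] : Red.IsTorus (torSp k M) := by
  let e₀ : Multiplicative M ≃* Multiplicative (Fin (Module.finrank ℤ M) → ℤ) :=
    (Module.finBasis ℤ M).equivFun.toAddEquiv.toMultiplicative
  let e₁ : MonoidAlgebra k (Multiplicative M) →ₐc[k] MonoidAlgebra k (Multiplicative (Fin (Module.finrank ℤ M) → ℤ)) :=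
    MonoidAlgebra.mapDomainBialgHom k e₀.toMonoidHom
  have hb : Function.Bijective e₁ := by
    refine ⟨MonoidAlgebra.mapDomain_injective e₀.injective, fun p => ⟨MonoidAlgebra.mapDomain e₀.symm p, ?_⟩⟩
    show MonoidAlgebra.mapDomain e₀ (MonoidAlgebra.mapDomain e₀.symm p) = p
    induction p using MonoidAlgebra.induction_linear with
    | zero => simp
    | add a b ha hb => simp [MonoidAlgebra.mapDomain_add, ha, hb]
    | single m r => simp
  exact Chevalley.CommAff.isTorus_sp k (BialgEquiv.ofBijective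
    (e₁.comp (Bialgebra.TensorProduct.lid k (MonoidAlgebra k (Multiplicative M))).toBialgHom)
    (hb.comp (Bialgebra.TensorProduct.lid k (MonoidAlgebra k (Multiplicative M))).bijective))

/-- A free abelian group has enough characters. -/
theorem exists_char_ne_one [Infinite k] [Module.Free ℤ M] [Module.Finite ℤ M] {x : M} (hx : x ≠ 0) :
    ∃ χ : Multiplicative M →* k, χ (Multiplicative.ofAdd x) ≠ 1 := by
  obtain ⟨d, hd⟩ : ∃ d : M →+ ℤ, d x ≠ 0 := by
    by_contra h
    push Not at h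
    exact hx ((Module.forall_dual_apply_eq_zero_iff ℤ x).mp fun φ => h φ.toAddMonoidHom)
  have hfin : {z : kˣ | z ^ (d x).natAbs = 1}.Finite := by
    refine ((Polynomial.finite_setOf_isRoot (p := Polynomial.X ^ (d x).natAbs - Polynomial.C (1 : k))
      (Polynomial.X_pow_sub_C_ne_zero (Int.natAbs_pos.mpr hd) 1)).preimage (f := fun z : kˣ => (z : k))
      fun a _ b _ h => Units.ext h).subset fun z (hz : z ^ (d x).natAbs = 1) => ?_
    show Polynomial.IsRoot _ (z : k)
    have := congrArg Units.val hz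
    simp only [Units.val_pow_eq_pow_val, Units.val_one] at this
    simp [this]
  haveI : Infinite kˣ := by
    refine ⟨fun hf => ?_⟩
    exact (Set.infinite_univ (α := k)) (((Set.finite_range (Units.val : kˣ → k)).union (Set.finite_singleton 0)).subset
      fun y _ => by by_cases hy : y = 0; exact Or.inr hy; exact Or.inl ⟨Units.mk0 y hy, rfl⟩)
  obtain ⟨z, hz⟩ := hfin.infinite_compl.nonempty
  refine ⟨(Units.coeHom k).comp ((zpowersHom kˣ z).comp d.toMultiplicative), fun h => hz ?_⟩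
  show z ^ (d x).natAbs = 1
  have h1 : z ^ d x = 1 := Units.ext h
  exact pow_natAbs_eq_one.mpr h1

/-- A finite subgroup of an infinite field cannot have finitely many cosets. -/
theorem infinite_of_cover [Infinite k] {s : Finset k} {H : AddSubgroup k} (h : ∀ x, ∃ r ∈ s, x - r ∈ H) :
    (H : Set k).Infinite := fun hf => by
  refine (Set.infinite_univ (α := k)) (((s : Set k).toFinite.prod hf).image (fun p : k × k => p.1 + p.2) |>.subset
    fun x _ => ?_)
  obtain ⟨r, hr, hx⟩ := h x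
  exact ⟨(r, x - r), ⟨hr, hx⟩, add_sub_cancel r x⟩

/-- A polynomial in at least two variables with a zero has infinitely many zeros. -/
theorem infinite_zeros {k : Type u} [Field k] [IsAlgClosed k] {m : ℕ} (hm : 2 ≤ m) (P : MvPolynomial (Fin m) k)
    {c₀ : Fin m → k} (h0 : MvPolynomial.eval c₀ P = 0) : {c : Fin m → k | MvPolynomial.eval c P = 0}.Infinite := by
  classical
  obtain ⟨n, rfl⟩ : ∃ n, m = n + 1 := ⟨m - 1, by omega⟩
  obtain ⟨j, rfl⟩ : ∃ j, n = j + 1 := ⟨n - 1, by omega⟩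
  intro hfin
  let Q : Polynomial (MvPolynomial (Fin (j + 1)) k) := MvPolynomial.finSuccEquiv k (j + 1) P
  have hQ : ∀ (x : k) (c : Fin (j + 1) → k),
      MvPolynomial.eval (Fin.cons x c) P = (Q.map (MvPolynomial.eval c)).eval x := fun x c =>
    MvPolynomial.eval_eq_eval_mv_eval' _ _ _
  let T : Set (Fin (j + 1) → k) := Fin.tail '' {c : Fin (j + 2) → k | MvPolynomial.eval c P = 0}
  have hT : T.Finite := hfin.image _
  let W : MvPolynomial (Fin (j + 1)) k := ∏ v ∈ hT.toFinset, (MvPolynomial.X 0 - MvPolynomial.C (v 0))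
  have hhigh : ∀ i, i ≠ 0 → Q.coeff i = 0 := fun i hi => by
    have hW : W ≠ 0 := Finset.prod_ne_zero_iff.mpr fun v _ h => by
      have := congrArg (MvPolynomial.coeff (Finsupp.single (0 : Fin (j + 1)) 1)) h
      simp [MvPolynomial.coeff_X', MvPolynomial.coeff_C, Finsupp.single_eq_zero, eq_comm] at this
    refine (mul_eq_zero.mp ?_).resolve_left hW
    refine MvPolynomial.funext fun c => ?_
    rw [map_mul, map_zero, mul_eq_zero]
    by_cases hc : c ∈ T
    · left
      rw [map_prod]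
      exact Finset.prod_eq_zero (hT.mem_toFinset.mpr hc) (by simp)
    · right
      have hnz : ∀ x : k, (Q.map (MvPolynomial.eval c)).eval x ≠ 0 := fun x hx =>
        hc ⟨Fin.cons x c, by show MvPolynomial.eval _ P = 0; rw [hQ, hx], by simp⟩
      have hdeg : (Q.map (MvPolynomial.eval c)).degree ≤ 0 := by
        by_contra h
        obtain ⟨x, hx⟩ := IsAlgClosed.exists_root (Q.map (MvPolynomial.eval c)) (fun e => h (le_of_eq e))
        exact hnz x hx
      have := congrArg (fun p : Polynomial k => p.coeff i) (Polynomial.eq_C_of_degree_le_zero hdeg)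
      simpa [Polynomial.coeff_map, Polynomial.coeff_C, hi] using this
  have hC : Q = Polynomial.C (Q.coeff 0) := Polynomial.ext fun i => by
    by_cases hi : i = 0
    · subst hi; simp
    · rw [hhigh i hi, Polynomial.coeff_C, if_neg hi]
  refine (Set.infinite_range_of_injective (f := fun x : k => (Fin.cons x (Fin.tail c₀) : Fin (j + 2) → k))
    fun x y h => by simpa using congrFun h 0) (hfin.subset ?_)
  rintro _ ⟨x, rfl⟩
  show MvPolynomial.eval _ P = 0
  rw [← h0, ← Fin.cons_self_tail c₀, hQ, hQ, hC]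
  simp

namespace Chart

variable {idx : Type} (D : Chart k A M idx)

/-- The torus of a chart in the group. -/
noncomputable abbrev torHom : torSp k M ⟶ sp k A := spMap (D.tor : A →ₐ[k] MonoidAlgebra k (Multiplicative M))

theorem chT_torHom (χ : Multiplicative M →* k) : chT χ ≫ D.torHom = gp (D.tPt χ) := by
  rw [chT_eq, spMap_comp]
  rfl

theorem isClosedImmersion_torHom : IsClosedImmersion D.torHom.left :=
  IsClosedImmersion.spec_of_surjective _ D.tor_surj

theorem mem_torHom_iff (g : WithConv (A →ₐ[k] k)) :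
    (∃ t : VecGrp.pt k k ⟶ torSp k M, t ≫ D.torHom = gp g) ↔ ∃ χ, D.tPt χ = g := by
  constructor
  · rintro ⟨t, ht⟩
    obtain ⟨χ, rfl⟩ := chT.surjective t
    exact ⟨χ, gp.injective ((D.chT_torHom χ).symm.trans ht)⟩
  · rintro ⟨χ, rfl⟩
    exact ⟨chT χ, D.chT_torHom χ⟩

variable [Module.Free ℤ M] [Module.Finite ℤ M] [Algebra.Smooth k A] [Fintype idx]

/-- The points of a contracted group have solvable derived series. -/
theorem exists_derivedSeries_eq_bot (hD : D.GeomFibres) (f : M →+ ℤ) (hf : ∀ r, f (D.α r) ≠ 0)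
    (P : Subgroup (WithConv (A →ₐ[k] k))) (hP : ∀ g ∈ P, D.IsP f g) : ∃ n, derivedSeries P n = ⊥ := by
  classical
  let Ψ : Set idx := {r | 0 < f (D.α r)}
  have hpos : ∀ r ∈ Ψ, 0 < f (D.α r) := fun r hr => hr
  have hcl : ∀ (r a b : idx) (i j : ℕ), a ∈ Ψ → b ∈ Ψ → 1 ≤ i → 1 ≤ j → D.α r = i • D.α a + j • D.α b → r ∈ Ψ := by
    intro r a b i j ha hb hi hj h
    show 0 < f (D.α r)
    rw [h, map_add, map_nsmul, map_nsmul, nsmul_eq_mul, nsmul_eq_mul]
    have h1 : (1 : ℤ) ≤ (i : ℤ) := by exact_mod_cast hi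
    have h2 : (0 : ℤ) ≤ (j : ℤ) := Int.natCast_nonneg j
    have := mul_nonneg h2 (le_of_lt (hpos b hb))
    nlinarith [hpos a ha]
  obtain ⟨m, e, he, hrange⟩ : ∃ (m : ℕ) (e : Fin m → idx), Function.Injective e ∧ ∀ r, r ∈ Set.range e ↔ r ∈ Ψ :=
    ⟨_, exists_enum fun r => r ∈ Ψ⟩
  have hdec : ∀ g ∈ P, ∃ χ, ∃ v ∈ D.span Ψ k, D.tPt χ * v = g := fun g hg => by
    obtain ⟨χ, c, h⟩ := D.exists_tPt_mul_prodPt f hD hf e (fun i => (hrange _).mp ⟨i, rfl⟩) he
      (fun r hr => (hrange r).mpr hr) (hP g hg)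
    exact ⟨χ, _, D.prodPt_mem e c fun i => D.rPt_mem_span ((hrange _).mp ⟨i, rfl⟩) _, h⟩
  have hconj : ∀ χ, ∀ v ∈ D.span Ψ k, D.tPt χ * v * (D.tPt χ)⁻¹ ∈ D.span Ψ k := fun χ v hv =>
    D.tPt_conj_mem_span χ hv
  have hcomm : ∀ g ∈ P, ∀ h ∈ P, g * h * g⁻¹ * h⁻¹ ∈ D.span Ψ k := fun g hg h hh => by
    obtain ⟨χ, v, hv, rfl⟩ := hdec g hg
    obtain ⟨χ', v', hv', rfl⟩ := hdec h hh
    have e : D.tPt χ * v * (D.tPt χ' * v') * (D.tPt χ * v)⁻¹ * (D.tPt χ' * v')⁻¹ =
        (D.tPt χ * v * (D.tPt χ)⁻¹) * (D.tPt χ * D.tPt χ') * (v' * v⁻¹) * (D.tPt χ)⁻¹ * v'⁻¹ * (D.tPt χ')⁻¹ := by group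
    have e2 : (D.tPt χ * v * (D.tPt χ)⁻¹) * (D.tPt χ * D.tPt χ') * (v' * v⁻¹) * (D.tPt χ)⁻¹ * v'⁻¹ * (D.tPt χ')⁻¹ =
        (D.tPt χ * v * (D.tPt χ)⁻¹) * ((D.tPt χ * D.tPt χ') * (v' * v⁻¹) * (D.tPt χ * D.tPt χ')⁻¹) *
          (D.tPt χ * D.tPt χ' * (D.tPt χ)⁻¹ * v'⁻¹ * (D.tPt χ')⁻¹) := by group
    rw [e, e2]
    refine Subgroup.mul_mem _ (Subgroup.mul_mem _ (hconj χ v hv) ?_) ?_
    · rw [← tPt_mul]
      exact hconj _ _ (Subgroup.mul_mem _ hv' (Subgroup.inv_mem _ hv))
    · rw [D.tPt_comm χ χ', mul_inv_cancel_right]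
      exact hconj χ' _ (Subgroup.inv_mem _ hv')
  have hstep : ∀ n : ℕ, (derivedSeries P (n + 1)).map P.subtype ≤ D.lev Ψ f k ((n : ℤ) + 1) := by
    intro n
    induction n with
    | zero =>
      rw [derivedSeries_succ, derivedSeries_zero, Nat.cast_zero, zero_add, ← D.span_eq_lev hpos,
        Subgroup.map_le_iff_le_comap, Subgroup.commutator_le]
      intro g _ h _
      rw [Subgroup.mem_comap]
      simpa [commutatorElement_def] using hcomm g.1 g.2 h.1 h.2
    | succ n ih =>
      rw [derivedSeries_succ, Subgroup.map_le_iff_le_comap, Subgroup.commutator_le]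
      intro g hg h hh
      have h1 : g.1 ∈ D.lev Ψ f k ((n : ℤ) + 1) := ih ⟨g, hg, rfl⟩
      have h2 : h.1 ∈ D.lev Ψ f k ((n : ℤ) + 1) := ih ⟨h, hh, rfl⟩
      have h3 := D.comm_mem hpos hD hcl _ g.1 (D.lev_le_span _ h1) h.1 h2
      rw [Subgroup.mem_comap]
      push_cast
      simpa [commutatorElement_def] using h3
  refine ⟨(∑ r, |f (D.α r)|).toNat + 1, ?_⟩
  have hbot : D.lev Ψ f k (((∑ r, |f (D.α r)|).toNat : ℤ) + 1) = ⊥ := by
    rw [eq_bot_iff, lev, Subgroup.closure_le]
    rintro _ ⟨r, -, hr, -⟩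
    exfalso
    have h1 := Finset.single_le_sum (fun s _ => abs_nonneg (f (D.α s))) (Finset.mem_univ r)
    have h2 := le_abs_self (f (D.α r))
    omega
  refine (Subgroup.map_eq_bot_iff_of_injective _ P.subtype_injective).mp (eq_bot_iff.mpr ?_)
  exact (hstep _).trans hbot.le

end Chart

end Groth.Agent.RootChartLib
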