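import Groth.Agent.RootChartLib.RankOne

/-!
# Only one positive root is proportional to a given one
-/

set_option autoImplicit false
set_option backward.isDefEq.respectTransparency false
set_option backward.isDefEq.respectTransparency.types false

universe u

open CategoryTheory Limits AlgebraicGeometry MonoidalCategory CartesianMonoidalCategory MonObj GrpObj WithConv
open scoped TensorProduct

namespace Groth.Agent.RootChartLib

open GrpSchLib GrpSchLib.AffineHopf GrpSchLib.Kunneth GModLib DynLib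

variable {k : Type u} [Field k] [IsAlgClosed k] {A : Type u} [CommRing A] [HopfAlgebra k A]

theorem fnA_surjective : Function.Surjective (fnA : A → Fn (sp k A)) := fun F =>
  ⟨(Scheme.ΓSpecIso (CommRingCat.of A)).hom F, by
    show ((Scheme.ΓSpecIso (CommRingCat.of A)).hom ≫ (Scheme.ΓSpecIso (CommRingCat.of A)).inv) F = F
    rw [Iso.hom_inv_id]
    rfl⟩

namespace Chart

variable {M : Type} [AddCommGroup M] [Module.Free ℤ M] [Module.Finite ℤ M] [Module.IsTorsionFree ℤ M]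
  [Algebra.Smooth k A]
  {idx : Type} [Fintype idx] (D : Chart k A M idx) (a : idx) (f : M →+ ℤ) (hD : D.GeomFibres)
  (hf : ∀ r, f (D.α r) ≠ 0)

include hD hf in
/-- Contracted points of invertible order are trivial. -/
theorem eq_one_of_isU_torsion {v : WithConv (A →ₐ[k] k)} (hv : D.IsU f v) {n : ℕ} (hn : (n : k) ≠ 0) (h : v ^ n = 1) :
    v = 1 := by
  classical
  obtain ⟨m, e, he, hrange⟩ : ∃ (m : ℕ) (e : Fin m → idx), Function.Injective e ∧
      ∀ r, r ∈ Set.range e ↔ 0 < f (D.α r) := ⟨_, exists_enum fun r => 0 < f (D.α r)⟩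
  have _hf := hf
  have hpe : ∀ i, 0 < f (D.α (e i)) := fun i => (hrange _).mp ⟨i, rfl⟩
  obtain ⟨c, rfl⟩ := D.exists_prodPt f hD e hpe he (fun r hr => (hrange r).mpr hr) hv
  refine D.torsion_eq_one (Ψ := {r | 0 < f (D.α r)}) (f := f) (fun r hr => hr) hD
    (fun r p q i j hp hq hi hj hr => ?_) (D.prodPt_mem e c fun i => D.rPt_mem_span (hpe i) _) (IsUnit.mk0 _ hn) h
  show 0 < f (D.α r)
  rw [hr, map_add, map_nsmul, map_nsmul, nsmul_eq_mul, nsmul_eq_mul]
  have h1 : (1 : ℤ) ≤ (i : ℤ) := by exact_mod_cast hi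
  have h3 : (0 : ℤ) < f (D.α p) := hp
  have h4 : (0 : ℤ) < f (D.α q) := hq
  have := mul_nonneg (Int.natCast_nonneg j) (le_of_lt h4)
  nlinarith

include hD hf in
/-- A contracted point of the centraliser lies in every subgroup containing the proportional positive root groups. -/
theorem mem_of_isU_inCent {K : Subgroup (WithConv (A →ₐ[k] k))}
    (hK : ∀ r, 0 < f (D.α r) → D.qLin a f (D.α r) = 0 → ∀ x : k, D.rPt r x ∈ K)
    {v : WithConv (A →ₐ[k] k)} (hv : D.IsU f v) (hc : D.InCent a f v) : v ∈ K := by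
  classical
  obtain ⟨m, e, he, hrange⟩ : ∃ (m : ℕ) (e : Fin m → idx), Function.Injective e ∧
      ∀ r, r ∈ Set.range e ↔ 0 < f (D.α r) := ⟨_, exists_enum fun r => 0 < f (D.α r)⟩
  have _hf := hf
  have hpe : ∀ i, 0 < f (D.α (e i)) := fun i => (hrange _).mp ⟨i, rfl⟩
  obtain ⟨c, rfl⟩ := D.exists_prodPt f hD e hpe he (fun r hr => (hrange r).mpr hr) hv
  refine D.prodPt_mem e c fun i => ?_
  by_cases h : D.qLin a f (D.α (e i)) = 0
  · exact hK _ (hpe i) h _
  · rw [D.coord_eq_zero_of_inCent a f e he hpe c hc i h, rPt_zero]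
    exact K.one_mem

variable {Z : Over (Spec (CommRingCat.of k))} [GrpObj Z] (c : Z ⟶ sp k A) [IsMonHom c]

/-- The points of a subgroup in the chart. -/
noncomputable def ptsIn {B : Over (Spec (CommRingCat.of k))} [GrpObj B] (i : B ⟶ sp k A) [IsMonHom i] :
    Subgroup (WithConv (A →ₐ[k] k)) :=
  (pushPt i).range.comap gp.toMonoidHom

omit [Module.Free ℤ M] [Module.Finite ℤ M] [Module.IsTorsionFree ℤ M] [Algebra.Smooth k A] [Fintype idx] in
theorem mem_ptsIn {B : Over (Spec (CommRingCat.of k))} [GrpObj B] (i : B ⟶ sp k A) [IsMonHom i]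
    {g : WithConv (A →ₐ[k] k)} : g ∈ ptsIn i ↔ ∃ b : VecGrp.pt k k ⟶ B, b ≫ i = gp g := Iff.rfl

variable [IsClosedImmersion c.left] (hZ : Red.IsReductiveOver k Z)
  (hc : ∀ g, (∃ z : VecGrp.pt k k ⟶ Z, z ≫ c = gp g) ↔ D.InCent a f g)
  (iT : torSp k M ⟶ Z) [IsMonHom iT] (hiT : iT ≫ c = D.torHom)

include hZ in
omit [Module.IsTorsionFree ℤ M] [Fintype idx] in
/-- A solvable closed group of points lies, up to finite index, in a Borel subgroup. -/
theorem exists_borel_of_points (Hs : Subgroup (VecGrp.pt k k ⟶ Z)) (F : Set (Fn Z))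
    (hF : ∀ g, g ∈ Hs ↔ ∀ F' ∈ F, pullFn g F' = 0) {N : ℕ} (hsol : derivedSeries Hs N = ⊥) :
    ∃ (B : Over (Spec (CommRingCat.of k))) (_ : GrpObj B) (iB : B ⟶ Z), Red.IsBorelOver k iB ∧
      ((∀ χ, chT χ ≫ iT ∈ Hs) → ∀ χ, ∃ b : VecGrp.pt k k ⟶ B, b ≫ iB = chT χ ≫ iT) ∧
      ∀ r, (∀ y : k, ∃ z ∈ Hs, z ≫ c = gp (D.rPt r y)) → ∀ x : k,
        ∃ b : VecGrp.pt k k ⟶ B, b ≫ iB ≫ c = gp (D.rPt r x) := by
  classical
  obtain ⟨haff, hsm, hcn, -⟩ := hZ
  haveI := haff; haveI := hsm; haveI := hcn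
  haveI : Mono c := Over.mono_of_mono_left c
  obtain ⟨h1, h2, h3, -, -⟩ := TorusBasic.torus_props (isTorus_torSp (k := k) (M := M))
  haveI := h1; haveI := h2; haveI := h3
  obtain ⟨H, _, iH, _, hHc, hHs, hHn, hHmem, -, ⟨R, hR⟩, huniv⟩ := exists_connected_subgroup Hs F hF
  haveI := hHc; haveI := hHs; haveI := hHn
  haveI : IsAffine H.left := isAffine_of_isAffineHom iH.left
  haveI : Mono iH := Over.mono_of_mono_left iH
  have hsolH : Red.IsSolvableGrp H := by
    let φ : (VecGrp.pt k k ⟶ H) →* Hs := (pushPt iH).codRestrict Hs hHmem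
    have hφ : Function.Injective φ := fun x y h => (cancel_mono iH).mp (congrArg Subtype.val h)
    haveI : QuasiCompact H.hom := inferInstance
    refine isSolvableGrp_of_points (n := N) ((Subgroup.map_eq_bot_iff_of_injective _ hφ).mp (eq_bot_iff.mpr ?_))
    exact (map_derivedSeries_le_derivedSeries φ N).trans hsol.le
  obtain ⟨B, _, iB, u, hB, hu⟩ := exists_borel_ge iH hsolH
  haveI := hB.1
  refine ⟨B, inferInstance, iB, hB, fun hT χ => ?_, fun r hin x => ?_⟩
  · obtain ⟨t', ht'⟩ := huniv (torSp k M) iT fun p => by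
      obtain ⟨χ', rfl⟩ := chT.surjective p
      exact hT χ'
    exact ⟨chT χ ≫ t' ≫ u, by rw [Category.assoc, Category.assoc, hu, ht']⟩
  · -- the coordinates landing in the identity component form a subgroup of finite index
    let S : AddSubgroup k :=
      { carrier := {y | ∃ h : VecGrp.pt k k ⟶ H, h ≫ iH ≫ c = gp (D.rPt r y)}
        zero_mem' := ⟨1, by rw [rPt_zero, map_one, MonObj.one_comp]⟩
        add_mem' := fun {y z} ⟨p, hp⟩ ⟨q, hq⟩ => ⟨p * q, by rw [rPt_add, map_mul, MonObj.mul_comp, hp, hq]⟩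
        neg_mem' := fun {y} ⟨p, hp⟩ => ⟨p⁻¹, by
          rw [GrpObj.inv_comp, hp, ← map_inv]
          congr 1
          exact inv_eq_of_mul_eq_one_right (by rw [← rPt_add, add_neg_cancel, rPt_zero])⟩ }
    choose z hzH hzc using hin
    let x₀ : (VecGrp.pt k k ⟶ Z) → k := fun rr =>
      if h : ∃ y, ∃ p : VecGrp.pt k k ⟶ H, rr * (p ≫ iH) = z y then h.choose else 0
    have hS : (S : Set k).Infinite := infinite_of_cover (s := R.image x₀) fun y => by
      obtain ⟨rr, hrr, p, hp⟩ := hR _ (hzH y)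
      refine ⟨x₀ rr, Finset.mem_image_of_mem _ hrr, ?_⟩
      have hex : ∃ y, ∃ p : VecGrp.pt k k ⟶ H, rr * (p ≫ iH) = z y := ⟨y, p, hp⟩
      obtain ⟨p', hp'⟩ := hex.choose_spec
      rw [show x₀ rr = hex.choose from dif_pos hex]
      refine ⟨p'⁻¹ * p, ?_⟩
      rw [sub_eq_neg_add, rPt_add, map_mul, ← hzc y, ← hp, show D.rPt r (-hex.choose) = (D.rPt r hex.choose)⁻¹ from
        (inv_eq_of_mul_eq_one_right (by rw [← rPt_add, add_neg_cancel, rPt_zero])).symm, map_inv, ← hzc,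
        ← hp']
      simp only [MonObj.mul_comp, GrpObj.inv_comp, Category.assoc]
      group
    haveI : IsClosedImmersion (iH ≫ c).left := by rw [Over.comp_left]; infer_instance
    obtain ⟨h, hh⟩ := exists_point_of_kills (iH ≫ c) (gp (D.rPt r x)) fun F' hF' => by
      obtain ⟨a', rfl⟩ := fnA_surjective F'
      have hP : D.root r a' = 0 := Polynomial.eq_zero_of_infinite_isRoot _ (hS.mono fun y hy => by
        obtain ⟨p, hp⟩ : ∃ p : VecGrp.pt k k ⟶ H, p ≫ iH ≫ c = gp (D.rPt r y) := hy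
        show Polynomial.IsRoot (D.root r a') y
        rw [Polynomial.IsRoot, ← Polynomial.coe_aeval_eq_eval, ← D.rPt_apply, ← pullFn_gp, ← hp, ← pullFn_ev, hF',
          map_zero])
      rw [pullFn_gp, rPt_apply, hP, map_zero]
    refine ⟨h ≫ u, ?_⟩
    rw [Category.assoc, ← Category.assoc u, hu, hh]

include hD hf hZ hc hiT in
/-- The torus and the proportional positive root groups lie in one Borel subgroup of the centraliser. -/
theorem exists_borel_roots :
    ∃ (B : Over (Spec (CommRingCat.of k))) (_ : GrpObj B) (iB : B ⟶ Z), Red.IsBorelOver k iB ∧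
      (∀ χ, ∃ b : VecGrp.pt k k ⟶ B, b ≫ iB = chT χ ≫ iT) ∧
      ∀ r, 0 < f (D.α r) → D.qLin a f (D.α r) = 0 → ∀ x : k,
        ∃ b : VecGrp.pt k k ⟶ B, b ≫ iB ≫ c = gp (D.rPt r x) := by
  classical
  haveI : Mono c := Over.mono_of_mono_left c
  let ρ : (VecGrp.pt k k ⟶ Z) →* WithConv (A →ₐ[k] k) := gp.symm.toMonoidHom.comp (pushPt c)
  let P : Subgroup (WithConv (A →ₐ[k] k)) := limSubgroup (D.lam f) k
  let Hs : Subgroup (VecGrp.pt k k ⟶ Z) := P.comap ρ
  let F : Set (Fn Z) := (fun x => ev c (fnA x)) '' (idealP (D.lam f) : Set A)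
  have hval : ∀ (g : VecGrp.pt k k ⟶ Z) (x : A), pullFn g (ev c (fnA x)) = (ρ g).ofConv x := fun g x => by
    rw [pullFn_ev]
    exact (gp_symm_ofConv (g ≫ c) x).symm
  have hF : ∀ g, g ∈ Hs ↔ ∀ F' ∈ F, pullFn g F' = 0 := fun g => by
    show ρ g ∈ limSubgroup (D.lam f) k ↔ _
    rw [← D.isP_iff, Set.forall_mem_image]
    simp only [hval]
    rfl
  obtain ⟨n, hn⟩ := D.exists_derivedSeries_eq_bot hD f hf P fun g hg => (D.isP_iff f g).mpr hg
  have hρ : Function.Injective ρ := fun x y h => (cancel_mono c).mp (gp.symm.injective h)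
  let φ : Hs →* P := (ρ.comp Hs.subtype).codRestrict P fun g => g.2
  have hφ : Function.Injective φ := fun x y h => Subtype.ext (hρ (congrArg Subtype.val h))
  obtain ⟨B, _, iB, hB, hBT, hBr⟩ := D.exists_borel_of_points c hZ iT Hs F hF (N := n)
    ((Subgroup.map_eq_bot_iff_of_injective _ hφ).mp (eq_bot_iff.mpr
      ((map_derivedSeries_le_derivedSeries φ n).trans hn.le)))
  refine ⟨B, inferInstance, iB, hB, hBT fun χ' => ?_, fun r hr hq => hBr r fun y => ?_⟩
  · show gp.symm ((chT χ' ≫ iT) ≫ c) ∈ limSubgroup (D.lam f) k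
    rw [Category.assoc, hiT, D.chT_torHom, MulEquiv.symm_apply_apply]
    exact (D.isP_iff f _).mp (D.isZ_isP f (D.tPt_kills_idealZ f χ'))
  · obtain ⟨z, hz⟩ := (hc _).mpr (D.inCent_rPt a f hq y)
    refine ⟨z, ?_, hz⟩
    show gp.symm (z ≫ c) ∈ limSubgroup (D.lam f) k
    rw [hz, MulEquiv.symm_apply_apply]
    exact (D.isP_iff f _).mp (D.isU_isP f (D.isU_rPt f r hr y))

include hiT hc in
omit [Module.IsTorsionFree ℤ M] [Algebra.Smooth k A] [Fintype idx] [IsClosedImmersion c.left] in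
theorem chT_iT (χ : Multiplicative M →* k) : (chT χ ≫ iT) ≫ c = gp (D.tPt χ) := by
  have _hc := hc
  rw [Category.assoc, hiT, D.chT_torHom]

end Chart

end Groth.Agent.RootChartLib
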