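import Groth.Agent.RootChartLib.RankOneMain
import Mathlib.RingTheory.RootsOfUnity.AlgebraicallyClosed
import Mathlib.NumberTheory.Cyclotomic.Basic

/-!
# Positive roots proportional to a root are equal to it
-/

set_option autoImplicit false
set_option backward.isDefEq.respectTransparency false
set_option backward.isDefEq.respectTransparency.types false

universe u

open CategoryTheory Limits AlgebraicGeometry MonoidalCategory CartesianMonoidalCategory MonObj GrpObj WithConv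
open scoped TensorProduct

namespace Groth.Agent.RootChartLib

open GrpSchLib GrpSchLib.AffineHopf GrpSchLib.Kunneth GModLib DynLib

variable {k : Type u} [Field k] [IsAlgClosed k] {A : Type u} [CommRing A] [HopfAlgebra k A]

/-- The inverse of a character. -/
def invChar {M : Type} [AddCommGroup M] (χ : Multiplicative M →* k) : Multiplicative M →* k where
  toFun x := χ x⁻¹
  map_one' := by simp
  map_mul' x y := by rw [_root_.mul_inv, map_mul]

omit [IsAlgClosed k] in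
theorem invChar_mul {M : Type} [AddCommGroup M] (χ : Multiplicative M →* k) : invChar χ * χ = 1 :=
  MonoidHom.ext fun x => by
    show χ x⁻¹ * χ x = 1
    rw [← map_mul, inv_mul_cancel, map_one]

namespace Chart

variable {M : Type} [AddCommGroup M] [Module.Free ℤ M] [Module.Finite ℤ M] [Algebra.Smooth k A]
  {idx : Type} (D : Chart k A M idx) (a : idx) (f : M →+ ℤ)

/-- There is a torus point of prime order not killed by twice the root. -/
theorem exists_torsion_char (ha : 0 < f (D.α a)) : ∃ (ℓ : ℕ) (χ : Multiplicative M →* k), (ℓ : k) ≠ 0 ∧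
    (∀ x, χ x ^ ℓ = 1) ∧ χ (Multiplicative.ofAdd (D.α a)) ^ 2 ≠ 1 := by
  obtain ⟨ℓ, hℓ, hℓp⟩ := Nat.exists_infinite_primes (2 * (f (D.α a)).natAbs + ringChar k + 1)
  have hℓk : (ℓ : k) ≠ 0 := fun h => by
    have h1 : ringChar k ∣ ℓ := (ringChar.spec k ℓ).mp h
    rcases hℓp.eq_one_or_self_of_dvd _ h1 with h2 | h2
    · exact CharP.ringChar_ne_one h2
    · omega
  haveI : NeZero (ℓ : k) := ⟨hℓk⟩
  haveI : NeZero ℓ := ⟨hℓp.ne_zero⟩
  obtain ⟨z, hz⟩ := HasEnoughRootsOfUnity.exists_primitiveRoot k ℓ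
  let zu : kˣ := (hz.isUnit hℓp.ne_zero).unit
  refine ⟨ℓ, (Units.coeHom k).comp ((zpowersHom kˣ zu).comp f.toMultiplicative), hℓk, fun x => ?_, fun h => ?_⟩
  · show ((zu ^ f x.toAdd : kˣ) : k) ^ ℓ = 1
    have h1 : zu ^ ℓ = 1 := Units.ext (by simpa [zu] using hz.pow_eq_one)
    rw [← Units.val_pow_eq_pow_val, ← zpow_natCast, ← zpow_mul, mul_comm, zpow_mul, zpow_natCast, h1, one_zpow,
      Units.val_one]
  · have h' : (((zu ^ f (D.α a) : kˣ) ^ 2 : kˣ) : k) = 1 := by rw [Units.val_pow_eq_pow_val]; exact h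
    have h2 : z ^ (2 * (f (D.α a)).natAbs) = 1 := by
      have h3 : (zu ^ f (D.α a)) ^ 2 = 1 := Units.ext h'
      rw [← Int.natAbs_of_nonneg ha.le, zpow_natCast, ← pow_mul, mul_comm] at h3
      have h4 := congrArg Units.val h3
      simpa [zu] using h4
    have h5 := hz.dvd_of_pow_eq_one _ h2
    have h6 : 0 < 2 * (f (D.α a)).natAbs := by have := Int.natAbs_pos.mpr ha.ne'; omega
    have h7 := Nat.le_of_dvd h6 h5
    omega

variable {Z : Over (Spec (CommRingCat.of k))} [GrpObj Z] (c : Z ⟶ sp k A) [IsMonHom c] [IsClosedImmersion c.left]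
  {B : Over (Spec (CommRingCat.of k))} [GrpObj B] (iB : B ⟶ Z)

/-- A reflection does not lie in a connected solvable group containing the torus. -/
theorem refl_notMem (hB : Red.IsBorelOver k iB) [IsAffine Z.left] {d : M →+ ℤ} {n : WithConv (A →ₐ[k] k)}
    (hn : D.IsRefl a d n) (ha : 0 < f (D.α a))
    (hBT : ∀ χ, ∃ b : VecGrp.pt k k ⟶ B, b ≫ iB ≫ c = gp (D.tPt χ)) :
    ¬ ∃ b : VecGrp.pt k k ⟶ B, b ≫ iB ≫ c = gp n := by
  rintro ⟨bn, hbn⟩
  obtain ⟨hm, hcl, hsm, hcn, hsol, -⟩ := hB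
  haveI := hm; haveI := hcl; haveI := hsm; haveI := hcn
  haveI : IsAffine B.left := isAffine_of_isAffineHom iB.left
  haveI : Mono c := Over.mono_of_mono_left c
  haveI : Mono iB := Over.mono_of_mono_left iB
  obtain ⟨dd, Mx, hMx⟩ := GModLib.exists_triangular hsol
  obtain ⟨ℓ, χ, hℓ, hχℓ, hχa⟩ := D.exists_torsion_char a f ha
  obtain ⟨b₀, hb₀⟩ := hBT χ
  let χ' : Multiplicative M →* k :=
    { toFun := fun x => χ (D.reflHom a d x) * χ x⁻¹
      map_one' := by simp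
      map_mul' := fun x y => by rw [map_mul, map_mul, _root_.mul_inv, map_mul]; ring }
  have hinv : ∀ x, χ x⁻¹ * χ x = 1 := fun x => by rw [← map_mul, inv_mul_cancel, map_one]
  have hprod : D.tPt χ' = n * D.tPt χ * n⁻¹ * (D.tPt χ)⁻¹ := by
    rw [hn.2, eq_mul_inv_iff_mul_eq, ← tPt_mul]
    congr 1
    refine MonoidHom.ext fun x => ?_
    show χ (D.reflHom a d x) * χ x⁻¹ * χ x = χ (D.reflHom a d x)
    rw [_root_.mul_assoc, hinv, _root_.mul_one]
  let w : VecGrp.pt k k ⟶ B := bn * b₀ * bn⁻¹ * b₀⁻¹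
  have hw : w ≫ iB ≫ c = gp (D.tPt χ') := by
    show (bn * b₀ * bn⁻¹ * b₀⁻¹) ≫ iB ≫ c = _
    rw [MonObj.mul_comp, MonObj.mul_comp, MonObj.mul_comp, GrpObj.inv_comp, GrpObj.inv_comp, hbn, hb₀, hprod, map_mul,
      map_mul, map_mul, map_inv, map_inv]
  have hu : w ∈ uni hMx := (mem_uni_iff_diagHom hMx w).mpr (by
    show diagHom hMx (bn * b₀ * bn⁻¹ * b₀⁻¹) = 1
    rw [map_mul, diagHom_conj, ← map_mul, mul_inv_cancel, map_one])
  have hwℓ : w ^ ℓ = 1 := by
    refine (cancel_mono (iB ≫ c)).mp ?_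
    rw [MonObj.pow_comp, hw, MonObj.one_comp, ← map_pow]
    have hp : ∀ i : ℕ, D.tPt χ' ^ i = D.tPt (χ' ^ i) := fun i => by
      induction i with
      | zero => simp [tPt_one]
      | succ i ih => rw [pow_succ, pow_succ, tPt_mul, ih]
    rw [hp, show χ' ^ ℓ = 1 from MonoidHom.ext fun x => ?_, tPt_one, map_one]
    show (χ (D.reflHom a d x) * χ x⁻¹) ^ ℓ = 1
    rw [mul_pow, hχℓ, hχℓ, _root_.one_mul]
  have h1 := eq_one_of_pow_eq_one hMx hℓ hu hwℓ
  rw [h1, MonObj.one_comp] at hw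
  have h2 : χ' = 1 := D.tPt_injective ((gp.injective (hw.symm.trans (map_one gp).symm)).trans D.tPt_one.symm)
  refine hχa ?_
  have h3 : χ (D.reflHom a d (Multiplicative.ofAdd (D.α a))) * χ (Multiplicative.ofAdd (D.α a))⁻¹ = 1 :=
    DFunLike.congr_fun h2 (Multiplicative.ofAdd (D.α a))
  rw [reflHom_apply, hn.1, show D.α a - (2 : ℤ) • D.α a = -D.α a by rw [two_smul]; abel, ofAdd_neg] at h3
  rw [pow_two]
  have h4 := hinv (Multiplicative.ofAdd (D.α a))
  calc χ (Multiplicative.ofAdd (D.α a)) * χ (Multiplicative.ofAdd (D.α a))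
      = (χ (Multiplicative.ofAdd (D.α a))⁻¹ * χ (Multiplicative.ofAdd (D.α a))⁻¹) *
        (χ (Multiplicative.ofAdd (D.α a)) * χ (Multiplicative.ofAdd (D.α a))) := by rw [h3, _root_.one_mul]
    _ = (χ (Multiplicative.ofAdd (D.α a))⁻¹ * χ (Multiplicative.ofAdd (D.α a))) *
        (χ (Multiplicative.ofAdd (D.α a))⁻¹ * χ (Multiplicative.ofAdd (D.α a))) := by ring
    _ = 1 := by rw [h4, _root_.one_mul]

variable [Fintype idx]
  (hZ : Red.IsReductiveOver k Z) (hc : ∀ g, (∃ z : VecGrp.pt k k ⟶ Z, z ≫ c = gp g) ↔ D.InCent a f g)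
  (iT : torSp k M ⟶ Z) [IsMonHom iT] (hiT : iT ≫ c = D.torHom)

include hZ hc hiT in
/-- A Borel subgroup containing the torus and the proportional positive root groups has two fixed cosets. -/
theorem exists_two_fixed (hD : D.GeomFibres) (hf : ∀ r, f (D.α r) ≠ 0) (hG : Red.IsReductiveOver k (sp k A))
    (hT : AGF.IsMaxTorus D.torHom) {d : M →+ ℤ} {n : WithConv (A →ₐ[k] k)} (hn : D.IsRefl a d n)
    (ha : 0 < f (D.α a))
    (hB : Red.IsBorelOver k iB) (hBT : ∀ χ, ∃ b : VecGrp.pt k k ⟶ B, b ≫ iB = chT χ ≫ iT) :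
    AGF.IsMaxTorus iT ∧ ∃ zn : VecGrp.pt k k ⟶ Z, zn ≫ c = gp n ∧
      (∀ t : VecGrp.pt k k ⟶ torSp k M, ∃ b, (t ≫ iT) * zn = zn * (b ≫ iB)) ∧
      (¬ ∃ b : VecGrp.pt k k ⟶ B, b ≫ iB = zn) ∧
      ∀ M' : VecGrp.pt k k ⟶ Z, (∀ t : VecGrp.pt k k ⟶ torSp k M, ∃ b, (t ≫ iT) * M' = M' * (b ≫ iB)) →
        (∃ b : VecGrp.pt k k ⟶ B, M' = b ≫ iB) ∨ ∃ b : VecGrp.pt k k ⟶ B, M' = zn * (b ≫ iB) := by
  classical
  have _hD := hD; have _hf := hf
  obtain ⟨haff, hsm, hcn, hred⟩ := id hZ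
  haveI := haff; haveI := hsm; haveI := hcn
  haveI := hG.1; haveI := hG.2.1; haveI := hG.2.2.1
  haveI := hT.1; haveI := hT.2.1
  haveI : Mono c := Over.mono_of_mono_left c
  obtain ⟨h1, h2, h3, -, -⟩ := TorusBasic.torus_props hT.2.2.1
  haveI := h1; haveI := h2; haveI := h3
  haveI : Mono iT := mono_of_mono_fac hiT
  have hTZ : AGF.IsMaxTorus iT := ⟨inferInstance, inferInstance, hT.2.2.1, fun T' _ j _ _ u hT' hu =>
    hT.2.2.2 T' (j ≫ c) u hT' (by rw [← Category.assoc, hu, hiT])⟩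
  obtain ⟨hBm, hBcl, hBs, hBn, hBsol, -⟩ := id hB
  haveI := hBm; haveI := hBcl; haveI := hBs; haveI := hBn
  haveI : IsAffine B.left := isAffine_of_isAffineHom iB.left
  haveI : Mono iB := Over.mono_of_mono_left iB
  haveI : LocallyOfFiniteType B.hom := inferInstance
  have hBTc : ∀ χ, ∃ b : VecGrp.pt k k ⟶ B, b ≫ iB ≫ c = gp (D.tPt χ) := fun χ => by
    obtain ⟨b, hb⟩ := hBT χ
    exact ⟨b, by rw [← Category.assoc, hb, Category.assoc, hiT, D.chT_torHom]⟩
  obtain ⟨zn, hzn⟩ := (hc n).mpr (hn.inCent (f := f))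
  have hzT : ∀ χ, zn⁻¹ * (chT χ ≫ iT) * zn = chT (χ.comp (D.reflHom a d)) ≫ iT := fun χ => by
    rw [← cancel_mono c]
    simp only [MonObj.mul_comp, GrpObj.inv_comp, Category.assoc, hiT, hzn, D.chT_torHom]
    rw [← map_inv, ← map_mul, ← map_mul, hn.conj_inv]
  have hfix₁ : ∀ t : VecGrp.pt k k ⟶ torSp k M, ∃ b, (t ≫ iT) * zn = zn * (b ≫ iB) := fun t => by
    obtain ⟨χ, rfl⟩ := chT.surjective t
    obtain ⟨b, hb⟩ := hBT (χ.comp (D.reflHom a d))
    exact ⟨b, by rw [hb, ← hzT]; group⟩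
  have hnot : ¬ ∃ b : VecGrp.pt k k ⟶ B, b ≫ iB = zn := fun ⟨b, hb⟩ =>
    D.refl_notMem a f c iB hB hn ha hBTc ⟨b, by rw [← Category.assoc, hb, hzn]⟩
  -- only two fixed points
  have hfix : ∀ M' : VecGrp.pt k k ⟶ Z, (∀ t : VecGrp.pt k k ⟶ torSp k M, ∃ b, (t ≫ iT) * M' = M' * (b ≫ iB)) →
      (∃ b : VecGrp.pt k k ⟶ B, M' = b ≫ iB) ∨ ∃ b : VecGrp.pt k k ⟶ B, M' = zn * (b ≫ iB) := by
    intro M' hM'
    obtain ⟨m, b, hmb, hmN⟩ := exists_normalizing iT hTZ iB hB M' 1 hM' fun t => by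
      obtain ⟨χ, rfl⟩ := chT.surjective t
      obtain ⟨b', hb'⟩ := hBT χ
      exact ⟨b', by rw [hb', _root_.one_mul, _root_.mul_one]⟩
    have hM'' : M' = m * (b ≫ iB) := by
      rw [_root_.one_mul] at hmb
      rw [← hmb, mul_inv_cancel_left]
    obtain ⟨g, hg⟩ : ∃ g, gp g = m ≫ c := ⟨_, gp.apply_symm_apply _⟩
    have hgc : D.InCent a f g := (hc g).mp ⟨m, hg.symm⟩
    have hgN : ∀ χ, ∃ χ', g⁻¹ * D.tPt χ * g = D.tPt χ' := fun χ => by
      obtain ⟨t', ht'⟩ := hmN (chT χ)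
      obtain ⟨χ', rfl⟩ := chT.surjective t'
      refine ⟨χ', gp.injective ?_⟩
      have h := congrArg (fun z => z ≫ c) ht'
      simp only [MonObj.mul_comp, Category.assoc, hiT, D.chT_torHom, ← hg, ← map_mul] at h
      rw [_root_.mul_assoc, gp.injective h, inv_mul_cancel_left]
    obtain ⟨ψ, hψ, hψa, hψT⟩ := D.exists_auto a f hG hT ha hgc.inv (fun χ => by rw [_root_.inv_inv]; exact hgN χ)
    rcases hψa with hp | hm'
    · obtain ⟨χ, hχ⟩ := hψT hp
      obtain ⟨bt, hbt⟩ := hBT χ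
      refine Or.inl ⟨bt⁻¹ * b, ?_⟩
      rw [hM'', MonObj.mul_comp, GrpObj.inv_comp, hbt]
      congr 1
      rw [← cancel_mono c]
      simp only [GrpObj.inv_comp, Category.assoc, hiT, D.chT_torHom, ← hg, ← map_inv]
      rw [hχ, _root_.inv_inv]
    · have hng : D.InCent a f (n * g⁻¹) := (hn.inCent (f := f)).mul hgc.inv
      have hngN : ∀ χ, (n * g⁻¹) * D.tPt χ * (n * g⁻¹)⁻¹ = D.tPt ((χ.comp ψ.toMultiplicative).comp (D.reflHom a d)) := fun χ => by
        rw [← hn.2, ← hψ]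
        group
      obtain ⟨ψ', hψ', -, hψT'⟩ := D.exists_auto a f hG hT ha hng fun χ => ⟨_, hngN χ⟩
      have hp : ψ' (D.α a) = D.α a := eq_of_forall_char (k := k) fun χ => by
        have h := DFunLike.congr_fun (D.tPt_injective ((hψ' χ).symm.trans (hngN χ))) (Multiplicative.ofAdd (D.α a))
        refine h.trans ?_
        show χ (ψ.toMultiplicative (D.reflHom a d (Multiplicative.ofAdd (D.α a)))) = _
        rw [reflHom_apply, hn.1, show D.α a - (2 : ℤ) • D.α a = -D.α a by rw [two_smul]; abel]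
        show χ (Multiplicative.ofAdd (ψ (-D.α a))) = _
        rw [map_neg, hm', neg_neg]
      obtain ⟨χ, hχ⟩ := hψT' hp
      obtain ⟨bt, hbt⟩ := hBT ((invChar χ).comp (D.reflHom a d))
      refine Or.inr ⟨bt * b, ?_⟩
      rw [hM'', MonObj.mul_comp, hbt, ← _root_.mul_assoc]
      congr 1
      rw [← cancel_mono c]
      simp only [MonObj.mul_comp, Category.assoc, hiT, D.chT_torHom, ← hg, hzn, ← map_mul]
      congr 1
      have hi : D.tPt (invChar χ) = (D.tPt χ)⁻¹ := eq_inv_of_mul_eq_one_left (by rw [← tPt_mul, invChar_mul, tPt_one])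
      rw [← hn.conj_inv, hi, hχ]
      group
  exact ⟨hTZ, zn, hzn, hfix₁, hnot, hfix⟩

include hZ hc hiT in
/-- A Borel subgroup containing the torus and the proportional positive root groups contains finitely many points of
the opposite root groups, unless there is a proportional root. -/
theorem finite_opposite (hD : D.GeomFibres) (hf : ∀ r, f (D.α r) ≠ 0) (hG : Red.IsReductiveOver k (sp k A))
    (hT : AGF.IsMaxTorus D.torHom) {d : M →+ ℤ} {n : WithConv (A →ₐ[k] k)} (hn : D.IsRefl a d n)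
    (ha : 0 < f (D.α a))
    (hB : Red.IsBorelOver k iB) (hBT : ∀ χ, ∃ b : VecGrp.pt k k ⟶ B, b ≫ iB = chT χ ≫ iT)
    (hBU : ∀ r, 0 < f (D.α r) → D.qLin a f (D.α r) = 0 → ∀ x : k,
      ∃ b : VecGrp.pt k k ⟶ B, b ≫ iB ≫ c = gp (D.rPt r x))
    {m : ℕ} (e : Fin m → idx) (he : Function.Injective e) (hpe : ∀ i, 0 < f (D.α (e i))) :
    {cc : Fin m → k | ∃ b : VecGrp.pt k k ⟶ B, b ≫ iB ≫ c = gp (n * D.prodPt e cc * n⁻¹)}.Finite := by
  classical
  obtain ⟨hTZ, zn, hzn, hfix₁, hnot, hfix⟩ := D.exists_two_fixed a f c iB hZ hc iT hiT hD hf hG hT hn ha hB hBT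
  obtain ⟨haff, hsm, hcn, hred⟩ := id hZ
  haveI := haff; haveI := hsm; haveI := hcn
  haveI := hG.1; haveI := hG.2.1; haveI := hG.2.2.1
  haveI := hT.1; haveI := hT.2.1
  haveI : Mono c := Over.mono_of_mono_left c
  obtain ⟨h1, h2, h3, -, -⟩ := TorusBasic.torus_props hT.2.2.1
  haveI := h1; haveI := h2; haveI := h3
  haveI : Mono iT := mono_of_mono_fac hiT
  obtain ⟨hBm, hBcl, hBs, hBn, hBsol, -⟩ := id hB
  haveI := hBm; haveI := hBcl; haveI := hBs; haveI := hBn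
  haveI : IsAffine B.left := isAffine_of_isAffineHom iB.left
  haveI : Mono iB := Over.mono_of_mono_left iB
  haveI : LocallyOfFiniteType B.hom := inferInstance
  -- the points of the Borel subgroup contracted after conjugation
  let g₀ : 𝟙_ (Over (Spec (CommRingCat.of k))) ⟶ sp k A := toPt _ ≫ gp n⁻¹
  have hg₀ : toUnit (VecGrp.pt k k) ≫ g₀ = gp n⁻¹ := by
    show _ ≫ toPt _ ≫ gp n⁻¹ = _
    rw [← Category.assoc, toUnit_toPt, Category.id_comp]
  let κ : B ⟶ sp k A := iB ≫ c ≫ inner g₀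
  let ρ : (VecGrp.pt k k ⟶ B) →* WithConv (A →ₐ[k] k) := gp.symm.toMonoidHom.comp (pushPt κ)
  have hρ : ∀ b, gp (ρ b) = gp n⁻¹ * (b ≫ iB ≫ c) * (gp n⁻¹)⁻¹ := fun b => by
    show gp (gp.symm (b ≫ κ)) = _
    rw [MulEquiv.apply_symm_apply, show b ≫ κ = (b ≫ iB ≫ c) ≫ inner g₀ by simp only [κ, Category.assoc],
      comp_inner, hg₀]
  let Ws : Subgroup (VecGrp.pt k k ⟶ B) := (limOneSubgroup (D.lam f) k).comap ρ
  let Fs : Set (Fn B) := (fun x => ev κ (fnA x)) '' (idealU (D.lam f) : Set A)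
  have hFs : ∀ b, b ∈ Ws ↔ ∀ F' ∈ Fs, pullFn b F' = 0 := fun b => by
    show ρ b ∈ limOneSubgroup (D.lam f) k ↔ _
    rw [← D.isU_iff, Set.forall_mem_image]
    refine forall_congr' fun x => imp_congr_right fun _ => ?_
    rw [pullFn_ev, ← gp_symm_ofConv (b ≫ κ) x]
    rfl
  obtain ⟨H, _, j, _, hHc, hHs, hHn, hHmem, -, ⟨R, hR⟩, -⟩ := exists_connected_subgroup Ws Fs hFs
  haveI := hHc; haveI := hHs; haveI := hHn
  haveI : IsAffine H.left := isAffine_of_isAffineHom j.left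
  haveI : Mono j := Over.mono_of_mono_left j
  have hρinj : Function.Injective ρ := fun x y h => by
    have h' := congrArg gp h
    rw [hρ, hρ] at h'
    exact (cancel_mono iB).mp ((cancel_mono c).mp (by
      simp only [Category.assoc]
      exact mul_left_cancel (mul_right_cancel h')))
  have hno : Red.HasNoSubtorus k H := hasNoSubtorus_of_torsion fun g q hq hgq => by
    refine (cancel_mono j).mp (hρinj ?_)
    rw [MonObj.one_comp, map_one]
    refine D.eq_one_of_isU_torsion f hD hf ((D.isU_iff f _).mpr (hHmem g)) hq ?_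
    rw [← map_pow, ← MonObj.pow_comp, hgq, MonObj.one_comp, map_one]
  have hchar : ∀ {ω : Fn B}, IsChar ω → ∀ (h : H ⟶ B) [IsMonHom h] (x : VecGrp.pt k k ⟶ H),
      pullFn (x ≫ h) ω = 1 := fun {ω} hω h _ x => by
    rw [← pullFn_ev]
    exact char_eq_one_of_hasNoSubtorus hno (ω := ev h ω)
      ⟨fun p q => by rw [pullFn_ev, pullFn_ev, pullFn_ev, MonObj.mul_comp, hω.1],
        by rw [pullFn_ev, MonObj.one_comp, hω.2]⟩ x
  haveI : IsReduced H.left := GrpSchLib.isReduced_of_smooth_field H.hom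
  let g₁ : 𝟙_ (Over (Spec (CommRingCat.of k))) ⟶ Z := toPt _ ≫ zn⁻¹
  have hg₁ : toUnit (VecGrp.pt k k) ≫ g₁ = zn⁻¹ := by
    show _ ≫ toPt _ ≫ zn⁻¹ = _
    rw [← Category.assoc, toUnit_toPt, Category.id_comp]
  have hcomp : ∀ x : VecGrp.pt k k ⟶ H, x ≫ (j ≫ iB) ≫ inner g₁ = zn⁻¹ * (x ≫ j ≫ iB) * zn⁻¹⁻¹ := fun x => by
    rw [← Category.assoc x, comp_inner g₁, hg₁]
  have hin : ∀ x : VecGrp.pt k k ⟶ H, ∃ b, b ≫ iB = x ≫ (j ≫ iB) ≫ inner g₁ := fun x => by
    have hU : D.IsU f (ρ (x ≫ j)) := (D.isU_iff f _).mpr (hHmem x)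
    have hcx : D.InCent a f (ρ (x ≫ j)) := by
      refine (hc _).mp ⟨zn⁻¹ * (x ≫ j ≫ iB) * zn⁻¹⁻¹, ?_⟩
      simp only [hρ, MonObj.mul_comp, GrpObj.inv_comp, hzn, Category.assoc, map_inv]
    obtain ⟨b, hb⟩ := D.mem_of_isU_inCent a f hD hf (K := ptsIn (iB ≫ c)) (fun s h₁ h₂ y => hBU s h₁ h₂ y) hU hcx
    refine ⟨b, (cancel_mono c).mp ?_⟩
    rw [hcomp, Category.assoc]
    refine hb.trans ?_
    show gp (ρ (x ≫ j)) = _
    simp only [hρ, MonObj.mul_comp, GrpObj.inv_comp, hzn, Category.assoc, map_inv]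
  obtain ⟨h₂, hh₂⟩ := exists_factor_of_points iB ((j ≫ iB) ≫ inner g₁) hin
  haveI : IsMonHom (h₂ ≫ iB) := hh₂ ▸ inferInstance
  haveI : IsMonHom h₂ := GModLib.isMonHom_of_comp h₂ iB
  haveI : IsClosedImmersion (j ≫ iB).left := by rw [Over.comp_left]; infer_instance
  obtain ⟨V, _, v, hvm, hv1, hv2, hv3, hv4, hv5, w, hw⟩ := exists_normal_of_killed iT hTZ iB hB (j ≫ iB)
    fun M' hM' x => by
      rcases hfix M' hM' with ⟨b, rfl⟩ | ⟨b, rfl⟩
      · refine ⟨b⁻¹ * (x ≫ j) * b, ?_, fun ω hω => ?_⟩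
        · simp only [MonObj.mul_comp, GrpObj.inv_comp, Category.assoc]
          group
        · rw [hω.1, hω.1, hchar hω j x, _root_.mul_one, ← hω.1, inv_mul_cancel, hω.2]
      · refine ⟨b⁻¹ * (x ≫ h₂) * b, ?_, fun ω hω => ?_⟩
        · simp only [MonObj.mul_comp, GrpObj.inv_comp, Category.assoc, hh₂]
          rw [← Category.assoc j, hcomp]
          group
        · rw [hω.1, hω.1, hchar hω h₂ x, _root_.mul_one, ← hω.1, inv_mul_cancel, hω.2]
  have htriv : ∀ x : VecGrp.pt k k ⟶ H, x = 1 := fun x => by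
    refine (cancel_mono (j ≫ iB)).mp ?_
    rw [MonObj.one_comp, ← hw, ← Category.assoc,
      GModLib.eq_one_of_isTrivialGrp (hred V v hv1 hv2 hv3 hv4 hv5) (x ≫ w), MonObj.one_comp]
  refine Set.Finite.of_finite_image (f := fun cc => gp (n * D.prodPt e cc * n⁻¹))
    ((R.finite_toSet.image (fun rr : VecGrp.pt k k ⟶ B => rr ≫ iB ≫ c)).subset ?_) ?_
  · rintro _ ⟨cc, ⟨b, hb⟩, rfl⟩
    have hbW : b ∈ Ws := by
      show ρ b ∈ limOneSubgroup (D.lam f) k
      rw [show ρ b = D.prodPt e cc from gp.injective (by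
        rw [hρ, hb, ← map_inv, ← map_mul, ← map_mul]; congr 1; group)]
      exact (D.isU_iff f _).mp (D.isU_prodPt f e hpe cc)
    obtain ⟨rr, hrr, x, hx⟩ := hR b hbW
    refine ⟨rr, hrr, ?_⟩
    show rr ≫ iB ≫ c = gp (n * D.prodPt e cc * n⁻¹)
    rw [← hb, ← hx, htriv x, MonObj.one_comp, _root_.mul_one]
  · intro x _ y _ hxy
    exact D.prodPt_injective f e hpe he (mul_left_cancel (mul_right_cancel (gp.injective hxy)))

omit hZ hc hiT in
/-- A root positive for a linear form and proportional to a positive root with a reflection equals it. -/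
theorem eq_of_proportional (hD : D.GeomFibres) (hf : ∀ r, f (D.α r) ≠ 0) (hG : Red.IsReductiveOver k (sp k A))
    (hT : AGF.IsMaxTorus D.torHom) {d : M →+ ℤ} {n : WithConv (A →ₐ[k] k)} (hn : D.IsRefl a d n)
    (ha : 0 < f (D.α a))
    {r : idx} (hr : 0 < f (D.α r)) (hq : D.qLin a f (D.α r) = 0) : r = a := by
  classical
  by_contra hne
  obtain ⟨Z, _, c, hcm, hcc, hZ, hc, hlift⟩ := D.exists_cent a f hG
  haveI := hcm; haveI := hcc
  obtain ⟨haff, hsm, hcn, hred⟩ := id hZ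
  haveI := haff; haveI := hsm; haveI := hcn
  haveI := hG.1; haveI := hG.2.1; haveI := hG.2.2.1
  haveI := hT.1; haveI := hT.2.1
  haveI : Mono c := Over.mono_of_mono_left c
  obtain ⟨h1, h2, h3, -, -⟩ := TorusBasic.torus_props hT.2.2.1
  haveI := h1; haveI := h2; haveI := h3
  obtain ⟨iT, hiT⟩ := hlift (torSp k M) D.torHom fun t => by
    obtain ⟨χ, rfl⟩ := chT.surjective t
    rw [D.chT_torHom]
    exact (hc _).mpr (D.inCent_tPt a f χ)
  haveI : IsMonHom (iT ≫ c) := hiT ▸ inferInstance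
  haveI : IsMonHom iT := GModLib.isMonHom_of_comp iT c
  haveI : Mono iT := mono_of_mono_fac hiT
  have hTZ : AGF.IsMaxTorus iT := ⟨inferInstance, inferInstance, hT.2.2.1, fun T' _ j _ _ u hT' hu =>
    hT.2.2.2 T' (j ≫ c) u hT' (by rw [← Category.assoc, hu, hiT])⟩
  obtain ⟨B, _, iB, hB, hBT, hBU⟩ := D.exists_borel_roots a f hD hf c hZ hc iT hiT
  obtain ⟨hTZ', zn, hzn, hfix₁, hnot, hfix⟩ := D.exists_two_fixed a f c iB hZ hc iT hiT hD hf hG hT hn ha hB hBT
  haveI := hB.1; haveI := hB.2.1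
  haveI : Mono iB := Over.mono_of_mono_left iB
  haveI : LocallyOfFiniteType B.hom := by haveI := hB.2.2.1; infer_instance
  obtain ⟨F, hF1, hFn, hFz⟩ := exists_fun_zero_coset iB (borel_cocompact iB hB) hT.2.2.1 iT (fun t => by
    obtain ⟨χ, rfl⟩ := chT.surjective t
    obtain ⟨b, hb⟩ := hBT χ
    exact ⟨b, hb.symm⟩) zn hfix₁ hnot hfix
  clear hF1
  -- the zeros on the opposite root groups
  obtain ⟨a₁, rfl⟩ : ∃ a₁, ev c (fnA a₁) = F := by
    obtain ⟨F₁, hF₁⟩ := (c.left.app_surjective ⊤ (isAffineOpen_top _)) F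
    obtain ⟨a₁, rfl⟩ := fnA_surjective F₁
    exact ⟨a₁, hF₁⟩
  obtain ⟨m, e, he, hrange⟩ : ∃ (m : ℕ) (e : Fin m → idx), Function.Injective e ∧
      ∀ s, s ∈ Set.range e ↔ (0 < f (D.α s) ∧ D.qLin a f (D.α s) = 0) :=
    ⟨_, exists_enum fun s => 0 < f (D.α s) ∧ D.qLin a f (D.α s) = 0⟩
  have hm2 : 2 ≤ m := by
    obtain ⟨i, hi⟩ := (hrange a).mpr ⟨ha, D.qLin_root a f⟩
    obtain ⟨j, hj⟩ := (hrange r).mpr ⟨hr, hq⟩
    have hij : i.1 ≠ j.1 := fun h => hne (by rw [← hi, ← hj, Fin.ext h])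
    omega
  have hpe : ∀ i, 0 < f (D.α (e i)) := fun i => ((hrange _).mp ⟨i, rfl⟩).1
  let ι' : k →ₐ[k] MvPolynomial (Fin m) k := Algebra.ofId k _
  let P : MvPolynomial (Fin m) k := (post ι' n * post ι' n * toConv (D.Phi e) * post ι' n⁻¹).ofConv a₁
  have hy : ∀ cc : Fin m → k, D.InCent a f (n * D.prodPt e cc * n⁻¹) := fun cc => by
    refine ((hn.inCent (f := f)).mul ?_).mul (hn.inCent (f := f)).inv
    intro χ
    have h := D.prodPt_conj (χ.comp (D.qHom a f)) e cc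
    have h1 : (fun i => (χ.comp (D.qHom a f)) (Multiplicative.ofAdd (D.α (e i))) * cc i) = cc := funext fun i => by
      have h2 : D.qHom a f (Multiplicative.ofAdd (D.α (e i))) = 1 :=
        congrArg Multiplicative.ofAdd (Subtype.ext ((hrange _).mp ⟨i, rfl⟩).2)
      rw [MonoidHom.comp_apply, h2, map_one, _root_.one_mul]
    rw [h1] at h
    exact (mul_inv_eq_iff_eq_mul.mp h).symm
  have hP : ∀ cc : Fin m → k, MvPolynomial.eval cc P = (n * (n * D.prodPt e cc * n⁻¹)).ofConv a₁ := fun cc => by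
    rw [← MvPolynomial.coe_aeval_eq_eval]
    show (post (MvPolynomial.aeval cc) (post ι' n * post ι' n * toConv (D.Phi e) * post ι' n⁻¹)).ofConv a₁ = _
    have hpn : ∀ g : WithConv (A →ₐ[k] k), post (MvPolynomial.aeval cc : MvPolynomial (Fin m) k →ₐ[k] k) (post ι' g) = g :=
      fun g => WithConv.ofConv_injective (AlgHom.ext fun x => by
        show MvPolynomial.aeval cc (ι' (g.ofConv x)) = g.ofConv x
        show MvPolynomial.aeval cc (algebraMap k (MvPolynomial (Fin m) k) (g.ofConv x)) = g.ofConv x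
        rw [AlgHom.commutes]
        rfl)
    rw [map_mul, map_mul, map_mul, hpn, hpn, show post (MvPolynomial.aeval cc) (toConv (D.Phi e)) = D.prodPt e cc from
      (D.prodPt_eq e cc).symm, _root_.mul_assoc n n, _root_.mul_assoc n (n * _)]
  have hval : ∀ (g : VecGrp.pt k k ⟶ Z) (v : WithConv (A →ₐ[k] k)), g ≫ c = gp v →
      pullFn g (ev c (fnA a₁)) = v.ofConv a₁ := fun g v h => by rw [pullFn_ev, h, pullFn_gp]
  have h0 : MvPolynomial.eval (fun _ => (0 : k)) P = 0 := by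
    rw [hP, prodPt_zero, _root_.mul_one, mul_inv_cancel, _root_.mul_one, ← hval zn n hzn, hFn]
  have hzero : ∀ cc, MvPolynomial.eval cc P = 0 → ∃ b : VecGrp.pt k k ⟶ B, b ≫ iB ≫ c = gp (n * D.prodPt e cc * n⁻¹) :=
    fun cc h => by
    obtain ⟨z, hz⟩ := (hc _).mpr (hy cc)
    obtain ⟨b, hb⟩ := hFz (zn * z) (by
      rw [hval (zn * z) (n * (n * D.prodPt e cc * n⁻¹)) (by rw [MonObj.mul_comp, hzn, hz, map_mul]; simp only [map_mul, _root_.mul_assoc]), ← hP, h])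
    exact ⟨b, by rw [← Category.assoc, ← mul_left_cancel hb, hz]⟩
  exact infinite_zeros hm2 P h0 ((D.finite_opposite a f c iB hZ hc iT hiT hD hf hG hT hn ha hB hBT hBU e he
    hpe).subset fun cc h => hzero cc h)

end Chart

end Groth.Agent.RootChartLib
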