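import Groth.Agent.RootChartLib.RankTwoTools
import Mathlib.Algebra.DualNumber

/-!
# The relations of types A₁ × A₁ and A₂ in a chart
-/

set_option autoImplicit false
set_option linter.style.haveILetI false
set_option backward.isDefEq.respectTransparency false
set_option backward.isDefEq.respectTransparency.types false

universe u

open CategoryTheory Limits AlgebraicGeometry MonoidalCategory CartesianMonoidalCategory MonObj GrpObj WithConv
open scoped TensorProduct

namespace Groth.Agent.RootChartLib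

open GrpSchLib GrpSchLib.AffineHopf GModLib DynLib

namespace Chart

variable {R : Type u} [CommRing R] {A : Type u} [CommRing A] [HopfAlgebra R A] {M : Type} [AddCommGroup M]
  {idx : Type} {D : Chart R A M idx}

theorem Normalises.mul {n m : WithConv (A →ₐ[R] R)} {e e' : M ≃+ M} (hn : D.Normalises n e) (hm : D.Normalises m e') :
    D.Normalises (n * m) (e.trans e') := fun C _ _ χ => by
  rw [map_mul]
  calc up C n * up C m * D.tPt χ * (up C n * up C m)⁻¹ = up C n * (up C m * D.tPt χ * (up C m)⁻¹) * (up C n)⁻¹ := by group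
    _ = _ := by rw [hm, hn]; rfl

variable (D) [Module.Free ℤ M] [Module.Finite ℤ M] [Algebra.Smooth R A] [Fintype idx] {N : Type} [AddCommGroup N]
  {P : RootPairing idx ℤ M N} [P.IsReduced] (hD : D.GeomFibres) (hα : ∀ r, D.α r = P.root r)

omit [Module.Free ℤ M] [Module.Finite ℤ M] [Algebra.Smooth R A] [Fintype idx] [P.IsReduced] in
/-- Conjugating a coroot torus point by a point normalising the torus. -/
theorem Normalises.conj_tH {n : WithConv (A →ₐ[R] R)} {e : M ≃+ M} (hn : D.Normalises n e) {C : Type u} [CommRing C]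
    [Algebra R C] {a b : idx} (he : ∀ x, P.coroot' a (e x) = P.coroot' b x) (z : Cˣ) :
    up C n * D.tH P C a z * (up C n)⁻¹ = D.tH P C b z := by
  refine (hn C _).trans (congrArg D.tPt (MonoidHom.ext fun x => ?_))
  obtain ⟨x, rfl⟩ : ∃ m : M, Multiplicative.ofAdd m = x := ⟨x.toAdd, rfl⟩
  show ((coch P C a z (Multiplicative.ofAdd (e x)) : Cˣ) : C) = ((coch P C b z (Multiplicative.ofAdd x) : Cˣ) : C)
  rw [coch_apply, coch_apply, he]

omit [Module.Free ℤ M] [Module.Finite ℤ M] [Algebra.Smooth R A] [Fintype idx] [P.IsReduced] in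
include hα in
/-- Conjugating a coroot torus point by a Weyl point. -/
theorem wPt_conj_tH {a : idx} (h : D.DualAt P a) (b : idx) {A' : ℤ} (hA : P.pairing a b = A') (z : Rˣ) :
    D.wPt P a * D.tH P R b z * (D.wPt P a)⁻¹ = D.tH P R b z * D.tH P R a (z ^ (-A')) := by
  have h0 := D.normalises_wPt hα h R ((Units.coeHom R).comp (coch P R b z))
  rw [up_self] at h0
  refine h0.trans ?_
  rw [tH, tH, ← map_mul]
  refine congrArg D.tPt (MonoidHom.ext fun x => ?_)
  obtain ⟨x, rfl⟩ : ∃ m : M, Multiplicative.ofAdd m = x := ⟨x.toAdd, rfl⟩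
  show ((coch P R b z (Multiplicative.ofAdd (P.reflection a x)) : Rˣ) : R) =
    ((coch P R b z (Multiplicative.ofAdd x) * coch P R a (z ^ (-A')) (Multiplicative.ofAdd x) : Rˣ) : R)
  rw [coch_apply, coch_apply, coch_apply, P.reflection_apply, map_sub, map_zsmul, P.root_coroot'_eq_pairing, hA,
    ← zpow_mul, ← zpow_add, smul_eq_mul]
  congr 2
  ring

include hD hα in
/-- A point carrying a dual pair to a dual pair scales the two root groups equally, on an element of square zero. -/
theorem dual_coeff_aux {a b : idx} (ha : D.DualAt P a) (hb : D.DualAt P b) (n : WithConv (A →ₐ[R] R))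
    {C : Type u} [CommRing C] [Algebra R C] {ε k e : C} (hε : ε * ε = 1) (he : e * e = 0)
    (h1 : ∀ x : C, up C n * D.rPt a x * (up C n)⁻¹ = D.rPt b (ε * x))
    (h2 : ∀ y : C, up C n * D.rPt (P.reflectionPerm a a) y * (up C n)⁻¹ = D.rPt (P.reflectionPerm b b) (k * y))
    (h3 : ∀ z : Cˣ, up C n * D.tH P C a z * (up C n)⁻¹ = D.tH P C b z) : ε * e = k * e := by
  let z : Cˣ := Units.mkOfMulEqOne (1 + e) (1 - e) (by linear_combination -he)
  let z' : Cˣ := Units.mkOfMulEqOne (1 + ε * (k * e)) (1 - ε * (k * e)) (by linear_combination -(ε * k) ^ 2 * he)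
  have r1 := congrArg (fun w => up C n * w * (up C n)⁻¹) (ha C 1 e z (by simp [z]))
  have r2 := hb C ε (k * e) z' (by simp [z'])
  have e1 : ∀ p q r : WithConv (A →ₐ[R] C), up C n * (p * q * r) * (up C n)⁻¹ =
      (up C n * p * (up C n)⁻¹) * (up C n * q * (up C n)⁻¹) * (up C n * r * (up C n)⁻¹) := fun p q r => by group
  have e2 : ∀ p q : WithConv (A →ₐ[R] C), up C n * (p * q) * (up C n)⁻¹ =
      (up C n * p * (up C n)⁻¹) * (up C n * q * (up C n)⁻¹) := fun p q => by group
  simp only [e1, e2, h1, h2, h3, _root_.mul_one] at r1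
  obtain ⟨f, hfb⟩ : ∃ f : M →+ ℤ, 0 < f (D.α b) := by
    obtain ⟨φ, hφ⟩ := exists_form_ne_zero D.α D.α_ne
    rcases lt_or_gt_of_ne (hφ b) with hneg | hpos
    · exact ⟨-φ, neg_pos.mpr hneg⟩
    · exact ⟨φ, hpos⟩
  have hfb' : f (D.α (P.reflectionPerm b b)) < 0 := by
    rw [hα, RootData.root_neg, map_neg, neg_lt_zero, ← hα]; exact hfb
  have key := D.cellPt_unique f ![b] ![P.reflectionPerm b b] (by intro i; fin_cases i; exact hfb')
    (by intro i; fin_cases i; exact hfb) (fun i j _ => Subsingleton.elim i j) (fun i j _ => Subsingleton.elim i j)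
    (y := ![k * (((z⁻¹ : Cˣ) : C) * e)]) (χ := (Units.coeHom C).comp (coch P C b z))
    (x := ![ε * ((z⁻¹ : Cˣ) : C)])
    (y' := ![((z'⁻¹ : Cˣ) : C) * (k * e)]) (χ' := (Units.coeHom C).comp (coch P C b z'))
    (x' := ![((z'⁻¹ : Cˣ) : C) * ε]) (by
      simp only [cellPt, prodPt, Matrix.cons_val_zero, _root_.mul_one]
      rw [← _root_.mul_assoc (D.rPt (P.reflectionPerm b b) _), ← _root_.mul_assoc (D.rPt (P.reflectionPerm b b) _)]
      exact r1.symm.trans r2)
  have hx := congrFun key.2.2 0
  simp only [Matrix.cons_val_zero] at hx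
  have hz : ((z⁻¹ : Cˣ) : C) = 1 - e := rfl
  have hz' : ((z'⁻¹ : Cˣ) : C) = 1 - ε * (k * e) := rfl
  rw [hz, hz'] at hx
  linear_combination -hx + k * e * hε

include hD hα in
/-- A point carrying a dual pair to a dual pair scales the two root groups equally. -/
theorem dual_coeff {a b : idx} (ha : D.DualAt P a) (hb : D.DualAt P b) (n : WithConv (A →ₐ[R] R)) {ε k : R}
    (hε : ε * ε = 1)
    (h1 : ∀ (C : Type u) [CommRing C] [Algebra R C] (x : C),
      up C n * D.rPt a x * (up C n)⁻¹ = D.rPt b (algebraMap R C ε * x))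
    (h2 : ∀ (C : Type u) [CommRing C] [Algebra R C] (y : C),
      up C n * D.rPt (P.reflectionPerm a a) y * (up C n)⁻¹ = D.rPt (P.reflectionPerm b b) (algebraMap R C k * y))
    (h3 : ∀ (C : Type u) [CommRing C] [Algebra R C] (z : Cˣ),
      up C n * D.tH P C a z * (up C n)⁻¹ = D.tH P C b z) : k = ε := by
  have h := D.dual_coeff_aux hD hα ha hb n (C := DualNumber R) (by rw [← map_mul, hε, map_one])
    DualNumber.eps_mul_eps (h1 (DualNumber R)) (h2 (DualNumber R)) (h3 (DualNumber R))
  have := congrArg TrivSqZeroExt.snd h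
  rw [TrivSqZeroExt.snd_mul, TrivSqZeroExt.snd_mul, DualNumber.snd_eps, DualNumber.fst_eps] at this
  simpa [TrivSqZeroExt.algebraMap_eq_inl] using this.symm

variable {a b : idx} (hsp : SimplePair P a b) (f : M →+ ℤ) (hfa : 0 < f (P.root a)) (hfb : 0 < f (P.root b))
  (da : D.DualAt P a) (db : D.DualAt P b)

omit [Module.Free ℤ M] [Module.Finite ℤ M] [Algebra.Smooth R A] [Fintype idx] [P.IsReduced] in
include hsp in
theorem root_comb_ne (i j : ℤ) (h : i ≠ 0 ∨ j ≠ 0) : i • P.root a + j • P.root b ≠ 0 := fun e => by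
  have := hsp.indep i j e
  omega

section A1A1

variable (hab : P.pairing a b = 0) (hba : P.pairing b a = 0)

include hD hα hsp hab hba in
theorem A1A1_commute {C : Type u} [CommRing C] [Algebra R C] {r s : idx} {i j : ℤ} (hi : i = 1 ∨ i = -1)
    (hj : j = 1 ∨ j = -1) (hr : P.root r = i • P.root a) (hs : P.root s = j • P.root b) (x y : C) :
    D.rPt r x * D.rPt s y = D.rPt s y * D.rPt r x := by
  refine D.commute_root P hD hα (by rw [hr, hs]; exact root_comb_ne hsp i j (by omega)) ?_ x y
  rintro ⟨c, hc⟩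
  have := step_A1A1 (hsp.step hab hba) (i := i) (j := j) ⟨c, by rw [hc, hr, hs]⟩
  omega

include hD hα hsp hab hba da db in
theorem A1A1_sq : (D.wPt P a * D.wPt P b) ^ 2 = D.tH P R a (-1) * D.tH P R b (-1) := by
  have hc : ∀ {r s : idx}, (r = a ∨ r = P.reflectionPerm a a) → (s = b ∨ s = P.reflectionPerm b b) → ∀ x y : R,
      Commute (D.rPt r x) (D.rPt s y) := by
    intro r s hr hs x y
    obtain ⟨i, hi, hr'⟩ : ∃ i : ℤ, (i = 1 ∨ i = -1) ∧ P.root r = i • P.root a := by
      rcases hr with rfl | rfl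
      · exact ⟨1, Or.inl rfl, (one_smul _ _).symm⟩
      · exact ⟨-1, Or.inr rfl, by rw [RootData.root_neg, neg_smul, one_smul]⟩
    obtain ⟨j, hj, hs'⟩ : ∃ j : ℤ, (j = 1 ∨ j = -1) ∧ P.root s = j • P.root b := by
      rcases hs with rfl | rfl
      · exact ⟨1, Or.inl rfl, (one_smul _ _).symm⟩
      · exact ⟨-1, Or.inr rfl, by rw [RootData.root_neg, neg_smul, one_smul]⟩
    exact D.A1A1_commute hD hα hsp hab hba hi hj hr' hs' x y
  have hab' : Commute (D.wPt P a) (D.wPt P b) := by
    rw [wPt, wPt]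
    exact (((hc (.inl rfl) (.inl rfl) _ _).mul_right (hc (.inl rfl) (.inr rfl) _ _)).mul_right
        (hc (.inl rfl) (.inl rfl) _ _)).mul_left (((hc (.inr rfl) (.inl rfl) _ _).mul_right
        (hc (.inr rfl) (.inr rfl) _ _)).mul_right (hc (.inr rfl) (.inl rfl) _ _)) |>.mul_left
      (((hc (.inl rfl) (.inl rfl) _ _).mul_right (hc (.inl rfl) (.inr rfl) _ _)).mul_right
        (hc (.inl rfl) (.inl rfl) _ _))
  rw [hab'.mul_pow, pow_two, pow_two, D.wPt_sq hα da, D.wPt_sq hα db]

end A1A1

section A2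

variable (hab : P.pairing a b = -1) (hba : P.pairing b a = -1)

omit [Module.Free ℤ M] [Module.Finite ℤ M] [Algebra.Smooth R A] [Fintype idx] [P.IsReduced] in
include hab in
theorem A2_root : P.root (P.reflectionPerm b a) = P.root a + P.root b := by
  rw [refl_root, hab, neg_smul, one_smul, sub_neg_eq_add]

include hD hα hsp hfa hfb da db hab hba in
/-- The structure constant and the conjugate of a simple root group in type `A₂`. -/
theorem A2_main : ∃ c : R, (∀ x y : R, D.rPt a x * D.rPt b y * (D.rPt a x)⁻¹ =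
      D.rPt b y * D.rPt (P.reflectionPerm b a) (c * x * y)) ∧
    (∀ x : R, D.wPt P b * D.rPt a x * (D.wPt P b)⁻¹ = D.rPt (P.reflectionPerm b a) (-(c * x))) ∧
    (∀ x y : R, D.rPt b y * D.rPt a x = D.rPt a x * D.rPt b y * D.rPt (P.reflectionPerm b a) (-(c * x * y))) := by
  classical
  let ab := P.reflectionPerm b a
  have hrab : P.root ab = P.root a + P.root b := A2_root hab
  have hab1 : P.root ab = (1 : ℕ) • P.root a + (1 : ℕ) • P.root b := by rw [one_smul, one_smul, hrab]
  obtain ⟨c, hc⟩ := D.exists_formula_one P hD hα f hfa hfb le_rfl le_rfl hab1 (fun t i j hi hj ht => by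
    have := step_A2 (hsp.step hab hba) (i := i) (j := j) ⟨t, by rw [ht, natCast_zsmul, natCast_zsmul]⟩
      (by omega) (by omega)
    exact P.root.injective (by rw [ht, hab1, show i = 1 by omega, show j = 1 by omega]))
  simp only [pow_one] at hc
  have notroot : ∀ i j : ℤ, i ≠ 0 → j ≠ 0 → ¬ ((i = 1 ∧ j = 1) ∨ (i = -1 ∧ j = -1)) →
      i • P.root a + j • P.root b ∉ Set.range P.root := by
    rintro i j hi hj hne ⟨t, ht⟩
    rcases hsp.sign t i j ht with ⟨h1, h2⟩ | ⟨h1, h2⟩
    · have := step_A2 (hsp.step hab hba) ⟨t, ht⟩ (by omega) (by omega); omega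
    · have := step_A2 (hsp.step hab hba) (i := -i) (j := -j)
        ⟨P.reflectionPerm t t, by rw [RootData.root_neg, ht]; module⟩ (by omega) (by omega)
      omega
  have cbab : ∀ x y : R, Commute (D.rPt b x) (D.rPt ab y) := fun x y => D.commute_root P hD hα
    (by rw [hrab, show P.root b + (P.root a + P.root b) = (1:ℤ) • P.root a + (2:ℤ) • P.root b by module]
        exact root_comb_ne hsp _ _ (by omega))
    (by rw [hrab, show P.root b + (P.root a + P.root b) = (1:ℤ) • P.root a + (2:ℤ) • P.root b by module]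
        exact notroot _ _ (by omega) (by omega) (by omega)) x y
  have caab : ∀ x y : R, Commute (D.rPt a x) (D.rPt ab y) := fun x y => D.commute_root P hD hα
    (by rw [hrab, show P.root a + (P.root a + P.root b) = (2:ℤ) • P.root a + (1:ℤ) • P.root b by module]
        exact root_comb_ne hsp _ _ (by omega))
    (by rw [hrab, show P.root a + (P.root a + P.root b) = (2:ℤ) • P.root a + (1:ℤ) • P.root b by module]
        exact notroot _ _ (by omega) (by omega) (by omega)) x y
  have hswap : ∀ x y : R, D.rPt b y * D.rPt a x * (D.rPt b y)⁻¹ = D.rPt ab (-(c * x * y)) * D.rPt a x := by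
    intro x y
    have h := hc x y
    have h1 : D.rPt a x * D.rPt b y = D.rPt b y * D.rPt ab (c * x * y) * D.rPt a x := by rw [← h]; group
    rw [rPt_neg, mul_inv_eq_iff_eq_mul, _root_.mul_assoc _ (D.rPt a x), h1, (cbab _ _).eq]
    group
  -- the conjugate by the opposite root group
  let g := f.comp (P.reflection b).toLinearMap.toAddMonoidHom
  let b' := P.reflectionPerm b b
  have hgb : 0 < g (P.root b') := by
    show 0 < f (P.reflection b (P.root b'))
    rw [RootData.root_neg, map_neg, P.reflection_apply_self, neg_neg]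
    exact hfb
  have hgab : 0 < g (P.root ab) := by
    show 0 < f (P.reflection b (P.root ab))
    rw [← P.root_reflectionPerm, P.reflectionPerm_self]
    exact hfa
  have hroota : P.root a = (1 : ℕ) • P.root b' + (1 : ℕ) • P.root ab := by
    rw [RootData.root_neg, hrab]; module
  obtain ⟨d, hd⟩ := D.exists_formula_one P hD hα g hgb hgab le_rfl le_rfl hroota (fun t i j hi hj ht => by
    have ht' : P.root t = (j : ℤ) • P.root a + ((j : ℤ) - i) • P.root b := by
      rw [ht, RootData.root_neg, hrab, ← natCast_zsmul, ← natCast_zsmul]; module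
    rcases lt_trichotomy (0 : ℤ) ((j : ℤ) - i) with hlt | heq | hgt
    · have := step_A2 (hsp.step hab hba) ⟨t, ht'⟩ (by omega) (by omega); omega
    · have := hsp.coeff_left (c := t) (heq ▸ ht')
      exact P.root.injective (by rw [ht', ← heq, show (j : ℤ) = 1 by omega]; simp)
    · have := hsp.sign t _ _ ht'; omega)
  simp only [pow_one] at hd
  obtain ⟨k, hk⟩ := D.exists_wPt_coeff P hD hα db a
  have cb'a : ∀ x y : R, Commute (D.rPt b' x) (D.rPt a y) := fun x y => D.commute_root P hD hα
    (by rw [RootData.root_neg, show -P.root b + P.root a = (1:ℤ) • P.root a + (-1:ℤ) • P.root b by module]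
        exact root_comb_ne hsp _ _ (by omega))
    (by rw [RootData.root_neg, show -P.root b + P.root a = (1:ℤ) • P.root a + (-1:ℤ) • P.root b by module]
        exact notroot _ _ (by omega) (by omega) (by omega)) x y
  have hw : ∀ x : R, D.wPt P b * D.rPt a x * (D.wPt P b)⁻¹ = D.rPt ab (-(c * x)) * D.rPt a (d * (c * x) + x) := by
    intro x
    rw [D.wPt_braid hα db]
    calc _ = D.rPt b' (-1) * (D.rPt b 1 * (D.rPt b' (-1) * D.rPt a x * (D.rPt b' (-1))⁻¹) * (D.rPt b 1)⁻¹) *
          (D.rPt b' (-1))⁻¹ := by simp only [b']; group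
      _ = D.rPt b' (-1) * (D.rPt ab (-(c * x)) * D.rPt a x) * (D.rPt b' (-1))⁻¹ := by
        rw [(cb'a _ _).eq, mul_inv_cancel_right, hswap, _root_.mul_one]
      _ = (D.rPt b' (-1) * D.rPt ab (-(c * x)) * (D.rPt b' (-1))⁻¹) *
          (D.rPt b' (-1) * D.rPt a x * (D.rPt b' (-1))⁻¹) := by group
      _ = _ := by
        rw [(cb'a _ _).eq, mul_inv_cancel_right, hd, _root_.mul_assoc, ← rPt_add,
          show d * -1 * -(c * x) = d * (c * x) by ring]
  have hk' : k = -c := by
    have h1 := (hw 1).symm.trans (hk 1)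
    rw [show D.rPt ab (k * 1) = D.rPt ab (k * 1) * D.rPt a 0 by rw [rPt_zero]; exact (_root_.mul_one _).symm] at h1
    have hne : ab ≠ a := fun e => by
      have := hsp.indep 0 1 (by
        rw [e] at hrab
        rw [zero_smul, one_smul, zero_add]
        exact (add_eq_left.mp hrab.symm))
      omega
    obtain ⟨h, -⟩ := D.eq_of_prod_two P hα f hne (by rw [hrab, map_add]; omega) hfa h1
    simpa using h.symm
  refine ⟨c, hc, fun x => ?_, fun x y => ?_⟩
  · rw [hk x, hk', neg_mul]
  · have h := hswap x y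
    rw [mul_inv_eq_iff_eq_mul] at h
    rw [h, _root_.mul_assoc, ((caab x _).mul_left (cbab y _)).eq]

end A2

end Chart

end Groth.Agent.RootChartLib
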