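import Groth.Agent.RootChartLib.RankTwoA2Rel

/-!
# The relations of type `B₂` in a chart
-/

set_option autoImplicit false
set_option linter.style.haveILetI false
set_option backward.isDefEq.respectTransparency false
set_option backward.isDefEq.respectTransparency.types false

universe u

open CategoryTheory Limits AlgebraicGeometry MonoidalCategory CartesianMonoidalCategory MonObj GrpObj WithConv
open scoped TensorProduct

namespace Groth.Agent.RootChartLib

open GrpSchLib GrpSchLib.AffineHopf GModLib DynLib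

namespace Chart

variable {R : Type u} [CommRing R] {A : Type u} [CommRing A] [HopfAlgebra R A] {M : Type} [AddCommGroup M]
  {idx : Type} (D : Chart R A M idx) [Module.Free ℤ M] [Module.Finite ℤ M] [Algebra.Smooth R A] [Fintype idx]
  {N : Type} [AddCommGroup N] {P : RootPairing idx ℤ M N} [P.IsReduced] (hD : D.GeomFibres)
  (hα : ∀ r, D.α r = P.root r)

variable {a b : idx} (hsp : SimplePair P a b) (f : M →+ ℤ) (hfa : 0 < f (P.root a)) (hfb : 0 < f (P.root b))
  (da : D.DualAt P a) (db : D.DualAt P b) (hab : P.pairing a b = -1) (hba : P.pairing b a = -2)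

omit [Module.Free ℤ M] [Module.Finite ℤ M] [Algebra.Smooth R A] [Fintype idx] [P.IsReduced] in
include hab hba in
theorem B2_root : P.root (P.reflectionPerm b a) = (1 : ℤ) • P.root a + (1 : ℤ) • P.root b ∧
    P.root (P.reflectionPerm a b) = (2 : ℤ) • P.root a + (1 : ℤ) • P.root b :=
  ⟨by rw [refl_root, hab]; module, by rw [refl_root, hba]; module⟩

include hsp hab hba in
omit [Algebra.Smooth R A] in
/-- The roots among the combinations in type `B₂`. -/
theorem B2_notroot (i j : ℤ) (hi : i ≠ 0) (hj : j ≠ 0)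
    (h : ¬ ((i = 1 ∧ j = 1) ∨ (i = 2 ∧ j = 1) ∨ (i = -1 ∧ j = -1) ∨ (i = -2 ∧ j = -1))) :
    i • P.root a + j • P.root b ∉ Set.range P.root := by
  rintro ⟨t, ht⟩
  rcases hsp.sign t i j ht with ⟨h1, h2⟩ | ⟨h1, h2⟩
  · have := step_B2 (hsp.step hab hba) ⟨t, ht⟩ (by omega) (by omega); omega
  · have := step_B2 (hsp.step hab hba) (i := -i) (j := -j)
      ⟨P.reflectionPerm t t, by rw [RootData.root_neg, ht]; module⟩ (by omega) (by omega)
    omega

include hsp hab hba in
omit [Algebra.Smooth R A] in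
/-- A positive combination which is a root, in type `B₂`. -/
theorem B2_cases {t : idx} {i j : ℤ} (ht : P.root t = i • P.root a + j • P.root b) :
    ((i = 1 ∨ i = -1) ∧ j = 0) ∨ (i = 0 ∧ (j = 1 ∨ j = -1)) ∨ (i = 1 ∧ j = 1) ∨ (i = 2 ∧ j = 1) ∨
      (i = -1 ∧ j = -1) ∨ (i = -2 ∧ j = -1) := by
  by_cases hi : i = 0
  · have := hsp.coeff_right (c := t) (hi ▸ ht); omega
  by_cases hj : j = 0
  · have := hsp.coeff_left (c := t) (hj ▸ ht); omega
  by_contra h
  exact B2_notroot hsp hab hba i j hi hj (by omega) ⟨t, ht⟩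

include hD hα hsp hab hba in
theorem B2_commute {r s : idx} {i j i' j' : ℤ} (hr : P.root r = i • P.root a + j • P.root b)
    (hs : P.root s = i' • P.root a + j' • P.root b) (h0 : i + i' ≠ 0 ∨ j + j' ≠ 0)
    (h : ¬ (((i + i' = 1 ∨ i + i' = -1) ∧ j + j' = 0) ∨ (i + i' = 0 ∧ (j + j' = 1 ∨ j + j' = -1)) ∨
      (i + i' = 1 ∧ j + j' = 1) ∨ (i + i' = 2 ∧ j + j' = 1) ∨ (i + i' = -1 ∧ j + j' = -1) ∨
        (i + i' = -2 ∧ j + j' = -1))) (x y : R) : Commute (D.rPt r x) (D.rPt s y) := by
  have e : P.root r + P.root s = (i + i') • P.root a + (j + j') • P.root b := by rw [hr, hs]; module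
  refine D.commute_root P hD hα (by rw [e]; exact root_comb_ne hsp _ _ h0) ?_ x y
  rintro ⟨t, ht⟩
  exact h (B2_cases hsp hab hba (ht.trans e))

include hD hα hsp hfa hfb da db hab hba in
/-- The structure constants and the action of the Weyl points in type `B₂`. -/
theorem B2_main : ∃ c₁ c₂ : R,
    (∀ x y : R, D.rPt b y * D.rPt a x = D.rPt a x * D.rPt b y *
      D.rPt (P.reflectionPerm b a) (-(c₁ * (x * y))) * D.rPt (P.reflectionPerm a b) (c₂ * (x ^ 2 * y))) ∧
    (∀ x y : R, D.rPt (P.reflectionPerm b a) (-(c₁ * y)) * D.rPt a x = D.rPt a x *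
      D.rPt (P.reflectionPerm b a) (-(c₁ * y)) * D.rPt (P.reflectionPerm a b) (c₂ * (2 * x * y))) ∧
    (∀ x : R, D.wPt P b * D.rPt a x * (D.wPt P b)⁻¹ = D.rPt (P.reflectionPerm b a) (-(c₁ * x))) ∧
    (∀ x : R, D.wPt P a * D.rPt b x * (D.wPt P a)⁻¹ = D.rPt (P.reflectionPerm a b) (c₂ * x)) ∧
    (∀ x : R, D.wPt P a * D.rPt (P.reflectionPerm b a) x * (D.wPt P a)⁻¹ = D.rPt (P.reflectionPerm b a) (-x)) := by
  classical
  obtain ⟨hrab, hraab⟩ := B2_root (P := P) hab hba
  let ab := P.reflectionPerm b a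
  let aab := P.reflectionPerm a b
  let a' := P.reflectionPerm a a
  let b' := P.reflectionPerm b b
  have ea : P.root a = (1 : ℤ) • P.root a + (0 : ℤ) • P.root b := by module
  have eb : P.root b = (0 : ℤ) • P.root a + (1 : ℤ) • P.root b := by module
  have ea' : P.root a' = (-1 : ℤ) • P.root a + (0 : ℤ) • P.root b := by rw [RootData.root_neg]; module
  have eb' : P.root b' = (0 : ℤ) • P.root a + (-1 : ℤ) • P.root b := by rw [RootData.root_neg]; module
  have hne : ∀ {r s : idx} {i j i' j' : ℤ}, P.root r = i • P.root a + j • P.root b →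
      P.root s = i' • P.root a + j' • P.root b → (i ≠ i' ∨ j ≠ j') → r ≠ s := by
    rintro r s i j i' j' hr hs h rfl
    have := hsp.indep (i - i') (j - j') (by rw [sub_smul, sub_smul]; rw [hr] at hs; linear_combination (norm := module) hs)
    omega
  have cb_ab : ∀ x y : R, Commute (D.rPt b x) (D.rPt ab y) := fun x y => D.B2_commute hD hα hsp hab hba eb hrab (.inl (by omega)) (by omega) x y
  have cb_aab : ∀ x y : R, Commute (D.rPt b x) (D.rPt aab y) := fun x y => D.B2_commute hD hα hsp hab hba eb hraab (.inl (by omega)) (by omega) x y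
  have cab_aab : ∀ x y : R, Commute (D.rPt ab x) (D.rPt aab y) := fun x y => D.B2_commute hD hα hsp hab hba hrab hraab (.inl (by omega)) (by omega) x y
  have ca_aab : ∀ x y : R, Commute (D.rPt a x) (D.rPt aab y) := fun x y => D.B2_commute hD hα hsp hab hba ea hraab (.inl (by omega)) (by omega) x y
  have ca'_b : ∀ x y : R, Commute (D.rPt a' x) (D.rPt b y) := fun x y => D.B2_commute hD hα hsp hab hba ea' eb (.inl (by omega)) (by omega) x y
  have cb'_a : ∀ x y : R, Commute (D.rPt b' x) (D.rPt a y) := fun x y => D.B2_commute hD hα hsp hab hba eb' ea (.inl (by omega)) (by omega) x y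
  have cb'_aab : ∀ x y : R, Commute (D.rPt b' x) (D.rPt aab y) := fun x y => D.B2_commute hD hα hsp hab hba eb' hraab (.inl (by omega)) (by omega) x y
  have hfab : 0 < f (P.root ab) := by rw [hrab, map_add, map_zsmul, map_zsmul]; simp only [smul_eq_mul]; omega
  have hfaab : 0 < f (P.root aab) := by rw [hraab, map_add, map_zsmul, map_zsmul]; simp only [smul_eq_mul]; omega
  -- the commutator formulas
  have hn1 : P.root ab = (1 : ℕ) • P.root a + (1 : ℕ) • P.root b := by rw [hrab]; module
  have hn2 : P.root aab = (2 : ℕ) • P.root a + (1 : ℕ) • P.root b := by rw [hraab]; module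
  obtain ⟨c₁, c₂, hL⟩ := D.exists_formula_two P hD hα f hfa hfb le_rfl le_rfl (by omega) le_rfl
    (hne hrab hraab (.inl (by omega))) hn1 hn2 (fun t i j hi hj ht => by
      have := step_B2 (hsp.step hab hba) (i := i) (j := j) ⟨t, by rw [ht, natCast_zsmul, natCast_zsmul]⟩
        (by omega) (by omega)
      rcases this with ⟨h1, h2⟩ | ⟨h1, h2⟩
      · exact .inl (P.root.injective (by rw [ht, hn1, show i = 1 by omega, show j = 1 by omega]))
      · exact .inr (P.root.injective (by rw [ht, hn2, show i = 2 by omega, show j = 1 by omega])))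
  obtain ⟨e, hE⟩ := D.exists_formula_one P hD hα f hfa hfab (c := aab) le_rfl le_rfl (by rw [hraab, hrab]; module)
    (fun t i j hi hj ht => by
      have ht' : P.root t = ((i : ℤ) + j) • P.root a + (j : ℤ) • P.root b := by
        rw [ht, hrab, ← natCast_zsmul, ← natCast_zsmul]; module
      have := B2_cases hsp hab hba ht'
      exact P.root.injective (by
        rw [ht, hraab, hrab, show i = 1 by omega, show j = 1 by omega]; module))
  simp only [pow_one] at hL hE
  let g := f.comp (P.reflection a).toLinearMap.toAddMonoidHom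
  have hg : ∀ r, g (P.root r) = f (P.root (P.reflectionPerm a r)) := fun r => by
    rw [P.root_reflectionPerm]; rfl
  have hga' : 0 < g (P.root a') := by rw [hg, P.reflectionPerm_self]; exact hfa
  have hgaab : 0 < g (P.root aab) := by rw [hg, P.reflectionPerm_self]; exact hfb
  have hgab : 0 < g (P.root ab) := by
    rw [hg, P.root_reflectionPerm, hrab, map_add, map_zsmul, map_zsmul, P.reflection_apply_self,
      P.reflection_apply_root, hba, map_add, map_zsmul, map_zsmul, map_neg, map_sub, map_zsmul]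
    simp only [smul_eq_mul]
    omega
  obtain ⟨c₃, hG⟩ := D.exists_formula_one P hD hα g hga' hgab (c := b) le_rfl le_rfl
    (by rw [RootData.root_neg, hrab]; module) (fun t i j hi hj ht => by
      have ht' : P.root t = ((j : ℤ) - i) • P.root a + (j : ℤ) • P.root b := by
        rw [ht, RootData.root_neg, hrab, ← natCast_zsmul, ← natCast_zsmul]; module
      have := B2_cases hsp hab hba ht'
      exact P.root.injective (by
        rw [ht, RootData.root_neg, hrab, show i = 1 by omega, show j = 1 by omega]; module))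
  obtain ⟨h₁, h₂, hH⟩ := D.exists_formula_two P hD hα g hga' hgaab (c₁ := ab) (c₂ := b) le_rfl le_rfl
    (show 1 ≤ 2 by omega) le_rfl (hne hrab eb (.inl (by omega)))
    (by rw [hrab, RootData.root_neg, hraab]; module) (by rw [RootData.root_neg, hraab]; module)
    (fun t i j hi hj ht => by
      have ht' : P.root t = (2 * (j : ℤ) - i) • P.root a + (j : ℤ) • P.root b := by
        rw [ht, RootData.root_neg, hraab, ← natCast_zsmul, ← natCast_zsmul]; module
      have := B2_cases hsp hab hba ht'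
      rcases (show (i = 1 ∧ j = 1) ∨ (i = 2 ∧ j = 1) by omega) with ⟨rfl, rfl⟩ | ⟨rfl, rfl⟩
      · exact .inl (P.root.injective (by rw [ht, RootData.root_neg, hraab, hrab]; module))
      · exact .inr (P.root.injective (by rw [ht, RootData.root_neg, hraab]; module)))
  simp only [pow_one] at hG hH
  -- the abelian group on `b`, `ab`, `aab`
  let V : R → R → R → WithConv (A →ₐ[R] R) := fun s t u => D.rPt b s * (D.rPt ab t * D.rPt aab u)
  have hV : ∀ s t u s' t' u', V s t u * V s' t' u' = V (s + s') (t + t') (u + u') := by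
    intro s t u s' t' u'
    simp only [V, rPt_add]
    calc _ = D.rPt b s * ((D.rPt ab t * D.rPt aab u) * D.rPt b s') * (D.rPt ab t' * D.rPt aab u') := by group
      _ = D.rPt b s * (D.rPt b s' * (D.rPt ab t * D.rPt aab u)) * (D.rPt ab t' * D.rPt aab u') := by
        rw [((cb_ab s' t).mul_right (cb_aab s' u)).eq]
      _ = D.rPt b s * D.rPt b s' * (D.rPt ab t * (D.rPt aab u * D.rPt ab t') * D.rPt aab u') := by group
      _ = _ := by rw [← (cab_aab t' u).eq]; group
  have vb : ∀ s, D.rPt b s = V s 0 0 := fun s => by simp [V, rPt_zero]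
  have vab : ∀ t, D.rPt ab t = V 0 t 0 := fun t => by simp [V, rPt_zero]
  have vaab : ∀ u, D.rPt aab u = V 0 0 u := fun u => by simp [V, rPt_zero]
  have hp : ∀ x s t u, D.rPt a x * V s t u * (D.rPt a x)⁻¹ =
      V s (t + c₁ * x * s) (u + c₂ * x ^ 2 * s + e * x * t) := by
    intro x s t u
    calc _ = (D.rPt a x * D.rPt b s * (D.rPt a x)⁻¹) * ((D.rPt a x * D.rPt ab t * (D.rPt a x)⁻¹) *
          (D.rPt a x * D.rPt aab u * (D.rPt a x)⁻¹)) := by simp only [V]; group
      _ = (V s 0 0 * (V 0 (c₁ * x * s) 0 * V 0 0 (c₂ * x ^ 2 * s))) *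
          ((V 0 t 0 * V 0 0 (e * x * t)) * V 0 0 u) := by
        rw [hL, hE, (ca_aab x u).eq, mul_inv_cancel_right, ← vb, ← vab, ← vaab, ← vab, ← vaab, ← vaab]
      _ = _ := by simp only [hV]; congr 1 <;> ring
  have hm : ∀ s t u, D.rPt a' (-1) * V s t u * (D.rPt a' (-1))⁻¹ = V (s - c₃ * t + h₂ * u) (t - h₁ * u) u := by
    intro s t u
    calc _ = (D.rPt a' (-1) * D.rPt b s * (D.rPt a' (-1))⁻¹) * ((D.rPt a' (-1) * D.rPt ab t * (D.rPt a' (-1))⁻¹) *
          (D.rPt a' (-1) * D.rPt aab u * (D.rPt a' (-1))⁻¹)) := by simp only [V]; group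
      _ = V s 0 0 * ((V 0 t 0 * V (c₃ * -1 * t) 0 0) *
          (V 0 0 u * (V 0 (h₁ * -1 * u) 0 * V (h₂ * (-1) ^ 2 * u) 0 0))) := by
        rw [(ca'_b _ s).eq, mul_inv_cancel_right, hG, hH, ← vb, ← vab, ← vb, ← vaab, ← vab, ← vb]
      _ = _ := by simp only [hV]; congr 1 <;> ring
  have hw : ∀ s t u, D.wPt P a * V s t u * (D.wPt P a)⁻¹ =
      D.rPt a' (-1) * (D.rPt a 1 * (D.rPt a' (-1) * V s t u * (D.rPt a' (-1))⁻¹) * (D.rPt a 1)⁻¹) *
        (D.rPt a' (-1))⁻¹ := fun s t u => by rw [D.wPt_braid hα da]; simp only [a']; group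
  simp only [hm, hp] at hw
  obtain ⟨l, hl⟩ := D.exists_wPt_coeff P hD hα da b
  obtain ⟨q, hq⟩ := D.exists_wPt_coeff P hD hα da ab
  obtain ⟨l', hl'⟩ := D.exists_wPt_coeff P hD hα da aab
  have hfix : P.reflectionPerm a ab = ab := P.root.injective (by
    rw [P.root_reflectionPerm, hrab, map_add, map_zsmul, map_zsmul, P.reflection_apply_self, P.reflection_apply_root,
      hba]
    module)
  rw [hfix] at hq
  simp only [show P.reflectionPerm a aab = b from P.reflectionPerm_self a b] at hl'
  have hinj : ∀ {s t u s' t' u'}, V s t u = V s' t' u' → s = s' ∧ t = t' ∧ u = u' := fun h =>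
    D.eq_of_prod_three P hα f (hne eb hrab (.inl (by omega))) (hne eb hraab (.inl (by omega)))
      (hne hrab hraab (.inl (by omega))) hfb hfab hfaab h
  have w1 := hw 1 0 0
  have w2 := hw 0 1 0
  have w3 := hw 0 0 1
  rw [← vb, hl, vaab] at w1
  rw [← vab, hq, vab] at w2
  rw [← vaab, hl', vb] at w3
  obtain ⟨a1, a2, a3⟩ := hinj w1
  obtain ⟨b1, b2, b3⟩ := hinj w2
  obtain ⟨d1, d2, d3⟩ := hinj w3
  have hll : l' * l = 1 := by
    have h := D.wPt_sq_conj P hα da b 1
    rw [hl, hl', hba] at h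
    simpa using D.rPt_injective _ h
  have hec : e * c₁ = 2 * c₂ := by
    have e1 := hp 1 1 0 0
    have e2 := hp 2 1 0 0
    have e3 : D.rPt a 1 * (D.rPt a 1 * V 1 0 0 * (D.rPt a 1)⁻¹) * (D.rPt a 1)⁻¹ =
        D.rPt a 2 * V 1 0 0 * (D.rPt a 2)⁻¹ := by
      rw [show (2 : R) = 1 + 1 by norm_num, rPt_add]; group
    rw [e1, hp, e2] at e3
    have := (hinj e3).2.2
    linear_combination this
  have hlc : l = c₂ := by linear_combination a3
  subst hlc
  have hh2 : l' = h₂ := by linear_combination d1 + c₃ * d2 - (h₂ - c₃ * h₁) * d3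
  have hgc : c₁ * c₃ = 2 := by linear_combination a1 + hll - l * hh2
  have hk : ∀ x : R, D.wPt P b * D.rPt a x * (D.wPt P b)⁻¹ = D.rPt ab (-(c₁ * x)) := by
    intro x
    obtain ⟨k, hk⟩ := D.exists_wPt_coeff P hD hα db a
    have hswap : D.rPt b 1 * D.rPt a 1 * (D.rPt b 1)⁻¹ = D.rPt ab (-c₁) * D.rPt aab (-l) * D.rPt a 1 := by
      have h := hL 1 (-1)
      simp only [one_pow, _root_.mul_one, mul_neg] at h
      rw [mul_inv_eq_iff_eq_mul] at h
      rw [← rPt_neg, _root_.mul_assoc, h, rPt_neg]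
      simp only [ab, aab]
      group
    let g' := f.comp (P.reflection b).toLinearMap.toAddMonoidHom
    have hgb' : 0 < g' (P.root b') := by
      show 0 < f (P.reflection b (P.root b'))
      rw [← P.root_reflectionPerm, P.reflectionPerm_self]; exact hfb
    have hgab' : 0 < g' (P.root ab) := by
      show 0 < f (P.reflection b (P.root ab))
      rw [← P.root_reflectionPerm, P.reflectionPerm_self]; exact hfa
    obtain ⟨d₁, d₂, hd⟩ := D.exists_formula_two P hD hα g' hgb' hgab' (c₁ := a) (c₂ := aab) le_rfl le_rfl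
      le_rfl (show 1 ≤ 2 by omega) (hne ea hraab (.inl (by omega)))
      (by rw [RootData.root_neg, hrab]; module) (by rw [RootData.root_neg, hrab, hraab]; module)
      (fun t i j hi hj ht => by
        have ht' : P.root t = (j : ℤ) • P.root a + ((j : ℤ) - i) • P.root b := by
          rw [ht, RootData.root_neg, hrab, ← natCast_zsmul, ← natCast_zsmul]; module
        have := B2_cases hsp hab hba ht'
        rcases (show (i = 1 ∧ j = 1) ∨ (i = 1 ∧ j = 2) by omega) with ⟨rfl, rfl⟩ | ⟨rfl, rfl⟩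
        · exact .inl (P.root.injective (by rw [ht, RootData.root_neg, hrab]; module))
        · exact .inr (P.root.injective (by rw [ht, RootData.root_neg, hraab, hrab]; module)))
    simp only [pow_one] at hd
    have h := hk 1
    rw [D.wPt_braid hα db] at h
    have h' : D.rPt ab (-c₁) * (D.rPt a (d₁ * -1 * -c₁ + 1) * D.rPt aab (d₂ * -1 * (-c₁) ^ 2 + -l)) =
        D.rPt ab k * (D.rPt a 0 * D.rPt aab 0) := by
      rw [rPt_zero, rPt_zero, _root_.mul_one, _root_.mul_one, ← show k * 1 = k from _root_.mul_one k, ← h]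
      symm
      calc _ = D.rPt b' (-1) * (D.rPt b 1 * (D.rPt b' (-1) * D.rPt a 1 * (D.rPt b' (-1))⁻¹) * (D.rPt b 1)⁻¹) *
            (D.rPt b' (-1))⁻¹ := by simp only [b']; group
        _ = (D.rPt b' (-1) * D.rPt ab (-c₁) * (D.rPt b' (-1))⁻¹) *
            (D.rPt b' (-1) * D.rPt aab (-l) * (D.rPt b' (-1))⁻¹) *
            (D.rPt b' (-1) * D.rPt a 1 * (D.rPt b' (-1))⁻¹) := by
          rw [(cb'_a _ 1).eq, mul_inv_cancel_right, hswap]
          calc _ = D.rPt b' (-1) * D.rPt ab (-c₁) * D.rPt aab (-l) * (D.rPt a 1 * (D.rPt b' (-1))⁻¹) := by group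
            _ = D.rPt b' (-1) * D.rPt ab (-c₁) * D.rPt aab (-l) * ((D.rPt b' (-1))⁻¹ * D.rPt a 1) := by
              rw [((cb'_a (-1) 1).inv_left).eq]
            _ = _ := by group
        _ = _ := by
          rw [(cb'_a _ 1).eq, (cb'_aab _ (-l)).eq, mul_inv_cancel_right, mul_inv_cancel_right, hd,
            rPt_add, rPt_add]
          simp only [_root_.mul_assoc]
          rw [← (ca_aab 1 (-l)).eq, ← _root_.mul_assoc (D.rPt aab (d₂ * _)), ← (ca_aab 1 _).eq]
          simp only [_root_.mul_assoc]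
    obtain ⟨hk1, -, -⟩ := D.eq_of_prod_three P hα f (hne hrab ea (.inr (by omega))) (hne hrab hraab (.inl (by omega)))
      (hne ea hraab (.inl (by omega))) hfab hfa hfaab h'
    rw [hk x, ← hk1, neg_mul]
  refine ⟨c₁, l, fun x y => ?_, fun x y => ?_, hk, fun x => hl x, fun x => ?_⟩
  · have h := hp (-x) y 0 0
    rw [← vb, rPt_neg, _root_.inv_inv] at h
    calc D.rPt b y * D.rPt a x = D.rPt a x * ((D.rPt a x)⁻¹ * D.rPt b y * D.rPt a x) := by group
      _ = _ := by rw [h]; simp only [V, ab, aab, ← _root_.mul_assoc]; congr 2 <;> ring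
  · have h := hp (-x) 0 (-(c₁ * y)) 0
    rw [← vab, rPt_neg, _root_.inv_inv] at h
    calc D.rPt ab (-(c₁ * y)) * D.rPt a x =
          D.rPt a x * ((D.rPt a x)⁻¹ * D.rPt ab (-(c₁ * y)) * D.rPt a x) := by group
      _ = _ := by
        rw [h]; simp only [V, ab, aab, rPt_zero, _root_.one_mul, ← _root_.mul_assoc]
        congr 2
        · ring
        · linear_combination x * y * hec
  · rw [show D.wPt P a * D.rPt ab x * (D.wPt P a)⁻¹ = _ from hq x]
    congr 1
    linear_combination x * b2 + x * h₁ * b3 - x * hgc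

end Chart

end Groth.Agent.RootChartLib
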