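import Groth.Agent.RootChartLib.ReflConj
import Groth.Agent.RootChartLib.Commutator
import Groth.Agent.RootChartLib.CommFormula
import Groth.Agent.RootChartLib.RootFun
import Groth.Agent.GrpSchLib.RankOneBraid
import Groth.Agent.GrpSchLib.RankOneClosed
import Groth.Agent.GrpSchLib.RankOneRel

/-!
# Dual opposite root homomorphisms in a chart
-/

set_option autoImplicit false
set_option linter.style.haveILetI false
set_option backward.isDefEq.respectTransparency false
set_option backward.isDefEq.respectTransparency.types false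

universe u

open CategoryTheory Limits AlgebraicGeometry MonoidalCategory CartesianMonoidalCategory MonObj GrpObj WithConv
open scoped TensorProduct

namespace Groth.Agent.RootChartLib

open GrpSchLib GrpSchLib.AffineHopf GModLib DynLib

namespace Chart

variable {R : Type u} [CommRing R] {A : Type u} [CommRing A] [HopfAlgebra R A] {M : Type} [AddCommGroup M]
  {idx : Type} (D : Chart R A M idx) {N : Type} [AddCommGroup N] (P : RootPairing idx ℤ M N)

/-- The character of the torus given by a unit through a coroot. -/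
noncomputable def coch (C : Type u) [CommRing C] (a : idx) : Cˣ →* (Multiplicative M →* Cˣ) where
  toFun z := (zpowersHom Cˣ z).comp (P.coroot' a).toAddMonoidHom.toMultiplicative
  map_one' := MonoidHom.ext fun x => by simp [zpowersHom_apply]
  map_mul' z z' := MonoidHom.ext fun x => by simp [zpowersHom_apply, mul_zpow]

theorem coch_apply (C : Type u) [CommRing C] (a : idx) (z : Cˣ) (x : M) :
    coch P C a z (Multiplicative.ofAdd x) = z ^ P.coroot' a x := by
  simp [coch, zpowersHom_apply]

/-- The torus point of a character with values in units. -/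
noncomputable def tU (C : Type u) [CommRing C] [Algebra R C] :
    (Multiplicative M →* Cˣ) →* WithConv (A →ₐ[R] C) where
  toFun χ := D.tPt ((Units.coeHom C).comp χ)
  map_one' := by
    rw [← D.tPt_one]
    rfl
  map_mul' χ χ' := by
    rw [← D.tPt_mul]
    rfl

theorem tU_conj {C : Type u} [CommRing C] [Algebra R C] (χ : Multiplicative M →* Cˣ) (r : idx) (x : C) :
    D.tU C χ * D.rPt r x * (D.tU C χ)⁻¹ = D.rPt r ((χ (Multiplicative.ofAdd (D.α r)) : C) * x) :=
  D.tPt_conj r _ x

/-- The torus point of a coroot at a unit. -/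
noncomputable def tH (C : Type u) [CommRing C] [Algebra R C] (a : idx) (z : Cˣ) : WithConv (A →ₐ[R] C) :=
  D.tU C (coch P C a z)

theorem tH_mul {C : Type u} [CommRing C] [Algebra R C] (a : idx) (z z' : Cˣ) :
    D.tH P C a (z * z') = D.tH P C a z * D.tH P C a z' := by
  rw [tH, map_mul, map_mul, tH, tH]

theorem tH_conj (hα : ∀ r, D.α r = P.root r) {C : Type u} [CommRing C] [Algebra R C] (a r : idx) (z : Cˣ) (x : C) :
    D.tH P C a z * D.rPt r x * (D.tH P C a z)⁻¹ = D.rPt r (((z ^ P.pairing r a : Cˣ) : C) * x) := by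
  rw [tH, tU_conj, hα, coch_apply, P.root_coroot'_eq_pairing]

/-- The commutation rule of a dual pair of opposite root homomorphisms. -/
def DualAt (a : idx) : Prop :=
  ∀ (C : Type u) [CommRing C] [Algebra R C] (x y : C) (z : Cˣ), (z : C) = 1 + x * y →
    D.rPt a x * D.rPt (P.reflectionPerm a a) y =
      D.rPt (P.reflectionPerm a a) (((z⁻¹ : Cˣ) : C) * y) * D.tH P C a z * D.rPt a (((z⁻¹ : Cˣ) : C) * x)

/-- The Weyl point of a root. -/
noncomputable def wPt (a : idx) : WithConv (A →ₐ[R] R) :=
  D.rPt a (1 : R) * D.rPt (P.reflectionPerm a a) (-1 : R) * D.rPt a (1 : R)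

theorem up_rPt (C : Type u) [CommRing C] [Algebra R C] (r : idx) (x : R) :
    up C (D.rPt r x) = D.rPt r (algebraMap R C x) := by
  rw [up, post_rPt]
  rfl

theorem up_tH (C : Type u) [CommRing C] [Algebra R C] (a : idx) (z : Rˣ) :
    up C (D.tH P R a z) = D.tH P C a (Units.map (algebraMap R C : R →* C) z) := by
  show post (Algebra.ofId R C) (D.tPt ((Units.coeHom R).comp (coch P R a z))) = _
  rw [post_tPt]
  show _ = D.tPt _
  congr 1
  refine MonoidHom.ext fun x => ?_
  obtain ⟨x, rfl⟩ : ∃ m : M, Multiplicative.ofAdd m = x := ⟨x.toAdd, rfl⟩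
  simp only [MonoidHom.comp_apply, Units.coeHom_apply, coch_apply, ← map_zpow]
  rfl

theorem up_wPt (C : Type u) [CommRing C] [Algebra R C] (a : idx) :
    up C (D.wPt P a) = D.rPt a (1 : C) * D.rPt (P.reflectionPerm a a) (-1 : C) * D.rPt a (1 : C) := by
  rw [wPt, map_mul, map_mul, up_rPt, up_rPt, map_one, map_neg, map_one]

theorem rPt_neg {C : Type u} [CommRing C] [Algebra R C] (r : idx) (x : C) : D.rPt r (-x) = (D.rPt r x)⁻¹ :=
  (inv_eq_of_mul_eq_one_right (by rw [← rPt_add, add_neg_cancel, rPt_zero])).symm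

variable {P} (hα : ∀ r, D.α r = P.root r)

/-- The rank one system of a dual pair. -/
noncomputable def pairSys {a : idx} (h : D.DualAt P a) (C : Type u) [CommRing C] [Algebra R C] :
    GrpSchLib.RankOne.Sys C (WithConv (A →ₐ[R] C)) (Multiplicative M →* Cˣ) where
  p x := D.rPt a x
  m y := D.rPt (P.reflectionPerm a a) y
  I := D.tU C
  a := MonoidHom.mk' (fun χ => χ (Multiplicative.ofAdd (D.α a))) fun χ χ' => rfl
  av := coch P C a
  p_add := D.rPt_add a
  m_add := D.rPt_add _
  conj_p t x := D.tU_conj t a x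
  conj_m t y := by
    rw [D.tU_conj, MonoidHom.mk'_apply]
    congr 2
    rw [← Units.ext_iff, eq_inv_iff_mul_eq_one, ← map_mul, ← ofAdd_add, hα, hα, RootData.root_neg, neg_add_cancel]
    exact map_one t
  a_av v := by
    rw [MonoidHom.mk'_apply, hα, coch_apply, P.root_coroot'_eq_pairing, P.pairing_same]
    norm_cast
  rule x y u hu := h C x y u hu

variable {a : idx} (h : D.DualAt P a) {C : Type u} [CommRing C] [Algebra R C]

include hα h in
theorem normalises_wPt : D.Normalises (D.wPt P a) (P.reflection a).toAddEquiv := fun C _ _ χ => by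
  let Φ := D.pairSys hα h C
  let t : Multiplicative M →* Cˣ := χ.toHomUnits
  have ht : D.tPt χ = Φ.I t := congrArg D.tPt (MonoidHom.ext fun x => rfl)
  have hw : up C (D.wPt P a) = Φ.w 1 := by
    rw [up_wPt, GrpSchLib.RankOne.Sys.w, inv_one, Units.val_one]
    rfl
  rw [hw, ht, Φ.w_conj, ← map_inv, ← map_mul]
  refine congrArg D.tPt (MonoidHom.ext fun x => ?_)
  obtain ⟨x, rfl⟩ : ∃ m : M, Multiplicative.ofAdd m = x := ⟨x.toAdd, rfl⟩
  show (((coch P C a (t (Multiplicative.ofAdd (D.α a))))⁻¹ (Multiplicative.ofAdd x) *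
    t (Multiplicative.ofAdd x) : Cˣ) : C) = χ (Multiplicative.ofAdd (P.reflection a x))
  rw [MonoidHom.inv_apply, coch_apply, ← map_zpow, ← map_inv, ← map_mul, hα, ← ofAdd_zsmul, ← ofAdd_neg,
    ← ofAdd_add, neg_add_eq_sub, P.reflection_apply]
  rfl

include hα h in
theorem wPt_sq : D.wPt P a * D.wPt P a = D.tH P R a (-1) := by
  let Φ := D.pairSys hα h R
  have hw : D.wPt P a = Φ.w 1 := by
    rw [GrpSchLib.RankOne.Sys.w, inv_one, Units.val_one]
    rfl
  rw [hw, ← pow_two, Φ.w_sq]
  rfl

include hα h in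
theorem braided : (D.pairSys hα h C).Braided := by
  intro x
  let C' := AdjoinRoot (Polynomial.X ^ 2 - Polynomial.X + 1 : Polynomial C)
  have hmon : (Polynomial.X ^ 2 - Polynomial.X + 1 : Polynomial C).Monic := by
    monicity!
  let inc : C →ₐ[R] C' := IsScalarTower.toAlgHom R C C'
  have hinj : Function.Injective inc := by
    rcases subsingleton_or_nontrivial C with hC | hC
    · exact fun p q _ => Subsingleton.elim p q
    · refine (injective_iff_map_eq_zero inc).mpr fun c hc => ?_
      by_contra hc0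
      refine AdjoinRoot.mk_ne_zero_of_degree_lt hmon (Polynomial.C_ne_zero.mpr hc0) ?_ hc
      rw [Polynomial.degree_C hc0, show (Polynomial.X ^ 2 - Polynomial.X + 1 : Polynomial C).degree = 2 by compute_degree!]
      decide
  let rt : C' := AdjoinRoot.root _
  have hrt : rt * (1 - rt) = 1 := by
    have h0 := AdjoinRoot.eval₂_root (Polynomial.X ^ 2 - Polynomial.X + 1 : Polynomial C)
    simp only [Polynomial.eval₂_add, Polynomial.eval₂_sub, Polynomial.eval₂_pow, Polynomial.eval₂_X,
      Polynomial.eval₂_one] at h0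
    linear_combination -h0
  have key : post inc ((D.pairSys hα h C).m ((x⁻¹ : Cˣ) : C) * (D.pairSys hα h C).p (-(x : C)) *
      (D.pairSys hα h C).m ((x⁻¹ : Cˣ) : C)) = post inc ((D.pairSys hα h C).w (-x)) := by
    have hb := (D.pairSys hα h C').braid_of_unit (Units.map (inc : C →* C') x) (Units.mkOfMulEqOne rt (1 - rt) hrt)
      (Units.mkOfMulEqOne rt (1 - rt) hrt)⁻¹ rfl
    simp only [GrpSchLib.RankOne.Sys.w, pairSys, map_mul, post_rPt, map_neg] at hb ⊢
    simp [← map_inv] at hb ⊢
    erw [neg_neg]
    exact hb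
  exact WithConv.ofConv_injective (AlgHom.ext fun z => hinj (DFunLike.congr_fun (congrArg WithConv.ofConv key) z))

include hα h in
theorem wPt_braid : D.wPt P a =
    D.rPt (P.reflectionPerm a a) (-1 : R) * D.rPt a (1 : R) * D.rPt (P.reflectionPerm a a) (-1 : R) := by
  have hb := D.braided hα h (C := R) (-1)
  simp only [GrpSchLib.RankOne.Sys.w, pairSys, inv_neg, inv_one, neg_neg, Units.val_neg, Units.val_one] at hb
  exact hb.symm

end Chart

end Groth.Agent.RootChartLib
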