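import Groth.Agent.RootChartLib.DualPair
import Groth.Agent.RootChartLib.RankTwoBasic

/-!
# Reading dual pairs in charts
-/

set_option autoImplicit false
set_option linter.style.haveILetI false
set_option backward.isDefEq.respectTransparency false
set_option backward.isDefEq.respectTransparency.types false

universe u

open CategoryTheory Limits AlgebraicGeometry MonoidalCategory CartesianMonoidalCategory MonObj GrpObj WithConv
open scoped TensorProduct

namespace Groth.Agent.RootChartLib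

open GrpSchLib GrpSchLib.AffineHopf GModLib DynLib RankLib.SplitRedPts H23

variable {S : Scheme.{u}} {G : Over S} [GrpObj G] (D : Red.SplitRed G)

/-- The value of a character of the integers is a power of its value at one. -/
theorem char_int_eq_zpow {C : Type u} [CommRing C] (χ : Multiplicative ℤ →* C) (u : Cˣ)
    (hu : (u : C) = χ (Multiplicative.ofAdd 1)) (n : ℤ) : χ (Multiplicative.ofAdd n) = ((u ^ n : Cˣ) : C) := by
  have h : χ.toHomUnits = zpowersHom Cˣ u := MonoidHom.ext_mint (by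
    simp [zpowersHom_apply, Units.ext_iff, hu])
  exact congrArg Units.val (DFunLike.congr_fun h (Multiplicative.ofAdd n))

section Affine

variable {R : Type u} [CommRing R] (a : Spec (CommRingCat.of R) ⟶ S) {A : Type u} [CommRing A] [HopfAlgebra R A]
  (ε : Red.bc a G ≅ sp R A) [IsMonHom ε.hom] {C : Type u} [CommRing C] [Algebra R C]

/-- A coroot point read in a chart. -/
theorem rdA_avOf (r : D.idx) (z : (Over.map a).obj (sp R C) ⟶ Red.Gm S) (u : Cˣ)
    (hu : fnOf a (u : C) = Red.gmFn z) :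
    rdA a ε (z ≫ avOf D r ≫ D.i) = (chart D a ε).tH D.P C r u := by
  haveI := isMonHom_i D
  rw [Chart.tH, Chart.tU, MonoidHom.coe_mk, OneHom.coe_mk, ← rdA_i, ← Category.assoc]
  congr 2
  refine ch_injective D (MonoidHom.ext fun m => ?_)
  obtain ⟨m, rfl⟩ : ∃ x : D.M, Multiplicative.ofAdd x = m := ⟨m.toAdd, rfl⟩
  rw [ch_avOf, ch_tpt, MonoidHom.comp_apply, Units.coeHom_apply, Chart.coch_apply, coroot_eq_coroot']
  have hu' : fnOf a (u : C) = CharPts.chi (M := ℤ) z (Multiplicative.ofAdd 1) := hu.trans (gmFn_eq z)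
  rw [char_int_eq_zpow (CharPts.chi (M := ℤ) z)
    (Units.map (Scheme.ΓSpecIso (CommRingCat.of C)).inv.hom.toMonoidHom u) hu' _]
  exact (congrArg Units.val (map_zpow (Units.map (Scheme.ΓSpecIso (CommRingCat.of C)).inv.hom.toMonoidHom) u _)).symm

theorem fnOf_mul (x y : C) : fnOf a (x * y) = fnOf (k := R) a x * fnOf a y :=
  map_mul (Scheme.ΓSpecIso (CommRingCat.of C)).inv.hom x y

theorem fnOf_one_add_mul (x y : C) : fnOf a (1 + x * y) = 1 + fnOf (k := R) a x * fnOf a y := by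
  rw [← fnOf_mul]
  exact (map_add (Scheme.ΓSpecIso (CommRingCat.of C)).inv.hom 1 (x * y)).trans (congrArg (· + _) (map_one _))

/-- A dual pair read in a chart. -/
theorem dualAt_chart {r : D.idx} (h : IsDual D r) : (chart D a ε).DualAt D.P r := fun C _ _ x y u hu => by
  let X : Over S := (Over.map a).obj (sp R C)
  let x₀ : X ⟶ Red.Ga S := GaPts.ptOfFn (fnOf a x)
  let y₀ : X ⟶ Red.Ga S := GaPts.ptOfFn (fnOf a y)
  have hx₀ : Red.gaFn x₀ = fnOf a x := GaPts.gaFn_ptOfFn _
  have hy₀ : Red.gaFn y₀ = fnOf a y := GaPts.gaFn_ptOfFn _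
  have hsum : 1 + Red.gaFn x₀ * Red.gaFn y₀ = fnOf a (u : C) := by
    rw [hx₀, hy₀, hu, fnOf_one_add_mul]
  obtain ⟨x', y', z, hz, hx', hy', heq⟩ := h X x₀ y₀
    (hsum ▸ u.isUnit.map (Scheme.ΓSpecIso (CommRingCat.of C)).inv.hom)
  rw [hsum] at hz
  have hsol : ∀ (p : X ⟶ Red.Ga S) (q : C), Red.gaFn p * Red.gmFn z = fnOf a q →
      p = GaPts.ptOfFn (fnOf a (((u⁻¹ : Cˣ) : C) * q)) := fun p q hp => by
    refine GaPts.gaFn_injective ?_
    show Red.gaFn _ = Red.gaFn _
    rw [GaPts.gaFn_ptOfFn]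
    rw [hz] at hp
    rw [fnOf_mul, ← hp, mul_left_comm, ← fnOf_mul, Units.inv_mul, show fnOf a (1 : C) = 1 from map_one _,
      _root_.mul_one]
  rw [hsol x' x (hx'.trans hx₀), hsol y' y (hy'.trans hy₀)] at heq
  have := congrArg (rdA a ε) heq
  rwa [rdA_mul, rdA_mul, rdA_mul, rdA_u, rdA_u, rdA_u, rdA_u, rdA_avOf D a ε r z u hz.symm] at this

end Affine

variable {X : Over S} {C : Type u} [CommRing C] (j : Spec (CommRingCat.of C) ⟶ X.left)

theorem rd_eq_rdA (g : X ⟶ G) :
    rd D j g = rdA (base (X := X) j) (model D (base (X := X) j)).iso (test j ≫ g) := rfl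

theorem gc_one {x : X ⟶ Red.Ga S} (hx : Red.gaFn x = 1) : gc j x = 1 := by
  rw [gc, hx, map_one, map_one]

/-- A Weyl element read in a chart. -/
theorem rd_weyl (r : D.idx) {e₁ : 𝟙_ (Over S) ⟶ Red.Ga S} (he₁ : Red.gaFn e₁ = 1) :
    rd D j (toUnit X ≫ ((e₁ ≫ D.u r) * (e₁ ≫ D.u (D.P.reflectionPerm r r))⁻¹ * (e₁ ≫ D.u r))) =
      (cht D j).wPt D.P r := by
  have h1 : gc j (toUnit X ≫ e₁) = 1 := gc_one j (by rw [GaPts.gaFn_comp, he₁, map_one])
  rw [MonObj.comp_mul, MonObj.comp_mul, GrpObj.comp_inv, ← Category.assoc, ← Category.assoc, rd_mul, rd_mul, rd_inv,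
    rd_u, rd_u, h1, ← Chart.rPt_neg]
  rfl

/-- The coroot at minus one read in a chart. -/
theorem rd_minus_one (r : D.idx) {m₁ : 𝟙_ (Over S) ⟶ Red.Gm S} (hm₁ : Red.gmFn m₁ = -1) :
    rd D j (toUnit X ≫ m₁ ≫ avOf D r ≫ D.i) = (cht D j).tH D.P C r (-1) := by
  rw [rd_eq_rdA, ← Category.assoc, ← Category.assoc]
  refine rdA_avOf D _ _ r _ (-1) ?_
  simp only [Category.assoc]
  rw [GmPts.gmFn_comp, GmPts.gmFn_comp, hm₁, map_neg, map_neg, map_one, map_one, Units.val_neg, Units.val_one]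
  exact (map_neg (Scheme.ΓSpecIso (CommRingCat.of C)).inv.hom 1).trans (congrArg Neg.neg (map_one _))

end Groth.Agent.RootChartLib
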