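import Groth.Agent.RootChartLib.Commutator
import Groth.Agent.RootData.Simple

/-!
# Combinations of two simple roots
-/

set_option autoImplicit false

namespace Groth.Agent.RootChartLib

open RootData RootD

/-- A pair of roots whose combinations which are roots have coefficients of one sign. -/
structure SimplePair {ι M N : Type*} [AddCommGroup M] [AddCommGroup N] (P : RootPairing ι ℤ M N) (a b : ι) : Prop where
  sign : ∀ (c : ι) (i j : ℤ), P.root c = i • P.root a + j • P.root b → (0 ≤ i ∧ 0 ≤ j) ∨ (i ≤ 0 ∧ j ≤ 0)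
  indep : ∀ i j : ℤ, i • P.root a + j • P.root b = 0 → i = 0 ∧ j = 0

variable {ι M N : Type} [AddCommGroup M] [Module.Free ℤ M] [Module.Finite ℤ M] [AddCommGroup N] [Fintype ι]
  {P : RootPairing ι ℤ M N}

theorem SimplePair.symm {a b : ι} (h : SimplePair P a b) : SimplePair P b a :=
  ⟨fun c i j e => (h.sign c j i (by rw [e]; abel)).imp (fun h => ⟨h.2, h.1⟩) fun h => ⟨h.2, h.1⟩,
    fun i j e => (h.indep j i (by rw [← e]; abel)).symm⟩

/-- Two distinct roots of a simple system form a simple pair. -/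
theorem SimplePair.of_simple {Δ : Set ι} (hΔ : Simple P Δ) {a b : ι} (ha : a ∈ Δ) (hb : b ∈ Δ) (hne : a ≠ b) :
    SimplePair P a b := by
  classical
  have hcomb : ∀ i j : ℤ, comb P (Pi.single a i + Pi.single b j) = i • P.root a + j • P.root b := fun i j => by
    rw [comb_add, comb_single, comb_single]
  have hsupp : ∀ i j : ℤ, ∀ d, d ∉ Δ → (Pi.single a i + Pi.single b j : ι → ℤ) d = 0 := fun i j d hd => by
    have h1 : d ≠ a := fun e => hd (e ▸ ha)
    have h2 : d ≠ b := fun e => hd (e ▸ hb)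
    simp [h1, h2]
  refine ⟨fun c i j e => ?_, fun i j e => ?_⟩
  · have h := hΔ.co_unique (k := c) (hsupp i j) (by rw [hcomb, e])
    rcases hΔ.co_sign c with hs | hs <;> have h1 := hs a <;> have h2 := hs b <;>
      simp only [h, Pi.add_apply, Pi.single_eq_same, Pi.single_eq_of_ne hne, Pi.single_eq_of_ne hne.symm, add_zero,
        zero_add] at h1 h2
    · exact Or.inl ⟨h1, h2⟩
    · exact Or.inr ⟨h1, h2⟩
  · have h := li_comb_eq_zero hΔ.li (hsupp i j) (by rw [hcomb, e])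
    have h1 := congrFun h a
    have h2 := congrFun h b
    simp only [Pi.add_apply, Pi.single_eq_same, Pi.single_eq_of_ne hne, Pi.single_eq_of_ne hne.symm, add_zero,
      zero_add, Pi.zero_apply] at h1 h2
    exact ⟨h1, h2⟩

variable {a b : ι} {A B : ℤ}

/-- The reflected combination is a root. -/
theorem exists_refl_left (hba : P.pairing b a = B) {c : ι} {i j : ℤ} (h : P.root c = i • P.root a + j • P.root b) :
    ∃ c', P.root c' = (-i - B * j) • P.root a + j • P.root b := by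
  refine ⟨P.reflectionPerm a c, ?_⟩
  rw [P.root_reflectionPerm, h, map_add, map_zsmul, map_zsmul, P.reflection_apply_self,
    show P.reflection a (P.root b) = P.root b - B • P.root a by rw [P.reflection_apply_root, hba]]
  module

theorem exists_refl_right (hab : P.pairing a b = A) {c : ι} {i j : ℤ} (h : P.root c = i • P.root a + j • P.root b) :
    ∃ c', P.root c' = i • P.root a + (-j - A * i) • P.root b := by
  obtain ⟨c', hc'⟩ := exists_refl_left (a := b) (b := a) hab (i := j) (j := i) (by rw [h]; abel)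
  exact ⟨c', by rw [hc']; abel⟩

variable [P.IsReduced] (h : SimplePair P a b)

omit [Module.Free ℤ M] [Module.Finite ℤ M] [Fintype ι] [P.IsReduced] in
include h in
theorem SimplePair.ne : a ≠ b := by
  rintro rfl
  have := h.indep 1 (-1) (by simp)
  omega

include h in
theorem SimplePair.coeff_left {c : ι} {i : ℤ} (hc : P.root c = i • P.root a + (0 : ℤ) • P.root b) :
    i = 1 ∨ i = -1 := by
  rw [zero_smul, add_zero] at hc
  have hdep : ¬ LinearIndependent ℤ ![P.root c, P.root a] := fun hli => by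
    rw [LinearIndependent.pair_iff] at hli
    have := (hli 1 (-i) (by rw [hc, neg_smul, one_smul, add_neg_cancel])).1
    omega
  rcases RootPairing.IsReduced.eq_or_eq_neg c a hdep with e | e
  · left
    have := (h.indep (i - 1) 0 (by rw [sub_smul, one_smul, zero_smul, add_zero, ← hc, e, sub_self])).1
    omega
  · right
    have := (h.indep (i + 1) 0 (by rw [add_smul, one_smul, zero_smul, add_zero, ← hc, e, neg_add_cancel])).1
    omega

include h in
theorem SimplePair.coeff_right {c : ι} {j : ℤ} (hc : P.root c = (0 : ℤ) • P.root a + j • P.root b) :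
    j = 1 ∨ j = -1 :=
  h.symm.coeff_left (c := c) (by rw [hc]; abel)

/-- One step of the descent. -/
def Step (A B : ℤ) (Q : ℤ → ℤ → Prop) : Prop :=
  ∀ i j, Q i j → Q (-i - B * j) j ∧ Q i (-j - A * i) ∧ ((0 ≤ i ∧ 0 ≤ j) ∨ (i ≤ 0 ∧ j ≤ 0)) ∧
    (j = 0 → i = 1 ∨ i = -1) ∧ (i = 0 → j = 1 ∨ j = -1)

include h in
theorem SimplePair.step (hab : P.pairing a b = A) (hba : P.pairing b a = B) :
    Step A B fun i j => ∃ c, P.root c = i • P.root a + j • P.root b := by
  rintro i j ⟨c, hc⟩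
  exact ⟨exists_refl_left hba hc, exists_refl_right hab hc, h.sign c i j hc,
    fun hj => h.coeff_left (c := c) (hj ▸ hc), fun hi => h.coeff_right (c := c) (hi ▸ hc)⟩

theorem step_A1A1 {Q : ℤ → ℤ → Prop} (hQ : Step 0 0 Q) {i j : ℤ} (h : Q i j) :
    (j = 0 ∧ (i = 1 ∨ i = -1)) ∨ (i = 0 ∧ (j = 1 ∨ j = -1)) := by
  obtain ⟨h1, -, s0, l0, r0⟩ := hQ i j h
  obtain ⟨-, -, s1, -, -⟩ := hQ _ _ h1
  omega

theorem step_A2 {Q : ℤ → ℤ → Prop} (hQ : Step (-1) (-1) Q) {i j : ℤ} (h : Q i j) (hi : 1 ≤ i) (hj : 1 ≤ j) :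
    i = 1 ∧ j = 1 := by
  obtain ⟨h1, h2, -, -, -⟩ := hQ i j h
  obtain ⟨-, -, s1, -, r1⟩ := hQ _ _ h1
  obtain ⟨-, -, s2, l2, -⟩ := hQ _ _ h2
  omega

theorem step_B2 {Q : ℤ → ℤ → Prop} (hQ : Step (-1) (-2) Q) {i j : ℤ} (h : Q i j) (hi : 1 ≤ i) (hj : 1 ≤ j) :
    (i = 1 ∧ j = 1) ∨ (i = 2 ∧ j = 1) := by
  obtain ⟨h1, h2, -, -, -⟩ := hQ i j h
  obtain ⟨-, h12, s1, l1, r1⟩ := hQ _ _ h1
  obtain ⟨h21, -, s2, l2, r2⟩ := hQ _ _ h2
  obtain ⟨-, -, s12, l12, r12⟩ := hQ _ _ h12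
  obtain ⟨-, -, s21, l21, r21⟩ := hQ _ _ h21
  omega

theorem step_G2 {Q : ℤ → ℤ → Prop} (hQ : Step (-1) (-3) Q) {i j : ℤ} (h : Q i j) (hi : 1 ≤ i) (hj : 1 ≤ j) :
    (i = 1 ∧ j = 1) ∨ (i = 2 ∧ j = 1) ∨ (i = 3 ∧ j = 1) ∨ (i = 3 ∧ j = 2) := by
  obtain ⟨h1, h2, -, -, -⟩ := hQ i j h
  obtain ⟨-, h12, s1, l1, r1⟩ := hQ _ _ h1
  obtain ⟨h21, -, s2, l2, r2⟩ := hQ _ _ h2
  obtain ⟨h121, -, s12, l12, r12⟩ := hQ _ _ h12
  obtain ⟨-, h212, s21, l21, r21⟩ := hQ _ _ h21
  obtain ⟨-, h1212, s121, l121, r121⟩ := hQ _ _ h121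
  obtain ⟨h2121, -, s212, l212, r212⟩ := hQ _ _ h212
  obtain ⟨-, -, s1212, l1212, r1212⟩ := hQ _ _ h1212
  obtain ⟨-, -, s2121, l2121, r2121⟩ := hQ _ _ h2121
  omega

end Groth.Agent.RootChartLib
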