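import Groth.Agent.RootChartLib.RankTwoA2Rel

/-!
# Weyl points in type `G₂`
-/

set_option autoImplicit false
set_option linter.style.haveILetI false
set_option backward.isDefEq.respectTransparency false
set_option backward.isDefEq.respectTransparency.types false

universe u

open CategoryTheory Limits AlgebraicGeometry MonoidalCategory CartesianMonoidalCategory MonObj GrpObj WithConv
open scoped TensorProduct

namespace Groth.Agent.RootChartLib

open GrpSchLib GrpSchLib.AffineHopf GModLib DynLib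

/-- The order of a product in a group with the relations of type `G₂`. -/
theorem pow_six_of_relations {G : Type*} [Group G] {p q hp hq : G} (h1 : p * p = hp) (h2 : q * q = hq)
    (hp2 : hp * hp = 1) (hq2 : hq * hq = 1) (hpq : Commute hp hq) (h4 : p * hq * p⁻¹ = hq * hp)
    (h5 : q * hp * q⁻¹ = hp * hq) (h6 : Commute (p * q * p⁻¹) (q * p * q⁻¹)) : (p * q) ^ 6 = 1 := by
  have fp : p * hp * p⁻¹ = hp := by rw [← h1]; group
  have fq : q * hq * q⁻¹ = hq := by rw [← h2]; group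
  have c (g x y : G) : g * (x * y) * g⁻¹ = (g * x * g⁻¹) * (g * y * g⁻¹) := by group
  have hinv : hp⁻¹ = hp := inv_eq_of_mul_eq_one_right hp2
  have hqinv : hq⁻¹ = hq := inv_eq_of_mul_eq_one_right hq2
  have gq : q⁻¹ * hp * q = hp * hq := by
    calc q⁻¹ * hp * q = q⁻¹ * (hp * hq * hq) * q := by rw [_root_.mul_assoc hp hq hq, hq2, _root_.mul_one]
      _ = q⁻¹ * (q * hp * q⁻¹ * (q * hq * q⁻¹)) * q := by rw [h5, fq]
      _ = hp * hq := by group
  have swap : q * p * q⁻¹ * hq * (q * p * q⁻¹)⁻¹ = hp := by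
    calc _ = q * (p * (q⁻¹ * hq * q) * p⁻¹) * q⁻¹ := by group
      _ = q * (p * hq * p⁻¹) * q⁻¹ := by
        rw [show q⁻¹ * hq * q = hq by rw [← h2]; group]
      _ = (q * hq * q⁻¹) * (q * hp * q⁻¹) := by rw [h4, c]
      _ = hp := by rw [fq, h5, hpq.eq, ← _root_.mul_assoc, hq2, _root_.one_mul]
  have e : (p * q) ^ 3 = (p * q * p⁻¹) * (q * p * q⁻¹) := by
    calc (p * q) ^ 3 = (p * q * p⁻¹) * (p * p) * (q * p * q⁻¹) * (q * q) := by
          simp only [pow_succ, pow_zero, _root_.one_mul]; group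
      _ = (p * q * p⁻¹) * (q * p * q⁻¹) * ((q * p * q⁻¹)⁻¹ * hp * (q * p * q⁻¹)) * hq := by rw [h1, h2]; group
      _ = _ := by
        rw [show (q * p * q⁻¹)⁻¹ * hp * (q * p * q⁻¹) = hq by rw [← swap]; group, _root_.mul_assoc _ hq hq, hq2,
          _root_.mul_one]
  calc (p * q) ^ 6 = ((p * q) ^ 3) ^ 2 := by rw [← pow_mul]
    _ = (p * q * p⁻¹) ^ 2 * (q * p * q⁻¹) ^ 2 := by rw [e, h6.mul_pow]
    _ = (p * hq * p⁻¹) * (q * hp * q⁻¹) := by rw [← h1, ← h2, pow_two, pow_two]; group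
    _ = 1 := by
      rw [h4, h5, ← _root_.mul_assoc, _root_.mul_assoc hq hp hp, hp2, _root_.mul_one, hq2]

namespace Chart

variable {R : Type u} [CommRing R] {A : Type u} [CommRing A] [HopfAlgebra R A] {M : Type} [AddCommGroup M]
  {idx : Type} (D : Chart R A M idx) [Module.Free ℤ M] [Module.Finite ℤ M] [Algebra.Smooth R A] [Fintype idx]
  {N : Type} [AddCommGroup N] {P : RootPairing idx ℤ M N} [P.IsReduced] (hD : D.GeomFibres)
  (hα : ∀ r, D.α r = P.root r)

variable {a b : idx} (hsp : SimplePair P a b) (f : M →+ ℤ) (hfa : 0 < f (P.root a)) (hfb : 0 < f (P.root b))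
  (da : D.DualAt P a) (db : D.DualAt P b) (hab : P.pairing a b = -1) (hba : P.pairing b a = -3)

omit [Module.Free ℤ M] [Module.Finite ℤ M] [Algebra.Smooth R A] [Fintype idx] [P.IsReduced] in
include hab hba in
/-- The positive roots of type `G₂` other than the simple ones. -/
theorem G2_root : P.root (P.reflectionPerm b a) = (1 : ℤ) • P.root a + (1 : ℤ) • P.root b ∧
    P.root (P.reflectionPerm a (P.reflectionPerm b a)) = (2 : ℤ) • P.root a + (1 : ℤ) • P.root b ∧
    P.root (P.reflectionPerm a b) = (3 : ℤ) • P.root a + (1 : ℤ) • P.root b ∧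
    P.root (P.reflectionPerm b (P.reflectionPerm a b)) = (3 : ℤ) • P.root a + (2 : ℤ) • P.root b := by
  have h1 : P.root (P.reflectionPerm b a) = (1 : ℤ) • P.root a + (1 : ℤ) • P.root b := by
    rw [refl_root, hab]; module
  have h3 : P.root (P.reflectionPerm a b) = (3 : ℤ) • P.root a + (1 : ℤ) • P.root b := by
    rw [refl_root, hba]; module
  refine ⟨h1, ?_, h3, ?_⟩
  · rw [P.root_reflectionPerm, h1, map_add, map_zsmul, map_zsmul, P.reflection_apply_self, P.reflection_apply_root, hba]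
    module
  · rw [P.root_reflectionPerm, h3, map_add, map_zsmul, map_zsmul, P.reflection_apply_self, P.reflection_apply_root, hab]
    module

include hsp hab hba in
omit [Algebra.Smooth R A] in
/-- The roots among the combinations in type `G₂`. -/
theorem G2_notroot (i j : ℤ) (hi : i ≠ 0) (hj : j ≠ 0)
    (h : ¬ ((i = 1 ∧ j = 1) ∨ (i = 2 ∧ j = 1) ∨ (i = 3 ∧ j = 1) ∨ (i = 3 ∧ j = 2) ∨
      (i = -1 ∧ j = -1) ∨ (i = -2 ∧ j = -1) ∨ (i = -3 ∧ j = -1) ∨ (i = -3 ∧ j = -2))) :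
    i • P.root a + j • P.root b ∉ Set.range P.root := by
  rintro ⟨t, ht⟩
  rcases hsp.sign t i j ht with ⟨h1, h2⟩ | ⟨h1, h2⟩
  · have := step_G2 (hsp.step hab hba) ⟨t, ht⟩ (by omega) (by omega); omega
  · have := step_G2 (hsp.step hab hba) (i := -i) (j := -j)
      ⟨P.reflectionPerm t t, by rw [RootData.root_neg, ht]; module⟩ (by omega) (by omega)
    omega

include hsp hab hba in
omit [Algebra.Smooth R A] in
/-- The combinations which are roots in type `G₂`. -/
theorem G2_cases {t : idx} {i j : ℤ} (ht : P.root t = i • P.root a + j • P.root b) :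
    ((i = 1 ∨ i = -1) ∧ j = 0) ∨ (i = 0 ∧ (j = 1 ∨ j = -1)) ∨ (i = 1 ∧ j = 1) ∨ (i = 2 ∧ j = 1) ∨
      (i = 3 ∧ j = 1) ∨ (i = 3 ∧ j = 2) ∨ (i = -1 ∧ j = -1) ∨ (i = -2 ∧ j = -1) ∨ (i = -3 ∧ j = -1) ∨
        (i = -3 ∧ j = -2) := by
  by_cases hi : i = 0
  · have := hsp.coeff_right (c := t) (hi ▸ ht); omega
  by_cases hj : j = 0
  · have := hsp.coeff_left (c := t) (hj ▸ ht); omega
  by_contra h
  exact G2_notroot hsp hab hba i j hi hj (by omega) ⟨t, ht⟩

include hD hα hsp hab hba in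
theorem G2_commute {r s : idx} {i j i' j' : ℤ} (hr : P.root r = i • P.root a + j • P.root b)
    (hs : P.root s = i' • P.root a + j' • P.root b) (h0 : i + i' ≠ 0 ∨ j + j' ≠ 0)
    (h : ¬ (((i + i' = 1 ∨ i + i' = -1) ∧ j + j' = 0) ∨ (i + i' = 0 ∧ (j + j' = 1 ∨ j + j' = -1)) ∨
      (i + i' = 1 ∧ j + j' = 1) ∨ (i + i' = 2 ∧ j + j' = 1) ∨ (i + i' = 3 ∧ j + j' = 1) ∨ (i + i' = 3 ∧ j + j' = 2) ∨
      (i + i' = -1 ∧ j + j' = -1) ∨ (i + i' = -2 ∧ j + j' = -1) ∨ (i + i' = -3 ∧ j + j' = -1) ∨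
        (i + i' = -3 ∧ j + j' = -2)))
    {C : Type u} [CommRing C] [Algebra R C] (x y : C) : Commute (D.rPt r x) (D.rPt s y) := by
  have e : P.root r + P.root s = (i + i') • P.root a + (j + j') • P.root b := by rw [hr, hs]; module
  refine D.commute_root P hD hα (by rw [e]; exact root_comb_ne hsp _ _ h0) ?_ x y
  rintro ⟨t, ht⟩
  exact h (G2_cases hsp hab hba (ht.trans e))

include hD hα hsp hab hba in
/-- A Weyl point commutes with a root group orthogonal to it. -/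
theorem G2_wPt_commute {r s : idx} {i j i' j' : ℤ} (hr : P.root r = i • P.root a + j • P.root b)
    (hs : P.root s = i' • P.root a + j' • P.root b)
    (h : (r = a ∧ i' = 3 ∧ j' = 2) ∨ (r = b ∧ i' = 2 ∧ j' = 1)) (x : R) :
    Commute (D.wPt P r) (D.rPt s x) := by
  have hn : P.root (P.reflectionPerm r r) = (-i) • P.root a + (-j) • P.root b := by
    rw [RootData.root_neg, hr]; module
  have hij : (i = 1 ∧ j = 0 ∧ i' = 3 ∧ j' = 2) ∨ (i = 0 ∧ j = 1 ∧ i' = 2 ∧ j' = 1) := by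
    rcases h with ⟨rfl, h1, h2⟩ | ⟨rfl, h1, h2⟩
    · obtain ⟨e1, e2⟩ := hsp.indep (i - 1) j (by linear_combination (norm := module) -hr)
      exact .inl ⟨by omega, e2, h1, h2⟩
    · obtain ⟨e1, e2⟩ := hsp.indep i (j - 1) (by linear_combination (norm := module) -hr)
      exact .inr ⟨e1, by omega, h1, h2⟩
  have h1 := fun y => D.G2_commute hD hα hsp hab hba hr hs (C := R) (by omega) (by omega) y x
  have h2 := fun y => D.G2_commute hD hα hsp hab hba hn hs (C := R) (by omega) (by omega) y x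
  exact ((h1 1).mul_left (h2 (-1))).mul_left (h1 1)

include hD hα hsp da db hab hba in
/-- The action of the Weyl points in type `G₂`. -/
theorem G2_act (x : R) :
    D.wPt P a * (D.wPt P a * (D.wPt P b * D.rPt a x * (D.wPt P b)⁻¹) * (D.wPt P a)⁻¹) * (D.wPt P a)⁻¹ =
        D.wPt P b * D.rPt a (-x) * (D.wPt P b)⁻¹ ∧
      D.wPt P a * (D.wPt P a * (D.rPt b x)⁻¹ * (D.wPt P a)⁻¹) * (D.wPt P a)⁻¹ = D.rPt b x ∧
      D.wPt P a * (D.wPt P b * (D.wPt P a * (D.rPt b x)⁻¹ * (D.wPt P a)⁻¹) * (D.wPt P b)⁻¹) * (D.wPt P a)⁻¹ =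
        D.wPt P b * (D.wPt P a * (D.rPt b x)⁻¹ * (D.wPt P a)⁻¹) * (D.wPt P b)⁻¹ ∧
      D.wPt P b * (D.wPt P b * D.rPt a x * (D.wPt P b)⁻¹) * (D.wPt P b)⁻¹ = D.rPt a (-x) ∧
      D.wPt P b * (D.wPt P a * (D.wPt P b * D.rPt a x * (D.wPt P b)⁻¹) * (D.wPt P a)⁻¹) * (D.wPt P b)⁻¹ =
        D.wPt P a * (D.wPt P b * D.rPt a x * (D.wPt P b)⁻¹) * (D.wPt P a)⁻¹ ∧
      D.wPt P b * (D.wPt P b * (D.wPt P a * (D.rPt b x)⁻¹ * (D.wPt P a)⁻¹) * (D.wPt P b)⁻¹) * (D.wPt P b)⁻¹ =
        D.wPt P a * (D.rPt b (-x))⁻¹ * (D.wPt P a)⁻¹ := by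
  obtain ⟨h11, h21, h31, h32⟩ := G2_root (P := P) hab hba
  have eb : P.root b = (0 : ℤ) • P.root a + (1 : ℤ) • P.root b := by module
  have ea : P.root a = (1 : ℤ) • P.root a + (0 : ℤ) • P.root b := by module
  obtain ⟨k, hk⟩ := D.exists_wPt_coeff P hD hα db a
  obtain ⟨l, hl⟩ := D.exists_wPt_coeff P hD hα da b
  obtain ⟨k', hk'⟩ := D.exists_wPt_coeff P hD hα da (P.reflectionPerm b a)
  obtain ⟨l', hl'⟩ := D.exists_wPt_coeff P hD hα db (P.reflectionPerm a b)
  have pab : P.pairing (P.reflectionPerm b a) a = -1 := by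
    rw [← P.root_coroot'_eq_pairing, h11, map_add, map_zsmul, map_zsmul, P.root_coroot'_eq_pairing,
      P.root_coroot'_eq_pairing, hba, P.pairing_same]
    norm_num
  have pba : P.pairing (P.reflectionPerm a b) b = -1 := by
    rw [← P.root_coroot'_eq_pairing, h31, map_add, map_zsmul, map_zsmul, P.root_coroot'_eq_pairing,
      P.root_coroot'_eq_pairing, hab, P.pairing_same]
    norm_num
  refine ⟨?_, ?_, ?_, ?_, ?_, ?_⟩
  · rw [hk, D.wPt_sq_conj P hα da, pab, hk]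
    simp
  · rw [← rPt_neg, D.wPt_sq_conj P hα da, hba]
    norm_num
  · rw [← rPt_neg, hl, hl', (D.G2_wPt_commute hD hα hsp hab hba ea h32 (.inl ⟨rfl, rfl, rfl⟩) _).eq,
      mul_inv_cancel_right]
  · rw [D.wPt_sq_conj P hα db, hab]; simp
  · rw [hk, hk', (D.G2_wPt_commute hD hα hsp hab hba eb h21 (.inr ⟨rfl, rfl, rfl⟩) _).eq, mul_inv_cancel_right]
  · rw [← rPt_neg, ← rPt_neg, hl, D.wPt_sq_conj P hα db, pba, hl]
    simp

include hD hα hsp da db hab hba in
/-- The Coxeter relation in type `G₂`. -/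
theorem G2_coxeter : (D.wPt P a * D.wPt P b) ^ 6 = 1 := by
  obtain ⟨h11, h21, h31, h32⟩ := G2_root (P := P) hab hba
  have c1 := D.wPt_conj_tH hα da b hab (-1)
  have c2 := D.wPt_conj_tH hα db a hba (-1)
  simp only [neg_neg, zpow_one] at c1 c2
  rw [show ((-1 : Rˣ) ^ (3 : ℤ)) = -1 from Odd.neg_one_zpow (by decide)] at c2
  obtain ⟨l, hl⟩ := D.exists_wPt_coeff P hD hα da b
  obtain ⟨l', hl'⟩ := D.exists_wPt_coeff P hD hα da (P.reflectionPerm b b)
  obtain ⟨k, hk⟩ := D.exists_wPt_coeff P hD hα db a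
  obtain ⟨k', hk'⟩ := D.exists_wPt_coeff P hD hα db (P.reflectionPerm a a)
  have hN : Commute (D.wPt P a * D.wPt P b * (D.wPt P a)⁻¹) (D.wPt P b * D.wPt P a * (D.wPt P b)⁻¹) := by
    have n31 : P.root (P.reflectionPerm a (P.reflectionPerm b b)) = (-3 : ℤ) • P.root a + (-1 : ℤ) • P.root b := by
      rw [P.root_reflectionPerm, RootData.root_neg, map_neg, ← P.root_reflectionPerm, h31]; module
    have n11 : P.root (P.reflectionPerm b (P.reflectionPerm a a)) = (-1 : ℤ) • P.root a + (-1 : ℤ) • P.root b := by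
      rw [P.root_reflectionPerm, RootData.root_neg, map_neg, ← P.root_reflectionPerm, h11]; module
    have e : ∀ (g h : WithConv (A →ₐ[R] R)) (p q r : WithConv (A →ₐ[R] R)), h = p * q * r →
        g * h * g⁻¹ = (g * p * g⁻¹) * (g * q * g⁻¹) * (g * r * g⁻¹) := fun g h p q r e => by rw [e]; group
    rw [e (D.wPt P a) (D.wPt P b) _ _ _ rfl, e (D.wPt P b) (D.wPt P a) _ _ _ rfl, hl, hl', hk, hk']
    have q1 := fun x y => D.G2_commute hD hα hsp hab hba h31 h11 (C := R) (.inl (by omega)) (by omega) x y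
    have q2 := fun x y => D.G2_commute hD hα hsp hab hba h31 n11 (C := R) (.inl (by omega)) (by omega) x y
    have q3 := fun x y => D.G2_commute hD hα hsp hab hba n31 h11 (C := R) (.inl (by omega)) (by omega) x y
    have q4 := fun x y => D.G2_commute hD hα hsp hab hba n31 n11 (C := R) (.inl (by omega)) (by omega) x y
    refine (((q1 _ _).mul_right (q2 _ _)).mul_right (q1 _ _)).mul_left
      (((q3 _ _).mul_right (q4 _ _)).mul_right (q3 _ _)) |>.mul_left
      (((q1 _ _).mul_right (q2 _ _)).mul_right (q1 _ _))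
  have hone : ∀ r, D.tH P R r (-1) * D.tH P R r (-1) = 1 := fun r => by
    rw [← tH_mul, neg_mul_neg, _root_.one_mul, tH, map_one, map_one]
  exact pow_six_of_relations (D.wPt_sq hα da) (D.wPt_sq hα db) (hone a) (hone b)
    (by show _ * _ = _ * _; rw [tH, tH, ← map_mul, ← map_mul]; exact congrArg _ (MonoidHom.ext fun x => mul_comm (coch P R a (-1) x) (coch P R b (-1) x))) c1 c2 hN

end Chart

end Groth.Agent.RootChartLib
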