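import Groth.Agent.RootChartLib.RankTwoSetting
import Groth.Agent.RootChartLib.RankTwoB2Rel

/-!
# The relations of type `B₂` for points
-/

set_option autoImplicit false
set_option linter.style.haveILetI false
set_option backward.isDefEq.respectTransparency false
set_option backward.isDefEq.respectTransparency.types false

universe u

open CategoryTheory Limits AlgebraicGeometry MonoidalCategory CartesianMonoidalCategory MonObj GrpObj WithConv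
open scoped TensorProduct

namespace Groth.Agent.RootChartLib

open GrpSchLib GrpSchLib.AffineHopf GModLib DynLib RankLib.SplitRedPts H23

variable {S : Scheme.{u}} {G : Over S} [GrpObj G] (D : Red.SplitRed G) (bs : D.P.Base)
  {a b : D.idx} (ha : a ∈ bs.support) (hb : b ∈ bs.support) (hne : a ≠ b) (hd : ∀ r ∈ bs.support, IsDual D r)
  {e₁ : 𝟙_ (Over S) ⟶ Red.Ga S} (he₁ : Red.gaFn e₁ = 1) {wa wb : 𝟙_ (Over S) ⟶ G}
  (hwa : wa = (e₁ ≫ D.u a) * (e₁ ≫ D.u (D.P.reflectionPerm a a))⁻¹ * (e₁ ≫ D.u a))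
  (hwb : wb = (e₁ ≫ D.u b) * (e₁ ≫ D.u (D.P.reflectionPerm b b))⁻¹ * (e₁ ≫ D.u b))
  (hab : D.P.pairing a b = -1) (hba : D.P.pairing b a = -2)

include ha hb hne hd he₁ hwa hwb hab hba

theorem weyl_B2 {m₁ : 𝟙_ (Over S) ⟶ Red.Gm S} (hm₁ : Red.gmFn m₁ = -1) :
    (wa * wb) ^ 4 = m₁ ≫ avOf D a ≫ D.i ∧ (wb * wa) ^ 4 = m₁ ≫ avOf D a ≫ D.i := by
  constructor
  · refine eq_of_rankTwo D bs ha hb hne hd _ _ fun C _ j h => ?_
    haveI := h.reduced; haveI := h.smooth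
    obtain ⟨f, hfa, hfb⟩ := h.fn
    rw [rd_pow, rd_mul, rd_sec D j wa, rd_sec D j wb, rd_sec D j (m₁ ≫ _), rd_w D a hwa he₁, rd_w D b hwb he₁,
      rd_minus_one D j a hm₁]
    exact ((cht D j).B2_coxeter h.geom h.hα h.pair f hfa hfb h.dual_left h.dual_right hab hba).1
  · refine eq_of_rankTwo D bs ha hb hne hd _ _ fun C _ j h => ?_
    haveI := h.reduced; haveI := h.smooth
    obtain ⟨f, hfa, hfb⟩ := h.fn
    rw [rd_pow, rd_mul, rd_sec D j wa, rd_sec D j wb, rd_sec D j (m₁ ≫ _), rd_w D a hwa he₁, rd_w D b hwb he₁,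
      rd_minus_one D j a hm₁]
    exact ((cht D j).B2_coxeter h.geom h.hα h.pair f hfa hfb h.dual_left h.dual_right hab hba).2

theorem comm_B2 {X : Over S} (x y xy xxy txy : X ⟶ Red.Ga S) (hxy : Red.gaFn xy = Red.gaFn x * Red.gaFn y)
    (hxxy : Red.gaFn xxy = Red.gaFn x ^ 2 * Red.gaFn y) (htxy : Red.gaFn txy = 2 * Red.gaFn x * Red.gaFn y) :
    (y ≫ D.u b) * (x ≫ D.u a) = (x ≫ D.u a) * (y ≫ D.u b) *
        ((toUnit X ≫ wb) * (xy ≫ D.u a) * (toUnit X ≫ wb)⁻¹) * ((toUnit X ≫ wa) * (xxy ≫ D.u b) * (toUnit X ≫ wa)⁻¹) ∧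
    ((toUnit X ≫ wb) * (y ≫ D.u a) * (toUnit X ≫ wb)⁻¹) * (x ≫ D.u a) = (x ≫ D.u a) *
        ((toUnit X ≫ wb) * (y ≫ D.u a) * (toUnit X ≫ wb)⁻¹) *
        ((toUnit X ≫ wa) * (txy ≫ D.u b) * (toUnit X ≫ wa)⁻¹) := by
  constructor
  · refine eq_of_rankTwo D bs ha hb hne hd _ _ fun C _ j h => ?_
    haveI := h.reduced; haveI := h.smooth
    obtain ⟨f, hfa, hfb⟩ := h.fn
    have e2 : gc j xxy = gc j x ^ 2 * gc j y := by simp only [gc, hxxy, map_mul, map_pow]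
    simp only [rd_mul, rd_inv, rd_u, rd_w D a hwa he₁, rd_w D b hwb he₁, gc_mul j hxy, e2]
    exact ((cht D j).B2_rel h.geom h.hα h.pair f hfa hfb h.dual_left h.dual_right hab hba _ _).1
  · refine eq_of_rankTwo D bs ha hb hne hd _ _ fun C _ j h => ?_
    haveI := h.reduced; haveI := h.smooth
    obtain ⟨f, hfa, hfb⟩ := h.fn
    have e2 : gc j txy = 2 * gc j x * gc j y := by simp only [gc, htxy, map_mul, map_ofNat]
    simp only [rd_mul, rd_inv, rd_u, rd_w D a hwa he₁, rd_w D b hwb he₁, e2]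
    exact ((cht D j).B2_rel h.geom h.hα h.pair f hfa hfb h.dual_left h.dual_right hab hba _ _).2

theorem act_B2 {X : Over S} (x nx : X ⟶ Red.Ga S) (hnx : Red.gaFn nx = -Red.gaFn x) :
    (toUnit X ≫ wa) * ((toUnit X ≫ wb) * (x ≫ D.u a) * (toUnit X ≫ wb)⁻¹) * (toUnit X ≫ wa)⁻¹ =
        (toUnit X ≫ wb) * (nx ≫ D.u a) * (toUnit X ≫ wb)⁻¹ ∧
    (toUnit X ≫ wa) * ((toUnit X ≫ wa) * (x ≫ D.u b) * (toUnit X ≫ wa)⁻¹) * (toUnit X ≫ wa)⁻¹ = x ≫ D.u b ∧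
    (toUnit X ≫ wb) * ((toUnit X ≫ wb) * (x ≫ D.u a) * (toUnit X ≫ wb)⁻¹) * (toUnit X ≫ wb)⁻¹ = nx ≫ D.u a ∧
    (toUnit X ≫ wb) * ((toUnit X ≫ wa) * (x ≫ D.u b) * (toUnit X ≫ wa)⁻¹) * (toUnit X ≫ wb)⁻¹ =
        (toUnit X ≫ wa) * (x ≫ D.u b) * (toUnit X ≫ wa)⁻¹ := by
  refine ⟨?_, ?_, ?_, ?_⟩
  · refine eq_of_rankTwo D bs ha hb hne hd _ _ fun C _ j h => ?_
    haveI := h.reduced; haveI := h.smooth
    obtain ⟨f, hfa, hfb⟩ := h.fn
    simp only [rd_mul, rd_inv, rd_u, rd_w D a hwa he₁, rd_w D b hwb he₁, gc_neg j hnx]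
    exact ((cht D j).B2_act h.geom h.hα h.pair f hfa hfb h.dual_left h.dual_right hab hba _).1
  · refine eq_of_rankTwo D bs ha hb hne hd _ _ fun C _ j h => ?_
    haveI := h.reduced; haveI := h.smooth
    obtain ⟨f, hfa, hfb⟩ := h.fn
    simp only [rd_mul, rd_inv, rd_u, rd_w D a hwa he₁]
    exact ((cht D j).B2_act h.geom h.hα h.pair f hfa hfb h.dual_left h.dual_right hab hba _).2.1
  · refine eq_of_rankTwo D bs ha hb hne hd _ _ fun C _ j h => ?_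
    haveI := h.reduced; haveI := h.smooth
    obtain ⟨f, hfa, hfb⟩ := h.fn
    simp only [rd_mul, rd_inv, rd_u, rd_w D b hwb he₁, gc_neg j hnx]
    exact ((cht D j).B2_act h.geom h.hα h.pair f hfa hfb h.dual_left h.dual_right hab hba _).2.2.1
  · refine eq_of_rankTwo D bs ha hb hne hd _ _ fun C _ j h => ?_
    haveI := h.reduced; haveI := h.smooth
    obtain ⟨f, hfa, hfb⟩ := h.fn
    simp only [rd_mul, rd_inv, rd_u, rd_w D a hwa he₁, rd_w D b hwb he₁]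
    exact ((cht D j).B2_act h.geom h.hα h.pair f hfa hfb h.dual_left h.dual_right hab hba _).2.2.2

end Groth.Agent.RootChartLib
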