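import Groth.Agent.RootChartLib.RankTwoSetting
import Groth.Agent.RootChartLib.RankTwoG2

/-!
# The action of Weyl elements in type `G₂` for points
-/

set_option autoImplicit false
set_option linter.style.haveILetI false
set_option backward.isDefEq.respectTransparency false
set_option backward.isDefEq.respectTransparency.types false

universe u

open CategoryTheory Limits AlgebraicGeometry MonoidalCategory CartesianMonoidalCategory MonObj GrpObj WithConv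
open scoped TensorProduct

namespace Groth.Agent.RootChartLib

open GrpSchLib GrpSchLib.AffineHopf GModLib DynLib RankLib.SplitRedPts H23

variable {S : Scheme.{u}} {G : Over S} [GrpObj G] (D : Red.SplitRed G) (bs : D.P.Base)
  {a b : D.idx} (ha : a ∈ bs.support) (hb : b ∈ bs.support) (hne : a ≠ b) (hd : ∀ r ∈ bs.support, IsDual D r)
  {e₁ : 𝟙_ (Over S) ⟶ Red.Ga S} (he₁ : Red.gaFn e₁ = 1) {wa wb : 𝟙_ (Over S) ⟶ G}
  (hwa : wa = (e₁ ≫ D.u a) * (e₁ ≫ D.u (D.P.reflectionPerm a a))⁻¹ * (e₁ ≫ D.u a))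
  (hwb : wb = (e₁ ≫ D.u b) * (e₁ ≫ D.u (D.P.reflectionPerm b b))⁻¹ * (e₁ ≫ D.u b))
  (hab : D.P.pairing a b = -1) (hba : D.P.pairing b a = -3)

omit ha in
/-- Conjugation by a product of sections. -/
theorem conj_toUnit_mul {X : Over S} (p q : 𝟙_ (Over S) ⟶ G) (g : X ⟶ G) :
    (toUnit X ≫ (p * q)) * g * (toUnit X ≫ (p * q))⁻¹ =
      (toUnit X ≫ p) * ((toUnit X ≫ q) * g * (toUnit X ≫ q)⁻¹) * (toUnit X ≫ p)⁻¹ := by
  rw [MonObj.comp_mul]; group

include ha hb hne hd he₁ hwa hwb hab hba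

theorem weyl_G2 : (wa * wb) ^ 6 = 1 ∧ (wb * wa) ^ 6 = 1 := by
  have h6 : (wa * wb) ^ 6 = 1 := by
    refine eq_of_rankTwo D bs ha hb hne hd _ _ fun C _ j h => ?_
    haveI := h.reduced; haveI := h.smooth
    obtain ⟨f, hfa, hfb⟩ := h.fn
    rw [rd_pow, rd_mul, rd_one, rd_sec D j wa, rd_sec D j wb, rd_w D a hwa he₁, rd_w D b hwb he₁]
    exact (cht D j).G2_coxeter h.geom h.hα h.pair h.dual_left h.dual_right hab hba
  refine ⟨h6, ?_⟩
  rw [show (wb * wa) ^ 6 = wa⁻¹ * (wa * wb) ^ 6 * wa by simp only [pow_succ, pow_zero, _root_.one_mul]; group, h6]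
  group

theorem act_G2 {X : Over S} (x nx : X ⟶ Red.Ga S) (hnx : Red.gaFn nx = -Red.gaFn x) :
    let A := toUnit X ≫ wa
    let B := toUnit X ≫ wb
    A * (A * (B * (x ≫ D.u a) * B⁻¹) * A⁻¹) * A⁻¹ = B * (nx ≫ D.u a) * B⁻¹ ∧
      A * (A * (x ≫ D.u b)⁻¹ * A⁻¹) * A⁻¹ = x ≫ D.u b ∧
      A * (B * (A * (x ≫ D.u b)⁻¹ * A⁻¹) * B⁻¹) * A⁻¹ = B * (A * (x ≫ D.u b)⁻¹ * A⁻¹) * B⁻¹ ∧
      B * (B * (x ≫ D.u a) * B⁻¹) * B⁻¹ = nx ≫ D.u a ∧
      B * (A * (B * (x ≫ D.u a) * B⁻¹) * A⁻¹) * B⁻¹ = A * (B * (x ≫ D.u a) * B⁻¹) * A⁻¹ ∧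
      B * (B * (A * (x ≫ D.u b)⁻¹ * A⁻¹) * B⁻¹) * B⁻¹ = A * (nx ≫ D.u b)⁻¹ * A⁻¹ := by
  intro A B
  refine ⟨?_, ?_, ?_, ?_, ?_, ?_⟩
  · refine eq_of_rankTwo D bs ha hb hne hd _ _ fun C _ j h => ?_
    haveI := h.reduced; haveI := h.smooth
    simp only [A, B, rd_mul, rd_inv, rd_u, rd_w D a hwa he₁, rd_w D b hwb he₁, gc_neg j hnx]
    exact ((cht D j).G2_act h.geom h.hα h.pair h.dual_left h.dual_right hab hba _).1
  · refine eq_of_rankTwo D bs ha hb hne hd _ _ fun C _ j h => ?_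
    haveI := h.reduced; haveI := h.smooth
    simp only [A, rd_mul, rd_inv, rd_u, rd_w D a hwa he₁]
    exact ((cht D j).G2_act h.geom h.hα h.pair h.dual_left h.dual_right hab hba _).2.1
  · refine eq_of_rankTwo D bs ha hb hne hd _ _ fun C _ j h => ?_
    haveI := h.reduced; haveI := h.smooth
    simp only [A, B, rd_mul, rd_inv, rd_u, rd_w D a hwa he₁, rd_w D b hwb he₁]
    exact ((cht D j).G2_act h.geom h.hα h.pair h.dual_left h.dual_right hab hba _).2.2.1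
  · refine eq_of_rankTwo D bs ha hb hne hd _ _ fun C _ j h => ?_
    haveI := h.reduced; haveI := h.smooth
    simp only [B, rd_mul, rd_inv, rd_u, rd_w D b hwb he₁, gc_neg j hnx]
    exact ((cht D j).G2_act h.geom h.hα h.pair h.dual_left h.dual_right hab hba _).2.2.2.1
  · refine eq_of_rankTwo D bs ha hb hne hd _ _ fun C _ j h => ?_
    haveI := h.reduced; haveI := h.smooth
    simp only [A, B, rd_mul, rd_inv, rd_u, rd_w D a hwa he₁, rd_w D b hwb he₁]
    exact ((cht D j).G2_act h.geom h.hα h.pair h.dual_left h.dual_right hab hba _).2.2.2.2.1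
  · refine eq_of_rankTwo D bs ha hb hne hd _ _ fun C _ j h => ?_
    haveI := h.reduced; haveI := h.smooth
    simp only [A, B, rd_mul, rd_inv, rd_u, rd_w D a hwa he₁, rd_w D b hwb he₁, gc_neg j hnx]
    exact ((cht D j).G2_act h.geom h.hα h.pair h.dual_left h.dual_right hab hba _).2.2.2.2.2

end Groth.Agent.RootChartLib
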