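import Groth.Agent.RootChartLib.RankTwoSettingG2
import Groth.Agent.RootChartLib.RankTwoG2Rel

/-!
# The commutation relations of type `G₂` for points
-/

set_option autoImplicit false
set_option linter.style.haveILetI false
set_option backward.isDefEq.respectTransparency false
set_option backward.isDefEq.respectTransparency.types false

universe u

open CategoryTheory Limits AlgebraicGeometry MonoidalCategory CartesianMonoidalCategory MonObj GrpObj WithConv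
open scoped TensorProduct

namespace Groth.Agent.RootChartLib

open GrpSchLib GrpSchLib.AffineHopf GModLib DynLib RankLib.SplitRedPts H23

variable {S : Scheme.{u}} {G : Over S} [GrpObj G] (D : Red.SplitRed G) (bs : D.P.Base)
  {a b : D.idx} (ha : a ∈ bs.support) (hb : b ∈ bs.support) (hne : a ≠ b) (hd : ∀ r ∈ bs.support, IsDual D r)
  {e₁ : 𝟙_ (Over S) ⟶ Red.Ga S} (he₁ : Red.gaFn e₁ = 1) {wa wb : 𝟙_ (Over S) ⟶ G}
  (hwa : wa = (e₁ ≫ D.u a) * (e₁ ≫ D.u (D.P.reflectionPerm a a))⁻¹ * (e₁ ≫ D.u a))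
  (hwb : wb = (e₁ ≫ D.u b) * (e₁ ≫ D.u (D.P.reflectionPerm b b))⁻¹ * (e₁ ≫ D.u b))
  (hab : D.P.pairing a b = -1) (hba : D.P.pairing b a = -3)

include ha hb hne hd he₁ hwa hwb hab hba

theorem comm_G2 {X : Over S} (x y c11 c21 c31 c32 d21 d31 d32 f31 g32 k32 : X ⟶ Red.Ga S)
    (h11 : Red.gaFn c11 = Red.gaFn x * Red.gaFn y) (h21 : Red.gaFn c21 = Red.gaFn x ^ 2 * Red.gaFn y)
    (h31 : Red.gaFn c31 = Red.gaFn x ^ 3 * Red.gaFn y) (h32 : Red.gaFn c32 = Red.gaFn x ^ 3 * Red.gaFn y ^ 2)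
    (hd21 : Red.gaFn d21 = 2 * Red.gaFn x * Red.gaFn y) (hd31 : Red.gaFn d31 = 3 * Red.gaFn x ^ 2 * Red.gaFn y)
    (hd32 : Red.gaFn d32 = 3 * Red.gaFn x * Red.gaFn y ^ 2) (hf31 : Red.gaFn f31 = 3 * Red.gaFn x * Red.gaFn y)
    (hg32 : Red.gaFn g32 = -(Red.gaFn x * Red.gaFn y)) (hk32 : Red.gaFn k32 = 3 * Red.gaFn x * Red.gaFn y) :
    let A := toUnit X ≫ wa
    let B := toUnit X ≫ wb
    let u₁ := fun v : X ⟶ Red.Ga S => B * (v ≫ D.u a) * B⁻¹
    let u₂ := fun v : X ⟶ Red.Ga S => A * (B * (v ≫ D.u a) * B⁻¹) * A⁻¹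
    let u₃ := fun v : X ⟶ Red.Ga S => A * (v ≫ D.u b)⁻¹ * A⁻¹
    let u₄ := fun v : X ⟶ Red.Ga S => B * (A * (v ≫ D.u b)⁻¹ * A⁻¹) * B⁻¹
    (y ≫ D.u b) * (x ≫ D.u a) = (x ≫ D.u a) * (y ≫ D.u b) * u₁ c11 * u₂ c21 * u₃ c31 * u₄ c32 ∧
      u₁ y * (x ≫ D.u a) = (x ≫ D.u a) * u₁ y * u₂ d21 * u₃ d31 * u₄ d32 ∧
      u₂ y * (x ≫ D.u a) = (x ≫ D.u a) * u₂ y * u₃ f31 ∧
      u₃ y * (x ≫ D.u b) = (x ≫ D.u b) * u₃ y * u₄ g32 ∧
      u₂ y * u₁ x = u₁ x * u₂ y * u₄ k32 := by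
  intro A B u₁ u₂ u₃ u₄
  refine ⟨?_, ?_, ?_, ?_, ?_⟩
  all_goals
    refine eq_of_rankTwo D bs ha hb hne hd _ _ fun C _ j h => ?_
    haveI := h.reduced; haveI := h.smooth
    obtain ⟨f, hfa, hfb⟩ := h.fn
    have q1 : gc j c11 = gc j x * gc j y := by simp only [gc, h11, map_mul]
    have q2 : gc j c21 = gc j x ^ 2 * gc j y := by simp only [gc, h21, map_mul, map_pow]
    have q3 : gc j c31 = gc j x ^ 3 * gc j y := by simp only [gc, h31, map_mul, map_pow]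
    have q4 : gc j c32 = gc j x ^ 3 * gc j y ^ 2 := by simp only [gc, h32, map_mul, map_pow]
    have q5 : gc j d21 = 2 * gc j x * gc j y := by simp only [gc, hd21, map_mul, map_ofNat]
    have q6 : gc j d31 = 3 * gc j x ^ 2 * gc j y := by simp only [gc, hd31, map_mul, map_pow, map_ofNat]
    have q7 : gc j d32 = 3 * gc j x * gc j y ^ 2 := by simp only [gc, hd32, map_mul, map_pow, map_ofNat]
    have q8 : gc j f31 = 3 * gc j x * gc j y := by simp only [gc, hf31, map_mul, map_ofNat]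
    have q9 : gc j g32 = -(gc j x * gc j y) := by simp only [gc, hg32, map_neg, map_mul]
    have q10 : gc j k32 = 3 * gc j x * gc j y := by simp only [gc, hk32, map_mul, map_ofNat]
    simp only [A, B, u₁, u₂, u₃, u₄, rd_mul, rd_inv, rd_u, rd_w D a hwa he₁, rd_w D b hwb he₁, q1, q2, q3, q4, q5,
      q6, q7, q8, q9, q10]
    have hr := (cht D j).G2_rel h.geom h.hα h.pair f hfa hfb h.dual_left h.dual_right hab hba (gc j x) (gc j y)
    simp only [Chart.u11, Chart.u21, Chart.u31, Chart.u32] at hr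
    first | exact hr.1 | exact hr.2.1 | exact hr.2.2.1 | exact hr.2.2.2.1 | exact hr.2.2.2.2

end Groth.Agent.RootChartLib
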