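import Groth.Agent.RootChartLib.RankTwoBasic
import Groth.Agent.RootChartLib.RankTwoComb

/-!
# Tools for the computations in rank two
-/

set_option autoImplicit false
set_option linter.style.haveILetI false
set_option backward.isDefEq.respectTransparency false
set_option backward.isDefEq.respectTransparency.types false

universe u

open CategoryTheory Limits AlgebraicGeometry MonoidalCategory CartesianMonoidalCategory MonObj GrpObj WithConv
open scoped TensorProduct

namespace Groth.Agent.RootChartLib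

open GrpSchLib GrpSchLib.AffineHopf GModLib DynLib

namespace Chart

variable {R : Type u} [CommRing R] {A : Type u} [CommRing A] [HopfAlgebra R A] {M : Type} [AddCommGroup M]
  [Module.Free ℤ M] [Module.Finite ℤ M] [Algebra.Smooth R A]
  {idx : Type} [Fintype idx] (D : Chart R A M idx) {N : Type} [AddCommGroup N] (P : RootPairing idx ℤ M N)
  [P.IsReduced] (hD : D.GeomFibres) (hα : ∀ r, D.α r = P.root r)

omit [Module.Free ℤ M] [Module.Finite ℤ M] [Algebra.Smooth R A] [Fintype idx] in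
include hα in
theorem hredR (i j : idx) (h : ¬ LinearIndependent ℤ ![D.α i, D.α j]) : D.α i = D.α j ∨ D.α i = -D.α j := by
  rw [hα, hα] at h ⊢
  exact RootPairing.IsReduced.eq_or_eq_neg i j h

include hD hα in
/-- Root points commute when the sum of the roots is not a root. -/
theorem commute_root {r s : idx} (h0 : P.root r + P.root s ≠ 0) (hrs : P.root r + P.root s ∉ Set.range P.root)
    {C : Type u} [CommRing C] [Algebra R C] (x y : C) : D.rPt r x * D.rPt s y = D.rPt s y * D.rPt r x := by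
  classical
  obtain ⟨f, hf, hfr, hfs⟩ := exists_regular_pos P h0 hrs
  obtain ⟨e, he, hrange⟩ := exists_enum fun t => 0 < f (D.α t)
  refine D.commute f hD e (fun i => (hrange _).mp ⟨i, rfl⟩) he (fun t ht => (hrange t).mpr ht) (by rwa [hα]) (by rwa [hα])
    (fun t i k hi hk => ?_) x y
  rw [hα, hα, hα]
  exact no_comb_root P h0 hrs _ t i k rfl hi hk

omit [P.IsReduced] [Module.Free ℤ M] [Module.Finite ℤ M] [Algebra.Smooth R A] [Fintype idx] in
theorem refl_root (a r : idx) : P.root (P.reflectionPerm a r) = P.root r - P.pairing r a • P.root a := by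
  rw [P.root_reflectionPerm, P.reflection_apply_root]

include hD hα in
/-- Weyl points carry root groups to root groups, linearly. -/
theorem exists_wPt_coeff {a : idx} (h : D.DualAt P a) (r : idx) :
    ∃ c : R, ∀ x : R, D.wPt P a * D.rPt r x * (D.wPt P a)⁻¹ = D.rPt (P.reflectionPerm a r) (c * x) := by
  have hα' : ∀ i, (P.reflection a).toAddEquiv (D.α i) = D.α (P.reflectionPerm a i) := fun i => by
    rw [hα, hα]; exact (P.root_reflectionPerm a i).symm
  obtain ⟨c, hc⟩ := D.exists_conj_coeff hD (D.normalises_wPt hα h) (D.hredR P hα) (fun i => ⟨_, hα' i⟩)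
    (r := r) (r' := P.reflectionPerm a r) (by rw [hα' (P.reflectionPerm a r), P.reflectionPerm_self])
  refine ⟨c, fun x => ?_⟩
  have h := hc R x
  rwa [up_self] at h

include hα in
/-- The square of a Weyl point acts by signs. -/
theorem wPt_sq_conj {a : idx} (h : D.DualAt P a) (r : idx) (x : R) :
    D.wPt P a * (D.wPt P a * D.rPt r x * (D.wPt P a)⁻¹) * (D.wPt P a)⁻¹ =
      D.rPt r ((((-1 : Rˣ) ^ P.pairing r a : Rˣ) : R) * x) := by
  rw [← D.tH_conj P hα, ← D.wPt_sq hα h]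
  group

variable (f : M →+ ℤ) {a b : idx} (ha : 0 < f (P.root a)) (hb : 0 < f (P.root b))

include hD hα ha hb in
/-- The commutator of two roots with one root combination. -/
theorem exists_formula_one {c : idx} {p q : ℕ} (hp : 1 ≤ p) (hq : 1 ≤ q)
    (hc : P.root c = p • P.root a + q • P.root b)
    (hall : ∀ (t : idx) (i j : ℕ), 1 ≤ i → 1 ≤ j → P.root t = i • P.root a + j • P.root b → t = c) :
    ∃ k : R, ∀ x y : R, D.rPt a x * D.rPt b y * (D.rPt a x)⁻¹ =
      D.rPt b y * D.rPt c (k * x ^ p * y ^ q) := by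
  have hfc : 0 < f (P.root c) := by
    rw [hc, map_add, map_nsmul, map_nsmul, nsmul_eq_mul, nsmul_eq_mul]
    have : (1 : ℤ) ≤ p := by exact_mod_cast hp
    have : (1 : ℤ) ≤ q := by exact_mod_cast hq
    push_cast
    nlinarith
  obtain ⟨k, hk⟩ := D.exists_comm_formula f hD (a := a) (b := b) (by rwa [hα]) (by rwa [hα]) ![c]
    (fun i j _ => Subsingleton.elim i j) ![p] ![q] (by intro i; fin_cases i; simpa [hα] using hfc)
    (fun t i j hi hj ht => ⟨0, (hall t i j hi hj (by rwa [hα, hα, hα] at ht)).symm⟩)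
    (fun l i j hi hj hl => by
      fin_cases l
      simp only [hα, Matrix.cons_val_zero, Fin.zero_eta] at hl ⊢
      exact comb_unique P f ha hb hi hj hp hq hl hc)
  refine ⟨k 0, fun x y => ?_⟩
  rw [hk R x y]
  simp [prodPt]

include hD hα ha hb in
/-- The commutator of two roots with two root combinations. -/
theorem exists_formula_two {c₁ c₂ : idx} {p₁ q₁ p₂ q₂ : ℕ} (hp₁ : 1 ≤ p₁) (hq₁ : 1 ≤ q₁) (hp₂ : 1 ≤ p₂)
    (hq₂ : 1 ≤ q₂) (hne : c₁ ≠ c₂)
    (hc₁ : P.root c₁ = p₁ • P.root a + q₁ • P.root b) (hc₂ : P.root c₂ = p₂ • P.root a + q₂ • P.root b)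
    (hall : ∀ (t : idx) (i j : ℕ), 1 ≤ i → 1 ≤ j → P.root t = i • P.root a + j • P.root b → t = c₁ ∨ t = c₂) :
    ∃ k₁ k₂ : R, ∀ x y : R, D.rPt a x * D.rPt b y * (D.rPt a x)⁻¹ =
      D.rPt b y * (D.rPt c₁ (k₁ * x ^ p₁ * y ^ q₁) * D.rPt c₂ (k₂ * x ^ p₂ * y ^ q₂)) := by
  have hfc : ∀ (c : idx) (p q : ℕ), 1 ≤ p → 1 ≤ q → P.root c = p • P.root a + q • P.root b → 0 < f (P.root c) := by
    intro c p q hp hq hc
    rw [hc, map_add, map_nsmul, map_nsmul, nsmul_eq_mul, nsmul_eq_mul]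
    have : (1 : ℤ) ≤ p := by exact_mod_cast hp
    have : (1 : ℤ) ≤ q := by exact_mod_cast hq
    push_cast
    nlinarith
  obtain ⟨k, hk⟩ := D.exists_comm_formula f hD (a := a) (b := b) (by rwa [hα]) (by rwa [hα]) ![c₁, c₂]
    (by intro i j hij; fin_cases i <;> fin_cases j <;> simp_all [eq_comm]) ![p₁, p₂] ![q₁, q₂]
    (by intro i; fin_cases i
        · simpa [hα] using hfc c₁ p₁ q₁ hp₁ hq₁ hc₁
        · simpa [hα] using hfc c₂ p₂ q₂ hp₂ hq₂ hc₂)
    (fun t i j hi hj ht => by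
      rcases hall t i j hi hj (by rwa [hα, hα, hα] at ht) with rfl | rfl
      · exact ⟨0, rfl⟩
      · exact ⟨1, rfl⟩)
    (fun l i j hi hj hl => by
      fin_cases l
      · simp only [hα, Matrix.cons_val_zero, Fin.zero_eta] at hl ⊢
        exact comb_unique P f ha hb hi hj hp₁ hq₁ hl hc₁
      · simp only [hα, Matrix.cons_val_one, Matrix.cons_val_zero, Fin.mk_one] at hl ⊢
        exact comb_unique P f ha hb hi hj hp₂ hq₂ hl hc₂)
  refine ⟨k 0, k 1, fun x y => ?_⟩
  rw [hk R x y]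
  simp [prodPt]

omit [P.IsReduced] in
include hα in
theorem eq_of_prod_two {r₁ r₂ : idx} (hne : r₁ ≠ r₂) (h₁ : 0 < f (P.root r₁)) (h₂ : 0 < f (P.root r₂))
    {x₁ x₂ y₁ y₂ : R} (h : D.rPt r₁ x₁ * D.rPt r₂ x₂ = D.rPt r₁ y₁ * D.rPt r₂ y₂) : x₁ = y₁ ∧ x₂ = y₂ := by
  have hinj := D.prodPt_injective f (C := R) ![r₁, r₂]
    (by intro i; fin_cases i <;> simpa [hα])
    (by intro i j hij; fin_cases i <;> fin_cases j <;> simp_all [eq_comm])
  have := @hinj ![x₁, x₂] ![y₁, y₂] (by simpa [prodPt] using h)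
  exact ⟨congrFun this 0, congrFun this 1⟩

omit [P.IsReduced] in
include hα in
theorem eq_of_prod_three {r₁ r₂ r₃ : idx} (h12 : r₁ ≠ r₂) (h13 : r₁ ≠ r₃) (h23 : r₂ ≠ r₃)
    (h₁ : 0 < f (P.root r₁)) (h₂ : 0 < f (P.root r₂)) (h₃ : 0 < f (P.root r₃))
    {x₁ x₂ x₃ y₁ y₂ y₃ : R}
    (h : D.rPt r₁ x₁ * (D.rPt r₂ x₂ * D.rPt r₃ x₃) = D.rPt r₁ y₁ * (D.rPt r₂ y₂ * D.rPt r₃ y₃)) :
    x₁ = y₁ ∧ x₂ = y₂ ∧ x₃ = y₃ := by
  have hinj := D.prodPt_injective f (C := R) ![r₁, r₂, r₃]
    (by intro i; fin_cases i <;> simpa [hα])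
    (by intro i j hij; fin_cases i <;> fin_cases j <;> simp_all [eq_comm])
  have := @hinj ![x₁, x₂, x₃] ![y₁, y₂, y₃] (by simpa [prodPt] using h)
  exact ⟨congrFun this 0, congrFun this 1, congrFun this 2⟩

end Chart

end Groth.Agent.RootChartLib
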