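import Groth.Agent.RootChartLib.Cell
import Groth.Agent.RootChartLib.CellOpen
import Groth.Agent.RootChartLib.Reduced
import Groth.Agent.RootChartLib.GroupLaw
import Groth.Agent.RootChartLib.BruhatCover

/-!
# Points normalising the torus, over any base ring

A point of a chart which acts on the torus through an automorphism of the character group carries
root groups to root groups; at a reflection it lies in the product of the torus and the two root groups.
-/

set_option autoImplicit false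
set_option backward.isDefEq.respectTransparency false
set_option backward.isDefEq.respectTransparency.types false

universe u

open CategoryTheory Limits AlgebraicGeometry MonoidalCategory CartesianMonoidalCategory MonObj GrpObj WithConv
open scoped TensorProduct LaurentPolynomial

namespace Groth.Agent.RootChartLib

open GrpSchLib GrpSchLib.AffineHopf GModLib DynLib

namespace Chart

variable {R : Type u} [CommRing R] {A : Type u} [CommRing A] [HopfAlgebra R A] {M : Type} [AddCommGroup M]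
  {idx : Type} (D : Chart R A M idx) {C C' : Type u} [CommRing C] [Algebra R C] [CommRing C'] [Algebra R C']

/-- An `R`-point read over `C`. -/
noncomputable def up (C : Type u) [CommRing C] [Algebra R C] :
    WithConv (A →ₐ[R] R) →* WithConv (A →ₐ[R] C) := post (Algebra.ofId R C)

theorem post_up (φ : C →ₐ[R] C') (g : WithConv (A →ₐ[R] R)) : post φ (up C g) = up C' g :=
  WithConv.ofConv_injective (AlgHom.ext fun x => φ.commutes _)

/-- The point `n` acts on the torus through `e`. -/
def Normalises (n : WithConv (A →ₐ[R] R)) (e : M ≃+ M) : Prop :=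
  ∀ (C : Type u) [CommRing C] [Algebra R C] (χ : Multiplicative M →* C),
    up C n * D.tPt χ * (up C n)⁻¹ = D.tPt (χ.comp e.toAddMonoidHom.toMultiplicative)

variable {D}

/-- Conjugates of root points transform under the torus. -/
theorem Normalises.scale {n : WithConv (A →ₐ[R] R)} {e : M ≃+ M} (hn : D.Normalises n e) (r : idx)
    (χ : Multiplicative M →* C) (x : C) :
    D.tPt (χ.comp e.toAddMonoidHom.toMultiplicative) * (up C n * D.rPt r x * (up C n)⁻¹) *
        (D.tPt (χ.comp e.toAddMonoidHom.toMultiplicative))⁻¹ =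
      up C n * D.rPt r (χ (Multiplicative.ofAdd (D.α r)) * x) * (up C n)⁻¹ := by
  rw [← hn, ← tPt_conj]
  group

/-- A conjugate of a root group is contracted. -/
theorem Normalises.mem_limOne {n : WithConv (A →ₐ[R] R)} {e : M ≃+ M} (hn : D.Normalises n e) (g' : M →+ ℤ)
    {r : idx} (hr : 0 < g' (D.α r)) (y : C) :
    up C n * D.rPt r y * (up C n)⁻¹ ∈ limOneSubgroup (D.lam (g'.comp e.toAddMonoidHom)) C := by
  obtain ⟨F, hF⟩ : ∃ F : ℕ, g' (D.α r) = F := ⟨_, (Int.toNat_of_nonneg hr.le).symm⟩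
  have hF0 : F ≠ 0 := by omega
  let w : WithConv (A →ₐ[R] Polynomial C) :=
    up (Polynomial C) n * D.rPt r (Polynomial.C y * Polynomial.X ^ F) * (up (Polynomial C) n)⁻¹
  refine ⟨w, ?_, ?_⟩
  · show post (ev0 R C) w = 1
    have h0 : ev0 R C (Polynomial.C y * Polynomial.X ^ F) = 0 := by simp [ev0, hF0]
    rw [map_mul, map_mul, map_inv, post_up, post_rPt, h0, rPt_zero, _root_.mul_one, mul_inv_cancel]
  · have hT : toL R C (Polynomial.C y * Polynomial.X ^ F) =
        chiF g' C (Multiplicative.ofAdd (D.α r)) * con R C y := by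
      show Polynomial.toLaurent _ = LaurentPolynomial.T (g' (D.α r)) * algebraMap C C[T;T⁻¹] y
      rw [hF, map_mul, map_pow, Polynomial.toLaurent_X, Polynomial.toLaurent_C, LaurentPolynomial.T_pow, mul_comm]
      simp
    have e1 : chiF (g'.comp e.toAddMonoidHom) C = (chiF g' C).comp e.toAddMonoidHom.toMultiplicative :=
      MonoidHom.ext fun x => rfl
    rw [conjHom_apply, lamW_eq, map_mul, map_mul, map_mul, map_mul, map_inv, map_inv, post_up, post_up, post_rPt,
      post_rPt, hT, e1]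
    exact (hn.scale r (chiF g' C) (con R C y)).symm

variable (D)

variable [Module.Free ℤ M] [Module.Finite ℤ M] [Algebra.Smooth R A] [Fintype idx] (hD : D.GeomFibres)

include hD in
/-- A conjugate of a root group is the root group of the transformed root, linearly. -/
theorem exists_conj_coeff {n : WithConv (A →ₐ[R] R)} {e : M ≃+ M} (hn : D.Normalises n e)
    (hred : ∀ i j, ¬ LinearIndependent ℤ ![D.α i, D.α j] → D.α i = D.α j ∨ D.α i = -D.α j)
    (he : ∀ s, ∃ s', e (D.α s) = D.α s') {r r' : idx} (hr : e (D.α r') = D.α r) :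
    ∃ c : R, ∀ (C : Type u) [CommRing C] [Algebra R C] (x : C),
      up C n * D.rPt r x * (up C n)⁻¹ = D.rPt r' (algebraMap R C c * x) := by
  classical
  obtain ⟨φ, hφ⟩ := exists_form_ne_zero D.α D.α_ne
  obtain ⟨g', hg', hg'r⟩ : ∃ g' : M →+ ℤ, (∀ s, g' (D.α s) ≠ 0) ∧ 0 < g' (D.α r) := by
    rcases lt_or_gt_of_ne (hφ r) with hneg | hpos
    · exact ⟨-φ, fun s => neg_ne_zero.mpr (hφ s), neg_pos.mpr hneg⟩
    · exact ⟨φ, hφ, hpos⟩
  let g : M →+ ℤ := g'.comp e.toAddMonoidHom
  have hgr : 0 < g (D.α r') := by show 0 < g' (e (D.α r')); rwa [hr]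
  obtain ⟨m, ep, hep, hepr⟩ : ∃ (m : ℕ) (ep : Fin m → idx), Function.Injective ep ∧
      ∀ s, s ∈ Set.range ep ↔ 0 < g (D.α s) := ⟨_, exists_enum fun s => 0 < g (D.α s)⟩
  have hp : ∀ i, 0 < g (D.α (ep i)) := fun i => (hepr _).mp ⟨i, rfl⟩
  obtain ⟨i₀, hi₀⟩ := (hepr r').mpr hgr
  let P₁ := MvPolynomial Unit R
  obtain ⟨p, hpw⟩ := D.exists_prodPt g hD ep hp hep (fun s hs => (hepr s).mpr hs)
    ((D.isU_iff g _).mpr (hn.mem_limOne g' hg'r (MvPolynomial.X () : P₁)))
  let T' := MonoidAlgebra P₁ (Multiplicative M)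
  let χu : Multiplicative M →* T' := MonoidAlgebra.of P₁ (Multiplicative M)
  let χ : Multiplicative M →* T' := χu.comp e.symm.toAddMonoidHom.toMultiplicative
  have hχ : χ.comp e.toAddMonoidHom.toMultiplicative = χu := MonoidHom.ext fun x => by
    show χu (Multiplicative.ofAdd (e.symm (e x.toAdd))) = χu x
    rw [AddEquiv.symm_apply_apply]; rfl
  let ρ : P₁ →ₐ[R] T' :=
    MvPolynomial.aeval fun _ => MonoidAlgebra.single (Multiplicative.ofAdd (D.α r')) (MvPolynomial.X ())
  let inc : P₁ →ₐ[R] T' := IsScalarTower.toAlgHom R P₁ T'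
  have h1 := hn.scale r χ (inc (MvPolynomial.X ()))
  have hsc : χ (Multiplicative.ofAdd (D.α r)) * inc (MvPolynomial.X ()) = ρ (MvPolynomial.X ()) := by
    show χu (Multiplicative.ofAdd (e.symm (D.α r))) * algebraMap P₁ T' (MvPolynomial.X ()) = _
    rw [show e.symm (D.α r) = D.α r' by rw [← hr, AddEquiv.symm_apply_apply]]
    simp [ρ, χu, T', P₁, MonoidAlgebra.single_mul_single]
  have hW : ∀ (B : Type u) [CommRing B] [Algebra R B] (ψ : P₁ →ₐ[R] B),
      up B n * D.rPt r (ψ (MvPolynomial.X ())) * (up B n)⁻¹ = D.prodPt ep fun i => ψ (p i) := fun B _ _ ψ => by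
    have h := congrArg (post ψ) hpw
    rw [map_mul, map_mul, map_inv, post_up, post_rPt, post_prodPt] at h
    exact h.symm
  rw [hχ, hsc, hW T' inc, hW T' ρ, prodPt_conj] at h1
  have h2 := D.prodPt_injective g ep hp hep h1
  have hmon : ∀ i (v : Unit →₀ ℕ), (p i).coeff v ≠ 0 → i = i₀ ∧ v () = 1 := fun i v hv => by
    have key := wt_of_scaling (fun _ : Unit => D.α r') (D.α (ep i)) (p i) ?_ v hv
    · have hv' : (v ()) • D.α r' = D.α (ep i) := by
        simpa [Finsupp.sum_fintype] using key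
      have hdep : ¬ LinearIndependent ℤ ![D.α (ep i), D.α r'] := fun h => by
        rw [LinearIndependent.pair_iff] at h
        have := (h 1 (-(v () : ℤ)) (by rw [neg_smul, one_smul, natCast_zsmul, hv', add_neg_cancel])).1
        omega
      have hgi := hp i
      rcases hred _ _ hdep with h | h
      · refine ⟨hep (hi₀.symm ▸ D.α_injective h), ?_⟩
        rw [h] at hv'
        have h' := congrArg g hv'
        rw [map_nsmul, nsmul_eq_mul] at h'
        exact_mod_cast mul_right_cancel₀ hgr.ne' (h'.trans (_root_.one_mul _).symm)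
      · rw [h, map_neg] at hgi; omega
    · have hρ : (ρ : P₁ →+* T') = MvPolynomial.eval₂Hom (MonoidAlgebra.singleOneRingHom.comp MvPolynomial.C)
          (fun _ : Unit => MonoidAlgebra.single (Multiplicative.ofAdd (D.α r')) (MvPolynomial.X ())) := by
        refine MvPolynomial.ringHom_ext (fun c => ?_) fun l => ?_
        · simp [ρ, T', P₁]
        · simp [ρ, T', P₁]
      refine (DFunLike.congr_fun hρ (p i)).symm.trans ?_
      refine (congrFun h2 i).symm.trans ?_
      simp [inc, χu, T', P₁, MonoidAlgebra.single_mul_single]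
  refine ⟨(p i₀).coeff (Finsupp.single () 1), fun C _ _ x => ?_⟩
  have h := hW C (MvPolynomial.aeval fun _ => x)
  rw [MvPolynomial.aeval_X] at h
  rw [h, ← hi₀, ← prodPt_single]
  refine congrArg (D.prodPt ep) (funext fun i => ?_)
  by_cases hi : i = i₀
  · subst hi
    rw [Pi.single_eq_same]
    have hp0 : p i = MvPolynomial.monomial (Finsupp.single () 1) ((p i).coeff (Finsupp.single () 1)) :=
      MvPolynomial.ext _ _ fun v => by
        rw [MvPolynomial.coeff_monomial]
        split_ifs with hv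
        · rw [hv]
        · by_contra hne
          exact hv (Finsupp.ext fun t => by simp [(hmon i v hne).2])
    conv_lhs => rw [hp0]
    rw [MvPolynomial.aeval_monomial, Finsupp.prod_fintype _ _ (fun _ => pow_zero _)]
    simp
  · rw [Pi.single_eq_of_ne hi]
    have : p i = 0 := MvPolynomial.ext _ _ fun v => by
      rw [MvPolynomial.coeff_zero]
      by_contra hne
      exact hi (hmon i v hne).1
    rw [this, map_zero]

variable (f : M →+ ℤ) (hf : ∀ r, f (D.α r) ≠ 0) {n m : ℕ} (e : Fin m → idx) (hp : ∀ i, 0 < f (D.α (e i)))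
  (he : Function.Injective e) (hrange : ∀ r, 0 < f (D.α r) → r ∈ Set.range e) (em : Fin n → idx)
  (hm : ∀ i, f (D.α (em i)) < 0) (hemi : Function.Injective em) (hmrange : ∀ r, f (D.α r) < 0 → r ∈ Set.range em)

include hD hf hp he hrange hm hemi hmrange in
/-- A point in the big cell at every geometric fibre is in the big cell. -/
theorem exists_cellPt_of_geom (g : WithConv (A →ₐ[R] R))
    (h : ∀ (K : Type u) [Field K] [IsAlgClosed K] [Algebra R K],
      ∃ y χ x, up K g = D.cellPt e em y χ x) :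
    ∃ y χ x, g = D.cellPt e em y χ x := by
  let ix := Spec.map (CommRingCat.ofHom (D.cellHom e em).toRingHom)
  haveI : IsOpenImmersion ix := D.isOpenImmersion_cellHom f hD hf e hp he hrange em hm hemi hmrange
  let q := Spec.map (CommRingCat.ofHom g.ofConv.toRingHom)
  have hsub : Set.range q.base ⊆ Set.range ix.base := by
    rintro _ ⟨P, rfl⟩
    obtain ⟨y, χ, x, hy⟩ := h (AlgebraicClosure P.asIdeal.ResidueField)
    rw [← cellPoint_comp_cellHom] at hy
    have h' := congrArg (fun p : WithConv (A →ₐ[R] AlgebraicClosure P.asIdeal.ResidueField) => p.ofConv.toRingHom) hy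
    let z : PrimeSpectrum (AlgebraicClosure P.asIdeal.ResidueField) := ⟨⊥, Ideal.isPrime_bot⟩
    refine ⟨PrimeSpectrum.comap (cellPoint y χ x).toRingHom z, ?_⟩
    show PrimeSpectrum.comap (D.cellHom e em).toRingHom (PrimeSpectrum.comap (cellPoint y χ x).toRingHom z) =
      PrimeSpectrum.comap g.ofConv.toRingHom P
    rw [← PrimeSpectrum.comap_comp_apply]
    refine Eq.trans ?_ (congrArg (PrimeSpectrum.comap g.ofConv.toRingHom)
      (?_ : PrimeSpectrum.comap (algebraMap R (AlgebraicClosure P.asIdeal.ResidueField)) z = P))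
    · rw [← PrimeSpectrum.comap_comp_apply]
      exact congrArg (fun φ : A →+* _ => PrimeSpectrum.comap φ z) h'.symm
    · refine PrimeSpectrum.ext ?_
      show RingHom.ker (algebraMap R (AlgebraicClosure P.asIdeal.ResidueField)) = _
      rw [IsScalarTower.algebraMap_eq R P.asIdeal.ResidueField, RingHom.ker_comp_of_injective _
        (algebraMap P.asIdeal.ResidueField _).injective, Ideal.ker_algebraMap_residueField]
  let l := IsOpenImmersion.lift ix q hsub
  obtain ⟨ψ, hψ⟩ : ∃ ψ, Spec.map ψ = l := ⟨_, Spec.map_preimage l⟩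
  have hc : ψ.hom.comp (D.cellHom e em).toRingHom = g.ofConv.toRingHom := by
    have h1 : l ≫ ix = q := IsOpenImmersion.lift_fac ix q hsub
    rw [← hψ, ← Spec.map_comp] at h1
    exact congrArg CommRingCat.Hom.hom (Spec.map_injective h1)
  have hcomm : ∀ r : R, ψ.hom (algebraMap R (CellRing R M n m) r) = r := fun r => by
    rw [← (D.cellHom e em).commutes r]
    exact (DFunLike.congr_fun hc (algebraMap R A r)).trans (g.ofConv.commutes r)
  let Ψ : CellRing R M n m →ₐ[R] R := { ψ.hom with commutes' := hcomm }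
  obtain ⟨y, χ, x, hy⟩ := exists_eq_cellPoint Ψ
  refine ⟨y, χ, x, ?_⟩
  rw [← cellPoint_comp_cellHom, ← hy]
  exact WithConv.ofConv_injective (AlgHom.ext fun a => (DFunLike.congr_fun hc a).symm)

omit [Module.Free ℤ M] [Module.Finite ℤ M] [Algebra.Smooth R A] [Fintype idx] in
/-- Reading over `R` itself. -/
theorem up_self (g : WithConv (A →ₐ[R] R)) : up R g = g :=
  WithConv.ofConv_injective (AlgHom.ext fun _ => rfl)

include hD in
/-- A point acting as a reflection is a product of torus and root points of the two opposite roots. -/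
theorem exists_refl_factor {n : WithConv (A →ₐ[R] R)} {E : M ≃+ M} (hn : D.Normalises n E) (d : M →+ ℤ)
    {a a' : idx} (hE : ∀ x, E x = x - d x • D.α a) (ha' : D.α a' = -D.α a)
    (hred : ∀ i j, ¬ LinearIndependent ℤ ![D.α i, D.α j] → D.α i = D.α j ∨ D.α i = -D.α j)
    (hgeom : ∀ (K : Type u) [Field K] [IsAlgClosed K] [Algebra R K],
      ∃ (p : K) (τ : Multiplicative M →* K) (q : K),
        up K n = D.rPt a 1 * (D.rPt a' p * (D.tPt τ * D.rPt a q))) :
    ∃ (c : R) (χ : Multiplicative M →* R) (q : R), n = D.rPt a 1 * (D.rPt a' c * (D.tPt χ * D.rPt a q)) := by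
  classical
  obtain ⟨φ₀, hφ₀⟩ := exists_form_ne_zero D.α D.α_ne
  obtain ⟨f, hf, hfa⟩ : ∃ f : M →+ ℤ, (∀ s, f (D.α s) ≠ 0) ∧ 0 < f (D.α a) := by
    rcases lt_or_gt_of_ne (hφ₀ a) with hneg | hpos
    · exact ⟨-φ₀, fun s => neg_ne_zero.mpr (hφ₀ s), neg_pos.mpr hneg⟩
    · exact ⟨φ₀, hφ₀, hpos⟩
  let v : {r // r ≠ a ∧ r ≠ a'} → M := fun r => f (D.α a) • D.α r - f (D.α r) • D.α a
  have hv : ∀ r, v r ≠ 0 := by
    rintro ⟨r, hra, hra'⟩ h0
    have hdep : ¬ LinearIndependent ℤ ![D.α r, D.α a] := fun h => by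
      rw [LinearIndependent.pair_iff] at h
      have := (h (f (D.α a)) (-f (D.α r)) (by rw [neg_smul, ← sub_eq_add_neg]; exact h0)).1
      omega
    rcases hred r a hdep with h | h
    · exact hra (D.α_injective h)
    · exact hra' (D.α_injective (h.trans ha'.symm))
  obtain ⟨φ, hφ⟩ := exists_form_ne_zero v hv
  let g₀ : M →+ ℤ := f (D.α a) • φ - φ (D.α a) • f
  have hg₀a : g₀ (D.α a) = 0 := by simp [g₀, mul_comm]
  have hg₀ : ∀ r, r ≠ a → r ≠ a' → g₀ (D.α r) ≠ 0 := fun r h1 h2 => by
    have := hφ ⟨r, h1, h2⟩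
    simp only [v, map_sub, map_zsmul, smul_eq_mul] at this
    simpa [g₀, mul_comm] using this
  obtain ⟨m, ep, hep, hepr⟩ : ∃ (m : ℕ) (ep : Fin m → idx), Function.Injective ep ∧
      ∀ s, s ∈ Set.range ep ↔ 0 < f (D.α s) := ⟨_, exists_enum fun s => 0 < f (D.α s)⟩
  obtain ⟨k, em, hem, hemr⟩ : ∃ (k : ℕ) (em : Fin k → idx), Function.Injective em ∧
      ∀ s, s ∈ Set.range em ↔ f (D.α s) < 0 := ⟨_, exists_enum fun s => f (D.α s) < 0⟩
  have hp : ∀ i, 0 < f (D.α (ep i)) := fun i => (hepr _).mp ⟨i, rfl⟩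
  have hm : ∀ i, f (D.α (em i)) < 0 := fun i => (hemr _).mp ⟨i, rfl⟩
  obtain ⟨i₀, hi₀⟩ := (hepr a).mpr hfa
  obtain ⟨j₀, hj₀⟩ := (hemr a').mpr (by rw [ha', map_neg]; omega)
  obtain ⟨y, χ, x, hg⟩ := D.exists_cellPt_of_geom hD f hf ep hp hep (fun s hs => (hepr s).mpr hs) em hm hem
    (fun s hs => (hemr s).mpr hs) (D.rPt a (-1) * n) fun K _ _ _ => by
      obtain ⟨p, τ, q, h⟩ := hgeom K
      refine ⟨Pi.single j₀ p, τ, Pi.single i₀ q, ?_⟩
      rw [map_mul, h, cellPt, prodPt_single, prodPt_single, hi₀, hj₀, show up K (D.rPt a (-1 : R)) = D.rPt a (-1 : K) by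
        rw [up, post_rPt, map_neg, map_one]]
      rw [← _root_.mul_assoc, ← rPt_add, neg_add_cancel, rPt_zero, _root_.one_mul]
  let L := R[T;T⁻¹]
  let χ₀ : Multiplicative M →* L := chiF g₀ R
  have hχ₀ : χ₀.comp E.toAddMonoidHom.toMultiplicative = χ₀ := MonoidHom.ext fun z => by
    show LaurentPolynomial.T (g₀ (E z.toAdd)) = LaurentPolynomial.T (g₀ z.toAdd)
    rw [hE, map_sub, map_zsmul, hg₀a, smul_zero, sub_zero]
  have hn₀ : D.tPt χ₀ * up L n * (D.tPt χ₀)⁻¹ = up L n := by
    have h := hn L χ₀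
    rw [hχ₀] at h
    calc D.tPt χ₀ * up L n * (D.tPt χ₀)⁻¹ = up L n * D.tPt χ₀ * (up L n)⁻¹ * up L n * (D.tPt χ₀)⁻¹ := by rw [h]
      _ = up L n := by group
  have h1 := congrArg (up L) hg
  have h2 : D.tPt χ₀ * up L (D.rPt a (-1) * n) * (D.tPt χ₀)⁻¹ = up L (D.rPt a (-1) * n) := by
    rw [map_mul, show up L (D.rPt a (-1 : R)) = D.rPt a (-1 : L) by rw [up, post_rPt, map_neg, map_one]]
    calc _ = D.tPt χ₀ * D.rPt a (-1 : L) * (D.tPt χ₀)⁻¹ * (D.tPt χ₀ * up L n * (D.tPt χ₀)⁻¹) := by group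
      _ = _ := by
        rw [tPt_conj, hn₀, show χ₀ (Multiplicative.ofAdd (D.α a)) = LaurentPolynomial.T (g₀ (D.α a)) from rfl,
          hg₀a, LaurentPolynomial.T_zero, _root_.one_mul]
  rw [hg, up, post_cellPt] at h2
  have h3 : D.tPt χ₀ * D.cellPt ep em (Algebra.ofId R L ∘ y) ((Algebra.ofId R L : R →* L).comp χ)
      (Algebra.ofId R L ∘ x) * (D.tPt χ₀)⁻¹ = D.cellPt ep em
        (fun i => χ₀ (Multiplicative.ofAdd (D.α (em i))) * Algebra.ofId R L (y i))
        ((Algebra.ofId R L : R →* L).comp χ)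
        (fun i => χ₀ (Multiplicative.ofAdd (D.α (ep i))) * Algebra.ofId R L (x i)) := by
    simp only [cellPt, Function.comp_def]
    rw [← prodPt_conj, ← prodPt_conj]
    generalize hP : D.prodPt (C := L) em (fun i => Algebra.ofId R L (y i)) = P
    generalize hQ : D.prodPt (C := L) ep (fun i => Algebra.ofId R L (x i)) = Q
    calc _ = D.tPt χ₀ * P * (D.tPt χ₀)⁻¹ * ((D.tPt χ₀ * D.tPt ((Algebra.ofId R L : R →* L).comp χ) * (D.tPt χ₀)⁻¹) *
        (D.tPt χ₀ * Q * (D.tPt χ₀)⁻¹)) := by group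
      _ = _ := by rw [D.tPt_comm χ₀, mul_inv_cancel_right]
  rw [h3] at h2
  obtain ⟨hy, -, hx⟩ := D.cellPt_unique f ep em hm hp hep hem h2
  have hzero : ∀ (r : idx) (c : R), r ≠ a → r ≠ a' →
      χ₀ (Multiplicative.ofAdd (D.α r)) * Algebra.ofId R L c = Algebra.ofId R L c → c = 0 := fun r c h1 h2 h => by
    have e : χ₀ (Multiplicative.ofAdd (D.α r)) * Algebra.ofId R L c = AddMonoidAlgebra.single (g₀ (D.α r)) c := by
      show LaurentPolynomial.T (g₀ (D.α r)) * LaurentPolynomial.C c = _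
      rw [mul_comm, ← LaurentPolynomial.single_eq_C_mul_T]
    have e' : Algebra.ofId R L c = AddMonoidAlgebra.single (0 : ℤ) c := rfl
    rw [e, e'] at h
    have h' := congrArg (fun t : L => t.coeff (0 : ℤ)) h
    simp only [AddMonoidAlgebra.coeff_single, Finsupp.single_eq_same,
      Finsupp.single_eq_of_ne' (hg₀ r h1 h2)] at h'
    exact h'.symm
  have hys : y = Pi.single j₀ (y j₀) := funext fun i => by
    by_cases hi : i = j₀
    · subst hi; rw [Pi.single_eq_same]
    rw [Pi.single_eq_of_ne hi]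
    refine hzero (em i) _ (fun h => ?_) (fun h => hi (hem (h.trans hj₀.symm))) (congrFun hy i)
    have := hm i
    rw [h] at this
    omega
  have hxs : x = Pi.single i₀ (x i₀) := funext fun i => by
    by_cases hi : i = i₀
    · subst hi; rw [Pi.single_eq_same]
    rw [Pi.single_eq_of_ne hi]
    refine hzero (ep i) _ (fun h => hi (hep (h.trans hi₀.symm))) (fun h => ?_) (congrFun hx i)
    have := hp i
    rw [h, ha', map_neg] at this
    omega
  refine ⟨y j₀, χ, x i₀, ?_⟩
  rw [hys, hxs, cellPt, prodPt_single, prodPt_single, hi₀, hj₀] at hg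
  rw [← hg, ← _root_.mul_assoc, ← rPt_add, add_neg_cancel, rPt_zero, _root_.one_mul]

end Chart

end Groth.Agent.RootChartLib
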