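import Groth.Agent.RootChartLib.RankTwoSettingB2
import Groth.Agent.RootChartLib.RankTwoSettingG2
import Groth.Agent.RootData.RankTwoOrder

/-!
# Lifts of Weyl group elements and their action on simple root groups
-/

set_option autoImplicit false
set_option linter.style.haveILetI false
set_option linter.unusedSectionVars false
set_option backward.isDefEq.respectTransparency false
set_option backward.isDefEq.respectTransparency.types false

universe u

open CategoryTheory Limits AlgebraicGeometry MonoidalCategory CartesianMonoidalCategory MonObj GrpObj WithConv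
open scoped TensorProduct

namespace Groth.Agent.RootChartLib

open GrpSchLib GrpSchLib.AffineHopf GModLib DynLib RankLib.SplitRedPts H23

/-- A sign, in a ring. -/
noncomputable def sgn (T : Type*) [Ring T] (n : ℤ) : T := ((((-1 : ℤˣ) ^ n : ℤˣ) : ℤ) : T)

theorem sgn_add (T : Type*) [Ring T] (m n : ℤ) : sgn T (m + n) = sgn T m * sgn T n := by
  rw [sgn, sgn, sgn, zpow_add, Units.val_mul, Int.cast_mul]

theorem sgn_zero (T : Type*) [Ring T] : sgn T 0 = 1 := by simp [sgn]

theorem sgn_mul_self (T : Type*) [Ring T] (n : ℤ) : sgn T n * sgn T n = 1 := by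
  rw [sgn, ← Int.cast_mul, ← Units.val_mul, Int.units_mul_self, Units.val_one, Int.cast_one]

theorem map_sgn {T T' : Type*} [Ring T] [Ring T'] (f : T →+* T') (n : ℤ) : f (sgn T n) = sgn T' n := by
  rw [sgn, sgn, map_intCast]

variable {S : Scheme.{u}} {G : Over S} [GrpObj G] (D : Red.SplitRed G)

/-- Conjugation by a section. -/
noncomputable abbrev cj (g : 𝟙_ (Over S) ⟶ G) {X : Over S} (y : X ⟶ G) : X ⟶ G :=
  (toUnit X ≫ g) * y * (toUnit X ≫ g)⁻¹

theorem cj_mul (g g' : 𝟙_ (Over S) ⟶ G) {X : Over S} (y : X ⟶ G) : cj (g * g') y = cj g (cj g' y) := by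
  simp only [cj, MonObj.comp_mul]; group

theorem cj_one {X : Over S} (y : X ⟶ G) : cj (1 : 𝟙_ (Over S) ⟶ G) y = y := by
  simp [cj, MonObj.comp_one]

/-- A section carries a root group to another one up to a sign. -/
def Sends (g : 𝟙_ (Over S) ⟶ G) (a a' : D.idx) : Prop :=
  ∃ ε : ℤ, (ε = 1 ∨ ε = -1) ∧ ∀ (X : Over S) (x y : X ⟶ Red.Ga S),
    Red.gaFn y = (ε : Γ(X.left, ⊤)) * Red.gaFn x → cj g (x ≫ D.u a) = y ≫ D.u a'

theorem Sends.mul {g g' : 𝟙_ (Over S) ⟶ G} {a a' a'' : D.idx} (h' : Sends D g' a' a'') (h : Sends D g a a') :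
    Sends D (g' * g) a a'' := by
  obtain ⟨ε, hε, h⟩ := h
  obtain ⟨ε', hε', h'⟩ := h'
  refine ⟨ε' * ε, ?_, fun X x y hy => ?_⟩
  · rcases hε with rfl | rfl <;> rcases hε' with rfl | rfl <;> simp
  · have hmid := GaPts.gaFn_ptOfFn (T := X) (S := S) ((ε : Γ(X.left, ⊤)) * Red.gaFn x)
    rw [cj_mul, h X x _ hmid, h' X _ y]
    rw [hy, hmid, Int.cast_mul, _root_.mul_assoc]

theorem Sends.one (a : D.idx) : Sends D (1 : 𝟙_ (Over S) ⟶ G) a a := by
  refine ⟨1, Or.inl rfl, fun X x y hy => ?_⟩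
  rw [Int.cast_one, _root_.one_mul] at hy
  rw [cj_one, GaPts.gaFn_injective hy]

/-- A section of the torus whose character is a sign. -/
def IsSgnPt (g : 𝟙_ (Over S) ⟶ G) : Prop :=
  ∃ (t : 𝟙_ (Over S) ⟶ D.T) (φ : D.M →+ ℤ), g = t ≫ D.i ∧
    ∀ m, ch D t (Multiplicative.ofAdd m) = sgn _ (φ m)

/-- The sections of the torus with sign characters. -/
noncomputable def sgnPts : Subgroup (𝟙_ (Over S) ⟶ G) where
  carrier := {g | IsSgnPt D g}
  one_mem' := by
    haveI := isMonHom_i D
    refine ⟨1, 0, (MonObj.one_comp D.i).symm, fun m => ?_⟩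
    have h := ch_mul D (1 : 𝟙_ (Over S) ⟶ D.T) 1 (Multiplicative.ofAdd m)
    rw [_root_.one_mul] at h
    have hu : IsUnit (ch D (1 : 𝟙_ (Over S) ⟶ D.T) (Multiplicative.ofAdd m)) := (Group.isUnit _).map _
    rw [AddMonoidHom.zero_apply, sgn_zero]
    exact (hu.mul_left_cancel ((_root_.mul_one _).trans h)).symm
  mul_mem' := by
    rintro _ _ ⟨t, φ, rfl, h⟩ ⟨t', φ', rfl, h'⟩
    haveI := isMonHom_i D
    exact ⟨t * t', φ + φ', (MonObj.mul_comp _ _ _).symm, fun m => by
      rw [ch_mul, h, h', AddMonoidHom.add_apply, sgn_add]⟩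
  inv_mem' := by
    rintro _ ⟨t, φ, rfl, h⟩
    haveI := isMonHom_i D
    refine ⟨t⁻¹, φ, (GrpObj.inv_comp _ _).symm, fun m => ?_⟩
    have h1 := ch_mul D t⁻¹ t (Multiplicative.ofAdd m)
    rw [inv_mul_cancel] at h1
    have h0 : ch D (1 : 𝟙_ (Over S) ⟶ D.T) (Multiplicative.ofAdd m) = 1 := by
      have h2 := ch_mul D (1 : 𝟙_ (Over S) ⟶ D.T) 1 (Multiplicative.ofAdd m)
      rw [_root_.one_mul] at h2
      exact (((Group.isUnit _).map (ch D (1 : 𝟙_ (Over S) ⟶ D.T))).mul_left_cancel
        ((_root_.mul_one _).trans h2)).symm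
    rw [h0, h] at h1
    calc ch D t⁻¹ (Multiplicative.ofAdd m) = ch D t⁻¹ (Multiplicative.ofAdd m) * (sgn _ (φ m) * sgn _ (φ m)) := by
          rw [sgn_mul_self, _root_.mul_one]
      _ = sgn _ (φ m) := by rw [← _root_.mul_assoc, ← h1, _root_.one_mul]

theorem mem_sgnPts {g : 𝟙_ (Over S) ⟶ G} : g ∈ sgnPts D ↔ IsSgnPt D g := Iff.rfl

theorem sends_sgnPts {g : 𝟙_ (Over S) ⟶ G} (hg : g ∈ sgnPts D) (a : D.idx) : Sends D g a a := by
  obtain ⟨t, φ, rfl, h⟩ := hg
  refine ⟨(((-1 : ℤˣ) ^ φ (D.P.root a) : ℤˣ) : ℤ), ?_, fun X x y hy => ?_⟩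
  · rcases Int.units_eq_one_or ((-1 : ℤˣ) ^ φ (D.P.root a)) with e | e <;> simp [e]
  · rw [cj, ← Category.assoc]
    refine rootHom_conj D a _ x y ?_
    rw [hy, ch_comp, h]
    congr 1
    exact (map_sgn _ _).symm

section Weyl

variable (bs : D.P.Base) (hd : ∀ r ∈ bs.support, IsDual D r) {e₁ : 𝟙_ (Over S) ⟶ Red.Ga S} (he₁ : Red.gaFn e₁ = 1)
  {w : D.idx → (𝟙_ (Over S) ⟶ G)}
  (hw : ∀ r, w r = (e₁ ≫ D.u r) * (e₁ ≫ D.u (D.P.reflectionPerm r r))⁻¹ * (e₁ ≫ D.u r))

include hd he₁ hw

theorem coroot_mem_sgnPts (a : D.idx) {m₁ : 𝟙_ (Over S) ⟶ Red.Gm S} (hm₁ : Red.gmFn m₁ = -1) :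
    m₁ ≫ avOf D a ≫ D.i ∈ sgnPts D := by
  refine ⟨m₁ ≫ avOf D a, (D.P.coroot' a).toAddMonoidHom, (Category.assoc _ _ _).symm, fun m => ?_⟩
  rw [ch_avOf, coroot_eq_coroot']
  rw [char_int_eq_zpow (CharPts.chi (M := ℤ) m₁) (Units.map (Int.castRingHom Γ((𝟙_ (Over S)).left, ⊤)).toMonoidHom (-1))
    (by rw [← gmFn_eq, hm₁]; simp)]
  rw [← map_zpow]
  rfl

theorem w_sq {a : D.idx} (ha : a ∈ bs.support) {m₁ : 𝟙_ (Over S) ⟶ Red.Gm S} (hm₁ : Red.gmFn m₁ = -1) :
    w a * w a = m₁ ≫ avOf D a ≫ D.i := by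
  refine eq_of_rd D _ _ fun C _ j => ?_
  rw [rd_mul, rd_sec D j (w a), rd_sec D j (m₁ ≫ _), rd_w D a (hw a) he₁, rd_minus_one D j a hm₁]
  exact (cht D j).wPt_sq (fun r => rfl) (dualAt_chart D _ _ (hd a ha))

theorem w_conj_mem {a : D.idx} (ha : a ∈ bs.support) {g : 𝟙_ (Over S) ⟶ G} (hg : g ∈ sgnPts D) :
    w a * g * (w a)⁻¹ ∈ sgnPts D := by
  obtain ⟨t, φ, rfl, h⟩ := hg
  have hx : Red.gaFn (e₁⁻¹) * Red.gaFn e₁ = -1 := by
    have h0 : Red.gaFn e₁⁻¹ + Red.gaFn e₁ = 0 := by rw [← GaPts.gaFn_mul, inv_mul_cancel, GaPts.gaFn_one]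
    linear_combination Red.gaFn e₁ * h0 - (Red.gaFn e₁ + 1) * he₁
  haveI := isMonHom_u D (D.P.reflectionPerm a a)
  have hdd := dual_act D a (hd a ha) e₁ e₁⁻¹ hx t
  rw [GrpObj.inv_comp, ← hw] at hdd
  let t' : 𝟙_ (Over S) ⟶ D.T := t ≫ D.split.hom.hom.hom ≫
    Red.DSmap S (D.P.reflection a).toLinearMap.toAddMonoidHom ≫ D.split.inv.hom.hom
  refine ⟨t', φ.comp (D.P.reflection a).toLinearMap.toAddMonoidHom, hdd.trans (by simp [t']), fun m => ?_⟩
  have e : ch D t' (Multiplicative.ofAdd m) = ch D t (Multiplicative.ofAdd (D.P.reflection a m)) := by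
    rw [ch, Category.assoc, Category.assoc, Category.assoc, split_inv_hom]
    refine (congrArg (fun x => CharPts.chi (M := D.M) x _) ?_).trans
      (CharPts.chi_map (D.P.reflection a).toLinearMap.toAddMonoidHom (t ≫ D.split.hom.hom.hom) _)
    simp only [← Category.assoc]
    exact Category.comp_id _
  rw [e, h]
  rfl

theorem w_mem_normalizer {a : D.idx} (ha : a ∈ bs.support) : w a ∈ Subgroup.normalizer (sgnPts D : Set _) := by
  let m₁ : 𝟙_ (Over S) ⟶ Red.Gm S := GmPts.ptOfUnit (-1)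
  have hm₁ : Red.gmFn m₁ = -1 := by rw [GmPts.gmFn_ptOfUnit]; simp
  have hsq : w a * w a ∈ sgnPts D := by
    rw [w_sq D bs hd he₁ hw ha hm₁]; exact coroot_mem_sgnPts D bs hd he₁ hw a hm₁
  refine fun g => ⟨fun hg => w_conj_mem D bs hd he₁ hw ha hg, fun hg => ?_⟩
  have h1 := w_conj_mem D bs hd he₁ hw ha hg
  have e : g = (w a * w a)⁻¹ * (w a * (w a * g * (w a)⁻¹) * (w a)⁻¹) * (w a * w a) := by group
  simp only [SetLike.mem_coe] at h1 ⊢
  rw [e]
  exact mul_mem (mul_mem (inv_mem hsq) h1) hsq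

theorem exists_pow_mem {a c : D.idx} (ha : a ∈ bs.support) (hc : c ∈ bs.support) (hne : a ≠ c) [D.P.IsReduced] :
    (w a * w c) ^ orderOf (RootPairing.Equiv.reflection D.P a * RootPairing.Equiv.reflection D.P c) ∈ sgnPts D := by
  let m₁ : 𝟙_ (Over S) ⟶ Red.Gm S := GmPts.ptOfUnit (-1)
  have hm₁ : Red.gmFn m₁ = -1 := by rw [GmPts.gmFn_ptOfUnit]; simp
  have hm := fun r => coroot_mem_sgnPts D bs hd he₁ hw r hm₁
  have hΔ := RootData.Simple.of_base bs
  rw [hΔ.orderOf_pair rfl rfl ha hc hne]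
  rcases hΔ.pairing_cases ha hc hne with ⟨hA, hB⟩ | ⟨hA, hB⟩ | ⟨hA, hB⟩ | ⟨hA, hB⟩ | ⟨hA, hB⟩ | ⟨hA, hB⟩ <;>
    rw [hA, hB] <;> norm_num
  · rw [weyl_A1A1 D bs ha hc hne hd he₁ (hw a) (hw c) hm₁ hA hB]; exact mul_mem (hm a) (hm c)
  · rw [weyl_A2 D bs ha hc hne hd he₁ (hw a) (hw c) hA hB]; exact one_mem _
  · rw [(weyl_B2 D bs ha hc hne hd he₁ (hw a) (hw c) hA hB hm₁).1]; exact hm a
  · rw [(weyl_B2 D bs hc ha hne.symm hd he₁ (hw c) (hw a) hB hA hm₁).2]; exact hm c
  · rw [(weyl_G2 D bs ha hc hne hd he₁ (hw a) (hw c) hA hB).1]; exact one_mem _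
  · rw [(weyl_G2 D bs hc ha hne.symm hd he₁ (hw c) (hw a) hB hA).2]; exact one_mem _

/-- Lifts of equal Weyl group elements differ by a torus section with sign character. -/
theorem lift_mem [D.P.IsReduced] {l l' : List D.idx} (hl : ∀ c ∈ l, c ∈ bs.support) (hl' : ∀ c ∈ l', c ∈ bs.support)
    (he : RootData.word D.P l = RootData.word D.P l') : ((l'.map w).prod)⁻¹ * (l.map w).prod ∈ sgnPts D := by
  classical
  let Q := Subgroup.normalizer (sgnPts D : Set (𝟙_ (Over S) ⟶ G))
  let K : Subgroup Q := (sgnPts D).subgroupOf Q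
  haveI : K.Normal := ⟨fun x hx g => by
    rw [Subgroup.mem_subgroupOf] at hx ⊢
    exact (g.2 x).mp hx⟩
  let f₀ : D.idx → Q := fun c => if h : c ∈ bs.support then ⟨w c, w_mem_normalizer D bs hd he₁ hw h⟩ else 1
  let f : D.idx → Q ⧸ K := fun c => QuotientGroup.mk (f₀ c)
  have hf₀ : ∀ c ∈ bs.support, ((f₀ c : Q) : 𝟙_ (Over S) ⟶ G) = w c := fun c hc => by simp [f₀, hc]
  have hrel : ∀ a ∈ (bs.support : Set D.idx), ∀ c ∈ (bs.support : Set D.idx), a ≠ c →
      (f a * f c) ^ orderOf (RootPairing.Equiv.reflection D.P a * RootPairing.Equiv.reflection D.P c) = 1 := by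
    intro a ha c hc hne
    rw [← QuotientGroup.mk_mul, ← QuotientGroup.mk_pow, QuotientGroup.eq_one_iff, Subgroup.mem_subgroupOf,
      Subgroup.coe_pow, Subgroup.coe_mul, hf₀ a ha, hf₀ c hc]
    exact exists_pow_mem D bs hd he₁ hw ha hc hne
  have hinv : ∀ a ∈ (bs.support : Set D.idx), f a * f a = 1 := fun a ha => by
    rw [← QuotientGroup.mk_mul, QuotientGroup.eq_one_iff, Subgroup.mem_subgroupOf, Subgroup.coe_mul, hf₀ a ha,
      w_sq D bs hd he₁ hw ha (m₁ := GmPts.ptOfUnit (-1)) (by rw [GmPts.gmFn_ptOfUnit]; simp)]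
    exact coroot_mem_sgnPts D bs hd he₁ hw a (by rw [GmPts.gmFn_ptOfUnit]; simp)
  have h := (RootData.Simple.of_base bs).prod_eq_of_coxeter f hinv hrel hl hl' he
  have hprod : ∀ k : List D.idx, (∀ c ∈ k, c ∈ bs.support) →
      (k.map f).prod = QuotientGroup.mk (k.map f₀).prod ∧ (((k.map f₀).prod : Q) : 𝟙_ (Over S) ⟶ G) = (k.map w).prod := by
    intro k
    induction k with
    | nil => intro _; simp
    | cons c t ih =>
      intro hk
      obtain ⟨h1, h2⟩ := ih fun x hx => hk x (List.mem_cons_of_mem _ hx)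
      simp only [List.map_cons, List.prod_cons, h1, Subgroup.coe_mul, h2, hf₀ c (hk c List.mem_cons_self)]
      exact ⟨(QuotientGroup.mk_mul _ _ _).symm, trivial⟩
  rw [(hprod l hl).1, (hprod l' hl').1, eq_comm, QuotientGroup.eq, Subgroup.mem_subgroupOf, Subgroup.coe_mul,
    Subgroup.coe_inv, (hprod l hl).2, (hprod l' hl').2] at h
  exact h

theorem comm_A1A1 {a c : D.idx} (ha : a ∈ bs.support) (hc : c ∈ bs.support) (hne : a ≠ c)
    (hA : D.P.pairing a c = 0) (hB : D.P.pairing c a = 0) {X : Over S} (x : X ⟶ Red.Ga S) :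
    cj (w c) (x ≫ D.u a) = x ≫ D.u a := by
  refine eq_of_rankTwo D bs ha hc hne hd _ _ fun C _ j h => ?_
  haveI := h.reduced; haveI := h.smooth
  simp only [cj, rd_mul, rd_inv, rd_u, rd_w D c (hw c) he₁]
  have hcomm : Commute ((cht D j).wPt D.P c) ((cht D j).rPt a (gc j x)) := by
    have h1 : ∀ y, Commute ((cht D j).rPt c y) ((cht D j).rPt a (gc j x)) := fun y =>
      ((cht D j).A1A1_commute h.geom h.hα h.pair hA hB (i := 1) (j := 1) (.inl rfl) (.inl rfl) (one_smul _ _).symm
        (one_smul _ _).symm (gc j x) y).symm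
    have h2 : ∀ y, Commute ((cht D j).rPt (D.P.reflectionPerm c c) y) ((cht D j).rPt a (gc j x)) := fun y =>
      ((cht D j).A1A1_commute h.geom h.hα h.pair hA hB (i := 1) (j := -1) (.inl rfl) (.inr rfl) (one_smul _ _).symm
        (by rw [RootData.root_neg, neg_smul, one_smul]) (gc j x) y).symm
    exact ((h1 _).mul_left (h2 _)).mul_left (h1 _)
  rw [hcomm.eq, mul_inv_cancel_right]

/-- The lift of the exceptional element of a pair of simple roots carries a simple root group to one, with sign one. -/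
theorem sends_pairWord_eq [D.P.IsReduced] {a c : D.idx} (ha : a ∈ bs.support) (hc : c ∈ bs.support) (hne : a ≠ c)
    (X : Over S) (x : X ⟶ Red.Ga S) :
    cj ((RootData.pairWord a c (D.P.pairing a c) (D.P.pairing c a)).map w).prod (x ≫ D.u a) =
      x ≫ D.u (RootData.word D.P (RootData.pairWord a c (D.P.pairing a c) (D.P.pairing c a)) • a) := by
  revert X x
  have hΔ := RootData.Simple.of_base bs
  have key : ∀ (l : List D.idx) (a' : D.idx), RootData.word D.P l • a = a' →
      (∀ (X : Over S) (x : X ⟶ Red.Ga S), cj (l.map w).prod (x ≫ D.u a) = x ≫ D.u a') →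
      ∀ (X : Over S) (x : X ⟶ Red.Ga S), cj (l.map w).prod (x ≫ D.u a) = x ≫ D.u (RootData.word D.P l • a) :=
    fun l a' e h => by rw [e]; exact h
  have hneg : ∀ {X : Over S} (x : X ⟶ Red.Ga S), Red.gaFn (x⁻¹) = -Red.gaFn x := fun x => by
    refine eq_neg_of_add_eq_zero_left ?_
    rw [← GaPts.gaFn_mul, inv_mul_cancel, GaPts.gaFn_one]
  rcases hΔ.pairing_cases ha hc hne with ⟨hA, hB⟩ | ⟨hA, hB⟩ | ⟨hA, hB⟩ | ⟨hA, hB⟩ | ⟨hA, hB⟩ | ⟨hA, hB⟩ <;>
    rw [hA, hB] <;> simp only [RootData.pairWord, Int.reduceMul, Int.reduceNeg, Int.reduceEq, mul_zero, if_true, if_false, reduceIte]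
  · refine key [c] a ?_ fun X x => ?_
    · apply D.P.root.injective
      simp only [RootData.word, List.map_cons, List.map_nil, List.prod_cons, List.prod_nil, _root_.mul_one,
        RootData.smul_root, RootPairing.Equiv.reflection_smul, D.P.reflection_apply_root, hA]
      module
    · simpa using comm_A1A1 D bs hd he₁ hw ha hc hne hA hB x
  · refine key [a, c] c ?_ fun X x => ?_
    · apply D.P.root.injective
      simp only [RootData.word, List.map_cons, List.map_nil, List.prod_cons, List.prod_nil, _root_.mul_one, mul_smul,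
        RootData.smul_root, RootPairing.Equiv.reflection_smul, D.P.reflection_apply_root, D.P.reflection_apply_self,
        map_sub, map_zsmul, D.P.pairing_same, hA, hB]
      module
    · simpa [cj_mul] using (act_A2 D bs ha hc hne hd he₁ (hw a) (hw c) hA hB x x⁻¹ (hneg x)).2.1
  · refine key [c, a, c] a ?_ fun X x => ?_
    · apply D.P.root.injective
      simp only [RootData.word, List.map_cons, List.map_nil, List.prod_cons, List.prod_nil, _root_.mul_one, mul_smul,
        RootData.smul_root, RootPairing.Equiv.reflection_smul, D.P.reflection_apply_root, D.P.reflection_apply_self,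
        map_sub, map_zsmul, map_neg, D.P.pairing_same, hA, hB]
      module
    · have h1 := (act_B2 D bs ha hc hne hd he₁ (hw a) (hw c) hA hB x x⁻¹ (hneg x)).1
      have h2 := (act_B2 D bs ha hc hne hd he₁ (hw a) (hw c) hA hB x⁻¹ x (by rw [hneg, neg_neg])).2.2.1
      simp only [List.map_cons, List.map_nil, List.prod_cons, List.prod_nil, _root_.mul_one, cj_mul]
      simp only [cj] at *
      rw [h1, h2]
  · refine key [c, a, c] a ?_ fun X x => ?_
    · apply D.P.root.injective
      simp only [RootData.word, List.map_cons, List.map_nil, List.prod_cons, List.prod_nil, _root_.mul_one, mul_smul,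
        RootData.smul_root, RootPairing.Equiv.reflection_smul, D.P.reflection_apply_root, D.P.reflection_apply_self,
        map_sub, map_zsmul, map_neg, D.P.pairing_same, hA, hB]
      module
    · have h := act_B2 D bs hc ha hne.symm hd he₁ (hw c) (hw a) hB hA x x⁻¹ (hneg x)
      simp only [List.map_cons, List.map_nil, List.prod_cons, List.prod_nil, _root_.mul_one, cj_mul]
      simp only [cj] at *
      rw [h.2.2.2, h.2.1]
  · refine key [c, a, c, a, c] a ?_ fun X x => ?_
    · apply D.P.root.injective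
      simp only [RootData.word, List.map_cons, List.map_nil, List.prod_cons, List.prod_nil, _root_.mul_one, mul_smul,
        RootData.smul_root, RootPairing.Equiv.reflection_smul, D.P.reflection_apply_root, D.P.reflection_apply_self,
        map_sub, map_zsmul, map_neg, D.P.pairing_same, hA, hB]
      module
    · have h := act_G2 D bs ha hc hne hd he₁ (hw a) (hw c) hA hB x x⁻¹ (hneg x)
      have h' := act_G2 D bs ha hc hne hd he₁ (hw a) (hw c) hA hB x⁻¹ x (by rw [hneg, neg_neg])
      simp only [List.map_cons, List.map_nil, List.prod_cons, List.prod_nil, _root_.mul_one, cj_mul]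
      simp only [cj] at *
      rw [h.2.2.2.2.1, h.1, h'.2.2.2.1]
  · refine key [c, a, c, a, c] a ?_ fun X x => ?_
    · apply D.P.root.injective
      simp only [RootData.word, List.map_cons, List.map_nil, List.prod_cons, List.prod_nil, _root_.mul_one, mul_smul,
        RootData.smul_root, RootPairing.Equiv.reflection_smul, D.P.reflection_apply_root, D.P.reflection_apply_self,
        map_sub, map_zsmul, map_neg, D.P.pairing_same, hA, hB]
      module
    · have h := act_G2 D bs hc ha hne.symm hd he₁ (hw c) (hw a) hB hA x⁻¹ x (by rw [hneg, neg_neg])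
      have h' := act_G2 D bs hc ha hne.symm hd he₁ (hw c) (hw a) hB hA x x⁻¹ (hneg x)
      haveI := isMonHom_u D a
      simp only [List.map_cons, List.map_nil, List.prod_cons, List.prod_nil, _root_.mul_one, cj_mul]
      simp only [cj, GrpObj.inv_comp, _root_.inv_inv] at *
      rw [h.2.2.1, h.2.2.2.2.2, h'.2.1]

/-- The lift of the exceptional element of a pair of simple roots carries a simple root group to one. -/
theorem sends_pairWord [D.P.IsReduced] {a c : D.idx} (ha : a ∈ bs.support) (hc : c ∈ bs.support) (hne : a ≠ c) :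
    Sends D ((RootData.pairWord a c (D.P.pairing a c) (D.P.pairing c a)).map w).prod a
      (RootData.word D.P (RootData.pairWord a c (D.P.pairing a c) (D.P.pairing c a)) • a) :=
  ⟨1, Or.inl rfl, fun X x y hy => by
    rw [Int.cast_one, _root_.one_mul] at hy
    rw [GaPts.gaFn_injective hy, sends_pairWord_eq D bs hd he₁ hw ha hc hne X x]⟩

/-- A word in the Weyl elements carries simple root groups to simple root groups up to sign. -/
theorem sends_word [D.P.IsReduced] {l : List D.idx} (hl : ∀ c ∈ l, c ∈ bs.support) {a a₀ : D.idx}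
    (ha : a ∈ bs.support) (ha₀ : a₀ ∈ bs.support) (hla : RootData.word D.P l • a = a₀) :
    Sends D (l.map w).prod a a₀ := by
  classical
  have hΔ := RootData.Simple.of_base bs
  let SW : D.P.Aut → D.idx → D.idx → Prop := fun v p q => ∀ k : List D.idx, (∀ c ∈ k, c ∈ bs.support) →
    RootData.word D.P k = v → Sends D (k.map w).prod p q
  have reduce : ∀ {k k' : List D.idx} {p q : D.idx}, (∀ c ∈ k, c ∈ bs.support) → (∀ c ∈ k', c ∈ bs.support) →
      RootData.word D.P k = RootData.word D.P k' → Sends D (k'.map w).prod p q → Sends D (k.map w).prod p q := by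
    intro k k' p q hk hk' he h
    have := h.mul D (sends_sgnPts D (lift_mem D bs hd he₁ hw hk hk' he) p)
    rwa [mul_inv_cancel_left] at this
  have elem : ∀ (p q c : D.idx) (v : D.P.Aut), p ∈ bs.support → c ∈ bs.support →
      v ∈ RootData.gen D.P ({p, c} : Set D.idx) → v • p = q → (p ≠ q → c = q) → SW v p q := by
    intro p q c v hp hc hv hvp hq k hk hkv
    have h01 : v • p = p ∨ v • p = c := by
      by_cases h : p = q
      · exact Or.inl (hvp.trans h.symm)
      · exact Or.inr (hvp.trans (hq h).symm)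
    by_cases hpc : p = c
    · subst hpc
      have hvpp : v • p = p := h01.elim id id
      have hpos : v • p ∈ RootD.posOf D.P (bs.support : Set D.idx) := hvpp.symm ▸ hΔ.subset_posOf hp
      have hv1 : v = 1 := hΔ.eq_one_of_plane_pos hp hp hv hpos hpos
      subst hv1
      rw [one_smul] at hvp
      subst hvp
      exact reduce hk (k' := []) (by simp) (hkv.trans (by simp [RootData.word])) (by simpa using Sends.one D p)
    · rcases hΔ.eq_pairWord rfl rfl hp hc hpc hv h01 with h | h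
      · subst h
        rw [one_smul] at hvp
        subst hvp
        exact reduce hk (k' := []) (by simp) (hkv.trans (by simp [RootData.word])) (by simpa using Sends.one D p)
      · subst hvp
        rw [h]
        refine reduce hk ?_ (hkv.trans h) (sends_pairWord D bs hd he₁ hw hp hc hpc)
        intro x hx
        unfold RootData.pairWord at hx
        split_ifs at hx <;> simp at hx <;> rcases hx with rfl | rfl | rfl | rfl | rfl <;> assumption
  have comp : ∀ {v v' : D.P.Aut} {p q r : D.idx}, v ∈ D.P.weylGroup → v' ∈ D.P.weylGroup → SW v p q → SW v' q r →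
      SW (v' * v) p r := by
    intro v v' p q r hv hv' h h' k hk hkv
    obtain ⟨k₁, hk₁, e₁'⟩ := RootData.exists_word (hΔ.gen_eq_weylGroup ▸ hv : v ∈ RootData.gen D.P _)
    obtain ⟨k₂, hk₂, e₂'⟩ := RootData.exists_word (hΔ.gen_eq_weylGroup ▸ hv' : v' ∈ RootData.gen D.P _)
    refine reduce hk (k' := k₂ ++ k₁) (fun x hx => ?_) (by rw [hkv, RootData.word_append, e₁', e₂']) ?_
    · rcases List.mem_append.mp hx with hx | hx
      exacts [hk₂ x hx, hk₁ x hx]
    · rw [List.map_append, List.prod_append]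
      exact (h' k₂ hk₂ e₂').mul D (h k₁ hk₁ e₁')
  obtain ⟨m, r, ws, hr, hr0, hrl, hws, hprod, hstep, hcl⟩ :=
    hΔ.tits _ _ (RootData.word_mem_weylGroup l) le_rfl a a₀ ha ha₀ hla
  have step : ∀ i : Fin m, SW (ws i) (r i.castSucc) (r i.succ) := fun i => by
    obtain ⟨c, hc, hmem, hq⟩ := hcl i
    refine elem _ _ c _ (hr _) hc ?_ (hstep i) hq
    rw [RootData.gen, Set.image_pair]
    exact hmem
  have chain : ∀ (n : ℕ) (r : Fin (n + 1) → D.idx) (ws : Fin n → D.P.Aut),
      (∀ i, ws i ∈ D.P.weylGroup) → (∀ i : Fin n, SW (ws i) (r i.castSucc) (r i.succ)) →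
      (List.ofFn fun i : Fin n => ws i.rev).prod ∈ D.P.weylGroup ∧
        SW (List.ofFn fun i : Fin n => ws i.rev).prod (r 0) (r (Fin.last n)) := by
    intro n
    induction n with
    | zero =>
      intro r ws _ _
      refine ⟨by simp, fun k hk hkv => ?_⟩
      exact reduce hk (k' := []) (by simp) (by rw [hkv]; simp [RootData.word]) (by simpa using Sends.one D (r 0))
    | succ n ih =>
      intro r ws hw' hs
      obtain ⟨h1, h2⟩ := ih (fun i => r i.castSucc) (fun i => ws i.castSucc) (fun i => hw' _) fun i => by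
        simpa [← Fin.castSucc_succ] using hs i.castSucc
      have e : (List.ofFn fun i : Fin (n + 1) => ws i.rev).prod =
          ws (Fin.last n) * (List.ofFn fun i : Fin n => ws i.rev.castSucc).prod := by
        simp [List.ofFn_succ, Fin.rev_succ]
      rw [e]
      refine ⟨mul_mem (hw' _) h1, comp h1 (hw' _) h2 ?_⟩
      simpa [Fin.succ_last] using hs (Fin.last n)
  have h := (chain m r ws hws step).2
  rw [hr0, hrl, ← hprod] at h
  exact h l hl rfl

end Weyl

end Groth.Agent.RootChartLib
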