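import Groth.Agent.RootChartLib.BaseChange
import Groth.Agent.DynCell.Conn
import Groth.Agent.ComodLib.Rosenlicht
import Groth.Agent.Chevalley.CommAff.TorusDeg
import Groth.Agent.QRepLib.Naive
import Mathlib.RingTheory.KrullDimension.Polynomial
import Mathlib.RingTheory.Spectrum.Prime.Topology

/-!
# The centraliser of a regular cocharacter of a chart is the torus
-/

set_option autoImplicit false
set_option backward.isDefEq.respectTransparency false
set_option backward.isDefEq.respectTransparency.types false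

universe u

open WithConv AlgebraicGeometry CategoryTheory
open scoped TensorProduct LaurentPolynomial

namespace Groth.Agent.RootChartLib

open DynLib DynSm

namespace Chart

variable {R : Type u} [CommRing R] {A : Type u} [CommRing A] [HopfAlgebra R A] {M : Type} [AddCommGroup M]
  {idx : Type} (D : Chart R A M idx) {C C' : Type u} [CommRing C] [Algebra R C] [CommRing C'] [Algebra R C']
  (f : M →+ ℤ)

theorem lam_neg : ((D.lam (-f)) : A →ₐ[R] R[T;T⁻¹]) = Dyn.negParam R A (D.lam f) := by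
  refine AlgHom.ext fun a => ?_
  show (AddMonoidAlgebra.toMultiplicativeBialgEquiv R R ℤ).symm
      (MonoidAlgebra.mapDomain (AddMonoidHom.toMultiplicative (-f)) (D.tor a)) =
    LaurentPolynomial.invert ((AddMonoidAlgebra.toMultiplicativeBialgEquiv R R ℤ).symm
      (MonoidAlgebra.mapDomain (AddMonoidHom.toMultiplicative f) (D.tor a)))
  induction D.tor a using MonoidAlgebra.induction_linear with
  | zero => simp
  | add F G hF hG => simp only [MonoidAlgebra.mapDomain_add, map_add, hF, hG]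
  | single n r =>
    have hs : ∀ (g : M →+ ℤ), (AddMonoidAlgebra.toMultiplicativeBialgEquiv R R ℤ).symm
        (MonoidAlgebra.single (AddMonoidHom.toMultiplicative g n) r) = AddMonoidAlgebra.single (g n.toAdd) r := fun g => by
      apply (AddMonoidAlgebra.toMultiplicativeBialgEquiv R R ℤ).toEquiv.symm_apply_eq.mpr
      exact (AddMonoidAlgebra.toMultiplicativeBialgEquiv_single (R := R) (g n.toAdd) r).symm
    rw [MonoidAlgebra.mapDomain_single, MonoidAlgebra.mapDomain_single, hs, hs, LaurentPolynomial.single_eq_C_mul_T,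
      LaurentPolynomial.single_eq_C_mul_T, map_mul, LaurentPolynomial.invert_C, LaurentPolynomial.invert_T]
    rfl

/-- The ideal of the centraliser of a cocharacter. -/
noncomputable def idealZ : Ideal A := idealP (D.lam f) ⊔ idealP (D.lam (-f))

theorem represents_idealZ : Dyn.Represents R A (D.idealZ f)
    (fun C _ _ g => Dyn.conjOrbit R A (D.lam f) C g = (IsScalarTower.toAlgHom R C C[T;T⁻¹]).comp g) :=
  represents_centralizer (D.lam f) (D.lam (-f)) (D.lam_neg f) _ _ (represents_idealP _) (represents_idealP _)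

theorem conjOrbit_tPt (χ : Multiplicative M →* C) :
    Dyn.conjOrbit R A (D.lam f) C (D.tPt χ).ofConv = (IsScalarTower.toAlgHom R C C[T;T⁻¹]).comp (D.tPt χ).ofConv := by
  refine congrArg WithConv.ofConv (?_ : toConv (Dyn.conjOrbit R A (D.lam f) C (D.tPt χ).ofConv) =
    post (con R C) (D.tPt χ))
  rw [toConv_conjOrbit, toConv_ofConv, conjHom_apply, lamW_eq, post_tPt, tPt_comm, mul_inv_cancel_right]

theorem tPt_kills_idealZ (χ : Multiplicative M →* C) : ∀ a ∈ D.idealZ f, (D.tPt χ).ofConv a = 0 :=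
  (D.represents_idealZ f C _).mpr (D.conjOrbit_tPt f χ)

theorem tor_kills_idealZ : ∀ a ∈ D.idealZ f, D.tor a = 0 := fun a ha => by
  have h := D.tPt_kills_idealZ f (MonoidAlgebra.of R (Multiplicative M)) a ha
  have hid : MonoidAlgebra.lift R (MonoidAlgebra R (Multiplicative M)) (Multiplicative M)
      (MonoidAlgebra.of R (Multiplicative M)) = AlgHom.id R _ :=
    MonoidAlgebra.algHom_ext (fun m => by simp) (by ext)
  rwa [tPt_apply, hid, AlgHom.id_apply] at h

/-- The torus inside the centraliser, on functions. -/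
noncomputable def torQ : A ⧸ D.idealZ f →ₐ[R] MonoidAlgebra R (Multiplicative M) :=
  Ideal.Quotient.liftₐ _ (D.tor : A →ₐ[R] MonoidAlgebra R (Multiplicative M)) (D.tor_kills_idealZ f)

theorem torQ_surjective : Function.Surjective (D.torQ f) := fun p => by
  obtain ⟨a, rfl⟩ := D.tor_surj p
  exact ⟨Ideal.Quotient.mk _ a, rfl⟩

theorem idealP_le_idealZ : idealP (D.lam f) ≤ D.idealZ f := le_sup_left

/-! ### The Levi decomposition -/

/-- Points of the centraliser. -/
def IsZ (z : WithConv (A →ₐ[R] C)) : Prop := ∀ a ∈ D.idealZ f, z.ofConv a = 0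

/-- Points contracted by the cocharacter. -/
def IsU (v : WithConv (A →ₐ[R] C)) : Prop := ∀ a ∈ idealU (D.lam f), v.ofConv a = 0

/-- Points with a limit. -/
def IsP (g : WithConv (A →ₐ[R] C)) : Prop := ∀ a ∈ idealP (D.lam f), g.ofConv a = 0

theorem isP_iff (g : WithConv (A →ₐ[R] C)) : D.IsP f g ↔ g ∈ limSubgroup (D.lam f) C :=
  (represents_idealP (D.lam f) C g.ofConv).trans (mem_limSubgroup (D.lam f) g.ofConv).symm

theorem isU_iff (g : WithConv (A →ₐ[R] C)) : D.IsU f g ↔ g ∈ limOneSubgroup (D.lam f) C :=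
  (represents_idealU (D.lam f) C g.ofConv).trans (mem_limOneSubgroup (D.lam f) g.ofConv).symm

theorem isU_isP {g : WithConv (A →ₐ[R] C)} (h : D.IsU f g) : D.IsP f g := by
  obtain ⟨w, hw, _⟩ := (represents_idealU (D.lam f) C g.ofConv).mp h
  exact (represents_idealP (D.lam f) C g.ofConv).mpr ⟨w, hw⟩

theorem isZ_isP {g : WithConv (A →ₐ[R] C)} (h : D.IsZ f g) : D.IsP f g :=
  fun a ha => h a (D.idealP_le_idealZ f ha)

theorem isP_mul {z v : WithConv (A →ₐ[R] C)} (hz : D.IsZ f z) (hv : D.IsU f v) : D.IsP f (z * v) :=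
  (D.isP_iff f _).mpr (Subgroup.mul_mem _ ((D.isP_iff f z).mp (D.isZ_isP f hz)) ((D.isP_iff f v).mp (D.isU_isP f hv)))

theorem isZ_post {g : WithConv (A →ₐ[R] C)} (φ : C →ₐ[R] C') (h : D.IsZ f g) : D.IsZ f (post φ g) :=
  fun a ha => by
    show φ (g.ofConv a) = 0
    rw [h a ha, map_zero]

theorem isU_post {g : WithConv (A →ₐ[R] C)} (φ : C →ₐ[R] C') (h : D.IsU f g) : D.IsU f (post φ g) :=
  fun a ha => by
    show φ (g.ofConv a) = 0
    rw [h a ha, map_zero]

theorem isP_post {g : WithConv (A →ₐ[R] C)} (φ : C →ₐ[R] C') (h : D.IsP f g) : D.IsP f (post φ g) :=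
  fun a ha => by
    show φ (g.ofConv a) = 0
    rw [h a ha, map_zero]

theorem exists_levi {g : WithConv (A →ₐ[R] C)} (hg : D.IsP f g) :
    ∃ z v, D.IsZ f z ∧ D.IsU f v ∧ z * v = g ∧
      ∀ z' v', D.IsZ f z' → D.IsU f v' → z' * v' = g → z' = z ∧ v' = v := by
  obtain ⟨⟨z, v⟩, ⟨h1, h2, h3⟩, huniq⟩ :=
    existsUnique_levi (D.lam f) g.ofConv ((represents_idealP (D.lam f) C g.ofConv).mp hg)
  refine ⟨toConv z, toConv v, (D.represents_idealZ f C z).mpr h1, (represents_idealU (D.lam f) C v).mpr h2, ?_,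
    fun z' v' hz' hv' h' => ?_⟩
  · rw [HopfPtLib.conv3_one] at h3
    exact WithConv.ofConv_injective h3
  · have h := huniq (z'.ofConv, v'.ofConv) ⟨(D.represents_idealZ f C _).mp hz', (represents_idealU (D.lam f) C _).mp hv',
      by rw [HopfPtLib.conv3_one, toConv_ofConv, toConv_ofConv, h']⟩
    exact ⟨WithConv.ofConv_injective (congrArg Prod.fst h), WithConv.ofConv_injective (congrArg Prod.snd h)⟩

theorem levi_unique {z v z' v' : WithConv (A →ₐ[R] C)} (hz : D.IsZ f z) (hv : D.IsU f v) (hz' : D.IsZ f z')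
    (hv' : D.IsU f v') (h : z * v = z' * v') : z = z' ∧ v = v' := by
  obtain ⟨z₀, v₀, _, _, _, huniq⟩ := D.exists_levi f (D.isP_mul f hz hv)
  obtain ⟨rfl, rfl⟩ := huniq z v hz hv rfl
  obtain ⟨rfl, rfl⟩ := huniq z' v' hz' hv' h.symm
  exact ⟨rfl, rfl⟩

theorem smooth_idealZ [Algebra.Smooth R A] : Algebra.Smooth R (A ⧸ D.idealZ f) := by
  refine ⟨formallySmooth_quotient (D.represents_idealZ f) fun C _ _ I hI g₀ h₀ => ?_,
    Algebra.FinitePresentation.quotient (Submodule.FG.sup (fg_idealP _) (fg_idealP _))⟩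
  have hz₀ : D.IsZ f (toConv g₀) := (D.represents_idealZ f _ g₀).mpr h₀
  obtain ⟨p, hp, hpq⟩ := exists_limExists_lift (D.lam f) I hI g₀
    ((represents_idealP (D.lam f) _ g₀).mp (D.isZ_isP f hz₀))
  obtain ⟨z, v, hz, hv, hzv, _⟩ := D.exists_levi f ((represents_idealP (D.lam f) C p).mpr hp : D.IsP f (toConv p))
  refine ⟨z.ofConv, (D.represents_idealZ f C _).mp hz, ?_⟩
  have h := D.levi_unique f (D.isZ_post f (Ideal.Quotient.mkₐ R I) hz) (D.isU_post f (Ideal.Quotient.mkₐ R I) hv) hz₀
    ((D.isU_iff f _).mpr (Subgroup.one_mem _)) (by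
      rw [_root_.mul_one, ← map_mul, hzv]; exact congrArg toConv hpq)
  exact congrArg WithConv.ofConv h.1

theorem exists_retraction : ∃ ρ : A ⧸ D.idealZ f →ₐ[R] A ⧸ idealP (D.lam f), Function.Injective ρ := by
  let g : WithConv (A →ₐ[R] A ⧸ idealP (D.lam f)) := toConv (Ideal.Quotient.mkₐ R _)
  obtain ⟨z, v, hz, hv, hzv, _⟩ := D.exists_levi f (g := g) (fun a ha => Ideal.Quotient.eq_zero_iff_mem.mpr ha)
  let ρ := Ideal.Quotient.liftₐ (D.idealZ f) z.ofConv hz
  let π : A ⧸ idealP (D.lam f) →ₐ[R] A ⧸ D.idealZ f := Ideal.Quotient.factorₐ R (D.idealP_le_idealZ f)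
  refine ⟨ρ, Function.LeftInverse.injective (g := π) fun x => ?_⟩
  have h := D.levi_unique f (D.isZ_post f π hz) (D.isU_post f π hv)
    (z' := toConv (Ideal.Quotient.mkₐ R (D.idealZ f))) (fun a ha => Ideal.Quotient.eq_zero_iff_mem.mpr ha)
    ((D.isU_iff f _).mpr (Subgroup.one_mem _)) (by
      rw [_root_.mul_one, ← map_mul, hzv]
      exact WithConv.ofConv_injective (AlgHom.ext fun a => rfl))
  obtain ⟨a, rfl⟩ := Ideal.Quotient.mk_surjective x
  exact DFunLike.congr_fun (congrArg WithConv.ofConv h.1) a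

/-! ### The cell maps onto affine space over the centraliser -/

variable [Module.IsTorsionFree ℤ M]

theorem isU_prodPt {m : ℕ} (e : Fin m → idx) (hpos : ∀ i, 0 < f (D.α (e i))) (c : Fin m → C) :
    D.IsU f (D.prodPt e c) :=
  (represents_idealU (D.lam f) C _).mpr (D.limIsOne_prodPt f e hpos c)

theorem prodPt_mem_range {B : Type u} [CommRing B] [Algebra R B] {m : ℕ} (e : Fin m → idx)
    (hpos : ∀ i, 0 < f (D.α (e i))) (he : Function.Injective e) (S : Subalgebra R B) (c : Fin m → B)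
    (h : ∀ a, (D.prodPt e c).ofConv a ∈ S) (i : Fin m) : c i ∈ S := by
  obtain ⟨a, ha⟩ := D.Phi_surjective f e hpos he (MvPolynomial.X i)
  have h1 := h a
  rwa [prodPt_eq, ofConv_toConv, AlgHom.comp_apply, ha, MvPolynomial.aeval_X] at h1

/-- The functions on the cell map onto polynomials over the centraliser. -/
theorem exists_cell_surjection {n m : ℕ} (em : Fin n → idx) (ep : Fin m → idx) (hm : ∀ i, f (D.α (em i)) < 0)
    (hp : ∀ i, 0 < f (D.α (ep i))) (hemi : Function.Injective em) (hepi : Function.Injective ep) :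
    ∃ ψ : (A ⧸ idealU (D.lam (-f))) ⊗[R] (A ⧸ idealP (D.lam f)) →ₐ[R]
      MvPolynomial (Fin n ⊕ Fin m) (A ⧸ D.idealZ f), Function.Surjective ψ := by
  let B := MvPolynomial (Fin n ⊕ Fin m) (A ⧸ D.idealZ f)
  let z : WithConv (A →ₐ[R] B) :=
    toConv ((IsScalarTower.toAlgHom R (A ⧸ D.idealZ f) B).comp (Ideal.Quotient.mkₐ R (D.idealZ f)))
  have hz : D.IsZ f z := fun a ha => by
    show algebraMap (A ⧸ D.idealZ f) B (Ideal.Quotient.mk (D.idealZ f) a) = 0
    rw [Ideal.Quotient.eq_zero_iff_mem.mpr ha, map_zero]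
  have hm' : ∀ i, 0 < (-f) (D.α (em i)) := fun i => by simpa using hm i
  let vm : WithConv (A →ₐ[R] B) := D.prodPt em fun i => MvPolynomial.X (Sum.inl i)
  let vp : WithConv (A →ₐ[R] B) := D.prodPt ep fun i => MvPolynomial.X (Sum.inr i)
  have hvm : D.IsU (-f) vm := D.isU_prodPt (-f) em hm' _
  have hvp : D.IsU f vp := D.isU_prodPt f ep hp _
  let ψ := Algebra.TensorProduct.productMap (Ideal.Quotient.liftₐ _ vm.ofConv hvm)
    (Ideal.Quotient.liftₐ _ (z * vp).ofConv (D.isP_mul f hz hvp))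
  refine ⟨ψ, AlgHom.range_eq_top ψ |>.mp (eq_top_iff.mpr fun x _ => ?_)⟩
  let S := ψ.range
  have hl : ∀ a, vm.ofConv a ∈ S := fun a => ⟨Ideal.Quotient.mk _ a ⊗ₜ 1, by simp [ψ]⟩
  have hr : ∀ a, (z * vp).ofConv a ∈ S := fun a => ⟨1 ⊗ₜ Ideal.Quotient.mk _ a, by simp [ψ]⟩
  let g : WithConv (A →ₐ[R] S) := toConv ((z * vp).ofConv.codRestrict S hr : A →ₐ[R] S)
  have hg : D.IsP (C := ↥S) f g := fun a ha => by
    refine Subtype.ext ?_
    exact D.isP_mul f hz hvp a ha
  obtain ⟨z', v', hz', hv', hzv', _⟩ := D.exists_levi f hg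
  obtain ⟨e1, e2⟩ := D.levi_unique f (D.isZ_post f S.val hz') (D.isU_post f S.val hv') hz hvp (by
    rw [← map_mul, hzv']
    exact WithConv.ofConv_injective (AlgHom.ext fun a => rfl))
  have hC : ∀ c : A ⧸ D.idealZ f, MvPolynomial.C c ∈ S := fun c => by
    obtain ⟨a, rfl⟩ := Ideal.Quotient.mk_surjective c
    have : z.ofConv a ∈ S := e1 ▸ (z'.ofConv a).2
    exact this
  have hX : ∀ i, MvPolynomial.X i ∈ S := by
    rintro (i | i)
    · exact D.prodPt_mem_range (-f) em hm' hemi S _ hl i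
    · exact D.prodPt_mem_range f ep hp hepi S (fun i => MvPolynomial.X (Sum.inr i))
        (fun a => by
          show vp.ofConv a ∈ S
          rw [← e2]
          exact (v'.ofConv a).2) i
  induction x using MvPolynomial.induction_on with
  | C c => exact hC c
  | add p q hp hq => exact Subalgebra.add_mem _ (hp trivial) (hq trivial)
  | mul_X p i hp => exact Subalgebra.mul_mem _ (hp trivial) (hX i)

end Chart

/-- An enumeration of a finite set of indices. -/
theorem exists_enum {idx : Type} [Fintype idx] (p : idx → Prop) [DecidablePred p] :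
    ∃ e : Fin (Fintype.card {r // p r}) → idx, Function.Injective e ∧ ∀ r, r ∈ Set.range e ↔ p r :=
  ⟨fun i => ((Fintype.equivFin {r // p r}).symm i).1,
    fun i j h => (Fintype.equivFin {r // p r}).symm.injective (Subtype.ext h),
    fun r => ⟨by rintro ⟨i, rfl⟩; exact ((Fintype.equivFin {r // p r}).symm i).2,
      fun h => ⟨Fintype.equivFin {r // p r} ⟨r, h⟩, by simp⟩⟩⟩

theorem ringKrullDim_monoidAlgebra (k : Type u) [Field k] (M : Type) [AddCommGroup M] [Module.Free ℤ M]
    [Module.Finite ℤ M] : ringKrullDim (MonoidAlgebra k (Multiplicative M)) = (Module.finrank ℤ M : ℕ) := by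
  let e : M ≃+ (Fin (Module.finrank ℤ M) → ℤ) := (Module.finBasis ℤ M).equivFun.toAddEquiv
  rw [ringKrullDim_eq_of_ringEquiv
    (MonoidAlgebra.domCongr k k (AddEquiv.toMultiplicative e)).toRingEquiv]
  exact Chevalley.CommAff.ringKrullDim_laurent k _

namespace Chart

variable {k : Type u} [Field k] [IsAlgClosed k] {A : Type u} [CommRing A] [HopfAlgebra k A] {M : Type} [AddCommGroup M]
  [Module.Free ℤ M] [Module.Finite ℤ M] {idx : Type} [Fintype idx] (D : Chart k A M idx)

theorem dim_idealZ [Algebra.Smooth k A]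
    (hdim : ringKrullDim A ≤ ((Module.finrank ℤ M + Fintype.card idx : ℕ) : WithBot ℕ∞))
    (f : M →+ ℤ) (hf : ∀ r, f (D.α r) ≠ 0) :
    ringKrullDim (A ⧸ D.idealZ f) ≤ (Module.finrank ℤ M : ℕ) := by
  classical
  obtain ⟨em, hemi, hem⟩ := exists_enum fun r => f (D.α r) < 0
  obtain ⟨ep, hepi, hep⟩ := exists_enum fun r => 0 < f (D.α r)
  obtain ⟨ψ, hψ⟩ := D.exists_cell_surjection f em ep (fun i => (hem _).mp ⟨i, rfl⟩) (fun i => (hep _).mp ⟨i, rfl⟩)
    hemi hepi
  haveI : Algebra.FiniteType k A := inferInstance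
  haveI : IsNoetherianRing A := Algebra.FiniteType.isNoetherianRing k A
  haveI : IsNoetherianRing (A ⧸ D.idealZ f) := isNoetherianRing_of_surjective _ _ (Ideal.Quotient.mk _) Ideal.Quotient.mk_surjective
  have h1 : ringKrullDim (MvPolynomial (Fin (Fintype.card {r // f (D.α r) < 0}) ⊕ Fin (Fintype.card {r // 0 < f (D.α r)}))
      (A ⧸ D.idealZ f)) ≤ ringKrullDim A := by
    refine (ringKrullDim_le_of_surjective ψ.toRingHom hψ).trans ?_
    haveI := DynSm.isOpenImmersion_cell (D.lam_neg f) (represents_idealP (D.lam f)) (represents_idealU (D.lam (-f)))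
    rw [← PrimeSpectrum.topologicalKrullDim_eq_ringKrullDim, ← PrimeSpectrum.topologicalKrullDim_eq_ringKrullDim A]
    exact (Spec.map (CommRingCat.ofHom (DynSm.cell (k := k) (idealP (D.lam f)) (idealU (D.lam (-f)))).toRingHom)).isOpenEmbedding.isInducing.topologicalKrullDim_le
  rw [MvPolynomial.ringKrullDim_of_isNoetherianRing] at h1
  have hcard : Fintype.card {r // f (D.α r) < 0} + Fintype.card {r // 0 < f (D.α r)} = Fintype.card idx := by
    rw [← Fintype.card_subtype_or_disjoint _ _ (fun p h1 h2 r hr => absurd (h1 r hr) (not_lt.mpr (h2 r hr).le))]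
    exact Fintype.card_congr (Equiv.subtypeUnivEquiv fun r => lt_or_gt_of_ne (hf r))
  have h2 := h1.trans hdim
  rw [Nat.card_eq_fintype_card, Fintype.card_sum, Fintype.card_fin, Fintype.card_fin, hcard, Nat.cast_add] at h2
  exact (WithBot.add_le_add_iff_right' (by exact_mod_cast WithBot.natCast_ne_bot _) (fun h => ENat.coe_ne_top _ (WithBot.coe_inj.mp h))).mp h2

theorem torQ_injective_field [Algebra.Smooth k A]
    (hdim : ringKrullDim A ≤ ((Module.finrank ℤ M + Fintype.card idx : ℕ) : WithBot ℕ∞))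
    (hconn : ∀ e : A, IsIdempotentElem e → e = 0 ∨ e = 1) (f : M →+ ℤ) (hf : ∀ r, f (D.α r) ≠ 0) :
    Function.Injective (D.torQ f) := by
  haveI : Algebra.FiniteType k A := inferInstance
  haveI := D.smooth_idealZ f
  haveI := DynLib.isHopfIdeal_idealP (D.lam f)
  haveI : (D.idealZ f).IsHopfIdeal k := DynLib.isHopfIdeal_of_represents _
    (fun C _ _ => MonoidHom.eqLocus (conjHom (D.lam f) C) (post (con k C)))
    (fun C _ _ g => (D.represents_idealZ f C g).trans ⟨fun h => by
      show conjHom (D.lam f) C (toConv g) = _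
      rw [← toConv_conjOrbit, h]; rfl, fun h => by
      have h' : conjHom (D.lam f) C (toConv g) = post (con k C) (toConv g) := h
      rw [← toConv_conjOrbit] at h'
      exact congrArg WithConv.ofConv h'⟩)
  haveI : _root_.IsReduced (A ⧸ D.idealZ f) := QRepLib.isReduced_of_smooth_algebra k _
  haveI : IsDomain (A ⧸ D.idealZ f) := ComodLib.isDomain_of_connected k fun e he => by
    obtain ⟨ρ, hρ⟩ := D.exists_retraction f
    rcases DynCell.idempotent_limExists (lam := D.lam f) hconn _ (represents_idealP (D.lam f)) (he.map ρ) with h | h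
    · exact Or.inl (hρ (h.trans (map_zero ρ).symm))
    · exact Or.inr (hρ (h.trans (map_one ρ).symm))
  by_contra hinj
  obtain ⟨x, hx, hx0⟩ : ∃ x, D.torQ f x = 0 ∧ x ≠ 0 := by
    rw [injective_iff_map_eq_zero] at hinj
    push Not at hinj
    exact hinj
  have h1 := (ringKrullDim_quotient_succ_le_of_nonZeroDivisor (mem_nonZeroDivisors_of_ne_zero hx0)).trans
    (D.dim_idealZ hdim f hf)
  have h2 : ringKrullDim (MonoidAlgebra k (Multiplicative M)) ≤ ringKrullDim ((A ⧸ D.idealZ f) ⧸ Ideal.span {x}) :=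
    ringKrullDim_le_of_surjective (Ideal.Quotient.lift _ (D.torQ f).toRingHom fun y hy => by
      obtain ⟨z, rfl⟩ := Ideal.mem_span_singleton'.mp hy
      show D.torQ f (z * x) = 0
      rw [map_mul, hx, mul_zero]) (fun p => by
      obtain ⟨y, rfl⟩ := D.torQ_surjective f p
      exact ⟨Ideal.Quotient.mk _ y, rfl⟩)
  rw [ringKrullDim_monoidAlgebra] at h2
  have h3 := (add_le_add_left h2 1).trans h1
  norm_cast at h3
  omega

end Chart

end Groth.Agent.RootChartLib
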