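import Groth.Agent.RootChartLib.UniqueSplit
import Groth.Agent.S3901

/-!
# Split groups with isomorphic geometric fibres have isomorphic root data
-/

set_option autoImplicit false
set_option linter.style.haveILetI false
set_option linter.unusedSectionVars false
set_option backward.isDefEq.respectTransparency false
set_option backward.isDefEq.respectTransparency.types false

universe u

open CategoryTheory Limits AlgebraicGeometry MonoidalCategory CartesianMonoidalCategory MonObj GrpObj WithConv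
open scoped TensorProduct

namespace Groth.Agent.RootChartLib

open GrpSchLib GrpSchLib.AffineHopf GrpSchLib.Kunneth GModLib DynLib RankLib.SplitRedPts H23

variable {S S' : Scheme.{u}} {G : Over S} [GrpObj G] {G' : Over S'} [GrpObj G']
  {k : Type u} [Field k] [IsAlgClosed k] {A : Type u} [CommRing A] [HopfAlgebra k A]
  (D : Red.SplitRed G) (a : Spec (CommRingCat.of k) ⟶ S) (ε : Red.bc a G ≅ sp k A) [IsMonHom ε.hom]
  (D' : Red.SplitRed G') (a' : Spec (CommRingCat.of k) ⟶ S') (ε' : Red.bc a' G' ≅ sp k A) [IsMonHom ε'.hom]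

theorem exists_root_corr₂ [Algebra.Smooth k A] {m : WithConv (A →ₐ[k] k)} (e : D'.M ≃+ D.M)
    (hm : ∀ χ : Multiplicative D.M →* k, m * (chart D a ε).tPt χ * m⁻¹ =
      (chart D' a' ε').tPt (χ.comp e.toAddMonoidHom.toMultiplicative)) (r : D.idx) :
    ∃ r' : D'.idx, e (D'.P.root r') = D.P.root r ∧ ∀ y, D'.P.coroot' r' y = D.P.coroot' r (e y) := by
  classical
  have hm' : ∀ χ' : Multiplicative D'.M →* k, m⁻¹ * (chart D' a' ε').tPt χ' * m⁻¹⁻¹ =
      (chart D a ε).tPt (χ'.comp e.symm.toAddMonoidHom.toMultiplicative) := fun χ' => by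
    have h := hm (χ'.comp e.symm.toAddMonoidHom.toMultiplicative)
    have h1 : (χ'.comp e.symm.toAddMonoidHom.toMultiplicative).comp e.toAddMonoidHom.toMultiplicative = χ' :=
      MonoidHom.ext fun x => by
        show χ' (Multiplicative.ofAdd (e.symm (e x.toAdd))) = χ' x
        rw [AddEquiv.symm_apply_apply]; rfl
    rw [h1] at h
    rw [← h, _root_.inv_inv]
    group
  obtain ⟨r', n, hn1, hn⟩ := (chart D a ε).exists_root_multiple (chart D' a' ε') (geomFibres D' a' ε') e hm r
  obtain ⟨r'', n', -, hn'⟩ := (chart D' a' ε').exists_root_multiple (chart D a ε) (geomFibres D a ε) e.symm hm' r'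
  rw [chart_α, chart_α] at hn hn'
  have h1 : D.P.root r'' = (n' * n) • D.P.root r := by
    rw [mul_smul, ← hn, ← map_nsmul, ← hn', AddEquiv.apply_symm_apply]
  have hmn : n' * n = 1 := by
    haveI : D.P.IsReduced := ⟨fun i j h => root_eq_or_eq_neg D a ε i j h⟩
    have hdep : ¬ LinearIndependent ℤ ![D.P.root r'', D.P.root r] := fun h => by
      rw [LinearIndependent.pair_iff] at h
      have := (h 1 (-((n' * n : ℕ) : ℤ)) (by rw [one_smul, h1, neg_smul, natCast_zsmul, add_neg_cancel])).1
      omega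
    have hne := D.P.ne_zero r
    rcases RootPairing.IsReduced.eq_or_eq_neg (P := D.P) r'' r hdep with h | h
    · have h2 : (((n' * n : ℕ) : ℤ) - 1) • D.P.root r = 0 := by
        rw [sub_smul, natCast_zsmul, ← h1, h, one_smul, sub_self]
      have := (smul_eq_zero.mp h2).resolve_right hne
      omega
    · have h2 : (((n' * n : ℕ) : ℤ) + 1) • D.P.root r = 0 := by
        rw [add_smul, natCast_zsmul, ← h1, h, one_smul, neg_add_cancel]
      have := (smul_eq_zero.mp h2).resolve_right hne
      omega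
  rw [show n = 1 from Nat.eq_one_of_mul_eq_one_left hmn, one_smul] at hn
  obtain ⟨φ, hφ⟩ := exists_form_ne_zero D'.P.root fun s => D'.P.ne_zero s
  obtain ⟨f, hf⟩ : ∃ f : D'.M →+ ℤ, 0 < f (D'.P.root r') := by
    rcases lt_or_gt_of_ne (hφ r') with hneg | hpos
    · exact ⟨-φ, neg_pos.mpr hneg⟩
    · exact ⟨φ, hpos⟩
  obtain ⟨ν₀, hν₀⟩ := exists_root_corr.exists_isRefl_coroot D a ε r
  obtain ⟨ν₀', hν₀'⟩ := exists_root_corr.exists_isRefl_coroot D' a' ε' r'
  have h3 := (chart D' a' ε').isRefl_unique r' f (isReductiveOver_model D' a' ε') (isMaxTorus_torHom D' a' ε') hf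
    (hν₀.conj₂ (chart D a ε) (chart D' a' ε') e hm hn) hν₀'
  exact ⟨r', hn, fun y => (DFunLike.congr_fun h3 y).symm⟩
include a ε a' ε' in
/-- Two splittings over one geometric fibre have isomorphic root data. -/
theorem nonempty_equiv₂ : Nonempty (RootPairing.Equiv D.P D'.P) := by
  classical
  haveI := smooth_model D a ε
  haveI : Smooth (sp k A).hom := (isReductiveOver_model D a ε).2.1
  haveI : IsAffine (sp k A).left := isAffine_Spec _
  haveI : ConnectedSpace (sp k A).left := (isReductiveOver_model D a ε).2.2.1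
  haveI := (isMaxTorus_torHom D a ε).1; haveI := (isMaxTorus_torHom D' a' ε').1
  obtain ⟨g, f, hgf⟩ := Groth.Agent.S3901.result k (sp k A) (torSp k D.M) (torSp k D'.M) (chart D a ε).torHom
    (chart D' a' ε').torHom (isMaxTorus_torHom D a ε) (isMaxTorus_torHom D' a' ε')
  let m : WithConv (A →ₐ[k] k) := gp.symm (toUnit (VecGrp.pt k k) ≫ g)
  have hmT : ∀ χ, ∃ χ', m * (chart D a ε).tPt χ * m⁻¹ = (chart D' a' ε').tPt χ' := fun χ => by
    obtain ⟨χ', hχ'⟩ := chT.surjective (chT χ ≫ f.hom)
    refine ⟨χ', gp.injective ?_⟩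
    rw [← (chart D' a' ε').chT_torHom, hχ', Category.assoc, hgf, GModLib.conjBy_eq, ← Category.assoc,
      comp_inner, (chart D a ε).chT_torHom, map_mul, map_mul, map_inv, MulEquiv.apply_symm_apply]
  obtain ⟨⟨ψ, hψ⟩, hmT'⟩ := (chart D a ε).exists_conj_hom₂ (chart D' a' ε') (isMaxTorus_torHom D a ε)
    (isMaxTorus_torHom D' a' ε') hmT
  obtain ⟨⟨ψ', hψ'⟩, -⟩ := (chart D' a' ε').exists_conj_hom₂ (chart D a ε) (isMaxTorus_torHom D' a' ε')
    (isMaxTorus_torHom D a ε) (m := m⁻¹) fun χ' => by simpa using hmT' χ'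
  have h12 : ∀ x, ψ (ψ' x) = x := fun x => eq_of_forall_char (k := k) fun χ => by
    have h := hψ' (χ.comp ψ.toMultiplicative)
    rw [← hψ, show m⁻¹ * (m * (chart D a ε).tPt χ * m⁻¹) * m⁻¹⁻¹ = (chart D a ε).tPt χ by group] at h
    exact (DFunLike.congr_fun ((chart D a ε).tPt_injective h) (Multiplicative.ofAdd x)).symm
  have h21 : ∀ x, ψ' (ψ x) = x := fun x => eq_of_forall_char (k := k) fun χ' => by
    have h := hψ (χ'.comp ψ'.toMultiplicative)
    rw [← hψ', show m * (m⁻¹ * (chart D' a' ε').tPt χ' * m⁻¹⁻¹) * m⁻¹ = (chart D' a' ε').tPt χ' by group] at h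
    exact (DFunLike.congr_fun ((chart D' a' ε').tPt_injective h) (Multiplicative.ofAdd x)).symm
  let e : D'.M ≃+ D.M :=
    { toFun := ψ, invFun := ψ', left_inv := h21, right_inv := h12, map_add' := map_add ψ }
  choose u hu hcu using exists_root_corr₂ D a ε D' a' ε' e hψ
  have hm' : ∀ χ' : Multiplicative D'.M →* k, m⁻¹ * (chart D' a' ε').tPt χ' * m⁻¹⁻¹ =
      (chart D a ε).tPt (χ'.comp e.symm.toAddMonoidHom.toMultiplicative) := hψ'
  choose u' hu' _ using exists_root_corr₂ D' a' ε' D a ε e.symm hm'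
  have hbij : Function.Bijective u := by
    refine ⟨fun r s h => D.P.root.injective (by rw [← hu r, ← hu s, h]), fun r' => ⟨u' r', ?_⟩⟩
    refine D'.P.root.injective (e.injective ?_)
    rw [hu, ← hu' r', AddEquiv.apply_symm_apply]
  let W : D.M ≃ₗ[ℤ] D'.M := e.symm.toIntLinearEquiv
  refine ⟨{
    weightMap := W.toLinearMap
    coweightMap := W.toLinearMap.dualMap
    indexEquiv := Equiv.ofBijective u hbij
    weight_coweight_transpose := ?_
    root_weightMap := funext fun r => ?_
    coroot_coweightMap := funext fun r' => ?_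
    bijective_weightMap := W.bijective
    bijective_coweightMap := W.dualMap.bijective }⟩
  · refine LinearMap.ext fun φ => LinearMap.ext fun x => ?_
    show D'.P.toLinearMap (W x) φ = D.P.toLinearMap x (W.toLinearMap.dualMap φ)
    rw [D'.pairing_eq, D.pairing_eq]
    rfl
  · show e.symm (D.P.root r) = D'.P.root (u r)
    rw [← hu r, AddEquiv.symm_apply_apply]
  · obtain ⟨r, rfl⟩ := hbij.2 r'
    show W.toLinearMap.dualMap (D'.P.coroot (u r)) = D.P.coroot ((Equiv.ofBijective u hbij).symm (u r))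
    rw [Equiv.ofBijective_symm_apply_apply]
    refine LinearMap.ext fun x => ?_
    have h := hcu r (W x)
    rw [show e (W x) = x from e.apply_symm_apply x] at h
    have e1 : ∀ {T : Scheme.{u}} {H : Over T} [GrpObj H] (E : Red.SplitRed H) (s : E.idx) (y : E.M),
        E.P.coroot' s y = E.P.coroot s y := fun E s y => by
      show E.P.toLinearMap y (E.P.coroot s) = E.P.coroot s y
      rw [E.pairing_eq]; rfl
    rw [e1, e1] at h
    exact h

/-- Base change along the identity. -/
noncomputable def bcIdIso {T : Scheme.{u}} (H : Over T) : Red.bc (𝟙 T) H ≅ H :=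
  (Over.pullbackId (X := T)).app H

open Functor.LaxMonoidal in
theorem isMonHom_pullbackId {T : Scheme.{u}} (H : Over T) [GrpObj H] :
    IsMonHom (bcIdIso H).hom := by
  let F := Over.pullback (𝟙 T)
  let e := (Over.pullbackId (X := T))
  have hn : ∀ {Y Z : Over T} (f : Y ⟶ Z), F.map f ≫ e.hom.app Z = e.hom.app Y ≫ f := fun f => e.hom.naturality f
  constructor
  · show η[F.obj H] ≫ e.hom.app H = η[H]
    rw [Functor.obj.η_def, Category.assoc, hn, ← Category.assoc]
    conv_rhs => rw [← Category.id_comp η[H]]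
    congr 1
    exact toUnit_unique _ _
  · show μ[F.obj H] ≫ e.hom.app H = (e.hom.app H ⊗ₘ e.hom.app H) ≫ μ[H]
    rw [Functor.obj.μ_def, Category.assoc, hn, ← Category.assoc]
    congr 1
    apply CartesianMonoidalCategory.hom_ext
    · rw [Category.assoc, ← hn, ← Category.assoc, Functor.Monoidal.μ_fst]; exact (tensorHom_fst _ _).symm
    · rw [Category.assoc, ← hn, ← Category.assoc, Functor.Monoidal.μ_snd]; exact (tensorHom_snd _ _).symm

/-- A splitting and a splitting of a geometric fibre have isomorphic root data. -/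
theorem nonempty_equiv_fibre {T : Scheme.{u}} {H : Over T} [GrpObj H] (D₀ : Red.SplitRed H) {K : Type u} [Field K]
    [IsAlgClosed K] (b : Spec (CommRingCat.of K) ⟶ T) (E : Red.SplitRed (Red.bc b H)) :
    Nonempty (RootPairing.Equiv D₀.P E.P) := by
  let Mo := model E (𝟙 (Spec (CommRingCat.of K)))
  haveI := Mo.isMonHom
  let e₀ : Red.bc (𝟙 _) (Red.bc b H) ≅ Red.bc b H := bcIdIso (Red.bc b H)
  haveI : IsMonHom e₀.hom := isMonHom_pullbackId (Red.bc b H)
  let ε₀ : Red.bc b H ≅ sp K Mo.A := e₀.symm ≪≫ Mo.iso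
  haveI : IsMonHom ε₀.hom := by
    show IsMonHom (e₀.inv ≫ Mo.iso.hom)
    infer_instance
  exact nonempty_equiv₂ D₀ b ε₀ E (𝟙 _) Mo.iso

end Groth.Agent.RootChartLib
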